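import Cfsg.Prelude.Def_Local
import Cfsg.Agent.Lib.Solv.Basic
import Mathlib.GroupTheory.Index
import Mathlib.GroupTheory.PGroup

/-!
Extra API on `pCore`, `pPrimeCore`, `oddCore` beyond `Cfsg.Agent.Lib.Solv.Basic`.
-/

set_option autoImplicit false

namespace Cfsg.Agent.Local

open Subgroup

variable {G : Type*} [Group G]

theorem not_dvd_card_pPrimeCore [Finite G] {p : ℕ} (hp : p.Prime) :
    ¬ p ∣ Nat.card (pPrimeCore p G) :=
  (Nat.Prime.coprime_iff_not_dvd hp).1 (Solv.card_pPrimeCore_coprime p G).symm

theorem oddCore_card_odd [Finite G] : Odd (Nat.card (oddCore G)) :=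
  Nat.coprime_two_right.1 (Solv.card_pPrimeCore_coprime 2 G)

theorem isPGroup_of_isPGroup_map {p : ℕ} {H : Type*} [Group H] (f : G →* H)
    (hf : Function.Injective f) {A : Subgroup G} (h : IsPGroup p (A.map f)) : IsPGroup p A :=
  h.of_equiv (Subgroup.equivMapOfInjective A f hf).symm

theorem le_pPrimeCore_of_isSubnormal_aux (n : ℕ) : ∀ {G : Type*} [Group G] [Finite G],
    Nat.card G ≤ n → ∀ {p : ℕ} {H : Subgroup G}, H.IsSubnormal → (Nat.card H).Coprime p →
      H ≤ pPrimeCore p G := by
  induction n with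
  | zero => intro G _ _ h; exact absurd h (by have := Nat.card_pos (α := G); omega)
  | succ n ih =>
    intro G _ _ h p H hH hc
    rcases hH.lt_normal with hT | ⟨K, hK, hHK, hlt⟩
    · subst hT; exact Solv.le_pPrimeCore hc
    · have hcard : Nat.card K < Nat.card G := by
        rw [← K.card_mul_index]
        have : 1 < K.index := Subgroup.one_lt_index_of_ne_top hlt.ne
        have := Nat.card_pos (α := K)
        nlinarith
      have hc' : (Nat.card (H.subgroupOf K)).Coprime p := by
        rwa [Nat.card_congr (Subgroup.subgroupOfEquivOfLe hHK).toEquiv]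
      have := ih (G := K) (by omega) hH.subgroupOf hc'
      have h2 := Subgroup.map_mono (f := K.subtype) this
      rw [Subgroup.map_subgroupOf_eq_of_le hHK] at h2
      haveI := hK
      exact h2.trans ((Solv.pPrimeCore_map_subtype p K).le.trans inf_le_left)

theorem le_pPrimeCore_of_isSubnormal [Finite G] {p : ℕ} {H : Subgroup G} (hH : H.IsSubnormal)
    (hc : (Nat.card H).Coprime p) : H ≤ pPrimeCore p G :=
  le_pPrimeCore_of_isSubnormal_aux (Nat.card G) le_rfl hH hc

theorem coprime_card_iff_not_dvd {p : ℕ} (hp : p.Prime) {H : Subgroup G} :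
    (Nat.card H).Coprime p ↔ ¬ p ∣ Nat.card H := by
  rw [Nat.coprime_comm]; exact hp.coprime_iff_not_dvd

end Cfsg.Agent.Local
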