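import Cfsg.Agent.Lib.Local.LayerLocal

/-!
Normalisers and centralisers of `p`-subgroups modulo `O_{p'}`.
-/

set_option autoImplicit false
set_option linter.style.haveILetI false

namespace Cfsg.Agent.Local

open Subgroup
open scoped commutatorElement Pointwise

variable {G : Type*} [Group G] [Finite G] {p : ℕ} [hp : Fact p.Prime]

/-- The normaliser of a `p`-subgroup maps onto the normaliser of its image modulo `O_{p'}`. -/
theorem map_normalizer_eq {P : Subgroup G} (hP : IsPGroup p P) (O : Subgroup G) [O.Normal]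
    (hO : (Nat.card O).Coprime p) :
    (normalizer (P : Set G)).map (QuotientGroup.mk' O) =
      normalizer (P.map (QuotientGroup.mk' O) : Set (G ⧸ O)) := by
  haveI := hP.isNilpotent
  set f := QuotientGroup.mk' O with hf
  refine le_antisymm ?_ fun x hx => ?_
  · exact le_normalizer_map f
  obtain ⟨g, rfl⟩ := QuotientGroup.mk'_surjective O x
  have hle : MulAut.conj g • P ≤ O ⊔ P := by
    intro y hy
    rw [Solv.mem_conj_smul] at hy
    rw [sup_comm, ← QuotientGroup.ker_mk' O, ← comap_map_eq, mem_comap, ← hf]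
    have h2 := (mem_normalizer_iff.1 hx (f (g⁻¹ * y * g))).1 (mem_map_of_mem f hy)
    rwa [← map_inv, ← map_mul, ← map_mul, show g * (g⁻¹ * y * g) * g⁻¹ = y by group] at h2
  obtain ⟨o, ho, hoc⟩ := Solv.conj_of_card_eq O P (MulAut.conj g • P)
    (Or.inr inferInstance) (by rw [normalizer_eq_top_iff.2 inferInstance]; exact le_top) hle
    (Solv.card_conj_smul _ _) (Solv.coprime_card_of_isPGroup hP hO).symm
  refine ⟨o⁻¹ * g, ?_, ?_⟩
  · have h : MulAut.conj (o⁻¹ * g) • P = P := by
      rw [← Solv.conj_smul_conj_smul, ← hoc, Solv.conj_smul_conj_smul, inv_mul_cancel, map_one,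
        one_smul]
    show o⁻¹ * g ∈ normalizer (P : Set G)
    rw [mem_normalizer_iff]
    intro z
    conv_rhs => rw [← h, Solv.mem_conj_smul]
    simp [mul_assoc]
  · rw [map_mul, map_inv, show f o = 1 from (QuotientGroup.eq_one_iff _).2 ho, inv_one, one_mul]

theorem map_centralizer_eq {P : Subgroup G} (hP : IsPGroup p P) (O : Subgroup G) [O.Normal]
    (hO : (Nat.card O).Coprime p) :
    (centralizer (P : Set G)).map (QuotientGroup.mk' O) =
      centralizer (P.map (QuotientGroup.mk' O) : Set (G ⧸ O)) := by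
  set f := QuotientGroup.mk' O with hf
  refine le_antisymm ?_ fun x hx => ?_
  · rw [coe_map]
    exact map_centralizer_le_centralizer_image _ f
  obtain ⟨n, hn, rfl⟩ := (map_normalizer_eq hP O hO).ge (centralizer_le_normalizer _ hx)
  refine ⟨n, mem_centralizer_iff.2 fun y hy => ?_, rfl⟩
  have h1 : y * n * y⁻¹ * n⁻¹ ∈ P ⊓ O := by
    refine ⟨?_, ?_⟩
    · have := P.mul_mem hy ((mem_normalizer_iff.1 hn _).1 (P.inv_mem hy))
      simpa [mul_assoc] using this
    · show y * n * y⁻¹ * n⁻¹ ∈ O
      rw [← QuotientGroup.ker_mk' O, MonoidHom.mem_ker, ← hf, map_mul, map_mul, map_mul,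
        map_inv, map_inv, mem_centralizer_iff.1 hx (f y) (mem_map_of_mem f hy)]
      simp [hf]
  rw [Solv.inf_eq_bot_of_isPGroup hP hO, mem_bot, mul_inv_eq_one, mul_inv_eq_iff_eq_mul] at h1
  exact h1

theorem pPrimeCore_le_centralizer_of_isPGroup {R : Subgroup G} [R.Normal] (hR : IsPGroup p R) :
    pPrimeCore p G ≤ centralizer (R : Set G) := by
  rw [← commutator_eq_bot_iff_le_centralizer, ← le_bot_iff]
  exact (commutator_le_inf _ _).trans
    (by rw [inf_comm, Solv.inf_eq_bot_of_isPGroup hR (Solv.card_pPrimeCore_coprime p G)])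

theorem generalizedFitting_eq_pCore_iff :
    generalizedFittingSubgroup G = pCore p G ↔ layer G = ⊥ ∧ pPrimeCore p G = ⊥ := by
  constructor
  · intro h
    have hp1 := Solv.isPGroup_pCore p G
    constructor
    · rw [eq_bot_iff]
      refine sSup_le fun K hK => ?_
      exfalso
      exact component_ne_isPGroup hK (hp1.to_le (h ▸ le_sup_of_le_left (le_sSup hK)))
    · haveI : (pCore p G).Normal := by haveI := Solv.pCore_characteristic p G; infer_instance
      have h1 : pPrimeCore p G ≤ pCore p G := by
        have h2 := pPrimeCore_le_centralizer_of_isPGroup hp1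
        have h3 := centralizer_generalizedFitting_le (G := G)
        rw [h] at h3
        exact h2.trans h3
      exact (inf_eq_left.2 h1).symm.trans
        (by rw [inf_comm]; exact Solv.inf_eq_bot_of_isPGroup hp1 (Solv.card_pPrimeCore_coprime p G))
  · rintro ⟨h1, h2⟩
    rw [generalizedFittingSubgroup, h1, bot_sup_eq, Solv.fittingSubgroup_eq_pCore h2]

/-- With trivial `p`-layer, `p`-local subgroups have trivial `p`-layer and balanced cores. -/
theorem pLocal_of_pLayer_eq_bot (hL : pLayer p G = ⊥) {P : Subgroup G} (hP : IsPGroup p P) :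
    pLayer p (normalizer (P : Set G)) = ⊥ ∧
      (pPrimeCore p (normalizer (P : Set G))).map (normalizer (P : Set G)).subtype ≤
        pPrimeCore p G := by
  set O := pPrimeCore p G
  set f := QuotientGroup.mk' O with hf
  have hF : generalizedFittingSubgroup (G ⧸ O) = pCore p (G ⧸ O) :=
    generalizedFitting_eq_pCore_iff.2
      ⟨pLayer_eq_bot_iff.1 hL, Solv.pPrimeCore_quotient_pPrimeCore p⟩
  have hM := generalizedFitting_eq_pCore_iff.1
    (fstar_normalizer_eq_pCore hF (hP.map f))
  have hNM := map_normalizer_eq hP O (Solv.card_pPrimeCore_coprime p G)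
  let φ : normalizer (P : Set G) →* normalizer (P.map f : Set (G ⧸ O)) :=
    (f.comp (normalizer (P : Set G)).subtype).codRestrict _
      fun x => hNM.le (mem_map_of_mem f x.2)
  have hφ : Function.Surjective φ := by
    rintro ⟨y, hy⟩
    obtain ⟨x, hx, e⟩ := hNM.ge hy
    exact ⟨⟨x, hx⟩, Subtype.ext e⟩
  have hle : pPrimeCore p (normalizer (P : Set G)) ≤ φ.ker := by
    rw [← Subgroup.map_eq_bot_iff, ← le_bot_iff]
    exact (Solv.map_pPrimeCore_le_of_surjective p φ hφ).trans hM.2.le
  have hker : φ.ker = pPrimeCore p (normalizer (P : Set G)) := by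
    refine le_antisymm ?_ hle
    refine Solv.le_pPrimeCore ((Solv.card_pPrimeCore_coprime p G).coprime_dvd_left ?_)
    rw [← Solv.card_map_subtype _ φ.ker]
    refine card_dvd_of_le ?_
    rintro _ ⟨y, hy, rfl⟩
    exact (QuotientGroup.eq_one_iff _).1 (congrArg Subtype.val hy)
  refine ⟨pLayer_eq_bot_iff.2 ?_, ?_⟩
  · let e := (QuotientGroup.quotientMulEquivOfEq hker.symm).trans
      (QuotientGroup.quotientKerEquivOfSurjective φ hφ)
    rw [eq_bot_iff]
    refine sSup_le fun K hK => ?_
    exfalso
    refine component_ne_bot (isComponent_map_equiv e hK) (le_bot_iff.1 ?_)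
    exact (le_sSup (show K.map e.toMonoidHom ∈ {L | IsComponent L} from
      isComponent_map_equiv e hK)).trans hM.1.le
  · rintro _ ⟨y, hy, rfl⟩
    exact (QuotientGroup.eq_one_iff _).1 (congrArg Subtype.val (hle hy))

theorem pLayer_eq_bot_iff_isPConstrained : IsPConstrained p G ↔ pLayer p G = ⊥ := by
  set O := pPrimeCore p G with hOdef
  set f := QuotientGroup.mk' O with hf
  have hfs : Function.Surjective f := QuotientGroup.mk'_surjective _
  have hOcop := Solv.card_pPrimeCore_coprime p G
  rw [pLayer_eq_bot_iff]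
  set R := pCore p (G ⧸ O)
  have hRp : IsPGroup p R := Solv.isPGroup_pCore p _
  have hU : pPrimePCore p G = R.comap f := rfl
  -- a Sylow subgroup of `O_{p',p}` maps onto `R`
  have hS : ∀ S : Sylow p ↥(pPrimePCore p G),
      IsPGroup p ((S : Subgroup ↥(pPrimePCore p G)).map (pPrimePCore p G).subtype) ∧
        ((S : Subgroup ↥(pPrimePCore p G)).map (pPrimePCore p G).subtype).map f = R := by
    intro S
    refine ⟨S.isPGroup'.map _, ?_⟩
    let ψ : ↥(pPrimePCore p G) →* R :=
      (f.comp (pPrimePCore p G).subtype).codRestrict R fun x => x.2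
    have hψ : Function.Surjective ψ := by
      rintro ⟨y, hy⟩
      obtain ⟨x, rfl⟩ := hfs y
      exact ⟨⟨x, hy⟩, rfl⟩
    have h1 : ((S : Subgroup ↥(pPrimePCore p G)).map ψ) = ⊤ := by
      have hidx : ((S : Subgroup ↥(pPrimePCore p G)).map ψ).index ∣
          (S : Subgroup ↥(pPrimePCore p G)).index := index_map_dvd _ hψ
      obtain ⟨k, hk⟩ := IsPGroup.iff_card.1 hRp
      have h2 : ((S : Subgroup ↥(pPrimePCore p G)).map ψ).index ∣ p ^ k := hk ▸ index_dvd_card _
      obtain ⟨j, _, hj⟩ := (Nat.dvd_prime_pow hp.out).1 h2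
      rw [← index_eq_one, hj]
      rcases j with _ | j
      · rfl
      · exact absurd ((dvd_pow_self p (Nat.succ_ne_zero j)).trans (hj ▸ hidx)) S.not_dvd_index
    rw [map_map, show f.comp (pPrimePCore p G).subtype = R.subtype.comp ψ from rfl, ← map_map, h1,
      ← MonoidHom.range_eq_map, range_subtype]
  have key : IsPConstrained p G ↔ centralizer (R : Set (G ⧸ O)) ≤ R := by
    constructor
    · intro h
      obtain ⟨S⟩ := Sylow.nonempty (p := p) (G := ↥(pPrimePCore p G))
      obtain ⟨h1, h2⟩ := hS S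
      rw [← h2, ← map_centralizer_eq h1 O hOcop, h2, map_le_iff_le_comap, ← hU]
      exact h S
    · intro h S
      obtain ⟨h1, h2⟩ := hS S
      refine le_of_le_of_eq ?_ hU.symm
      rw [← map_le_iff_le_comap, map_centralizer_eq h1 O hOcop, h2]
      exact h
  rw [key]
  constructor
  · intro h
    rw [eq_bot_iff]
    refine sSup_le fun K hK => ?_
    exfalso
    refine component_ne_isPGroup hK (hRp.to_le (le_trans ?_ h))
    rw [← commutator_eq_bot_iff_le_centralizer]
    exact component_commutator_pCore hK p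
  · intro h
    have hF : generalizedFittingSubgroup (G ⧸ O) = pCore p (G ⧸ O) :=
      generalizedFitting_eq_pCore_iff.2 ⟨h, Solv.pPrimeCore_quotient_pPrimeCore p⟩
    have := centralizer_generalizedFitting_le (G := G ⧸ O)
    rwa [hF] at this

end Cfsg.Agent.Local
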