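import Mathlib.GroupTheory.PGroup
import Mathlib.Algebra.Group.Action.Basic

/-!
A nontrivial normal subgroup of a finite `p`-group meets the centre.
-/

set_option autoImplicit false

namespace Cfsg.Agent.Local

open Subgroup

theorem inf_center_ne_bot {P : Type*} [Group P] [Finite P] {p : ℕ} [Fact p.Prime]
    (hP : IsPGroup p P) (M : Subgroup P) [M.Normal] (hM : M ≠ ⊥) : M ⊓ center P ≠ ⊥ := by
  let act : MulAction P M := MulAction.compHom M (MulAut.conjNormal (H := M))
  have h1 : (1 : M) ∈ MulAction.fixedPoints P M := fun g =>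
    map_one (MulAut.conjNormal g : MulAut M)
  haveI := (M.nontrivial_iff_ne_bot).2 hM
  have hdvd : p ∣ Nat.card M := by
    obtain ⟨n, hn0, hn⟩ := (hP.to_subgroup M).nontrivial_iff_card.mp inferInstance
    exact hn.symm ▸ dvd_pow_self _ hn0.ne'
  obtain ⟨b, hb, hb1⟩ := hP.exists_fixed_point_of_prime_dvd_card_of_fixed_point M hdvd h1
  intro h
  have hbc : (b : P) ∈ center P := mem_center_iff.2 fun g => by
    have := congrArg Subtype.val (hb g)
    exact mul_inv_eq_iff_eq_mul.1 this
  have : (b : P) ∈ M ⊓ center P := ⟨b.2, hbc⟩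
  rw [h, mem_bot] at this
  exact hb1 (Subtype.ext this.symm)

end Cfsg.Agent.Local
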