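import Cfsg.Agent.Lib.Local.FusionReduction
import Mathlib.GroupTheory.Focal

/-!
Control of transfer: local to global, and reduction to the constrained sections.
-/

set_option autoImplicit false
set_option linter.style.haveILetI false

universe u

namespace Cfsg.Agent.Local.TransferRed

open Subgroup
open scoped Pointwise commutatorElement

variable {G : Type u} [Group G]

/-- The subgroup of `S` generated by the transfer subgroups of the functors. -/
def tSub (𝓕 : Set (Subgroup G → Subgroup G)) (S : Subgroup G) : Subgroup G :=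
  ⨆ W ∈ 𝓕, S ⊓ ⁅normalizer ((W S : Subgroup G) : Set G), normalizer ((W S : Subgroup G) : Set G)⁆

theorem le_tSub {𝓕 : Set (Subgroup G → Subgroup G)} {W : Subgroup G → Subgroup G} (hW : W ∈ 𝓕) (S : Subgroup G) :
    S ⊓ ⁅normalizer ((W S : Subgroup G) : Set G), normalizer ((W S : Subgroup G) : Set G)⁆ ≤ tSub 𝓕 S :=
  le_iSup₂ (f := fun W (_ : W ∈ 𝓕) =>
    S ⊓ ⁅normalizer ((W S : Subgroup G) : Set G), normalizer ((W S : Subgroup G) : Set G)⁆) W hW

theorem tSub_le (𝓕 : Set (Subgroup G → Subgroup G)) (S : Subgroup G) : tSub 𝓕 S ≤ S :=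
  iSup₂_le fun _ _ => inf_le_left

theorem tSub_le_commutator (𝓕 : Set (Subgroup G → Subgroup G)) (S : Subgroup G) :
    tSub 𝓕 S ≤ _root_.commutator G :=
  iSup₂_le fun _ _ => inf_le_right.trans (commutator_mono le_top le_top)

theorem conj_div_mem {a b c : G} {F : Subgroup G} (h1 : a⁻¹ * b ∈ F) (h2 : b⁻¹ * c ∈ F) : a⁻¹ * c ∈ F := by
  simpa [mul_assoc] using mul_mem h1 h2

theorem chain_mem {F : Subgroup G} {𝓣 : Set (Subgroup G)} {A : Set G} {g : G} (h : Chain 𝓣 A g) [Finite G] :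
    (∀ U ∈ 𝓣, Nat.card (closure A) ≤ Nat.card U →
      ∀ x ∈ normalizer (U : Set G), ∀ u ∈ U, u⁻¹ * (x⁻¹ * u * x) ∈ F) →
    ∀ a ∈ A, a⁻¹ * (g⁻¹ * a * g) ∈ F := by
  induction h with
  | nil A => intro _ a _; simp
  | @cons A T x g hT hx hA _ ih =>
    intro hstep a ha
    have hcl : (closure A).map (MulAut.conj x⁻¹).toMonoidHom = closure ((fun a => x⁻¹ * a * x) '' A) := by
      rw [MonoidHom.map_closure]; congr 1; exact Set.image_congr fun a _ => by simp
    have h1 := hstep T hT (card_le_of_le ((closure_le _).2 hA)) x hx a (hA ha)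
    have h2 := ih (fun U hU hc => hstep U hU (by
      rwa [← hcl, card_map_of_injective (MulAut.conj x⁻¹).injective] at hc)) _ ⟨a, ha, rfl⟩
    have h3 := conj_div_mem h1 h2
    simpa [mul_assoc] using h3

variable [Finite G] {p : ℕ} [Fact p.Prime]

theorem inf_commutator_le (S : Sylow p G) (F : Subgroup G)
    (h : ∀ a ∈ (S : Subgroup G), ∀ g : G, g⁻¹ * a * g ∈ (S : Subgroup G) → a⁻¹ * (g⁻¹ * a * g) ∈ F) :
    (S : Subgroup G) ⊓ _root_.commutator G ≤ F := by
  rw [inf_comm, commutator_inf_eq_focalSubgroup S, focalSubgroup_def, closure_le]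
  rintro _ ⟨hS, x, hx, v, rfl⟩
  rw [commutatorElement_def] at hS ⊢
  have h1 := h x⁻¹ (inv_mem hx) v⁻¹ (by simpa [mul_assoc] using mul_mem (inv_mem hx) hS)
  simpa [mul_assoc] using h1

/-- Transfer is controlled through the normalizers of a conjugation family. -/
theorem local_to_global (S : Sylow p G) (𝓕 : Set (Subgroup G → Subgroup G))
    (h𝓕 : ∀ W ∈ 𝓕, IsConjugacyFunctor p W) (good : Subgroup G → Prop)
    (hgood : ∀ T : Subgroup G, T ≤ (S : Subgroup G) → T ≠ ⊥ → ∃ g : G,
      (∀ u ∈ (S : Subgroup G) ⊓ normalizer (T : Set G), g * u * g⁻¹ ∈ (S : Subgroup G)) ∧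
      good (T.map (MulAut.conj g).toMonoidHom) ∧
      ¬ p ∣ ((S : Subgroup G) ⊓ normalizer ((T.map (MulAut.conj g).toMonoidHom : Subgroup G) : Set G)).relIndex
        (normalizer ((T.map (MulAut.conj g).toMonoidHom : Subgroup G) : Set G)))
    (hloc : ∀ T : Subgroup G, T ≤ (S : Subgroup G) → T ≠ ⊥ → good T →
      ¬ p ∣ ((S : Subgroup G) ⊓ normalizer (T : Set G)).relIndex (normalizer (T : Set G)) →
      (S : Subgroup G) ⊓ normalizer (T : Set G) ⊓ ⁅normalizer (T : Set G), normalizer (T : Set G)⁆ ≤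
        ⨆ W ∈ 𝓕, (S : Subgroup G) ⊓ normalizer (T : Set G) ⊓
          ⁅normalizer (T : Set G) ⊓ normalizer ((W ((S : Subgroup G) ⊓ normalizer (T : Set G)) : Subgroup G) : Set G),
            normalizer (T : Set G) ⊓ normalizer ((W ((S : Subgroup G) ⊓ normalizer (T : Set G)) : Subgroup G) : Set G)⁆) :
    (S : Subgroup G) ⊓ _root_.commutator G ≤ tSub 𝓕 (S : Subgroup G) := by
  classical
  let F := tSub 𝓕 (S : Subgroup G)
  let 𝓣 : Set (Subgroup G) := {U | U ≤ (S : Subgroup G) ∧
    ¬ p ∣ ((S : Subgroup G) ⊓ normalizer (U : Set G)).relIndex (normalizer (U : Set G))}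
  have hfam : ∀ T : Subgroup G, T ≤ (S : Subgroup G) → ∃ U ∈ 𝓣, U ≤ (S : Subgroup G) ∧
      (∃ g : G, T.map (MulAut.conj g).toMonoidHom = U) ∧
      ¬ p ∣ ((S : Subgroup G) ⊓ normalizer (U : Set G)).relIndex (normalizer (U : Set G)) := by
    intro T hT
    obtain ⟨g, hg, hidx⟩ := exists_fullyNormalized S T hT
    exact ⟨_, ⟨hg, hidx⟩, hg, ⟨g, rfl⟩, hidx⟩
  -- the normalizer of `S`
  have hS : ∀ x ∈ normalizer ((S : Subgroup G) : Set G), ∀ a ∈ (S : Subgroup G),
      a⁻¹ * (x⁻¹ * a * x) ∈ F := by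
    intro x hx a ha
    rcases eq_or_ne (S : Subgroup G) ⊥ with h0 | h0
    · rw [h0, mem_bot] at ha; subst ha; simp
    obtain ⟨c, hc, hgd, hidx⟩ := hgood (S : Subgroup G) le_rfl h0
    have hc' : (S : Subgroup G).map (MulAut.conj c).toMonoidHom = (S : Subgroup G) :=
      eq_of_le_of_card_ge (by rintro _ ⟨d, hd, rfl⟩; exact hc d ⟨hd, le_normalizer hd⟩)
        (card_map_of_injective (MulAut.conj c).injective).ge
    rw [hc'] at hgd hidx
    have hmem : a⁻¹ * (x⁻¹ * a * x) ∈ (S : Subgroup G) ⊓ normalizer ((S : Subgroup G) : Set G) ⊓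
        ⁅normalizer ((S : Subgroup G) : Set G), normalizer ((S : Subgroup G) : Set G)⁆ := by
      have h1 : a⁻¹ * (x⁻¹ * a * x) ∈ (S : Subgroup G) :=
        mul_mem (inv_mem ha) ((mem_normalizer_iff''.1 hx a).1 ha)
      refine ⟨⟨h1, le_normalizer h1⟩, ?_⟩
      rw [show a⁻¹ * (x⁻¹ * a * x) = ⁅a⁻¹, x⁻¹⁆ by rw [commutatorElement_def]; group]
      exact commutator_mem_commutator (le_normalizer (inv_mem ha)) (inv_mem hx)
    have hh := hloc _ le_rfl h0 hgd hidx hmem
    refine SetLike.le_def.1 (iSup₂_le fun W hW => ?_) hh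
    rw [inf_eq_left.2 le_normalizer]
    exact (inf_le_inf_left _ (commutator_mono inf_le_right inf_le_right)).trans (le_tSub hW _)
  have main : ∀ T : Subgroup G, T ≤ (S : Subgroup G) → T ≠ ⊥ →
      (S : Subgroup G) ⊓ normalizer (T : Set G) ⊓ ⁅normalizer (T : Set G), normalizer (T : Set G)⁆ ≤ F := by
    suffices ∀ (k : ℕ) (T : Subgroup G),
        Nat.card (S : Subgroup G) ≤ k + Nat.card ↥((S : Subgroup G) ⊓ normalizer (T : Set G)) →
        T ≤ (S : Subgroup G) → T ≠ ⊥ →
        (S : Subgroup G) ⊓ normalizer (T : Set G) ⊓ ⁅normalizer (T : Set G), normalizer (T : Set G)⁆ ≤ F from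
      fun T => this (Nat.card (S : Subgroup G)) T (Nat.le_add_right _ _)
    intro k
    induction k using Nat.strong_induction_on with
    | _ k ih =>
    intro T hk hTS hT0 x hx
    set D := (S : Subgroup G) ⊓ normalizer (T : Set G) with hD
    have ih' : ∀ T' : Subgroup G, T' ≤ (S : Subgroup G) → T' ≠ ⊥ →
        Nat.card D < Nat.card ↥((S : Subgroup G) ⊓ normalizer (T' : Set G)) →
        (S : Subgroup G) ⊓ normalizer (T' : Set G) ⊓ ⁅normalizer (T' : Set G), normalizer (T' : Set G)⁆ ≤ F := by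
      intro T' h1 h2 h3
      have h4 : Nat.card ↥((S : Subgroup G) ⊓ normalizer (T' : Set G)) ≤ Nat.card (S : Subgroup G) :=
        card_le_of_le inf_le_left
      exact ih (k - 1) (by omega) T' (by omega) h1 h2
    obtain ⟨c, hc, hgd, hidx⟩ := hgood T hTS hT0
    set T₁ := T.map (MulAut.conj c).toMonoidHom with hT₁
    have hT₁S : T₁ ≤ (S : Subgroup G) := by
      rintro _ ⟨t, ht, rfl⟩; exact hc t ⟨hTS ht, le_normalizer ht⟩
    have hT₁0 : T₁ ≠ ⊥ := fun e => hT0 ((map_eq_bot_iff_of_injective _ (MulAut.conj c).injective).1 e)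
    set R := (S : Subgroup G) ⊓ normalizer (T₁ : Set G) with hR
    have hDR : Nat.card D ≤ Nat.card R := by
      rw [← card_map_of_injective (K := D) (f := (MulAut.conj c).toMonoidHom) (MulAut.conj c).injective]
      refine card_le_of_le ?_
      rintro _ ⟨d, hd, rfl⟩
      exact ⟨hc d hd, (map_conj_normalizer c T).le ⟨d, hd.2, rfl⟩⟩
    have h1 : c * x * c⁻¹ ∈ F := by
      have hmem : c * x * c⁻¹ ∈ R ⊓ ⁅normalizer (T₁ : Set G), normalizer (T₁ : Set G)⁆ := by
        refine ⟨⟨hc x hx.1, (map_conj_normalizer c T).le ⟨x, hx.1.2, rfl⟩⟩, ?_⟩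
        rw [hT₁, ← map_conj_normalizer, ← map_commutator]
        exact ⟨x, hx.2, rfl⟩
      have hh := hloc T₁ hT₁S hT₁0 hgd hidx hmem
      refine SetLike.le_def.1 (iSup₂_le fun W hW => ?_) hh
      rcases (inf_le_left : R ≤ (S : Subgroup G)).eq_or_lt with hRS | hRS
      · rw [hRS]
        exact (inf_le_inf_left _ (commutator_mono inf_le_right inf_le_right)).trans (le_tSub hW _)
      · have hRp : IsPGroup p R := S.isPGroup'.to_le inf_le_left
        have hWR := h𝓕 W hW R hRp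
        have hR0 : R ≠ ⊥ := fun e => hT₁0 (le_bot_iff.1 (e ▸ le_inf hT₁S le_normalizer))
        have hNle : (S : Subgroup G) ⊓ normalizer (R : Set G) ≤
            (S : Subgroup G) ⊓ normalizer ((W R : Subgroup G) : Set G) :=
          inf_le_inf_left _ (FusionRed.normalizer_le_normalizer_functor (h𝓕 W hW) hRp)
        have hlt : Nat.card D < Nat.card ↥((S : Subgroup G) ⊓ normalizer ((W R : Subgroup G) : Set G)) :=
          lt_of_le_of_lt hDR (lt_of_lt_of_le
            (lt_of_le_of_ne (card_le_of_le (lt_sylow_inf_normalizer S hRS).le) fun e =>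
              (lt_sylow_inf_normalizer S hRS).ne (eq_of_le_of_card_ge (lt_sylow_inf_normalizer S hRS).le e.ge))
            (card_le_of_le hNle))
        refine le_trans (inf_le_inf ?_ (commutator_mono inf_le_right inf_le_right))
          (ih' (W R) (hWR.1.trans inf_le_left) (hWR.2.1 hR0) hlt)
        exact le_trans (le_inf inf_le_left le_normalizer) hNle
    have h2 : x⁻¹ * (c * x * c⁻¹) ∈ F := by
      have hchain := chain_of_conjugates S 𝓣 hfam D inf_le_left c⁻¹ fun t ht => by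
        simpa using hc t ht
      have h := chain_mem (F := F) hchain (fun U hU hcard z hz w hw => ?_) x hx.1
      · simpa using h
      rw [closure_eq] at hcard
      rcases hU.1.eq_or_lt with hUS | hUS
      · subst hUS; exact hS z hz w hw
      · have hU0 : U ≠ ⊥ := by
          rintro rfl
          rw [card_bot] at hcard
          have hD0 : D ≠ ⊥ := fun e => hT0 (le_bot_iff.1 (e ▸ le_inf hTS le_normalizer))
          have := D.one_lt_card_iff_ne_bot.2 hD0
          omega
        have hlt := lt_sylow_inf_normalizer S hUS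
        have hlt' : Nat.card D < Nat.card ↥((S : Subgroup G) ⊓ normalizer (U : Set G)) :=
          lt_of_le_of_lt hcard (lt_of_le_of_ne (card_le_of_le hlt.le) fun e =>
            hlt.ne (eq_of_le_of_card_ge hlt.le e.ge))
        refine ih' U hU.1 hU0 hlt' ⟨⟨?_, ?_⟩, ?_⟩
        · exact hU.1 (mul_mem (inv_mem hw) ((mem_normalizer_iff''.1 hz w).1 hw))
        · exact le_normalizer (mul_mem (inv_mem hw) ((mem_normalizer_iff''.1 hz w).1 hw))
        · rw [show w⁻¹ * (z⁻¹ * w * z) = ⁅w⁻¹, z⁻¹⁆ by rw [commutatorElement_def]; group]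
          exact commutator_mem_commutator (le_normalizer (inv_mem hw)) (inv_mem hz)
    have h3 := mul_mem h1 (inv_mem h2)
    simpa [mul_assoc] using h3
  refine inf_commutator_le S F fun a ha g hg => ?_
  have hchain := chain_of_conjugates S 𝓣 hfam (closure {a}) ((closure_le _).2 (Set.singleton_subset_iff.2 ha)) g
    fun t ht => by
      have : closure {a} ≤ (S : Subgroup G).comap (MulAut.conj g⁻¹).toMonoidHom :=
        (closure_le _).2 (Set.singleton_subset_iff.2 (show (MulAut.conj g⁻¹) a ∈ (S : Subgroup G) by simpa using hg))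
      simpa using this ht
  refine chain_mem hchain (fun U hU _ z hz w hw => ?_) a (subset_closure rfl)
  rcases hU.1.eq_or_lt with hUS | hUS
  · subst hUS; exact hS z hz w hw
  rcases eq_or_ne U ⊥ with rfl | hU0
  · rw [mem_bot.1 hw]; simp
  refine main U hU.1 hU0 ⟨⟨?_, ?_⟩, ?_⟩
  · exact hU.1 (mul_mem (inv_mem hw) ((mem_normalizer_iff''.1 hz w).1 hw))
  · exact le_normalizer (mul_mem (inv_mem hw) ((mem_normalizer_iff''.1 hz w).1 hw))
  · rw [show w⁻¹ * (z⁻¹ * w * z) = ⁅w⁻¹, z⁻¹⁆ by rw [commutatorElement_def]; group]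
    exact commutator_mem_commutator (le_normalizer (inv_mem hw)) (inv_mem hz)

omit [Fact p.Prime] in
theorem map_tSub_le {𝓕 : Set (Subgroup G → Subgroup G)} {H : Type u} [Group H] (f : H →* G)
    {𝓕' : Set (Subgroup H → Subgroup H)} {S' : Subgroup H}
    (hf : ∀ W' ∈ 𝓕', ∃ W ∈ 𝓕, W (S'.map f) = (W' S').map f) :
    (tSub 𝓕' S').map f ≤ tSub 𝓕 (S'.map f) := by
  simp only [tSub, Subgroup.map_iSup]
  refine iSup₂_le fun W' hW' => ?_
  obtain ⟨W, hW, he⟩ := hf W' hW'
  refine le_trans ?_ (le_tSub hW _)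
  refine (map_inf_le _ _ _).trans (inf_le_inf_left _ ?_)
  rw [map_commutator, he]
  exact commutator_mono (le_normalizer_map f) (le_normalizer_map f)

/-- Control of transfer at every Sylow subgroup. -/
theorem inf_commutator_le_of_family (𝓕 : Set (Subgroup G → Subgroup G))
    (h𝓕 : ∀ W ∈ 𝓕, IsConjugacyFunctor p W) (h : FamilyControlsTransferIn p 𝓕 ⊤) (S : Sylow p G) :
    (S : Subgroup G) ⊓ _root_.commutator G ≤ tSub 𝓕 (S : Subgroup G) := by
  obtain ⟨T, -, hTp, hidx, hctl⟩ := h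
  rw [relIndex_top_right] at hidx
  obtain ⟨x, hx⟩ := MulAction.exists_smul_eq G (hTp.toSylow hidx) S
  have hST : T.map (MulAut.conj x).toMonoidHom = (S : Subgroup G) := by
    rw [← hx]; rfl
  intro a ha
  rw [← hST] at ha
  obtain ⟨⟨t, ht, rfl⟩, hac⟩ := ha
  rw [← hST]
  refine map_tSub_le _ (fun W hW => ⟨W, hW, (h𝓕 W hW T hTp).2.2 x⟩) ⟨t, ?_, rfl⟩
  have htc : t ∈ _root_.commutator G := by
    have := (inferInstance : (_root_.commutator G).Normal).conj_mem _ hac x⁻¹
    simpa [mul_assoc] using this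
  have hmem : t ∈ T ⊓ ⁅(⊤ : Subgroup G), ⊤⁆ := ⟨ht, htc⟩
  rw [hctl] at hmem
  simp only [top_inf_eq] at hmem
  exact hmem

theorem family_of_inf_commutator_le (𝓕 : Set (Subgroup G → Subgroup G)) (S : Sylow p G)
    (h : (S : Subgroup G) ⊓ _root_.commutator G ≤ tSub 𝓕 (S : Subgroup G)) :
    FamilyControlsTransferIn p 𝓕 ⊤ := by
  refine ⟨(S : Subgroup G), le_top, S.isPGroup', by rw [relIndex_top_right]; exact S.not_dvd_index, ?_⟩
  simp only [top_inf_eq]
  exact le_antisymm h (le_inf (tSub_le 𝓕 _) (tSub_le_commutator 𝓕 _))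

/-- The local hypothesis from control of transfer in a normalizer. -/
theorem local_of_family (S : Sylow p G) (𝓕 : Set (Subgroup G → Subgroup G))
    (h𝓕 : ∀ W ∈ 𝓕, IsConjugacyFunctor p W) (T : Subgroup G) (hT : T ≤ (S : Subgroup G))
    (hidx : ¬ p ∣ ((S : Subgroup G) ⊓ normalizer (T : Set G)).relIndex (normalizer (T : Set G)))
    (h : FamilyControlsTransferIn p 𝓕 (normalizer (T : Set G))) :
    (S : Subgroup G) ⊓ normalizer (T : Set G) ⊓ ⁅normalizer (T : Set G), normalizer (T : Set G)⁆ ≤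
      ⨆ W ∈ 𝓕, (S : Subgroup G) ⊓ normalizer (T : Set G) ⊓
        ⁅normalizer (T : Set G) ⊓ normalizer ((W ((S : Subgroup G) ⊓ normalizer (T : Set G)) : Subgroup G) : Set G),
          normalizer (T : Set G) ⊓ normalizer ((W ((S : Subgroup G) ⊓ normalizer (T : Set G)) : Subgroup G) : Set G)⁆ := by
  obtain ⟨T', hT'H, hT'p, hT'idx, hctl⟩ := h
  set H := normalizer (T : Set G) with hH
  set R := (S : Subgroup G) ⊓ H with hR
  obtain ⟨x, hxH, hx⟩ := exists_conj_le_of_not_dvd_relIndex (inf_le_right : R ≤ H)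
    (S.isPGroup'.to_le inf_le_left) hidx hT'H hT'p
  have hmap : T'.map (MulAut.conj x).toMonoidHom = R := by
    refine eq_of_isPGroup_of_le (H := H) ?_ inf_le_right (S.isPGroup'.to_le inf_le_left) ?_
    · rintro _ ⟨t, ht, rfl⟩; exact hx t ht
    · have hHx : H.map (MulAut.conj x).toMonoidHom = H := by
        refine eq_of_le_of_card_ge ?_ (card_map_of_injective (MulAut.conj x).injective).ge
        rintro _ ⟨v, hv, rfl⟩; exact mul_mem (mul_mem hxH hv) (inv_mem hxH)
      conv => arg 1; arg 2; arg 2; rw [← hHx]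
      rw [relIndex_map_map_of_injective _ _ (MulAut.conj x).injective]
      exact hT'idx
  have hHx : H.map (MulAut.conj x).toMonoidHom = H := by
    refine eq_of_le_of_card_ge ?_ (card_map_of_injective (MulAut.conj x).injective).ge
    rintro _ ⟨v, hv, rfl⟩; exact mul_mem (mul_mem hxH hv) (inv_mem hxH)
  have h1 : (T' ⊓ ⁅H, H⁆).map (MulAut.conj x).toMonoidHom = R ⊓ ⁅H, H⁆ := by
    rw [map_inf _ _ _ (MulAut.conj x).injective, map_commutator, hmap, hHx]
  rw [← h1, hctl]
  simp only [Subgroup.map_iSup]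
  refine iSup₂_le fun W hW => le_trans (le_of_eq ?_) (le_iSup₂_of_le W hW le_rfl)
  rw [map_inf _ _ _ (MulAut.conj x).injective, map_commutator, hmap,
    map_inf _ _ _ (MulAut.conj x).injective, hHx, map_conj_normalizer,
    ← (h𝓕 W hW T' hT'p).2.2 x, hmap]

open FusionRed (ind Sec IsFam inducedFunctor_map isConjugacyFunctor_induced isConjugacyFunctor_ind)

variable {𝓦 : Set (∀ (Q : Type u) [Group Q], Subgroup Q)}

/-- Transfer is controlled at every Sylow subgroup. -/
def CT (p : ℕ) (G : Type u) [Group G] (𝓦 : Set (∀ (Q : Type u) [Group Q], Subgroup Q)) : Prop :=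
  ∀ S : Sylow p G, (S : Subgroup G) ⊓ _root_.commutator G ≤ tSub (ind G 𝓦) (S : Subgroup G)

/-- The hypothesis on the constrained sections: transfer is controlled on the `p`-core. -/
def HypT (p : ℕ) (G : Type u) [Group G] (𝓦 : Set (∀ (Q : Type u) [Group Q], Subgroup Q)) : Prop :=
  ∀ (X : Type u) [Group X] [Finite X], Sec X G →
    centralizer (pCore p X : Set X) ≤ pCore p X → ∀ S : Sylow p X,
      pCore p X ⊓ _root_.commutator X ≤ tSub (ind X 𝓦) (S : Subgroup X)

omit [Finite G] [Fact p.Prime] in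
theorem HypT.of_sec {X : Type u} [Group X] (h : HypT p G 𝓦) (hX : Sec X G) : HypT p X 𝓦 :=
  fun Y _ _ hY => h Y (hY.trans hX)

theorem inf_commutator_subgroup_le (h𝓦 : IsFam p 𝓦) (S : Sylow p G) {H : Subgroup G}
    (hSH : (S : Subgroup G) ≤ H) (hH : CT p H 𝓦) :
    (S : Subgroup G) ⊓ ⁅H, H⁆ ≤ tSub (ind G 𝓦) (S : Subgroup G) := by
  let S' : Sylow p H := S.subtype hSH
  have hmap : ((S' : Subgroup H)).map H.subtype = (S : Subgroup G) := by
    rw [Sylow.coe_subtype, map_subgroupOf_eq_of_le hSH]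
  have h := map_mono (f := H.subtype) (hH S')
  rw [map_inf _ _ _ H.subtype_injective, map_subtype_commutator, hmap] at h
  refine h.trans (le_trans (map_tSub_le (𝓕 := ind G 𝓦) H.subtype ?_) (by rw [hmap]))
  rintro _ ⟨W, hW, rfl⟩
  exact ⟨_, ⟨W, hW, rfl⟩, inducedFunctor_map (h𝓦 W hW) _ _ S'.isPGroup'
    fun x _ hx => H.subtype_injective (hx.trans (map_one _).symm)⟩

theorem commutator_sylow_le (h𝓦 : IsFam p 𝓦) (h : HypT p G 𝓦) (S : Sylow p G) :
    ⁅(S : Subgroup G), (S : Subgroup G)⁆ ≤ tSub (ind G 𝓦) (S : Subgroup G) := by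
  refine le_trans (le_inf ?_ le_rfl) (inf_commutator_subgroup_le h𝓦 S le_rfl ?_)
  · rw [commutator_le]
    intro a ha b hb
    rw [commutatorElement_def]
    exact mul_mem (mul_mem (mul_mem ha hb) (inv_mem ha)) (inv_mem hb)
  · have htop : pCore p (S : Subgroup G) = ⊤ :=
      top_le_iff.1 (Agent.Solv.le_pCore (S.isPGroup'.to_subgroup ⊤))
    intro P x hx
    exact h _ (Sec.subgroup _) (by rw [htop]; exact le_top) P ⟨by rw [htop]; trivial, hx.2⟩

/-- The normalizer of the value at the image of the Sylow subgroup, modulo a normal `p'`-subgroup. -/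
theorem normalizer_le_map {W : ∀ (Q : Type u) [Group Q], Subgroup Q} (hW : IsCharPFunctor.{u} p W)
    (S : Sylow p G) (O : Subgroup G) [O.Normal] (hO : (Nat.card O).Coprime p)
    (hinf : (S : Subgroup G) ⊓ O = ⊥) :
    normalizer ((inducedFunctor W ((S : Subgroup G).map (QuotientGroup.mk' O)) : Subgroup (G ⧸ O)) : Set (G ⧸ O)) ≤
      (normalizer ((inducedFunctor W (S : Subgroup G) : Subgroup G) : Set G)).map (QuotientGroup.mk' O) := by
  intro yb hyb
  obtain ⟨y₀, rfl⟩ := QuotientGroup.mk'_surjective O yb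
  let π := QuotientGroup.mk' O
  set WS := inducedFunctor W (S : Subgroup G) with hWS
  have hWSS : WS ≤ (S : Subgroup G) := map_subtype_le _
  rw [inducedFunctor_map hW π _ S.isPGroup' (fun x hx h => by
    rw [← mem_bot, ← hinf]; exact ⟨hx, (QuotientGroup.eq_one_iff x).1 h⟩)] at hyb
  let M := (WS.map π).comap π
  have hMeq : M = WS ⊔ O := by
    show (WS.map π).comap π = _
    rw [comap_map_eq, QuotientGroup.ker_mk']
  have hWM : WS ≤ M := hMeq ▸ le_sup_left
  have hWp : IsPGroup p WS := S.isPGroup'.to_le hWSS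
  have hWidx : ¬ p ∣ WS.relIndex M := by
    have h1 := Agent.Solv.card_sup_mul_card_inf O WS le_normalizer_of_normal
    have hbot : O ⊓ WS = ⊥ := by
      rw [eq_bot_iff, ← hinf]; exact fun x hx => ⟨hWSS hx.2, hx.1⟩
    rw [hbot, card_bot, mul_one, sup_comm, ← hMeq] at h1
    have h2 := (WS.subgroupOf M).card_mul_index
    rw [Agent.Solv.card_subgroupOf hWM, h1, mul_comm (Nat.card O)] at h2
    rw [relIndex, Nat.eq_of_mul_eq_mul_left Nat.card_pos h2]
    exact (Nat.Prime.coprime_iff_not_dvd Fact.out).1 hO.symm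
  have hU : WS.map (MulAut.conj y₀).toMonoidHom ≤ M := by
    rintro _ ⟨w, hw, rfl⟩
    show π _ ∈ WS.map π
    have e : π ((MulAut.conj y₀).toMonoidHom w) = π y₀ * π w * (π y₀)⁻¹ := by
      rw [← map_inv, ← map_mul, ← map_mul]; rfl
    rw [e]
    exact (mem_normalizer_iff.1 hyb (π w)).1 ⟨w, hw, rfl⟩
  obtain ⟨m, hm, hm'⟩ := exists_conj_le_of_not_dvd_relIndex hWM hWp hWidx hU (hWp.map _)
  rw [hMeq] at hm
  obtain ⟨w, hw, o, ho, rfl⟩ := mem_sup_of_normal_right.1 hm
  refine ⟨o * y₀, ?_, ?_⟩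
  · have hle : WS.map (MulAut.conj (o * y₀)).toMonoidHom ≤ WS := by
      rintro _ ⟨v, hv, rfl⟩
      have := mul_mem (mul_mem (inv_mem hw) (hm' _ ⟨v, hv, rfl⟩)) hw
      simpa [mul_assoc] using this
    have heq := eq_of_le_of_card_ge hle (card_map_of_injective (MulAut.conj (o * y₀)).injective).ge
    show o * y₀ ∈ normalizer (WS : Set G)
    rw [mem_normalizer_iff]
    refine fun z => ⟨fun hz => hle ⟨z, hz, rfl⟩, fun hz => ?_⟩
    obtain ⟨v, hv, he⟩ := heq.symm.le hz
    rwa [(MulAut.conj (o * y₀)).injective he] at hv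
  · rw [map_mul, show π o = 1 from (QuotientGroup.eq_one_iff o).2 ho, one_mul]

/-- Reduction modulo the `p'`-core. -/
theorem ct_of_pPrime (h𝓦 : IsFam p 𝓦) (S : Sylow p G) (O : Subgroup G) [O.Normal]
    (hO : (Nat.card O).Coprime p) (h : CT p (G ⧸ O) 𝓦) :
    (S : Subgroup G) ⊓ _root_.commutator G ≤ tSub (ind G 𝓦) (S : Subgroup G) := by
  let π := QuotientGroup.mk' O
  have hπs : Function.Surjective π := QuotientGroup.mk'_surjective O
  let Sb := S.mapSurjective hπs
  have hinf : (S : Subgroup G) ⊓ O = ⊥ := by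
    refine Agent.Solv.inf_eq_bot_of_coprime_card _ _ ?_
    obtain ⟨j, hj⟩ := IsPGroup.iff_card.1 S.isPGroup'
    rw [hj]
    exact Nat.Coprime.pow_left j hO.symm
  have hinj2 : ∀ x ∈ (S : Subgroup G), ∀ x' ∈ (S : Subgroup G), π x = π x' → x = x' := fun x hx x' hx' e =>
    mul_inv_eq_one.1 (by
      rw [← mem_bot, ← hinf]
      exact Subgroup.mem_inf.2 ⟨mul_mem hx (inv_mem hx'), (QuotientGroup.eq_one_iff _).1
        (show π _ = 1 by rw [map_mul, map_inv, e, mul_inv_cancel])⟩)
  have hle : tSub (ind (G ⧸ O) 𝓦) (Sb : Subgroup (G ⧸ O)) ≤ (tSub (ind G 𝓦) (S : Subgroup G)).map π := by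
    refine iSup₂_le ?_
    rintro _ ⟨W, hW, rfl⟩
    set N := normalizer ((inducedFunctor W (S : Subgroup G) : Subgroup G) : Set G) with hN
    intro z hz
    obtain ⟨⟨s, hs, hsz⟩, hz2⟩ := hz
    have hz3 : z ∈ ⁅N, N⁆.map π := by
      rw [map_commutator]
      exact commutator_mono (normalizer_le_map (h𝓦 W hW) S O hO hinf)
        (normalizer_le_map (h𝓦 W hW) S O hO hinf) hz2
    obtain ⟨n, hn, hnz⟩ := hz3
    refine ⟨s, le_tSub (𝓕 := ind G 𝓦) (W := inducedFunctor W) ⟨W, hW, rfl⟩ _ ⟨hs, ?_⟩, hsz⟩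
    have hsN : s ∈ N :=
      FusionRed.normalizer_le_normalizer_functor (isConjugacyFunctor_induced (h𝓦 W hW)) S.isPGroup'
        (le_normalizer hs)
    have hnN : n ∈ N := commutator_le_self N hn
    have hd : n⁻¹ * s ∈ O := (QuotientGroup.eq_one_iff _).1
      (show π _ = 1 by rw [map_mul, map_inv, hsz, hnz, inv_mul_cancel])
    rw [← map_subtype_commutator N] at hn ⊢
    obtain ⟨n', hn', rfl⟩ := hn
    refine ⟨⟨s, hsN⟩, ?_, rfl⟩
    let d : N := n'⁻¹ * ⟨s, hsN⟩
    have e : Abelianization.of (⟨s, hsN⟩ : N) = Abelianization.of d := by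
      have h1 : Abelianization.of n' = 1 := (QuotientGroup.eq_one_iff n').2 hn'
      simp [d, map_mul, map_inv, h1]
    refine (QuotientGroup.eq_one_iff _).1 (show Abelianization.of (⟨s, hsN⟩ : N) = 1 from ?_)
    obtain ⟨k, hk⟩ := S.isPGroup' ⟨s, hs⟩
    have h1 : orderOf (Abelianization.of (⟨s, hsN⟩ : N)) ∣ p ^ k := by
      refine (orderOf_map_dvd _ _).trans (orderOf_dvd_of_pow_eq_one ?_)
      exact Subtype.ext (congrArg Subtype.val hk :)
    have h2 : orderOf (Abelianization.of (⟨s, hsN⟩ : N)) ∣ Nat.card O := by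
      rw [e]
      refine (orderOf_map_dvd _ _).trans ?_
      rw [← Subgroup.orderOf_coe]
      exact (Subgroup.orderOf_coe (⟨(d : G), hd⟩ : O)).symm ▸ orderOf_dvd_natCard _
    exact orderOf_eq_one_iff.1 (Nat.eq_one_of_dvd_coprimes (Nat.Coprime.pow_left k hO.symm) h1 h2)
  intro x hx
  have hxQ : π x ∈ (Sb : Subgroup (G ⧸ O)) ⊓ _root_.commutator (G ⧸ O) := by
    refine ⟨⟨x, hx.1, rfl⟩, ?_⟩
    have : (_root_.commutator G).map π ≤ _root_.commutator (G ⧸ O) := by
      rw [_root_.commutator_def, map_commutator]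
      exact commutator_mono le_top le_top
    exact this ⟨x, hx.2, rfl⟩
  obtain ⟨f, hf, hfx⟩ := hle (h Sb hxQ)
  rw [← hinj2 f (tSub_le _ _ hf) x hx.1 hfx]
  exact hf

omit [Finite G] in
/-- Transfer of elements whose fusion is inner in `S`. -/
theorem mem_commutator_sylow [Finite G] (S : Sylow p G) (Q : Subgroup G) [Q.Normal]
    (hQS : Q ≤ (S : Subgroup G)) (hC : centralizer (Q : Set G) ⊔ (S : Subgroup G) = ⊤) {q : G}
    (hq : q ∈ Q) (hqG : q ∈ _root_.commutator G) : q ∈ ⁅(S : Subgroup G), (S : Subgroup G)⁆ := by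
  classical
  let φ : (S : Subgroup G) →* Abelianization (S : Subgroup G) := Abelianization.of
  have : Fintype (Quotient (MulAction.orbitRel (zpowers q) (G ⧸ (S : Subgroup G)))) := Fintype.ofFinite _
  have hV : MonoidHom.transfer φ q = φ ⟨q, hQS hq⟩ ^ (S : Subgroup G).index := by
    rw [MonoidHom.transfer_eq_prod_quotient_orbitRel_zpowers_quot,
      index_eq_sum_minimalPeriod (S : Subgroup G) q, ← Finset.prod_pow_eq_pow_sum]
    refine Finset.prod_congr rfl fun i _ => ?_
    set k := Function.minimalPeriod (q • ·) i.out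
    obtain ⟨s, hs, c, hc, hsc⟩ := mem_sup_of_normal_right.1
      (show (i.out.out : G)⁻¹ ∈ (S : Subgroup G) ⊔ centralizer (Q : Set G) by rw [sup_comm, hC]; trivial)
    have e : (i.out.out : G)⁻¹ * q ^ k * i.out.out = s * q ^ k * s⁻¹ := by
      have h1 := mem_centralizer_iff.1 hc _ (pow_mem hq k)
      calc (i.out.out : G)⁻¹ * q ^ k * i.out.out = (s * c) * q ^ k * (s * c)⁻¹ := by rw [hsc]; group
        _ = s * (c * q ^ k) * c⁻¹ * s⁻¹ := by group
        _ = _ := by rw [← h1]; group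
    rw [← map_pow]
    calc φ ⟨(i.out.out : G)⁻¹ * q ^ k * i.out.out, _⟩
        = φ (⟨s, hs⟩ * ⟨q, hQS hq⟩ ^ k * (⟨s, hs⟩ : (S : Subgroup G))⁻¹) :=
          congrArg φ (Subtype.ext (by simpa using e))
      _ = φ (⟨q, hQS hq⟩ ^ k) := by rw [map_mul, map_mul, map_inv, mul_comm (φ ⟨s, hs⟩), mul_inv_cancel_right]
  have h1 : MonoidHom.transfer φ q = 1 := Abelianization.commutator_subset_ker _ hqG
  rw [hV, ← map_pow] at h1
  have h2 : φ ⟨q, hQS hq⟩ = 1 := by
    obtain ⟨k, hk⟩ := S.isPGroup' ⟨q, hQS hq⟩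
    rw [map_pow] at h1
    refine orderOf_eq_one_iff.1 (Nat.eq_one_of_dvd_coprimes
      (Nat.Coprime.pow_left k ((Nat.Prime.coprime_iff_not_dvd Fact.out).2 S.not_dvd_index))
      ((orderOf_map_dvd _ _).trans (orderOf_dvd_of_pow_eq_one hk)) (orderOf_dvd_of_pow_eq_one h1))
  rw [← map_subtype_commutator]
  exact ⟨_, (QuotientGroup.eq_one_iff _).1 h2, rfl⟩

/-- If the transfer is controlled on the `p`-core, it is controlled modulo the `p`-core by induction. -/
theorem ct_of_core (h𝓦 : IsFam p 𝓦) (S : Sylow p G) (Q : Subgroup G) [Q.Normal] (hQ : pCore p G = Q)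
    (hind : ∀ H : Subgroup G, H ≠ ⊤ → CT p H 𝓦) (hquot : Q ≠ ⊥ → CT p (G ⧸ Q) 𝓦) (hQ0 : Q ≠ ⊥)
    (hq : ∀ q ∈ Q, q ∈ _root_.commutator G → q ∈ tSub (ind G 𝓦) (S : Subgroup G)) :
    (S : Subgroup G) ⊓ _root_.commutator G ≤ tSub (ind G 𝓦) (S : Subgroup G) := by
  have hQS : Q ≤ (S : Subgroup G) := hQ ▸ Agent.Solv.pCore_le_sylow S
  intro x hx
  by_cases hSQ : (S : Subgroup G) ≤ Q
  · exact hq x (hSQ hx.1) hx.2
  let π := QuotientGroup.mk' Q
  have hπs : Function.Surjective π := QuotientGroup.mk'_surjective Q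
  let Sb := S.mapSurjective hπs
  have hcomap : ((Sb : Subgroup (G ⧸ Q))).comap π = (S : Subgroup G) := by
    rw [Sylow.coe_mapSurjective, comap_map_eq, QuotientGroup.ker_mk', sup_eq_left.2 hQS]
  have hle : tSub (ind (G ⧸ Q) 𝓦) (Sb : Subgroup (G ⧸ Q)) ≤ (tSub (ind G 𝓦) (S : Subgroup G)).map π := by
    refine iSup₂_le ?_
    rintro _ ⟨W, hW, rfl⟩
    have hcj := isConjugacyFunctor_induced (G := G ⧸ Q) (h𝓦 W hW)
    set Wb := inducedFunctor W (Sb : Subgroup (G ⧸ Q)) with hWb
    set H := (normalizer (Wb : Set (G ⧸ Q))).comap π with hH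
    have hSH : (S : Subgroup G) ≤ H := fun x hx =>
      FusionRed.normalizer_le_normalizer_functor hcj Sb.isPGroup' (le_normalizer ⟨x, hx, rfl⟩)
    have hHne : H ≠ ⊤ := by
      intro htop'
      haveI : Wb.Normal := by
        rw [← normalizer_eq_top_iff, eq_top_iff]
        intro z _
        obtain ⟨x, rfl⟩ := hπs z
        exact htop'.ge (mem_top x)
      have hUQ : Wb.comap π ≤ Q :=
        (Agent.Solv.le_pCore (hN := ‹Wb.Normal›.comap π)
          (S.isPGroup'.to_le ((comap_mono (hcj _ Sb.isPGroup').1).trans hcomap.le))).trans hQ.le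
      have hne : (Sb : Subgroup (G ⧸ Q)) ≠ ⊥ := fun e => hSQ fun x hx => by
        have hx' : π x ∈ (Sb : Subgroup (G ⧸ Q)) := ⟨x, hx, rfl⟩
        rw [e, mem_bot] at hx'
        exact (QuotientGroup.eq_one_iff x).1 hx'
      refine (hcj _ Sb.isPGroup').2.1 hne ((Subgroup.eq_bot_iff_forall _).2 fun z hz => ?_)
      obtain ⟨x, rfl⟩ := hπs z
      exact (QuotientGroup.eq_one_iff x).2 (hUQ hz)
    intro z hz
    obtain ⟨n, hn, rfl⟩ : z ∈ ⁅H, H⁆.map π := by
      rw [map_commutator, hH, map_comap_eq_self_of_surjective hπs]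
      exact hz.2
    refine ⟨n, inf_commutator_subgroup_le h𝓦 S hSH (hind H hHne) ⟨?_, hn⟩, rfl⟩
    rw [← hcomap]
    exact hz.1
  have hxQ : π x ∈ (Sb : Subgroup (G ⧸ Q)) ⊓ _root_.commutator (G ⧸ Q) := by
    refine ⟨⟨x, hx.1, rfl⟩, ?_⟩
    have : (_root_.commutator G).map π ≤ _root_.commutator (G ⧸ Q) := by
      rw [_root_.commutator_def, map_commutator]
      exact commutator_mono le_top le_top
    exact this ⟨x, hx.2, rfl⟩
  obtain ⟨f, hf, hfx⟩ := hle (hquot hQ0 Sb hxQ)
  rw [QuotientGroup.mk'_eq_mk'] at hfx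
  obtain ⟨q, hqQ, rfl⟩ := hfx
  refine mul_mem hf (hq q hqQ ?_)
  have := mul_mem (inv_mem (tSub_le_commutator _ _ hf)) hx.2
  simpa using this

/-- The reduction theorem. -/
theorem ct_of_hyp (h𝓦 : IsFam p 𝓦) : ∀ (G : Type u) [Group G] [Finite G], HypT p G 𝓦 → CT p G 𝓦 := by
  suffices ∀ (n : ℕ) (G : Type u) [Group G] [Finite G], Nat.card G ≤ n → HypT p G 𝓦 → CT p G 𝓦 from
    fun G _ _ => this (Nat.card G) G le_rfl
  intro n
  induction n with
  | zero =>
    intro G _ _ hn
    exact absurd (Nat.card_pos (α := G)) (by omega)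
  | succ n ih =>
    intro G _ _ hn hyp S
    have hind : ∀ H : Subgroup G, H ≠ ⊤ → CT p H 𝓦 := fun H hH => by
      refine ih H ?_ (hyp.of_sec (Sec.subgroup H))
      have h1 := card_le_card_group H
      have h2 : Nat.card H ≠ Nat.card G := fun e => hH (eq_top_of_card_eq H e)
      omega
    have hquot : ∀ (N : Subgroup G) [N.Normal], N ≠ ⊥ → CT p (G ⧸ N) 𝓦 := fun N _ hN => by
      refine ih (G ⧸ N) ?_ (hyp.of_sec (Sec.of_surjective _ (QuotientGroup.mk'_surjective N)))
      have h1 := card_eq_card_quotient_mul_card_subgroup N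
      have h2 := N.one_lt_card_iff_ne_bot.2 hN
      have h3 : Nat.card (G ⧸ N) < Nat.card G := by
        rw [h1]; exact (lt_mul_iff_one_lt_right Nat.card_pos).2 h2
      omega
    haveI := Agent.Solv.pPrimeCore_characteristic p G
    haveI := Agent.Solv.pCore_characteristic p G
    by_cases hO : pPrimeCore p G = ⊥
    swap
    · exact ct_of_pPrime h𝓦 S _ (Agent.Solv.card_pPrimeCore_coprime p G) (hquot _ hO)
    set Q := pCore p G with hQ
    by_cases hQ0 : Q = ⊥
    · refine local_to_global S (ind G 𝓦) (isConjugacyFunctor_ind h𝓦)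
        (fun _ => True) (fun T hT hT0 => ?_) (fun T hT hT0 _ hidx => ?_)
      · obtain ⟨g, h1, h2⟩ := exists_conj_sylow_of S
          (U := (S : Subgroup G) ⊓ normalizer (T : Set G))
          (H := normalizer (T : Set G)) inf_le_right (S.isPGroup'.to_le inf_le_left)
        rw [map_conj_normalizer] at h2
        exact ⟨g, h1, trivial, h2⟩
      · set H := normalizer (T : Set G) with hH
        have hne : H ≠ ⊤ := fun h => hT0 (le_bot_iff.1 (by
          rw [← hQ0, hQ]
          exact Agent.Solv.le_pCore (hN := normalizer_eq_top_iff.1 h) (S.isPGroup'.to_le hT)))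
        set R := (S : Subgroup G) ⊓ H with hR
        let P : Sylow p H := ((S.isPGroup'.to_le (inf_le_left : R ≤ _)).of_equiv
          (subgroupOfEquivOfLe inf_le_right).symm).toSylow hidx
        have hP : ((P : Subgroup H)).map H.subtype = R := map_subgroupOf_eq_of_le inf_le_right
        have h := map_mono (f := H.subtype) (hind H hne P)
        rw [map_inf _ _ _ H.subtype_injective, map_subtype_commutator, hP] at h
        refine h.trans ?_
        simp only [tSub, Subgroup.map_iSup]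
        refine iSup₂_le ?_
        rintro _ ⟨W, hW, rfl⟩
        refine le_trans ?_ (le_iSup₂_of_le (inducedFunctor W) ⟨W, hW, rfl⟩ le_rfl)
        refine (map_inf_le _ _ _).trans ?_
        rw [hP, map_commutator]
        refine inf_le_inf_left _ ?_
        have he : inducedFunctor W R = (inducedFunctor W (P : Subgroup H)).map H.subtype := by
          rw [← hP]
          exact inducedFunctor_map (h𝓦 W hW) _ _ P.isPGroup'
            fun x _ hx => H.subtype_injective (hx.trans (map_one _).symm)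
        rw [he]
        exact commutator_mono (le_inf (map_subtype_le _) (le_normalizer_map _))
          (le_inf (map_subtype_le _) (le_normalizer_map _))
    set C := centralizer (Q : Set G) with hC
    by_cases hCQ : C ≤ Q
    · exact ct_of_core h𝓦 S Q rfl hind (hquot Q) hQ0 fun q h1 h2 => hyp G Sec.refl hCQ S ⟨h1, h2⟩
    have hQS : Q ≤ (S : Subgroup G) := Agent.Solv.pCore_le_sylow S
    by_cases htop : C ⊔ (S : Subgroup G) = ⊤
    · exact ct_of_core h𝓦 S Q rfl hind (hquot Q) hQ0 fun q h1 h2 =>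
        commutator_sylow_le h𝓦 hyp S (mem_commutator_sylow S Q hQS htop h1 h2)
    obtain ⟨hfr, hSN, hNR⟩ := FusionRed.proper_normalizer S hO hCQ
    refine inf_commutator_le S _ fun a ha g hg => ?_
    obtain ⟨nn, hnn, m, hm, hgm⟩ := mem_sup_of_normal_right.1 (hfr.ge (mem_top g⁻¹))
    let H := C ⊔ (S : Subgroup G)
    have hmH : m ∈ H := sup_le_sup_left hQS C hm
    obtain ⟨x, hx, hxA⟩ := FusionRed.exists_split S hSN (le_sup_right : (S : Subgroup G) ≤ H) hnn hmH
      (A := {a}) (Set.singleton_subset_iff.2 ha) (by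
        rintro _ ⟨_, rfl, rfl⟩
        show nn * m * _ * (nn * m)⁻¹ ∈ (S : Subgroup G)
        rw [hgm, inv_inv]
        exact hg)
    set b := (x * m) * a * (x * m)⁻¹ with hb
    have hbS : b ∈ (S : Subgroup G) := hxA ⟨a, rfl, rfl⟩
    have key : ∀ (H : Subgroup G), (S : Subgroup G) ≤ H → CT p H 𝓦 → ∀ y ∈ H, ∀ a ∈ (S : Subgroup G),
        y * a * y⁻¹ ∈ (S : Subgroup G) → a⁻¹ * (y * a * y⁻¹) ∈ tSub (ind G 𝓦) (S : Subgroup G) := by
      intro H hSH hH y hy a ha hya
      refine inf_commutator_subgroup_le h𝓦 S hSH hH (Subgroup.mem_inf.2 ⟨mul_mem (inv_mem ha) hya, ?_⟩)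
      rw [show a⁻¹ * (y * a * y⁻¹) = ⁅a⁻¹, y⁆ by rw [commutatorElement_def]; group]
      exact commutator_mem_commutator (inv_mem (hSH ha)) hy
    have h1 := key H le_sup_right (hind H htop) (x * m) (mul_mem hx.2 hmH) a ha hbS
    have e : g⁻¹ * a * g = (nn * x⁻¹) * b * (nn * x⁻¹)⁻¹ := by
      rw [hb, show g = (g⁻¹)⁻¹ from (inv_inv g).symm, ← hgm]; group
    have h2 := key _ hSN (hind _ hNR) (nn * x⁻¹) (mul_mem hnn (inv_mem hx.1)) b hbS (e ▸ hg)
    rw [e]
    exact conj_div_mem h1 h2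

theorem ct_of_family (h𝓦 : IsFam p 𝓦) (h : FamilyControlsTransferIn p (ind G 𝓦) ⊤) : CT p G 𝓦 :=
  fun S => inf_commutator_le_of_family _ (isConjugacyFunctor_ind h𝓦) h S

theorem ct_of_equiv (h𝓦 : IsFam p 𝓦) {X Y : Type u} [Group X] [Finite X] [Group Y] [Finite Y] (e : X ≃* Y)
    (h : CT p X 𝓦) : CT p Y 𝓦 := by
  intro S
  let S' : Sylow p X := S.mapSurjective (f := e.symm.toMonoidHom) e.symm.surjective
  have hback : ((S' : Subgroup X)).map e.toMonoidHom = (S : Subgroup Y) := by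
    show ((S : Subgroup Y).map e.symm.toMonoidHom).map e.toMonoidHom = _
    rw [map_map]
    convert map_id (S : Subgroup Y)
    ext; simp
  intro y hy
  have hmem : e.symm y ∈ (S' : Subgroup X) ⊓ _root_.commutator X := by
    refine ⟨⟨y, hy.1, rfl⟩, ?_⟩
    have : (_root_.commutator Y).map e.symm.toMonoidHom ≤ _root_.commutator X := by
      rw [_root_.commutator_def, map_commutator]
      exact commutator_mono le_top le_top
    exact this ⟨y, hy.2, rfl⟩
  have h' : y ∈ (tSub (ind X 𝓦) (S' : Subgroup X)).map e.toMonoidHom := ⟨_, h S' hmem, by simp⟩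
  rw [← hback]
  refine map_tSub_le (𝓕 := ind Y 𝓦) _ ?_ h'
  rintro _ ⟨W, hW, rfl⟩
  exact ⟨_, ⟨W, hW, rfl⟩, inducedFunctor_map (h𝓦 W hW) _ _ S'.isPGroup'
    fun x _ hx => e.injective (hx.trans (map_one _).symm)⟩

/-- Sections given by subgroup pairs. -/
theorem hypT_of_sections (h𝓦 : IsFam p 𝓦)
    (h : ∀ (K R : Subgroup G) [hR : (R.subgroupOf K).Normal],
      centralizer (pCore p (K ⧸ R.subgroupOf K) : Set (K ⧸ R.subgroupOf K)) ≤ pCore p (K ⧸ R.subgroupOf K) →
        ∀ T : Sylow p (K ⧸ R.subgroupOf K), pCore p (K ⧸ R.subgroupOf K) ⊓ _root_.commutator (K ⧸ R.subgroupOf K) ≤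
          tSub (ind (K ⧸ R.subgroupOf K) 𝓦) (T : Subgroup (K ⧸ R.subgroupOf K))) : HypT p G 𝓦 := by
  rintro X _ _ ⟨K, f, hf⟩ hX S
  have hker : (f.ker.map K.subtype).subgroupOf K = f.ker :=
    comap_map_eq_self_of_injective K.subtype_injective _
  haveI : ((f.ker.map K.subtype).subgroupOf K).Normal := by rw [hker]; infer_instance
  let e : K ⧸ (f.ker.map K.subtype).subgroupOf K ≃* X :=
    (QuotientGroup.quotientMulEquivOfEq hker).trans (QuotientGroup.quotientKerEquivOfSurjective f hf)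
  have h0 := h K _ (FusionRed.centralizer_pCore_le_of_equiv e.symm hX)
    (S.mapSurjective (f := e.symm.toMonoidHom) e.symm.surjective)
  have hback : ((S : Subgroup X).map e.symm.toMonoidHom).map e.toMonoidHom = (S : Subgroup X) := by
    rw [map_map]
    convert map_id (S : Subgroup X)
    ext; simp
  intro y hy
  have hmem : e.symm y ∈ pCore p _ ⊓ _root_.commutator _ := by
    refine ⟨?_, ?_⟩
    · rw [← Agent.Solv.pCore_map_equiv p e.symm]; exact ⟨y, hy.1, rfl⟩
    · have : (_root_.commutator X).map e.symm.toMonoidHom ≤ _root_.commutator _ := by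
        rw [_root_.commutator_def, map_commutator]
        exact commutator_mono le_top le_top
      exact this ⟨y, hy.2, rfl⟩
  have h' : y ∈ (tSub (ind _ 𝓦) _).map e.toMonoidHom := ⟨_, h0 hmem, by simp⟩
  rw [← hback]
  refine map_tSub_le (𝓕 := ind X 𝓦) _ ?_ h'
  rintro _ ⟨W, hW, rfl⟩
  exact ⟨_, ⟨W, hW, rfl⟩, inducedFunctor_map (h𝓦 W hW) _ _ (S.isPGroup'.map _)
    fun x _ hx => e.injective (hx.trans (map_one _).symm)⟩

omit [Finite G] [Fact p.Prime] in
theorem controlsTransferIn_iff (W : Subgroup G → Subgroup G) (H : Subgroup G) :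
    ControlsTransferIn p W H ↔ FamilyControlsTransferIn p {W} H := by
  simp [ControlsTransferIn, FamilyControlsTransferIn]

end Cfsg.Agent.Local.TransferRed
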