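import Cfsg.Prelude.Def_LocalEven
import Cfsg.Agent.Lib.Solv.Basic
import Mathlib.GroupTheory.Sylow

/-!
A group with a normal four-group acted on as by `S₃` involves `S₄`.
-/

set_option autoImplicit false
set_option linter.style.haveILetI false

namespace Cfsg.Agent.Local

open Subgroup

universe u v

/-- A homomorphism onto `H` from a group embedded in `G` gives a section. -/
theorem involves_of_hom {G : Type u} [Group G] {H : Type v} [Group H] {K : Type*} [Group K]
    (i : K →* G) (hi : Function.Injective i) (f : K →* H) (hf : Function.Surjective f) :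
    Involves H G := by
  let e := MonoidHom.ofInjective hi
  let g : i.range →* H := f.comp e.symm.toMonoidHom
  have hg : Function.Surjective g := hf.comp e.symm.surjective
  have hker : (g.ker.map i.range.subtype).subgroupOf i.range = g.ker :=
    comap_map_eq_self_of_injective i.range.subtype_injective _
  haveI hn : ((g.ker.map i.range.subtype).subgroupOf i.range).Normal := by
    rw [hker]; infer_instance
  exact ⟨i.range, g.ker.map i.range.subtype, hn,
    ⟨(QuotientGroup.quotientMulEquivOfEq hker).trans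
      (QuotientGroup.quotientKerEquivOfSurjective g hg)⟩⟩

theorem involves_of_injective {G : Type u} [Group G] {H : Type v} [Group H] {G' : Type*} [Group G']
    (i : G' →* G) (hi : Function.Injective i) (h : Involves H G') : Involves H G := by
  obtain ⟨K, R, hn, ⟨e⟩⟩ := h
  exact involves_of_hom (i.comp K.subtype) (hi.comp K.subtype_injective)
    (e.toMonoidHom.comp (QuotientGroup.mk' _)) (e.surjective.comp (QuotientGroup.mk'_surjective _))

theorem involves_of_surjective {G : Type u} [Group G] {H : Type v} [Group H] {Q : Type*} [Group Q]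
    (π : G →* Q) (hπ : Function.Surjective π) (h : Involves H Q) : Involves H G := by
  obtain ⟨K, R, hn, ⟨e⟩⟩ := h
  refine involves_of_hom (K.comap π).subtype (Subgroup.subtype_injective _)
    ((e.toMonoidHom.comp (QuotientGroup.mk' _)).comp (π.subgroupComap K)) ?_
  exact (e.surjective.comp (QuotientGroup.mk'_surjective _)).comp
    (MonoidHom.subgroupComap_surjective_of_surjective π K hπ)

/-- A four-group with a complement that does not act as an abelian group. -/
theorem involves_perm_four_of_complement {G : Type u} [Group G] [Finite G] (W L : Subgroup G)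
    [W.Normal] (hW : Nat.card W = 4) (hWL : W ⊓ L = ⊥) {y a : G} (hy : y ∈ L) (ha : a ∈ L)
    (hya : ∃ w ∈ W, (a * y * a⁻¹ * y⁻¹) * w ≠ w * (a * y * a⁻¹ * y⁻¹)) :
    Involves (Equiv.Perm (Fin 4)) G := by
  classical
  set K := W ⊔ L with hK
  have hLK : L ≤ K := le_sup_right
  have hindex : (L.subgroupOf K).index = 4 := by
    have h1 := Agent.Solv.card_sup_mul_card_inf W L le_normalizer_of_normal
    rw [hWL, card_bot, mul_one, hW] at h1
    have h2 := (L.subgroupOf K).card_mul_index
    rw [Agent.Solv.card_subgroupOf hLK, h1, mul_comm 4] at h2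
    exact Nat.eq_of_mul_eq_mul_left Nat.card_pos h2
  let e : K ⧸ L.subgroupOf K ≃ Fin 4 := Finite.equivFinOfCardEq hindex
  let φ : K →* Equiv.Perm (Fin 4) :=
    e.permCongrHom.toMonoidHom.comp (MulAction.toPermHom K (K ⧸ L.subgroupOf K))
  have hφ : ∀ (k : K) (c : K ⧸ L.subgroupOf K), φ k (e c) = e (k • c) := fun k c => by
    simp [φ, Equiv.permCongrHom]
  have hL : ∀ l : K, (l : G) ∈ L → φ l (e (1 : K)) = e (1 : K) := fun l hl => by
    rw [hφ]
    congr 1
    change ((l * 1 : K) : K ⧸ L.subgroupOf K) = ((1 : K) : K ⧸ L.subgroupOf K)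
    rw [mul_one, QuotientGroup.eq, mul_one]
    exact inv_mem (mem_subgroupOf.2 hl)
  -- the kernel centralizes `W`
  have hker : ∀ k : K, φ k = 1 → ∀ w ∈ W, (k : G) * w = w * k := by
    intro k hk w hw
    have hfix : ∀ c : K ⧸ L.subgroupOf K, k • c = c := fun c => e.injective (by
      rw [← hφ, hk]; rfl)
    have h1 := hfix ((⟨w, (le_sup_left : W ≤ K) hw⟩ : K) : K ⧸ L.subgroupOf K)
    have h0 := hfix ((1 : K) : K ⧸ L.subgroupOf K)
    change ((k * _ : K) : K ⧸ L.subgroupOf K) = _ at h1 h0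
    rw [QuotientGroup.eq] at h1 h0
    simp only [mem_subgroupOf, coe_mul, coe_inv, OneMemClass.coe_one, mul_one, mul_inv_rev] at h1 h0
    have h2 : w⁻¹ * (k : G)⁻¹ * w * k ∈ L := mul_mem h1 (by simpa using inv_mem h0)
    have h3 : w⁻¹ * (k : G)⁻¹ * w * k ∈ W := by
      have := ‹W.Normal›.conj_mem w hw (k : G)⁻¹
      simpa [mul_assoc] using mul_mem (inv_mem hw) this
    have h4 : w⁻¹ * (k : G)⁻¹ * w * k = 1 := by
      rw [← mem_bot, ← hWL]; exact ⟨h3, h2⟩
    have h5 := congrArg (fun t => (k : G) * w * t) h4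
    simpa [mul_assoc] using h5.symm
  -- the image of the complement
  let I : Subgroup (Equiv.Perm (Fin 4)) := (L.subgroupOf K).map φ
  let i0 := e ((1 : K) : K ⧸ L.subgroupOf K)
  have hrange : Nat.card φ.range = 4 * Nat.card I := by
    have horb : MulAction.orbit φ.range i0 = Set.univ := by
      refine Set.eq_univ_of_forall fun j => ?_
      obtain ⟨k, hk⟩ := QuotientGroup.mk_surjective (e.symm j)
      refine ⟨⟨φ k, k, rfl⟩, ?_⟩
      change φ k i0 = j
      rw [hφ]
      change e ((k * 1 : K) : K ⧸ L.subgroupOf K) = j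
      rw [mul_one, hk, e.apply_symm_apply]
    have hst : (MulAction.stabilizer φ.range i0).map φ.range.subtype = I := by
      ext σ
      constructor
      · rintro ⟨⟨_, k, rfl⟩, hk, rfl⟩
        refine ⟨k, ?_, rfl⟩
        have hk' : φ k i0 = i0 := hk
        rw [hφ] at hk'
        have h := e.injective hk'
        change ((k * 1 : K) : K ⧸ L.subgroupOf K) = ((1 : K) : K ⧸ L.subgroupOf K) at h
        rw [mul_one, QuotientGroup.eq, mul_one] at h
        simpa using inv_mem h
      · rintro ⟨k, hk, rfl⟩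
        exact ⟨⟨φ k, k, rfl⟩, hL k hk, rfl⟩
    have h := MulAction.card_orbit_mul_card_stabilizer_eq_card_group φ.range i0
    rw [horb] at h
    simp only [← Nat.card_eq_fintype_card] at h
    rw [← hst, card_map_of_injective φ.range.subtype_injective, ← h]
    simp
  have hnc : ¬ ∀ s ∈ I, ∀ t ∈ I, s * t = t * s := by
    intro hc
    obtain ⟨w, hw, hne⟩ := hya
    let y' : K := ⟨y, hLK hy⟩
    let a' : K := ⟨a, hLK ha⟩
    have h := hc (φ a') ⟨a', ha, rfl⟩ (φ y') ⟨y', hy, rfl⟩
    refine hne (hker (a' * y' * a'⁻¹ * y'⁻¹) ?_ w hw)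
    simp [map_mul, map_inv, h]
  have hdvd : Nat.card I ∣ 6 := by
    have h := card_subgroup_dvd_card φ.range
    rw [hrange, Nat.card_perm, Nat.card_fin, show Nat.factorial 4 = 4 * 6 from rfl] at h
    exact (Nat.mul_dvd_mul_iff_left (by norm_num)).1 h
  have hI : Nat.card I = 6 := by
    have hne1 : Nat.card I ≠ 1 := fun h => by
      rw [card_eq_one] at h
      exact hnc fun s hs t ht => by rw [h, mem_bot] at hs ht; rw [hs, ht]
    have hprime : ∀ q : ℕ, q.Prime → Nat.card I ≠ q := fun q hq h => by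
      haveI := Fact.mk hq
      haveI := isCyclic_of_prime_card h
      exact hnc fun s hs t ht =>
        congrArg Subtype.val (IsCyclic.commGroup.mul_comm (⟨s, hs⟩ : I) ⟨t, ht⟩)
    have h2 := hprime 2 Nat.prime_two
    have h3 := hprime 3 Nat.prime_three
    have h6 := Nat.le_of_dvd (by norm_num) hdvd
    interval_cases Nat.card I <;> simp_all
  refine involves_of_hom K.subtype K.subtype_injective φ ?_
  rw [← MonoidHom.range_eq_top]
  refine eq_top_of_card_eq _ ?_
  rw [hrange, hI, Nat.card_perm, Nat.card_fin]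
  rfl

/-- A normal four-group on which a fixed point free element of order `3` is inverted. -/
theorem involves_perm_four_of_inverted {G : Type u} [Group G] [Finite G] (W : Subgroup G)
    [W.Normal] (hW : Nat.card W = 4) (y a : G) (hy3 : ∀ w ∈ W, Commute (y ^ 3) w)
    (hyfix : ∀ w ∈ W, Commute y w → w = 1) (hay : ∀ w ∈ W, Commute (a * y * a⁻¹ * y) w)
    (hn : ((zpowers (MulAut.conjNormal (H := W) y)).comap (MulAut.conjNormal (H := W))).Normal) :
    Involves (Equiv.Perm (Fin 4)) G := by
  haveI : Fact (Nat.Prime 3) := ⟨Nat.prime_three⟩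
  let ψ : G →* MulAut W := MulAut.conjNormal
  have hψ : ∀ g : G, ψ g = 1 ↔ ∀ w ∈ W, Commute g w := by
    intro g
    refine ⟨fun h w hw => ?_, fun h => ?_⟩
    · have h1 : ((ψ g ⟨w, hw⟩ : W) : G) = w := by rw [h]; rfl
      rw [MulAut.conjNormal_apply] at h1
      exact mul_inv_eq_iff_eq_mul.1 h1
    · refine MulEquiv.ext fun w => Subtype.ext ?_
      rw [MulAut.conjNormal_apply, MulAut.one_apply, (h w w.2).eq, mul_inv_cancel_right]
  set Y := ψ y with hY
  have hY3 : Y ^ 3 = 1 := by rw [hY, ← map_pow]; exact (hψ _).2 hy3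
  have hY1 : Y ≠ 1 := fun h => by
    have hall : ∀ w ∈ W, w = 1 := fun w hw => hyfix w hw ((hψ y).1 h w hw)
    rw [(Subgroup.eq_bot_iff_forall W).2 hall, card_bot] at hW
    norm_num at hW
  have hA : ψ a * Y * (ψ a)⁻¹ = Y⁻¹ := by
    rw [hY, ← map_inv, ← map_mul, ← map_mul, eq_inv_iff_mul_eq_one, ← map_mul]
    exact (hψ _).2 hay
  have hord : orderOf Y = 3 := orderOf_eq_prime hY3 hY1
  let M : Subgroup G := (zpowers Y).comap ψ
  haveI : M.Normal := hn
  obtain ⟨P⟩ := (inferInstance : Nonempty (Sylow 3 M))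
  let Pm : Subgroup G := (P : Subgroup M).map M.subtype
  -- an element of `Pm` acting like `y`
  obtain ⟨y₀, hy₀, hy₀Y⟩ : ∃ y₀ ∈ Pm, ψ y₀ = Y := by
    let χ : M →* MulAut W := ψ.comp M.subtype
    have hrange : χ.range = zpowers Y := by
      refine le_antisymm ?_ (zpowers_le.2 ⟨⟨y, mem_zpowers Y⟩, rfl⟩)
      rintro _ ⟨m, rfl⟩
      exact m.2
    obtain ⟨x, hx, hx1⟩ : ∃ x ∈ (P : Subgroup M), χ x ≠ 1 := by
      by_contra hcon
      push Not at hcon
      have hd := index_dvd_of_le (show (P : Subgroup M) ≤ χ.ker from hcon)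
      rw [index_ker, hrange, Nat.card_zpowers, hord] at hd
      exact P.not_dvd_index hd
    obtain ⟨k, hk⟩ := x.2
    have hk' : χ x = Y ^ k := hk.symm
    have hmem : Y ∈ (P : Subgroup M).map χ := by
      have hle : (P : Subgroup M).map χ ≤ zpowers Y := by
        rintro _ ⟨m, -, rfl⟩; exact m.2
      have hc := card_dvd_of_le hle
      rw [Nat.card_zpowers, hord] at hc
      rcases (Nat.dvd_prime Nat.prime_three).1 hc with h | h
      · exact absurd (mem_bot.1 (card_eq_one.1 h ▸ mem_map_of_mem χ hx)) hx1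
      · rw [eq_of_le_of_card_ge hle (by rw [h, Nat.card_zpowers, hord])]
        exact mem_zpowers Y
    obtain ⟨m, hm, hmY⟩ := hmem
    exact ⟨m, mem_map_of_mem _ hm, hmY⟩
  -- an element normalizing `Pm` and inverting `Y`
  obtain ⟨n, hn', hnY⟩ : ∃ n ∈ normalizer (Pm : Set G), ψ n * Y * (ψ n)⁻¹ = Y⁻¹ := by
    have htop : a ∈ normalizer (Pm : Set G) ⊔ M := by
      rw [Sylow.normalizer_sup_eq_top P]; trivial
    obtain ⟨n, hn', m, hm, rfl⟩ := mem_sup_of_normal_right.1 htop
    obtain ⟨k, hk⟩ := hm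
    refine ⟨n, hn', ?_⟩
    have hcomm : ψ m * Y * (ψ m)⁻¹ = Y := by
      rw [show ψ m = Y ^ k from hk.symm]; group
    rw [← hA, map_mul]
    conv_lhs => rw [← hcomm]
    group
  refine involves_perm_four_of_complement W (normalizer (Pm : Set G)) hW ?_
    (le_normalizer hy₀) hn' ?_
  · rw [Subgroup.eq_bot_iff_forall]
    rintro w ⟨hw, hwn⟩
    refine hyfix w hw ((Commute.symm ?_))
    have h1 : w * y₀ * w⁻¹ * y₀⁻¹ ∈ Pm :=
      mul_mem ((mem_normalizer_iff.1 hwn y₀).1 hy₀) (inv_mem hy₀)
    have h2 : w * y₀ * w⁻¹ * y₀⁻¹ ∈ W := by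
      have := mul_mem hw (‹W.Normal›.conj_mem _ (inv_mem hw) y₀)
      simpa [mul_assoc] using this
    have hP3 : IsPGroup 3 Pm := P.isPGroup'.map _
    have hbot : Pm ⊓ W = ⊥ := by
      refine Agent.Solv.inf_eq_bot_of_coprime_card Pm W ?_
      obtain ⟨j, hj⟩ := IsPGroup.iff_card.1 hP3
      rw [hj, hW]
      exact Nat.Coprime.pow_left j (by norm_num)
    have h3 : w * y₀ * w⁻¹ * y₀⁻¹ = 1 := by
      rw [← mem_bot, ← hbot]; exact ⟨h1, h2⟩
    have h4 : Commute w y₀ := by
      have h5 := mul_inv_eq_one.1 h3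
      exact mul_inv_eq_iff_eq_mul.1 h5
    -- `y` and `y₀` act in the same way
    have h6 : ψ (y₀⁻¹ * y) = 1 := by rw [map_mul, map_inv, hy₀Y, ← hY, inv_mul_cancel]
    have h7 := h4.mul_right ((hψ _).1 h6 w hw).symm
    rwa [mul_inv_cancel_left] at h7
  · by_contra hcon
    push Not at hcon
    have h : ψ (n * y₀ * n⁻¹ * y₀⁻¹) = 1 := (hψ _).2 hcon
    rw [map_mul, map_mul, map_mul, map_inv, map_inv, hy₀Y, hnY] at h
    refine hY1 ?_
    have h2 : Y ^ 2 = 1 := by
      rw [pow_two, ← inv_eq_one, mul_inv_rev]; exact h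
    rwa [pow_succ, h2, one_mul] at hY3

end Cfsg.Agent.Local
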