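import Cfsg.Agent.Lib.Local.QuadraticOffender
import Cfsg.Agent.Lib.Local.InvolvesSymFour
import Cfsg.Agent.Lib.Solv.Thompson
import Cfsg.Prelude.Def_Local

/-!
Thompson factorization for `S₄`-free groups whose Sylow `2`-subgroups have class at most two.
-/

set_option autoImplicit false
set_option linter.style.haveILetI false

namespace Cfsg.Agent.Local.ClassTwo

open Subgroup
open scoped Pointwise commutatorElement

variable {G : Type*} [Group G] [Finite G]

/-- The kernel of this action condition is the centralizer; an element of order `3` inverted by an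
involution on a normal elementary abelian `2`-subgroup gives a section `S₄`. -/
theorem involves_perm_four_of_action (V : Subgroup G) [V.Normal]
    (hVc : ∀ u ∈ V, ∀ v ∈ V, Commute u v) (hV2 : ∀ v ∈ V, v * v = 1) (y a : G)
    (hy3 : MulAut.conjNormal (H := V) y ^ 3 = 1) (hy1 : MulAut.conjNormal (H := V) y ≠ 1)
    (ha2 : MulAut.conjNormal (H := V) a * MulAut.conjNormal (H := V) a = 1)
    (hay : MulAut.conjNormal (H := V) a * MulAut.conjNormal (H := V) y *
      MulAut.conjNormal (H := V) a = (MulAut.conjNormal (H := V) y)⁻¹) :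
    Involves (Equiv.Perm (Fin 4)) G := by
  classical
  let ρ : G →* MulAut V := MulAut.conjNormal
  set Y := ρ y with hYdef
  set A := ρ a with hAdef
  letI : CommGroup V := { (inferInstance : Group V) with
    mul_comm := fun u v => Subtype.ext (hVc u u.2 v v.2).eq }
  have hsq : ∀ v : V, v * v = 1 := fun v => Subtype.ext (hV2 v v.2)
  have hinv : ∀ v : V, v⁻¹ = v := fun v => inv_eq_of_mul_eq_one_right (hsq v)
  have hYYY : ∀ v, Y (Y (Y v)) = v := fun v => by
    have := DFunLike.congr_fun hy3 v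
    simpa [pow_succ] using this
  have hAA : ∀ v, A (A v) = v := fun v => by
    have := DFunLike.congr_fun ha2 v
    simpa using this
  have hAY : ∀ v, A (Y v) = Y (Y (A v)) := fun v => by
    have hY2 : Y⁻¹ = Y * Y := by
      rw [inv_eq_iff_mul_eq_one]; simpa [pow_succ, mul_assoc] using hy3
    have h : A * Y * A = Y * Y := hay.trans hY2
    have := DFunLike.congr_fun h (A v)
    simpa [hAA] using this
  obtain ⟨v, hv⟩ : ∃ v, Y v ≠ v := by
    by_contra hcon
    push Not at hcon
    exact hy1 (MulEquiv.ext hcon)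
  -- a vector on which `1 + Y + Y²` vanishes
  set u := Y v * v with hudef
  have hu : u * Y u * Y (Y u) = 1 := by
    simp only [hudef, map_mul, hYYY]
    calc Y v * v * (Y (Y v) * Y v) * (v * Y (Y v))
        = (Y v * Y v) * (v * v) * (Y (Y v) * Y (Y v)) := by ac_rfl
      _ = 1 := by simp [hsq]
  have hu1 : u ≠ 1 := fun h => hv ((eq_inv_of_mul_eq_one_left h).trans (hinv v))
  obtain ⟨w, hw1, hwA, hw⟩ : ∃ w, w ≠ 1 ∧ A w = w ∧ w * Y w * Y (Y w) = 1 := by
    have hAu : A u * Y (A u) * Y (Y (A u)) = 1 := by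
      have h := congrArg A hu
      simp only [map_mul, map_one, hAY, hYYY] at h
      rw [← h]; ac_rfl
    by_cases hcase : A u = u
    · exact ⟨u, hu1, hcase, hu⟩
    · refine ⟨u * A u, fun h => hcase ?_, by rw [map_mul, hAA, mul_comm], ?_⟩
      · rw [eq_comm, ← hinv (A u)]; exact eq_inv_of_mul_eq_one_left h
      · simp only [map_mul]
        calc u * A u * (Y u * Y (A u)) * (Y (Y u) * Y (Y (A u)))
            = (u * Y u * Y (Y u)) * (A u * Y (A u) * Y (Y (A u))) := by ac_rfl
          _ = 1 := by rw [hu, hAu, one_mul]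
  have hY2w : Y (Y w) = w * Y w := by
    have := eq_inv_of_mul_eq_one_right hw
    rwa [hinv] at this
  have hfix : ∀ t, (t = w ∨ t = Y w ∨ t = w * Y w) → Y t ≠ t := by
    have key : Y w ≠ w := fun h => by
      rw [h, h, hsq, one_mul] at hw; exact hw1 hw
    rintro t (rfl | rfl | rfl) h
    · exact key h
    · exact key (Y.injective h)
    · rw [← hY2w] at h; exact key (Y.injective (Y.injective h))
  -- the four-group
  let W' : Subgroup V :=
    { carrier := {t | t = 1 ∨ t = w ∨ t = Y w ∨ t = w * Y w}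
      one_mem' := Or.inl rfl
      mul_mem' := by
        have e1 : ∀ z : V, z * (z * w) = w := fun z => by rw [← mul_assoc, hsq, one_mul]
        have e2 : ∀ z : V, w * (w * z) = z := fun z => by rw [← mul_assoc, hsq, one_mul]
        rintro s t (rfl | rfl | rfl | rfl) (rfl | rfl | rfl | rfl) <;>
          simp only [Set.mem_ofPred_eq, one_mul, mul_one, hsq] <;>
          simp [mul_comm, mul_left_comm, hsq, e1, e2]
      inv_mem' := fun {t} ht => by rwa [hinv] }
  have hW'card : Nat.card W' = 4 := by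
    have h1 : Y w ≠ 1 := fun h => hw1 (Y.injective (h.trans (map_one Y).symm))
    have h2 : w ≠ Y w := fun h => hfix w (Or.inl rfl) h.symm
    have h3 : w * Y w ≠ 1 := fun h => h2 ((eq_inv_of_mul_eq_one_left h).trans (hinv _))
    rw [← SetLike.coe_sort_coe, Nat.card_coe_set_eq,
      show (W' : Set V) = ({1, w, Y w, w * Y w} : Set V) by ext t; simp [W']]
    have h4 : w ≠ w * Y w := fun h => h1 (left_eq_mul.1 h)
    have h5 : Y w ≠ w * Y w := fun h => hw1 (right_eq_mul.1 h)
    rw [Set.ncard_insert_of_notMem (by simp [hw1.symm, h1.symm, h3.symm]),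
      Set.ncard_insert_of_notMem (by simp [h2, h4]),
      Set.ncard_pair h5]
  let W : Subgroup G := W'.map V.subtype
  have hWcard : Nat.card W = 4 := by rw [card_map_of_injective V.subtype_injective, hW'card]
  have hWY : ∀ t ∈ W', Y t ∈ W' := by
    rintro t (rfl | rfl | rfl | rfl)
    · exact Or.inl (map_one Y)
    · exact Or.inr (Or.inr (Or.inl rfl))
    · exact Or.inr (Or.inr (Or.inr hY2w))
    · refine Or.inr (Or.inl ?_)
      rw [map_mul, hY2w, mul_left_comm, hsq, mul_one]
  have hWA : ∀ t ∈ W', A t ∈ W' := by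
    rintro t (rfl | rfl | rfl | rfl)
    · exact Or.inl (map_one A)
    · exact Or.inr (Or.inl hwA)
    · exact Or.inr (Or.inr (Or.inr (by rw [hAY, hwA, hY2w])))
    · refine Or.inr (Or.inr (Or.inl ?_))
      rw [map_mul, hwA, hAY, hwA, hY2w, ← mul_assoc, hsq, one_mul]
  have hmemN : ∀ g : G, (∀ t ∈ W', ρ g t ∈ W') → g ∈ normalizer (W : Set G) := by
    intro g hg
    rw [mem_normalizer_iff]
    have hle : W.map (MulAut.conj g).toMonoidHom ≤ W := by
      rintro _ ⟨_, ⟨t, ht, rfl⟩, rfl⟩
      exact ⟨ρ g t, hg t ht, MulAut.conjNormal_apply g t⟩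
    have heq : W.map (MulAut.conj g).toMonoidHom = W :=
      eq_of_le_of_card_ge hle (card_map_of_injective (MulAut.conj g).injective).ge
    refine fun k => ⟨fun hk => hle ⟨k, hk, rfl⟩, fun hk => ?_⟩
    obtain ⟨k', hk', he⟩ := heq.symm.le hk
    rwa [(MulAut.conj g).injective he] at hk'
  have hyN : y ∈ normalizer (W : Set G) := hmemN y hWY
  have haN : a ∈ normalizer (W : Set G) := hmemN a hWA
  -- work inside the normalizer of the four-group
  let N : Subgroup G := normalizer (W : Set G)
  let WN : Subgroup N := W.subgroupOf N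
  haveI hWNn : WN.Normal := normal_subgroupOf_of_le_normalizer le_rfl
  let ψ : N →* MulAut WN := MulAut.conjNormal
  let yN : N := ⟨y, hyN⟩
  let aN : N := ⟨a, haN⟩
  let Hn : Subgroup N := (normalizer (zpowers (ψ yN) : Set (MulAut WN))).comap ψ
  have hρψ : ∀ g : N, ρ g = 1 → ψ g = 1 := by
    intro g hg
    refine MulEquiv.ext fun t => Subtype.ext (Subtype.ext ?_)
    obtain ⟨z, hz, hzt⟩ := t.2
    have h := congrArg Subtype.val (DFunLike.congr_fun hg z)
    rw [MulAut.conjNormal_apply] at h
    rw [MulAut.conjNormal_apply, MulAut.one_apply, coe_mul, coe_mul, coe_inv]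
    have h' : (z : G) = ((t : N) : G) := hzt
    rw [← h']
    exact h
  have hrelψ : ψ aN * ψ yN * (ψ aN)⁻¹ = (ψ yN)⁻¹ := by
    rw [← map_inv, ← map_mul, ← map_mul, eq_inv_iff_mul_eq_one, ← map_mul]
    refine hρψ _ ?_
    change ρ (a * y * a⁻¹ * y) = 1
    rw [map_mul, map_mul, map_mul, map_inv, ← hYdef, ← hAdef,
      inv_eq_of_mul_eq_one_right ha2, hay, inv_mul_cancel]
  have hyH : yN ∈ Hn := le_normalizer (mem_zpowers _)
  have haH : aN ∈ Hn := by
    have h1 : (zpowers (ψ yN)).map (MulAut.conj (ψ aN)).toMonoidHom = zpowers (ψ yN) := by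
      rw [MonoidHom.map_zpowers]
      change zpowers (ψ aN * ψ yN * (ψ aN)⁻¹) = _
      rw [hrelψ, zpowers_inv]
    change ψ aN ∈ normalizer (zpowers (ψ yN) : Set (MulAut WN))
    rw [mem_normalizer_iff]
    refine fun k => ⟨fun hk => h1.le ⟨k, hk, rfl⟩, fun hk => ?_⟩
    obtain ⟨k', hk', he⟩ := h1.symm.le hk
    rwa [(MulAut.conj (ψ aN)).injective he] at hk'
  have hWH : WN ≤ Hn := by
    intro t ht
    have : ψ t = 1 := by
      refine MulEquiv.ext fun s => Subtype.ext ?_
      rw [MulAut.conjNormal_apply, MulAut.one_apply]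
      have hc : Commute (t : G) ((s : N) : G) := by
        obtain ⟨z, hz, hzt⟩ := (ht : (t : G) ∈ W)
        obtain ⟨z', hz', hzs⟩ := s.2
        replace hzt : (z : G) = (t : G) := hzt
        replace hzs : (z' : G) = ((s : N) : G) := hzs
        rw [← hzt, ← hzs]
        exact hVc z z.2 z' z'.2
      refine Subtype.ext ?_
      simp only [coe_mul, coe_inv]
      rw [hc.eq, mul_inv_cancel_right]
    change ψ t ∈ normalizer _
    rw [this]
    exact one_mem _
  let WH : Subgroup Hn := WN.subgroupOf Hn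
  haveI : WH.Normal := hWNn.subgroupOf Hn
  have hWHcard : Nat.card WH = 4 := by
    rw [Agent.Solv.card_subgroupOf hWH, Agent.Solv.card_subgroupOf (show W ≤ N from le_normalizer), hWcard]
  refine involves_of_injective (N.subtype.comp Hn.subtype)
    (N.subtype_injective.comp Hn.subtype_injective)
    (involves_perm_four_of_inverted WH hWHcard ⟨yN, hyH⟩ ⟨aN, haH⟩ ?_ ?_ ?_ ?_)
  · intro t ht
    have h := DFunLike.congr_fun (hρψ (yN ^ 3) (by change ρ (y ^ 3) = 1; rw [map_pow, ← hYdef, hy3]))
      ⟨(t : N), ht⟩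
    have h' := congrArg Subtype.val h
    rw [MulAut.conjNormal_apply, MulAut.one_apply] at h'
    exact Subtype.ext (mul_inv_eq_iff_eq_mul.1 h')
  · intro t ht hc
    obtain ⟨z, hz, hzt⟩ := (ht : ((t : N) : G) ∈ W)
    have hfixz : Y z = z := by
      refine Subtype.ext ?_
      rw [hYdef, MulAut.conjNormal_apply]
      have : y * ((t : N) : G) = ((t : N) : G) * y :=
        congrArg (fun x : Hn => ((x : N) : G)) hc.eq
      rw [show (z : G) = ((t : N) : G) from hzt, this, mul_inv_cancel_right]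
    rcases hz with rfl | hz
    · exact Subtype.ext (Subtype.ext hzt.symm)
    · exact absurd hfixz (hfix z hz)
  · intro t ht
    have h := DFunLike.congr_fun (hρψ (aN * yN * aN⁻¹ * yN) (by
      change ρ (a * y * a⁻¹ * y) = 1
      rw [map_mul, map_mul, map_mul, map_inv, ← hYdef, ← hAdef, inv_eq_of_mul_eq_one_right ha2, hay,
        inv_mul_cancel])) ⟨(t : N), ht⟩
    have h' := congrArg Subtype.val h
    rw [MulAut.conjNormal_apply, MulAut.one_apply] at h'
    exact Subtype.ext (mul_inv_eq_iff_eq_mul.1 h')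
  · -- the preimage of `⟨y⟩` is normal
    let χ : Hn →* MulAut WH := MulAut.conjNormal
    have hχψ : ∀ g : Hn, ψ (g : N) = 1 ↔ χ g = 1 := by
      intro g
      refine ⟨fun h => MulEquiv.ext fun t => Subtype.ext (Subtype.ext ?_),
        fun h => MulEquiv.ext fun t => Subtype.ext ?_⟩
      · have h' := congrArg Subtype.val (DFunLike.congr_fun h ⟨((t : Hn) : N), t.2⟩)
        rw [MulAut.conjNormal_apply, MulAut.one_apply] at h'
        rw [MulAut.conjNormal_apply, MulAut.one_apply]
        exact h'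
      · have h' := congrArg (fun s : WH => ((s : Hn) : N))
          (DFunLike.congr_fun h ⟨⟨(t : N), hWH t.2⟩, t.2⟩)
        simp only [MulAut.conjNormal_apply, MulAut.one_apply, coe_mul, coe_inv] at h'
        rw [MulAut.conjNormal_apply, MulAut.one_apply]
        exact h'
    have heq : (zpowers (χ ⟨yN, hyH⟩)).comap χ = ((zpowers (ψ yN)).comap ψ).subgroupOf Hn := by
      ext g
      simp only [mem_comap, mem_subgroupOf, mem_zpowers_iff]
      refine exists_congr fun k => ?_
      rw [← map_zpow, ← map_zpow, ← inv_mul_eq_one, ← map_inv, ← map_mul, ← hχψ]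
      conv_rhs => rw [← inv_mul_eq_one, ← map_inv, ← map_mul]
      simp
    change ((zpowers (χ ⟨yN, hyH⟩)).comap χ).Normal
    rw [heq]
    constructor
    intro m hm g
    rw [mem_subgroupOf, mem_comap] at hm ⊢
    simp only [coe_mul, coe_inv, map_mul, map_inv]
    exact (mem_normalizer_iff.1 g.2 _).1 hm

/-- A subgroup of `S` that is normal in `G` and contains all maximal elementary abelian subgroups of `S`
forces the Thompson subgroup of `S` to be normal. -/
theorem thompsonSubgroupOf_normal {p : ℕ} (S Q : Subgroup G) [Q.Normal] (hQS : Q ≤ S)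
    (h : ∀ A : Subgroup G, A ≤ S → IsElementaryAbelian p A →
      (∀ B : Subgroup G, B ≤ S → IsElementaryAbelian p B → Nat.card B ≤ Nat.card A) → A ≤ Q) :
    (thompsonSubgroupOf p S).Normal := by
  refine ⟨fun x hx g => ?_⟩
  have hle : thompsonSubgroupOf p S ≤ (thompsonSubgroupOf p S).comap (MulAut.conj g).toMonoidHom := by
    rw [thompsonSubgroupOf, map_le_iff_le_comap, thompsonSubgroup]
    refine sSup_le fun A hA => map_le_iff_le_comap.1 ?_
    have hmax : ∀ B : Subgroup G, B ≤ S → IsElementaryAbelian p B →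
        Nat.card B ≤ Nat.card (A.map S.subtype) := fun B hB hBe => by
      rw [card_map_of_injective S.subtype_injective, ← Agent.Solv.card_subgroupOf hB]
      exact hA.2 _ (Agent.Solv.elemAbelian_subgroupOf hBe)
    have hAQ := h _ (map_subtype_le A) (Agent.Solv.elemAbelian_map _ hA.1) hmax
    rw [← map_le_iff_le_comap]
    set B := (A.map S.subtype).map (MulAut.conj g).toMonoidHom with hB
    have hBQ : B ≤ Q := by
      rintro _ ⟨a, ha, rfl⟩
      exact ‹Q.Normal›.conj_mem a (hAQ ha) g
    have hBS : B ≤ S := hBQ.trans hQS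
    rw [← map_subgroupOf_eq_of_le hBS]
    refine map_mono (Agent.Solv.le_thompson
      ⟨Agent.Solv.elemAbelian_subgroupOf (Agent.Solv.elemAbelian_map _
        (Agent.Solv.elemAbelian_map _ hA.1)), fun C hC => ?_⟩)
    rw [Agent.Solv.card_subgroupOf hBS, hB, card_map_of_injective (MulAut.conj g).injective,
      card_map_of_injective S.subtype_injective]
    exact hA.2 C hC
  exact hle hx

/-- The case of a `2`-constrained group with trivial odd core. -/
theorem thompson_normal_core (hC : centralizer (pCore 2 G : Set G) ≤ pCore 2 G)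
    (hS4 : ¬ Involves (Equiv.Perm (Fin 4)) G) (S : Sylow 2 G)
    (hcl : Subgroup.lowerCentralSeries (S : Subgroup G) 2 = ⊥) :
    (thompsonSubgroupOf 2 (S : Subgroup G)).Normal := by
  classical
  haveI : Fact (Nat.Prime 2) := ⟨Nat.prime_two⟩
  set Q := pCore 2 G with hQdef
  haveI : Q.Normal := by
    haveI := Agent.Solv.pCore_characteristic 2 G
    infer_instance
  have hQS : Q ≤ (S : Subgroup G) := Agent.Solv.pCore_le_sylow S
  -- commutators of `S` are central in `S`
  have hcen : ∀ s ∈ (S : Subgroup G), ∀ t ∈ (S : Subgroup G), ∀ r ∈ (S : Subgroup G),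
      Commute (s * t * s⁻¹ * t⁻¹) r := by
    intro s hs t ht r hr
    have h : ⁅⁅s, t⁆, r⁆ ∈ Subgroup.lowerCentralSeries (S : Subgroup G) 2 :=
      commutator_mem_commutator (commutator_mem_commutator hs ht) hr
    rw [hcl, mem_bot, commutatorElement_eq_one_iff_commute, commutatorElement_def] at h
    exact h
  -- central involutions of `S` and their normal closure
  let Z : Set G := {z | z ∈ (S : Subgroup G) ∧ z * z = 1 ∧ ∀ s ∈ (S : Subgroup G), Commute z s}
  let V : Subgroup G := normalClosure Z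
  let W : Subgroup G :=
    { carrier := {x | x ∈ Q ∧ x ∈ centralizer (Q : Set G) ∧ x * x = 1}
      one_mem' := ⟨one_mem _, one_mem _, one_mul 1⟩
      mul_mem' := fun {x z} hx hz => ⟨mul_mem hx.1 hz.1, mul_mem hx.2.1 hz.2.1, by
        have h : x * z = z * x := mem_centralizer_iff.1 hz.2.1 x hx.1
        calc x * z * (x * z) = x * z * (z * x) := by rw [h]
          _ = x * (z * z) * x := by group
          _ = 1 := by rw [hz.2.2, mul_one, hx.2.2]⟩
      inv_mem' := fun {x} hx => ⟨inv_mem hx.1, inv_mem hx.2.1, by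
        rw [← mul_inv_rev, hx.2.2, inv_one]⟩ }
  haveI : W.Normal := by
    refine ⟨fun x hx g => ⟨‹Q.Normal›.conj_mem x hx.1 g, ?_, ?_⟩⟩
    · rw [mem_centralizer_iff]
      intro q hq
      have h := mem_centralizer_iff.1 hx.2.1 _ (‹Q.Normal›.conj_mem q hq g⁻¹)
      simpa [mul_assoc] using congrArg (fun t => g * t * g⁻¹) h
    · calc g * x * g⁻¹ * (g * x * g⁻¹) = g * (x * x) * g⁻¹ := by group
        _ = 1 := by rw [hx.2.2]; group
  have hVW : V ≤ W := by
    refine normalClosure_le_normal fun z hz => ?_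
    have hzC : z ∈ centralizer (Q : Set G) :=
      mem_centralizer_iff.2 fun q hq => ((hz.2.2 q (hQS hq)).eq).symm
    exact ⟨hC hzC, hzC, hz.2.1⟩
  have hVQ : ∀ v ∈ V, v ∈ Q := fun v hv => (hVW hv).1
  have hV2 : ∀ v ∈ V, v * v = 1 := fun v hv => (hVW hv).2.2
  have hVc : ∀ u ∈ V, ∀ v ∈ V, Commute u v := fun u hu v hv =>
    mem_centralizer_iff.1 (hVW hv).2.1 u (hVQ u hu)
  have hVS : V ≤ (S : Subgroup G) := fun v hv => hQS (hVQ v hv)
  let ρ : G →* MulAut V := MulAut.conjNormal
  let X : Subgroup (MulAut V) := ρ.range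
  let π : G →* X := ρ.rangeRestrict
  have hπs : Function.Surjective π := ρ.rangeRestrict_surjective
  have hπ : ∀ (g : G) (v : V), ((π g • v : V) : G) = g * v * g⁻¹ := fun g v =>
    MulAut.conjNormal_apply g v
  letI : CommGroup V := { (inferInstance : Group V) with
    mul_comm := fun u v => Subtype.ext (hVc u u.2 v v.2).eq }
  have hVsq : ∀ v : V, v * v = 1 := fun v => Subtype.ext (hV2 v v.2)
  have hfaith : FaithfulSMul X V := ⟨fun {m₁ m₂} h => Subtype.ext (MulEquiv.ext h)⟩
  have hq : QuadraticOffender.IsQuadratic X V := by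
    intro T hT s hs t ht v
    obtain ⟨P, hP⟩ := hT.exists_le_sylow
    obtain ⟨x, hx⟩ := MulAction.exists_smul_eq X (S.mapSurjective hπs) P
    obtain ⟨g, rfl⟩ := hπs x
    have key : ∀ r ∈ T, ∃ c ∈ (S : Subgroup G), r = π (g * c * g⁻¹) := by
      intro r hr
      have h1 : r ∈ (P : Subgroup X) := hP hr
      rw [← hx] at h1
      obtain ⟨_, ⟨c, hc, rfl⟩, rfl⟩ := h1
      exact ⟨c, hc, by simp⟩
    obtain ⟨c, hc, rfl⟩ := key s hs
    obtain ⟨d, hd, rfl⟩ := key t ht
    refine Subtype.ext ?_
    rw [hπ, div_eq_mul_inv, coe_mul, coe_inv, hπ]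
    set w := g⁻¹ * (v : G) * g with hw
    have hwS : w ∈ (S : Subgroup G) :=
      hVS (by simpa [hw] using (inferInstance : V.Normal).conj_mem v v.2 g⁻¹)
    have hu := hcen d hd w hwS c hc
    have e : g * d * g⁻¹ * (v : G) * (g * d * g⁻¹)⁻¹ * (v : G)⁻¹ =
        g * (d * w * d⁻¹ * w⁻¹) * g⁻¹ := by rw [hw]; group
    rw [e]
    calc g * c * g⁻¹ * (g * (d * w * d⁻¹ * w⁻¹) * g⁻¹) * (g * c * g⁻¹)⁻¹
        = g * (c * (d * w * d⁻¹ * w⁻¹) * c⁻¹) * g⁻¹ := by group
      _ = g * (d * w * d⁻¹ * w⁻¹) * g⁻¹ := by rw [← hu.eq, mul_inv_cancel_right]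
  have hO : ∀ N : Subgroup X, N.Normal → IsPGroup 2 N → N = ⊥ := by
    intro N hN hN2
    have hNS : N ≤ (S.mapSurjective hπs : Subgroup X) :=
      le_trans (Agent.Solv.le_pCore (hN := hN) hN2) (Agent.Solv.pCore_le_sylow _)
    rw [Subgroup.eq_bot_iff_forall]
    intro n hn
    obtain ⟨r, rfl⟩ := hπs n
    let F : Subgroup G :=
      { carrier := {x | ∀ k, π k ∈ N → Commute k x}
        one_mem' := fun k _ => Commute.one_right k
        mul_mem' := fun ha hb k hk => (ha k hk).mul_right (hb k hk)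
        inv_mem' := fun ha k hk => (ha k hk).inv_right }
    haveI : F.Normal := ⟨fun x hx g k hk => by
      have h := (hx (g⁻¹ * k * g) (by
        simpa [mul_assoc] using hN.conj_mem _ hk (π g)⁻¹)).map (MulAut.conj g).toMonoidHom
      simpa [mul_assoc] using h⟩
    have hVF : V ≤ F := by
      refine normalClosure_le_normal fun z hz k hk => ?_
      obtain ⟨s, hs, hsk⟩ := hNS hk
      have hzV : z ∈ V := subset_normalClosure hz
      have h := congrArg (fun x : X => ((x • (⟨z, hzV⟩ : V) : V) : G)) hsk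
      simp only [hπ] at h
      rw [← (hz.2.2 s hs).eq, mul_inv_cancel_right] at h
      exact (mul_inv_eq_iff_eq_mul.1 h.symm)
    refine Subtype.ext (MulEquiv.ext fun v => Subtype.ext ?_)
    change ((π r • v : V) : G) = v
    rw [hπ, (hVF v.2 r hn).eq, mul_inv_cancel_right]
  -- the centralizer of `V` and of `Q / V`
  let U : Subgroup G :=
    { carrier := {g | (∀ v ∈ V, Commute g v) ∧ ∀ q ∈ Q, g * q * g⁻¹ * q⁻¹ ∈ V}
      one_mem' := ⟨fun v _ => Commute.one_left v, fun q _ => by simp⟩
      mul_mem' := fun {g h} hg hh => ⟨fun v hv => (hg.1 v hv).mul_left (hh.1 v hv), fun q hq => by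
        have := V.mul_mem ((inferInstance : V.Normal).conj_mem _ (hh.2 q hq) g) (hg.2 q hq)
        simpa [mul_assoc] using this⟩
      inv_mem' := fun {g} hg => ⟨fun v hv => (hg.1 v hv).inv_left, fun q hq => by
        have := V.inv_mem ((inferInstance : V.Normal).conj_mem _ (hg.2 q hq) g⁻¹)
        simpa [mul_assoc] using this⟩ }
  haveI : U.Normal := by
    refine ⟨fun x hx g => ⟨fun v hv => ?_, fun q hq => ?_⟩⟩
    · have h := (hx.1 _ ((inferInstance : V.Normal).conj_mem v hv g⁻¹)).map (MulAut.conj g).toMonoidHom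
      simpa [mul_assoc] using h
    · have h := (inferInstance : V.Normal).conj_mem _
        (hx.2 _ (‹Q.Normal›.conj_mem q hq g⁻¹)) g
      simpa [mul_assoc] using h
  -- an involution of `S` centralizing `V` lies in `Q`
  have hinv : ∀ a ∈ (S : Subgroup G), a * a = 1 → (∀ v ∈ V, Commute a v) → a ∈ Q := by
    intro a haS ha2 haV
    have hainv : a⁻¹ = a := inv_eq_of_mul_eq_one_right ha2
    have haU : a ∈ U := by
      refine ⟨haV, fun q hq => subset_normalClosure ⟨?_, ?_, ?_⟩⟩
      · exact mul_mem (mul_mem (mul_mem haS (hQS hq)) (inv_mem haS)) (inv_mem (hQS hq))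
      · have hd := hcen a haS q (hQS hq) a haS
        have h1 : a * (a * q * a⁻¹ * q⁻¹) * a⁻¹ = a * q * a⁻¹ * q⁻¹ := by
          rw [← hd.eq, mul_inv_cancel_right]
        have h2 : a * (a * q * a⁻¹ * q⁻¹) * a⁻¹ = (a * q * a⁻¹ * q⁻¹)⁻¹ := by
          calc a * (a * q * a⁻¹ * q⁻¹) * a⁻¹ = a * a * q * a⁻¹ * q⁻¹ * a⁻¹ := by group
            _ = (a * q * a⁻¹ * q⁻¹)⁻¹ := by simp [ha2, hainv, mul_assoc]
        exact mul_eq_one_iff_eq_inv.2 (h1.symm.trans h2)
      · exact fun s hs => hcen a haS q (hQS hq) s hs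
    have hz2 : IsPGroup 2 (zpowers a) := by
      refine Agent.Solv.isPGroup_of_elemAbelian (Agent.Solv.elemAbelian_zpowers ?_)
      rw [pow_two, ha2]
    by_contra haQ
    obtain ⟨g, hg⟩ : ∃ g, ¬ IsPGroup 2 ↥(zpowers a ⊔ MulAut.conj g • zpowers a) := by
      by_contra hcon
      push Not at hcon
      obtain ⟨N, hN, hN2, haN⟩ := Inv.baerSuzuki (p := 2) (zpowers a) hz2 hcon
      exact haQ (Agent.Solv.le_pCore (hN := hN) hN2 (haN (mem_zpowers a)))
    have hDU : zpowers a ⊔ MulAut.conj g • zpowers a ≤ U := by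
      refine sup_le (zpowers_le.2 haU) fun x hx => ?_
      rw [mem_pointwise_smul_iff_inv_smul_mem] at hx
      have h := ‹U.Normal›.conj_mem _ (zpowers_le.2 haU hx) g
      simpa [mul_assoc] using h
    obtain ⟨y, hyU, hyodd, hy1⟩ : ∃ y, y ∈ U ∧ Odd (orderOf y) ∧ y ≠ 1 := by
      by_contra hcon
      push Not at hcon
      refine hg fun y => ⟨(orderOf (y : G)).factorization 2, Subtype.ext ?_⟩
      rw [coe_pow, OneMemClass.coe_one]
      refine hcon _ (U.pow_mem (hDU y.2) _) ?_
      have hne : orderOf (y : G) ≠ 0 := (orderOf_pos _).ne'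
      rw [orderOf_pow' _ (by positivity), Nat.gcd_eq_right (Nat.ordProj_dvd _ _)]
      rw [Nat.odd_iff, ← Nat.two_dvd_ne_zero]
      exact Nat.not_dvd_ordCompl Nat.prime_two hne
    have hyQ : y ∈ Q := by
      refine hC (mem_centralizer_iff.2 fun q hq => ?_)
      set d := y * q * y⁻¹ * q⁻¹ with hd
      have hdV : d ∈ V := hyU.2 q hq
      have hdc : Commute y d := hyU.1 d hdV
      have hiter : ∀ n : ℕ, y ^ n * q * (y ^ n)⁻¹ = d ^ n * q := by
        intro n
        induction n with
        | zero => simp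
        | succ n ih =>
          calc y ^ (n + 1) * q * (y ^ (n + 1))⁻¹ = y * (y ^ n * q * (y ^ n)⁻¹) * y⁻¹ := by
                rw [pow_succ']; group
            _ = y * d ^ n * y⁻¹ * (d * q) := by rw [ih, hd]; group
            _ = d ^ (n + 1) * q := by
                rw [(hdc.pow_right n).eq, mul_inv_cancel_right, pow_succ]; group
      have h := hiter (orderOf y)
      rw [pow_orderOf_eq_one, one_mul, inv_one, mul_one, eq_comm, mul_eq_right] at h
      obtain ⟨k, hk⟩ := hyodd
      rw [hk, pow_succ, pow_mul, pow_two, hV2 d hdV, one_pow, one_mul] at h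
      rw [hd, mul_inv_eq_one, mul_inv_eq_iff_eq_mul] at h
      exact h.symm
    obtain ⟨k, hk⟩ := (Agent.Solv.isPGroup_pCore 2 G) ⟨y, hyQ⟩
    have hk' : orderOf y ∣ 2 ^ k := orderOf_dvd_of_pow_eq_one (congrArg Subtype.val hk)
    exact hy1 (orderOf_eq_one_iff.1 (Nat.eq_one_of_dvd_coprimes
      ((Nat.coprime_two_right.2 hyodd).pow_right k) dvd_rfl hk'))
  refine thompsonSubgroupOf_normal (S : Subgroup G) Q hQS fun A hAS hAe hAmax => ?_
  -- the image of `A` is trivial
  have hA0 : A.map π = ⊥ := by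
    by_contra hne
    refine hS4 ?_
    have hFF : Nat.card V ≤ Nat.card (A.map π) *
        Nat.card (QuadraticOffender.fixPts (V := V) (A.map π)) := by
      let A0 := A ⊓ π.ker
      have hc0 : A0 ≤ centralizer (V : Set G) := by
        intro x hx
        rw [mem_centralizer_iff]
        intro v hv
        have h := hπ x ⟨v, hv⟩
        rw [MonoidHom.mem_ker.1 hx.2, one_smul] at h
        exact (mul_inv_eq_iff_eq_mul.1 h.symm).symm
      have hVe : IsElementaryAbelian 2 V :=
        ⟨⟨⟨fun u v => Subtype.ext (hVc u u.2 v v.2).eq⟩⟩, fun v hv => by rw [pow_two, hV2 v hv]⟩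
      have hA0e : IsElementaryAbelian 2 A0 := Agent.Solv.elemAbelian_of_le hAe inf_le_left
      have hle := hAmax (A0 ⊔ V) (sup_le (inf_le_left.trans hAS) hVS)
        (Agent.Solv.elemAbelian_sup hA0e hVe hc0)
      have hsup := Agent.Solv.card_sup_mul_card_inf V A0 le_normalizer_of_normal
      rw [sup_comm] at hsup
      have hfirst : Nat.card (A.map π) * Nat.card A0 = Nat.card A := by
        have h1 := (π.comp A.subtype).ker.card_mul_index
        rw [index_ker, MonoidHom.range_comp, range_subtype] at h1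
        have h2 : Nat.card (π.comp A.subtype).ker = Nat.card A0 := by
          rw [← card_map_of_injective A.subtype_injective]
          congr
          ext x
          simp [A0, and_comm]
        rwa [h2, mul_comm] at h1
      have hfix : Nat.card (V ⊓ A0 : Subgroup G) ≤
          Nat.card (QuadraticOffender.fixPts (V := V) (A.map π)) := by
        refine Nat.card_le_card_of_injective
          (fun x => ⟨⟨x, x.2.1⟩, ?_⟩) fun x z h => Subtype.ext (congrArg (fun t => ((t.1 : V) : G)) h)
        rintro _ ⟨a, ha, rfl⟩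
        refine Subtype.ext ?_
        rw [hπ]
        change a * (x : G) * a⁻¹ = x
        rw [Agent.Solv.comm_of_elemAbelian hAe ha x.2.2.1, mul_inv_cancel_right]
      have h3 : Nat.card (A0 ⊔ V : Subgroup G) * Nat.card (V ⊓ A0 : Subgroup G) ≤
          (Nat.card (A.map π) * Nat.card A0) *
            Nat.card (QuadraticOffender.fixPts (V := V) (A.map π)) :=
        Nat.mul_le_mul (hfirst ▸ hle) hfix
      rw [hsup] at h3
      refine Nat.le_of_mul_le_mul_right ?_ (Nat.card_pos (α := A0))
      calc Nat.card V * Nat.card A0 ≤ _ := h3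
        _ = _ := by ring
    obtain ⟨y', a', hy3, hy1, ha2, hay⟩ :=
      QuadraticOffender.exists_order_three (X := X) (V := V) hVsq hq hO (A.map π) hne
        ((Agent.Solv.isPGroup_of_elemAbelian hAe).map _) hFF
    obtain ⟨y, rfl⟩ := hπs y'
    obtain ⟨a, rfl⟩ := hπs a'
    exact involves_perm_four_of_action V hVc hV2 y a (congrArg Subtype.val hy3)
      (fun h => hy1 (Subtype.ext h)) (congrArg Subtype.val ha2) (congrArg Subtype.val hay)
  intro a ha
  refine hinv a (hAS ha) (by rw [← pow_two]; exact hAe.2 a ha) fun v hv => ?_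
  have h : π a = 1 := by rw [← mem_bot, ← hA0]; exact mem_map_of_mem _ ha
  have h' := hπ a ⟨v, hv⟩
  rw [h, one_smul] at h'
  exact (mul_inv_eq_iff_eq_mul.1 h'.symm)

theorem thompsonSubgroupOf_map {p : ℕ} {H : Type*} [Group H] (f : G →* H) (S : Subgroup G)
    (hf : ∀ x ∈ S, f x = 1 → x = 1) :
    thompsonSubgroupOf p (S.map f) = (thompsonSubgroupOf p S).map f := by
  let g : S →* S.map f := f.subgroupMap S
  have hg : Function.Bijective g := by
    refine ⟨?_, f.subgroupMap_surjective S⟩
    rw [← MonoidHom.ker_eq_bot_iff, Subgroup.eq_bot_iff_forall]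
    exact fun x hx => Subtype.ext (hf x x.2 (congrArg Subtype.val hx))
  let e : S ≃* S.map f := MulEquiv.ofBijective g hg
  rw [thompsonSubgroupOf, thompsonSubgroupOf, ← Agent.Solv.thompson_map_equiv e, map_map, map_map]
  rfl

/-- Thompson factorization: the general statement. -/
theorem factorization
    (hC : centralizer (pCore 2 (G ⧸ pPrimeCore 2 G) : Set (G ⧸ pPrimeCore 2 G)) ≤
      pCore 2 (G ⧸ pPrimeCore 2 G))
    (hS4 : ¬ Involves (Equiv.Perm (Fin 4)) G) (S : Sylow 2 G)
    (hcl : Subgroup.lowerCentralSeries (S : Subgroup G) 2 = ⊥) :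
    normalizer (thompsonSubgroupOf 2 (S : Subgroup G) : Set G) ⊔ pPrimeCore 2 G = ⊤ := by
  haveI : Fact (Nat.Prime 2) := ⟨Nat.prime_two⟩
  let O := pPrimeCore 2 G
  let π := QuotientGroup.mk' O
  have hπs : Function.Surjective π := QuotientGroup.mk'_surjective O
  have hSO : (S : Subgroup G) ⊓ O = ⊥ := by
    refine Agent.Solv.inf_eq_bot_of_coprime_card _ _ ?_
    obtain ⟨j, hj⟩ := IsPGroup.iff_card.1 S.isPGroup'
    rw [hj]
    exact Nat.Coprime.pow_left j (Agent.Solv.card_pPrimeCore_coprime 2 G).symm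
  have hinj : ∀ x ∈ (S : Subgroup G), π x = 1 → x = 1 := fun x hx h => by
    rw [← mem_bot, ← hSO]; exact ⟨hx, (QuotientGroup.eq_one_iff x).1 h⟩
  set J := thompsonSubgroupOf 2 (S : Subgroup G) with hJ
  have hJS : J ≤ (S : Subgroup G) := map_subtype_le _
  have hn : (J.map π).Normal := by
    rw [hJ, ← thompsonSubgroupOf_map π _ hinj]
    refine thompson_normal_core hC (fun h => hS4 (involves_of_surjective π hπs h))
      (S.mapSurjective hπs) ?_
    rw [Sylow.coe_mapSurjective]
    simp only [Subgroup.lowerCentralSeries_succ, Subgroup.lowerCentralSeries_zero] at hcl ⊢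
    rw [← map_commutator, ← map_commutator, hcl, Subgroup.map_bot]
  let M := J ⊔ O
  have hM : M = (J.map π).comap π := by
    rw [comap_map_eq, QuotientGroup.ker_mk']
  haveI : M.Normal := hM ▸ hn.comap π
  have hJM : J ≤ M := le_sup_left
  have hJ2 : IsPGroup 2 J := S.isPGroup'.to_le hJS
  have hnd : ¬ 2 ∣ (J.subgroupOf M).index := by
    have h1 := Agent.Solv.card_sup_mul_card_inf O J le_normalizer_of_normal
    have hbot : O ⊓ J = ⊥ := by
      rw [eq_bot_iff, ← hSO]
      exact fun x hx => ⟨hJS hx.2, hx.1⟩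
    rw [hbot, card_bot, mul_one, sup_comm] at h1
    have h2 := (J.subgroupOf M).card_mul_index
    rw [Agent.Solv.card_subgroupOf hJM, h1, mul_comm (Nat.card O)] at h2
    rw [Nat.eq_of_mul_eq_mul_left Nat.card_pos h2]
    exact (Nat.Prime.coprime_iff_not_dvd Nat.prime_two).1
      (Agent.Solv.card_pPrimeCore_coprime 2 G).symm
  let P : Sylow 2 M := (hJ2.of_equiv (subgroupOfEquivOfLe hJM).symm).toSylow hnd
  have hP := Sylow.normalizer_sup_eq_top P
  rw [show ((P : Subgroup M)).map M.subtype = J from map_subgroupOf_eq_of_le hJM] at hP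
  refine eq_top_iff.2 (hP ▸ sup_le le_sup_left (sup_le ?_ le_sup_right))
  exact le_trans le_normalizer le_sup_left

/-- Constrainedness passes to the quotient by the odd core. -/
theorem centralizer_pCore_le_of_isPConstrained {p : ℕ} [Fact p.Prime] (h : IsPConstrained p G) :
    centralizer (pCore p (G ⧸ pPrimeCore p G) : Set (G ⧸ pPrimeCore p G)) ≤
      pCore p (G ⧸ pPrimeCore p G) := by
  let O := pPrimeCore p G
  let π := QuotientGroup.mk' O
  let M := pPrimePCore p G
  haveI : (pCore p (G ⧸ O)).Normal := by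
    haveI := Agent.Solv.pCore_characteristic p (G ⧸ O)
    infer_instance
  haveI : M.Normal := inferInstanceAs ((pCore p (G ⧸ O)).comap π).Normal
  have hOM : O ≤ M := fun x hx => by
    change π x ∈ pCore p (G ⧸ O)
    rw [show π x = 1 from (QuotientGroup.eq_one_iff x).2 hx]
    exact one_mem _
  obtain ⟨P⟩ := (inferInstance : Nonempty (Sylow p M))
  let Pm : Subgroup G := (P : Subgroup M).map M.subtype
  have hPM : Pm ≤ M := map_subtype_le _
  -- `M = Pm O`
  have hPO : Pm ⊔ O = M := by
    refine le_antisymm (sup_le hPM hOM) ?_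
    intro x hx
    have hsur : Function.Surjective (π.subgroupComap (pCore p (G ⧸ O))) :=
      MonoidHom.subgroupComap_surjective_of_surjective π _ (QuotientGroup.mk'_surjective O)
    have htop : ((P.mapSurjective hsur : Sylow p _) : Subgroup (pCore p (G ⧸ O))) = ⊤ := by
      refine top_le_iff.1 ?_
      exact ((P.mapSurjective hsur).is_maximal'
        ((Agent.Solv.isPGroup_pCore p _).to_subgroup ⊤) le_top).le
    obtain ⟨z, hz, hzx⟩ := htop.ge (mem_top (⟨π x, hx⟩ : pCore p (G ⧸ O)))
    have hzx' : π (z : G) = π x := congrArg Subtype.val hzx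
    rw [QuotientGroup.mk'_eq_mk'] at hzx'
    obtain ⟨o, ho, hzo⟩ := hzx'
    rw [← hzo]
    exact mul_mem (mem_sup_left (mem_map_of_mem _ hz)) (mem_sup_right ho)
  intro c hc
  obtain ⟨g, rfl⟩ := QuotientGroup.mk'_surjective O c
  have hg : g ∈ normalizer (Pm : Set G) ⊔ M := by
    rw [Sylow.normalizer_sup_eq_top P]; trivial
  obtain ⟨n, hn, m, hm, rfl⟩ := mem_sup_of_normal_right.1 hg
  rw [← hPO] at hm
  obtain ⟨x, hx, o, ho, rfl⟩ := mem_sup_of_normal_right.1 hm
  have hno : π (n * x) = π (n * (x * o)) := by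
    rw [QuotientGroup.mk'_eq_mk']; exact ⟨o, ho, by group⟩
  have hcen : n * x ∈ centralizer (Pm : Set G) := by
    rw [mem_centralizer_iff]
    intro z hz
    have hnx : n * x ∈ normalizer (Pm : Set G) := mul_mem hn (le_normalizer hx)
    have h1 : n * x * z * (n * x)⁻¹ * z⁻¹ ∈ Pm :=
      mul_mem ((mem_normalizer_iff.1 hnx z).1 hz) (inv_mem hz)
    have h2 : π (n * x * z * (n * x)⁻¹ * z⁻¹) = 1 := by
      have h3 := mem_centralizer_iff.1 hc (π z) (hPM hz)
      rw [map_mul, map_mul, map_mul, map_inv, map_inv, hno, ← h3, mul_inv_cancel_right, mul_inv_cancel]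
    have h4 : n * x * z * (n * x)⁻¹ * z⁻¹ ∈ Pm ⊓ O := ⟨h1, (QuotientGroup.eq_one_iff _).1 h2⟩
    have hbot : Pm ⊓ O = ⊥ := by
      refine Agent.Solv.inf_eq_bot_of_coprime_card _ _ ?_
      obtain ⟨j, hj⟩ := IsPGroup.iff_card.1 (P.isPGroup'.map M.subtype)
      rw [hj]
      exact Nat.Coprime.pow_left j (Agent.Solv.card_pPrimeCore_coprime p G).symm
    rw [hbot, mem_bot, mul_inv_eq_one, mul_inv_eq_iff_eq_mul] at h4
    exact h4.symm
  have := h P hcen
  change π (n * x) ∈ pCore p (G ⧸ O) at this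
  rwa [hno] at this

end Cfsg.Agent.Local.ClassTwo
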