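import Cfsg.Agent.Lib.Local.FunctorControl
import Cfsg.Agent.Lib.Solv.Basic
import Cfsg.Agent.Lib.Solv.NormalPComplement
import Cfsg.Prelude.Def_ConjugacyFunctors
import Cfsg.Prelude.Def_LocalEven

/-!
Control of strong fusion by isomorphism-invariant functors is decided in the constrained sections.
-/

set_option autoImplicit false
set_option linter.style.haveILetI false

universe u

namespace Cfsg.Agent.Local.FusionRed

open Subgroup
open scoped Pointwise

variable {G : Type u} [Group G] [Finite G] {p : ℕ} [Fact p.Prime]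

variable (p) in
/-- A set of isomorphism invariant functors. -/
def IsFam (𝓦 : Set (∀ (Q : Type u) [Group Q], Subgroup Q)) : Prop := ∀ W ∈ 𝓦, IsCharPFunctor.{u} p W

/-- The induced functors. -/
def ind (G : Type u) [Group G] (𝓦 : Set (∀ (Q : Type u) [Group Q], Subgroup Q)) :
    Set (Subgroup G → Subgroup G) :=
  (fun W => inducedFunctor (G := G) W) '' 𝓦

/-- `X` is a section of `G`. -/
def Sec (X G : Type u) [Group X] [Group G] : Prop :=
  ∃ (K : Subgroup G) (f : K →* X), Function.Surjective f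

omit [Finite G] in
theorem Sec.refl : Sec G G := ⟨⊤, (Subgroup.topEquiv (G := G)).toMonoidHom, (Subgroup.topEquiv (G := G)).surjective⟩

omit [Finite G] in
theorem Sec.trans {X Y : Type u} [Group X] [Group Y] (h : Sec X Y) (h' : Sec Y G) : Sec X G := by
  obtain ⟨L, f, hf⟩ := h
  obtain ⟨K, g, hg⟩ := h'
  let M : Subgroup K := L.comap g
  refine ⟨M.map K.subtype, (f.comp (g.subgroupComap L)).comp
    (M.equivMapOfInjective K.subtype K.subtype_injective).symm.toMonoidHom, ?_⟩
  exact (hf.comp (MonoidHom.subgroupComap_surjective_of_surjective g L hg)).comp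
    (M.equivMapOfInjective K.subtype K.subtype_injective).symm.surjective

omit [Finite G] in
theorem Sec.subgroup (H : Subgroup G) : Sec H G := ⟨H, MonoidHom.id _, Function.surjective_id⟩

omit [Finite G] in
theorem Sec.of_surjective {X : Type u} [Group X] (f : G →* X) (hf : Function.Surjective f) : Sec X G :=
  ⟨⊤, f.comp (Subgroup.topEquiv (G := G)).toMonoidHom, hf.comp (Subgroup.topEquiv (G := G)).surjective⟩

omit [Finite G] in
theorem Sec.quotient (K R : Subgroup G) [(R.subgroupOf K).Normal] : Sec (K ⧸ R.subgroupOf K) G :=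
  ⟨K, QuotientGroup.mk' _, QuotientGroup.mk'_surjective _⟩

omit [Finite G] in
theorem Sec.finite {X : Type u} [Group X] [Finite G] (h : Sec X G) : Finite X := by
  obtain ⟨K, f, hf⟩ := h
  exact Finite.of_surjective f hf

variable {𝓦 : Set (∀ (Q : Type u) [Group Q], Subgroup Q)}

omit [Fact p.Prime] in
/-- An isomorphism invariant functor commutes with injective maps. -/
theorem inducedFunctor_map {W : ∀ (Q : Type u) [Group Q], Subgroup Q} (hW : IsCharPFunctor.{u} p W)
    {H : Type u} [Group H] (f : G →* H) (P : Subgroup G) (hP : IsPGroup p P)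
    (hf : ∀ x ∈ P, f x = 1 → x = 1) :
    inducedFunctor W (P.map f) = (inducedFunctor W P).map f := by
  let g : P →* P.map f := f.subgroupMap P
  have hg : Function.Bijective g := by
    refine ⟨?_, f.subgroupMap_surjective P⟩
    rw [← MonoidHom.ker_eq_bot_iff, Subgroup.eq_bot_iff_forall]
    exact fun x hx => Subtype.ext (hf x x.2 (congrArg Subtype.val hx))
  have h := hW.2 P (P.map f) hP (MulEquiv.ofBijective g hg)
  rw [inducedFunctor, inducedFunctor, ← h, map_map, map_map]
  rfl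

omit [Fact p.Prime] in
theorem isConjugacyFunctor_induced {W : ∀ (Q : Type u) [Group Q], Subgroup Q} (hW : IsCharPFunctor.{u} p W) :
    IsConjugacyFunctor p (inducedFunctor (G := G) W) := by
  refine fun P hP => ⟨map_subtype_le _, fun h0 h => ?_, fun g => ?_⟩
  · exact hW.1 P hP ((P.nontrivial_iff_ne_bot).2 h0)
      ((map_eq_bot_iff_of_injective _ P.subtype_injective).1 h)
  · exact inducedFunctor_map hW _ P hP fun x _ hx => (MulEquiv.map_eq_one_iff _).1 hx

omit [Fact p.Prime] in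
theorem isConjugacyFunctor_ind (h𝓦 : IsFam p 𝓦) : ∀ W ∈ ind G 𝓦, IsConjugacyFunctor p W := by
  rintro _ ⟨W, hW, rfl⟩
  exact isConjugacyFunctor_induced (h𝓦 W hW)

/-- A normalizer of a subgroup normalizes the values of a conjugacy functor at it. -/
theorem normalizer_le_normalizer_functor {W : Subgroup G → Subgroup G} (hW : IsConjugacyFunctor p W)
    {P : Subgroup G} (hP : IsPGroup p P) :
    normalizer (P : Set G) ≤ normalizer (W P : Set G) := by
  intro u hu
  have h1 : P.map (MulAut.conj u).toMonoidHom = P := by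
    ext z
    constructor
    · rintro ⟨r, hr, rfl⟩; exact (mem_normalizer_iff.1 hu r).1 hr
    · intro hz
      exact ⟨u⁻¹ * z * u, (mem_normalizer_iff''.1 hu z).1 hz, by simp [mul_assoc]⟩
  have h2 := (hW P hP).2.2 u
  rw [h1] at h2
  rw [mem_normalizer_iff]
  intro z
  conv_rhs => rw [h2]
  constructor
  · exact fun hz => ⟨z, hz, rfl⟩
  · rintro ⟨w, hw, he⟩
    have : w = z := (MulAut.conj u).injective he
    exact this ▸ hw

omit [Fact p.Prime] in
/-- Reachability is carried along injective maps. -/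
theorem reach_map (h𝓦 : IsFam p 𝓦) {H : Type u} [Group H] [Finite H] (f : H →* G) (hf : Function.Injective f)
    {S' : Subgroup H} (hS' : IsPGroup p S') {A : Set H} {g : H} (h : Reach S' (ind H 𝓦) A g) :
    Reach (S'.map f) (ind G 𝓦) (f '' A) (f g) := by
  induction h with
  | @refl A g hA hg =>
    refine .refl (Set.image_mono hA) ?_
    rintro _ ⟨a, ha, rfl⟩
    rw [← map_inv, ← map_mul, ← map_mul, hg a ha]
  | @step A g y g' W hA hW hy _ he ih =>
    obtain ⟨W₀, hW₀, rfl⟩ := hW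
    have e : (fun a => f y * a * (f y)⁻¹) '' (f '' A) = f '' ((fun a => y * a * y⁻¹) '' A) := by
      rw [Set.image_image, Set.image_image]
      exact Set.image_congr fun a _ => by simp
    refine .step (Set.image_mono hA) ⟨W₀, hW₀, rfl⟩ (y := f y) ?_ (g' := f g') (e ▸ ih) ?_
    · show f y ∈ normalizer ((inducedFunctor W₀ (S'.map f) : Subgroup G) : Set G)
      rw [inducedFunctor_map (h𝓦 W₀ hW₀) f S' hS' fun x _ hx => hf (hx.trans f.map_one.symm)]
      exact le_normalizer_map f ⟨y, hy, rfl⟩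
    · rintro _ ⟨a, ha, rfl⟩
      simp only [← map_inv, ← map_mul, he a ha]

/-- Strong fusion of `G` in the Sylow subgroup `S` is reached by the functors. -/
def CtrlAt (p : ℕ) (G : Type u) [Group G] (𝓦 : Set (∀ (Q : Type u) [Group Q], Subgroup Q))
    (S : Sylow p G) : Prop :=
  ∀ (A : Set G) (g : G), A ⊆ (S : Subgroup G) → (fun a => g * a * g⁻¹) '' A ⊆ (S : Subgroup G) →
    Reach (S : Subgroup G) (ind G 𝓦) A g

/-- Strong fusion is reached by the functors for every Sylow subgroup. -/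
def Ctrl (p : ℕ) (G : Type u) [Group G] (𝓦 : Set (∀ (Q : Type u) [Group Q], Subgroup Q)) : Prop :=
  ∀ S : Sylow p G, CtrlAt p G 𝓦 S

omit [Finite G] [Fact p.Prime] in
/-- A chain gives reachability. -/
theorem reach_of_chain {S : Subgroup G} {𝓕 : Set (Subgroup G → Subgroup G)} {A : Set G} (n : ℕ)
    (c : Fin (n + 1) → G) (hc0 : c 0 = 1)
    (hW : ∀ i : Fin n, ∃ W ∈ 𝓕, c i.succ * (c i.castSucc)⁻¹ ∈ normalizer ((W S : Subgroup G) : Set G))
    (hS : ∀ i : Fin (n + 1), (fun a => c i * a * (c i)⁻¹) '' A ⊆ S) :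
    Reach S 𝓕 A (c (Fin.last n)) := by
  suffices ∀ i : Fin (n + 1), Reach S 𝓕 A (c i) from this _
  intro i
  induction i using Fin.induction with
  | zero =>
    refine .refl (fun a ha => ?_) fun a _ => by rw [hc0]; group
    simpa [hc0] using hS 0 ⟨a, ha, rfl⟩
  | succ i ih =>
    obtain ⟨W, hW, hy⟩ := hW i
    rw [show c i.succ = c i.succ * (c i.castSucc)⁻¹ * c i.castSucc by group]
    refine ih.trans (Reach.single hW hy ih.image_subset ?_)
    rw [image_lconj_mul]
    simpa using hS i.succ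

theorem ctrl_of_family (h𝓦 : IsFam p 𝓦) (h : FamilyControlsStrongFusionIn p (ind G 𝓦) ⊤) :
    Ctrl p G 𝓦 := by
  obtain ⟨T, -, hTp, hidx, hctl⟩ := h
  rw [relIndex_top_right] at hidx
  intro S A g hA hg
  obtain ⟨x, hx⟩ := MulAction.exists_smul_eq G (hTp.toSylow hidx) S
  have hST : T.map (MulAut.conj x).toMonoidHom = (S : Subgroup G) := by
    rw [← hx]; rfl
  have hmem : ∀ a ∈ (S : Subgroup G), x⁻¹ * a * x ∈ T := fun a ha => by
    rw [← hST] at ha
    obtain ⟨t, ht, rfl⟩ := ha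
    simpa [mul_assoc] using ht
  obtain ⟨n, c, hc0, hcW, hcT, hcl⟩ := hctl ((fun a => x⁻¹ * a * x) '' A) (x⁻¹ * g * x) trivial
    (by rintro _ ⟨a, ha, rfl⟩; exact hmem a (hA ha)) (by
      rintro _ ⟨_, ⟨a, ha, rfl⟩, rfl⟩
      have h := hmem _ (hg ⟨a, ha, rfl⟩)
      simpa [mul_assoc] using h)
  have h := reach_map h𝓦 (MulAut.conj x).toMonoidHom (MulAut.conj x).injective hTp
    (reach_of_chain n c hc0 (fun i => (hcW i).imp fun W hW => ⟨hW.1, hW.2.2⟩) hcT)
  rw [hST, Set.image_image,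
    show (fun a => (MulAut.conj x).toMonoidHom (x⁻¹ * a * x)) '' A = A by simp [mul_assoc]] at h
  refine h.congr fun a ha => ?_
  have := hcl _ ⟨a, ha, rfl⟩
  calc g * a * g⁻¹ = x * ((x⁻¹ * g * x) * (x⁻¹ * a * x) * (x⁻¹ * g * x)⁻¹) * x⁻¹ := by group
    _ = _ := by rw [← this]; simp [mul_assoc]

theorem family_of_ctrlAt {S : Sylow p G} (h : CtrlAt p G 𝓦 S) :
    FamilyControlsStrongFusionIn p (ind G 𝓦) ⊤ :=
  ⟨(S : Subgroup G), le_top, S.isPGroup', by rw [relIndex_top_right]; exact S.not_dvd_index,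
    fun A g _ hA hg => (h A g hA hg).exists_chain⟩

/-- The fusion inside a subgroup containing the Sylow subgroup. -/
theorem reach_of_subgroup (h𝓦 : IsFam p 𝓦) (S : Sylow p G) {H : Subgroup G}
    (hSH : (S : Subgroup G) ≤ H) (hH : Ctrl p H 𝓦) {A : Set G} {g : G} (hg : g ∈ H)
    (hA : A ⊆ (S : Subgroup G)) (hAg : (fun a => g * a * g⁻¹) '' A ⊆ (S : Subgroup G)) :
    Reach (S : Subgroup G) (ind G 𝓦) A g := by
  let S' : Sylow p H := S.subtype hSH
  have hmap : ((S' : Subgroup H)).map H.subtype = (S : Subgroup G) := by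
    rw [Sylow.coe_subtype, map_subgroupOf_eq_of_le hSH]
  have h := reach_map h𝓦 H.subtype H.subtype_injective S'.isPGroup'
    (hH S' (H.subtype ⁻¹' A) ⟨g, hg⟩ (fun a ha => hA ha) (by
      rintro _ ⟨a, ha, rfl⟩
      exact hAg ⟨(a : G), ha, rfl⟩))
  rw [hmap, Set.image_preimage_eq_of_subset (fun a ha => by
    rw [Subgroup.coe_subtype, Subtype.range_coe_subtype]; exact hSH (hA ha))] at h
  exact h

/-- Products of elements of two subgroups containing the Sylow subgroup. -/
theorem exists_split (S : Sylow p G) {H₁ H₂ : Subgroup G} (h₁ : (S : Subgroup G) ≤ H₁)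
    (h₂ : (S : Subgroup G) ≤ H₂) {A : Set G} {a b : G} (ha : a ∈ H₁) (hb : b ∈ H₂)
    (hA : A ⊆ (S : Subgroup G)) (hab : (fun x => (a * b) * x * (a * b)⁻¹) '' A ⊆ (S : Subgroup G)) :
    ∃ m ∈ H₁ ⊓ H₂, (fun x => (m * b) * x * (m * b)⁻¹) '' A ⊆ (S : Subgroup G) := by
  set U := (closure A).map (MulAut.conj b).toMonoidHom with hU
  have hUp : IsPGroup p U := (S.isPGroup'.to_le ((closure_le _).2 hA)).map _
  have hU1 : U ≤ H₁ := by
    rw [hU, MonoidHom.map_closure, closure_le]
    rintro _ ⟨x, hx, rfl⟩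
    have h := mul_mem (mul_mem (inv_mem ha) (h₁ (hab ⟨x, hx, rfl⟩))) ha
    simpa [mul_assoc] using h
  have hU2 : U ≤ H₂ := by
    rw [hU, MonoidHom.map_closure, closure_le]
    rintro _ ⟨x, hx, rfl⟩
    exact mul_mem (mul_mem hb (h₂ (hA hx))) (inv_mem hb)
  have hidx : ¬ p ∣ (S : Subgroup G).relIndex (H₁ ⊓ H₂) := fun h =>
    S.not_dvd_index (h.trans (relIndex_dvd_index_of_le (le_inf h₁ h₂)))
  obtain ⟨m, hm, hmU⟩ := exists_conj_le_of_not_dvd_relIndex (le_inf h₁ h₂) S.isPGroup' hidx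
    (le_inf hU1 hU2) hUp
  refine ⟨m, hm, ?_⟩
  rintro _ ⟨x, hx, rfl⟩
  have h := hmU _ ⟨x, subset_closure hx, rfl⟩
  refine SetLike.mem_coe.2 ?_
  simpa [mul_assoc] using h

/-- Lifting reachability from a quotient. -/
theorem exists_lift_reach {Q : Type u} [Group Q] (π : G →* Q) {S : Subgroup G} {Sb : Subgroup Q}
    (hlift : ∀ W ∈ 𝓦, ∀ yb ∈ normalizer ((inducedFunctor W Sb : Subgroup Q) : Set Q),
      ∀ A : Set G, A ⊆ S → (∀ a ∈ A, yb * π a * yb⁻¹ ∈ Sb) →
      ∃ y, Reach S (ind G 𝓦) A y ∧ ∀ a ∈ A, π (y * a * y⁻¹) = yb * π a * yb⁻¹)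
    {Ab : Set Q} {gb : Q} (h : Reach Sb (ind Q 𝓦) Ab gb) :
    ∀ A : Set G, A ⊆ S → π '' A = Ab →
      ∃ g, Reach S (ind G 𝓦) A g ∧ ∀ a ∈ A, π (g * a * g⁻¹) = gb * π a * gb⁻¹ := by
  induction h with
  | @refl Ab gb hAb hgb =>
    rintro A hA rfl
    exact ⟨1, .refl hA fun a _ => by group, fun a ha => by
      rw [hgb _ ⟨a, ha, rfl⟩]; simp⟩
  | @step Ab gb yb gb' W hAb hW hy h' he ih =>
    rintro A hA rfl
    obtain ⟨W₀, hW₀, rfl⟩ := hW
    obtain ⟨y, hy', hye⟩ := hlift W₀ hW₀ yb hy A hA fun a ha =>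
      h'.subset ⟨π a, ⟨a, ha, rfl⟩, rfl⟩
    obtain ⟨g', hg', hge⟩ := ih _ hy'.image_subset (by
      rw [Set.image_image, Set.image_image]
      exact Set.image_congr fun a ha => hye a ha)
    refine ⟨g' * y, hy'.trans hg', fun a ha => ?_⟩
    rw [he _ ⟨a, ha, rfl⟩, ← hye a ha, ← hge _ ⟨a, ha, rfl⟩]
    congr 1
    group

/-- The hypothesis on the constrained sections. -/
def Hyp (p : ℕ) (G : Type u) [Group G] (𝓦 : Set (∀ (Q : Type u) [Group Q], Subgroup Q)) : Prop :=
  ∀ (X : Type u) [Group X] [Finite X], Sec X G →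
    centralizer (pCore p X : Set X) ≤ pCore p X → Ctrl p X 𝓦

omit [Finite G] [Fact p.Prime] in
theorem Hyp.of_sec {X : Type u} [Group X] (h : Hyp p G 𝓦) (hX : Sec X G) : Hyp p X 𝓦 :=
  fun Y _ _ hY => h Y (hY.trans hX)

/-- Inner fusion of the Sylow subgroup is reached. -/
theorem reach_inner (h𝓦 : IsFam p 𝓦) (h : Hyp p G 𝓦) (S : Sylow p G) {s : G} (hs : s ∈ (S : Subgroup G))
    {A : Set G} (hA : A ⊆ (S : Subgroup G)) : Reach (S : Subgroup G) (ind G 𝓦) A s := by
  refine reach_of_subgroup h𝓦 S le_rfl (h _ (Sec.subgroup _) ?_) hs hA ?_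
  · have htop : pCore p (S : Subgroup G) = ⊤ :=
      top_le_iff.1 (Agent.Solv.le_pCore (S.isPGroup'.to_subgroup ⊤))
    rw [htop]; exact le_top
  · rintro _ ⟨a, ha, rfl⟩
    exact mul_mem (mul_mem hs (hA ha)) (inv_mem hs)

/-- Reduction modulo the `p'`-core. -/
theorem ctrlAt_of_pPrime (h𝓦 : IsFam p 𝓦) (S : Sylow p G) (O : Subgroup G) [O.Normal]
    (hO : (Nat.card O).Coprime p) (h : Ctrl p (G ⧸ O) 𝓦) : CtrlAt p G 𝓦 S := by
  intro A g hA hg
  let π := QuotientGroup.mk' O
  have hπs : Function.Surjective π := QuotientGroup.mk'_surjective O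
  let Sb := S.mapSurjective hπs
  have hinf : (S : Subgroup G) ⊓ O = ⊥ := by
    refine Agent.Solv.inf_eq_bot_of_coprime_card _ _ ?_
    obtain ⟨j, hj⟩ := IsPGroup.iff_card.1 S.isPGroup'
    rw [hj]
    exact Nat.Coprime.pow_left j hO.symm
  have hinj : ∀ x ∈ (S : Subgroup G), π x = 1 → x = 1 := fun x hx h => by
    rw [← mem_bot, ← hinf]; exact ⟨hx, (QuotientGroup.eq_one_iff x).1 h⟩
  have hinj2 : ∀ x ∈ (S : Subgroup G), ∀ x' ∈ (S : Subgroup G), π x = π x' → x = x' := fun x hx x' hx' e =>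
    mul_inv_eq_one.1 (hinj _ (mul_mem hx (inv_mem hx')) (by rw [map_mul, map_inv, e, mul_inv_cancel]))
  refine Exists.elim (exists_lift_reach π (S := (S : Subgroup G)) (Sb := (Sb : Subgroup (G ⧸ O))) ?hlift
    (h Sb (π '' A) (π g) (Set.image_mono hA) (by
      rintro _ ⟨_, ⟨a, ha, rfl⟩, rfl⟩
      exact ⟨g * a * g⁻¹, hg ⟨a, ha, rfl⟩, by simp⟩)) A hA rfl) ?main
  case main =>
    rintro g' ⟨hg', he⟩
    refine hg'.congr fun a ha => hinj2 _ (hg ⟨a, ha, rfl⟩) _ (hg'.image_subset ⟨a, ha, rfl⟩) ?_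
    exact (by simp : π (g * a * g⁻¹) = π g * π a * (π g)⁻¹).trans (he a ha).symm
  intro W hW yb hyb A hA hAy
  obtain ⟨y₀, rfl⟩ := hπs yb
  set WS := inducedFunctor W (S : Subgroup G) with hWS
  have hWSS : WS ≤ (S : Subgroup G) := map_subtype_le _
  have hWb : inducedFunctor W (Sb : Subgroup (G ⧸ O)) = WS.map π :=
    inducedFunctor_map (h𝓦 W hW) π _ S.isPGroup' hinj
  rw [hWb] at hyb
  let M := (WS.map π).comap π
  have hMeq : M = WS ⊔ O := by
    show (WS.map π).comap π = _
    rw [comap_map_eq, QuotientGroup.ker_mk']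
  have hWM : WS ≤ M := hMeq ▸ le_sup_left
  have hWp : IsPGroup p WS := S.isPGroup'.to_le hWSS
  have hWidx : ¬ p ∣ WS.relIndex M := by
    have h1 := Agent.Solv.card_sup_mul_card_inf O WS le_normalizer_of_normal
    have hbot : O ⊓ WS = ⊥ := by
      rw [eq_bot_iff, ← hinf]; exact fun x hx => ⟨hWSS hx.2, hx.1⟩
    rw [hbot, card_bot, mul_one, sup_comm, ← hMeq] at h1
    have h2 := (WS.subgroupOf M).card_mul_index
    rw [Agent.Solv.card_subgroupOf hWM, h1, mul_comm (Nat.card O)] at h2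
    rw [relIndex, Nat.eq_of_mul_eq_mul_left Nat.card_pos h2]
    exact (Nat.Prime.coprime_iff_not_dvd Fact.out).1 hO.symm
  have hU : WS.map (MulAut.conj y₀).toMonoidHom ≤ M := by
    rintro _ ⟨w, hw, rfl⟩
    show π _ ∈ WS.map π
    have := (mem_normalizer_iff.1 hyb (π w)).1 ⟨w, hw, rfl⟩
    simpa using this
  obtain ⟨m, hm, hm'⟩ := exists_conj_le_of_not_dvd_relIndex hWM hWp hWidx hU (hWp.map _)
  rw [hMeq] at hm
  obtain ⟨w, hw, o, ho, rfl⟩ := mem_sup_of_normal_right.1 hm
  -- `o * y₀` normalizes `WS`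
  have hy1 : o * y₀ ∈ normalizer (WS : Set G) := by
    have hle : WS.map (MulAut.conj (o * y₀)).toMonoidHom ≤ WS := by
      rintro _ ⟨v, hv, rfl⟩
      have := mul_mem (mul_mem (inv_mem hw) (hm' _ ⟨v, hv, rfl⟩)) hw
      simpa [mul_assoc] using this
    have heq := eq_of_le_of_card_ge hle (card_map_of_injective (MulAut.conj (o * y₀)).injective).ge
    rw [mem_normalizer_iff]
    refine fun z => ⟨fun hz => hle ⟨z, hz, rfl⟩, fun hz => ?_⟩
    obtain ⟨v, hv, he⟩ := heq.symm.le hz
    rwa [(MulAut.conj (o * y₀)).injective he] at hv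
  have hπ1 : π (o * y₀) = π y₀ := by
    rw [map_mul, show π o = 1 from (QuotientGroup.eq_one_iff o).2 ho, one_mul]
  let L := normalizer (WS : Set G) ⊓ ((S : Subgroup G).map π).comap π
  have hSL : (S : Subgroup G) ≤ L := le_inf
    ((le_normalizer).trans (normalizer_le_normalizer_functor (isConjugacyFunctor_induced (h𝓦 W hW)) S.isPGroup'))
    fun x hx => mem_map_of_mem π hx
  have hU2 : (closure A).map (MulAut.conj (o * y₀)).toMonoidHom ≤ L := by
    rw [MonoidHom.map_closure, closure_le]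
    rintro _ ⟨a, ha, rfl⟩
    refine Subgroup.mem_inf.2 ⟨?_, ?_⟩
    · exact (normalizer (WS : Set G)).mul_mem ((normalizer (WS : Set G)).mul_mem hy1 (hSL (hA ha)).1)
        ((normalizer (WS : Set G)).inv_mem hy1)
    · rw [mem_comap]
      have e : π ((MulAut.conj (o * y₀)).toMonoidHom a) = π (o * y₀) * π a * (π (o * y₀))⁻¹ := by rw [← map_inv, ← map_mul, ← map_mul]; rfl
      rw [e, hπ1]
      exact hAy a ha
  obtain ⟨l, hl, hl'⟩ := exists_conj_le_of_not_dvd_relIndex hSL S.isPGroup'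
    (fun h => S.not_dvd_index (h.trans (relIndex_dvd_index_of_le hSL))) hU2
    ((S.isPGroup'.to_le ((closure_le _).2 hA)).map _)
  have hl2 : l ∈ (S : Subgroup G) ⊔ O := by
    have := hl.2; rwa [comap_map_eq, QuotientGroup.ker_mk'] at this
  obtain ⟨s, hs, o', ho', hso⟩ := mem_sup_of_normal_right.1 hl2
  have ho'L : o' ∈ normalizer (WS : Set G) := by
    rw [show o' = s⁻¹ * l by rw [← hso]; group]
    exact mul_mem (inv_mem (hSL hs).1) hl.1
  refine ⟨o' * (o * y₀), Reach.single ⟨W, hW, rfl⟩ (mul_mem ho'L hy1) hA ?_, fun a _ => ?_⟩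
  · rintro _ ⟨a, ha, rfl⟩
    have := mul_mem (mul_mem (inv_mem hs) (hl' _ ⟨a, subset_closure ha, rfl⟩)) hs
    rw [← hso] at this
    refine SetLike.mem_coe.2 ?_
    simpa [mul_assoc] using this
  · simp only [map_mul, map_inv, show π o' = 1 from (QuotientGroup.eq_one_iff o').2 ho',
      show π o = 1 from (QuotientGroup.eq_one_iff o).2 ho, one_mul, mul_one, inv_one, mul_inv_rev]

/-- Reduction modulo a normal `p`-subgroup on which the fusion is by `p`-elements. -/
theorem ctrlAt_of_pCore (h𝓦 : IsFam p 𝓦) (hyp : Hyp p G 𝓦) (S : Sylow p G) (Q : Subgroup G) [Q.Normal]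
    (hQ : pCore p G = Q) (hC : centralizer (Q : Set G) ⊔ (S : Subgroup G) = ⊤)
    (hind : ∀ H : Subgroup G, H ≠ ⊤ → Ctrl p H 𝓦) (hquot : Ctrl p (G ⧸ Q) 𝓦) : CtrlAt p G 𝓦 S := by
  classical
  have hQS : Q ≤ (S : Subgroup G) := hQ ▸ Agent.Solv.pCore_le_sylow S
  have hQp : IsPGroup p Q := S.isPGroup'.to_le hQS
  set C := centralizer (Q : Set G) with hCdef
  have hdec : ∀ g : G, ∃ s ∈ (S : Subgroup G), ∃ c ∈ C, g = s * c := fun g => by
    obtain ⟨s, hs, c, hc, h⟩ := mem_sup_of_normal_right.1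
      (show g ∈ (S : Subgroup G) ⊔ C by rw [sup_comm, hC]; trivial)
    exact ⟨s, hs, c, hc, h.symm⟩
  intro A g hA hg
  by_cases hSQ : (S : Subgroup G) ≤ Q
  · obtain ⟨s, hs, c, hc, rfl⟩ := hdec g
    refine (reach_inner h𝓦 hyp S hs hA).congr fun a ha => ?_
    have h := mem_centralizer_iff.1 hc a (hSQ (hA ha))
    calc s * c * a * (s * c)⁻¹ = s * (c * a) * c⁻¹ * s⁻¹ := by group
      _ = _ := by rw [← h]; group
  let π := QuotientGroup.mk' Q
  have hπs : Function.Surjective π := QuotientGroup.mk'_surjective Q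
  let Sb := S.mapSurjective hπs
  have hcomap : ((Sb : Subgroup (G ⧸ Q))).comap π = (S : Subgroup G) := by
    rw [Sylow.coe_mapSurjective, comap_map_eq, QuotientGroup.ker_mk', sup_eq_left.2 hQS]
  have hlift : ∀ W ∈ 𝓦, ∀ yb ∈ normalizer ((inducedFunctor W (Sb : Subgroup (G ⧸ Q)) : Subgroup (G ⧸ Q)) : Set (G ⧸ Q)),
      ∀ A : Set G, A ⊆ (S : Subgroup G) → (∀ a ∈ A, yb * π a * yb⁻¹ ∈ (Sb : Subgroup (G ⧸ Q))) →
      ∃ y, Reach (S : Subgroup G) (ind G 𝓦) A y ∧ ∀ a ∈ A, π (y * a * y⁻¹) = yb * π a * yb⁻¹ := by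
    intro W hW yb hyb A hA hAy
    obtain ⟨y, rfl⟩ := hπs yb
    have hcj := isConjugacyFunctor_induced (G := G ⧸ Q) (h𝓦 W hW)
    let Wb := inducedFunctor W (Sb : Subgroup (G ⧸ Q))
    let H := (normalizer (Wb : Set (G ⧸ Q))).comap π
    have hSH : (S : Subgroup G) ≤ H := fun x hx =>
      normalizer_le_normalizer_functor hcj Sb.isPGroup' (le_normalizer ⟨x, hx, rfl⟩)
    have hHne : H ≠ ⊤ := by
      intro htop
      let U := Wb.comap π
      have hUS : U ≤ (S : Subgroup G) := hcomap ▸ comap_mono (hcj _ Sb.isPGroup').1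
      haveI : Wb.Normal := by
        rw [← normalizer_eq_top_iff, eq_top_iff]
        intro z _
        obtain ⟨x, rfl⟩ := hπs z
        exact htop.ge (mem_top x)
      have hUQ : U ≤ Q := by
        rw [← hQ]
        exact Agent.Solv.le_pCore (hN := ‹Wb.Normal›.comap π) (S.isPGroup'.to_le hUS)
      have hne : (Sb : Subgroup (G ⧸ Q)) ≠ ⊥ := fun e => hSQ fun x hx => by
        have hx' : π x ∈ (Sb : Subgroup (G ⧸ Q)) := ⟨x, hx, rfl⟩
        rw [e, mem_bot] at hx'
        exact (QuotientGroup.eq_one_iff x).1 hx'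
      refine (hcj _ Sb.isPGroup').2.1 hne ((Subgroup.eq_bot_iff_forall _).2 fun z hz => ?_)
      obtain ⟨x, rfl⟩ := hπs z
      exact (QuotientGroup.eq_one_iff x).2 (hUQ hz)
    refine ⟨y, reach_of_subgroup h𝓦 S hSH (hind H hHne) hyb hA ?_, fun a _ => by simp⟩
    rintro _ ⟨a, ha, rfl⟩
    rw [SetLike.mem_coe, ← hcomap, mem_comap, map_mul, map_mul, map_inv]
    exact hAy a ha
  -- from a fully normalized subgroup
  have key : ∀ B : Subgroup G, Q ≤ B → B ≤ (S : Subgroup G) →
      ¬ p ∣ ((S : Subgroup G) ⊓ normalizer (B : Set G)).relIndex (normalizer (B : Set G)) →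
      ∀ g : G, (fun a => g * a * g⁻¹) '' (B : Set G) ⊆ (S : Subgroup G) →
        Reach (S : Subgroup G) (ind G 𝓦) (B : Set G) g := by
    intro B hQB hBS hidx g hg
    obtain ⟨g', hg', he⟩ := exists_lift_reach π hlift
      (hquot Sb (π '' (B : Set G)) (π g) (Set.image_mono hBS) (by
        rintro _ ⟨_, ⟨a, ha, rfl⟩, rfl⟩
        exact ⟨g * a * g⁻¹, hg ⟨a, ha, rfl⟩, by simp⟩)) (B : Set G) hBS rfl
    set h := g'⁻¹ * g with hh
    have hfix : ∀ b ∈ B, π h * π b * (π h)⁻¹ = π b := fun b hb => by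
      have h1 := he b hb
      rw [map_mul, map_mul, map_inv] at h1
      rw [hh, map_mul, map_inv,
        show (π g')⁻¹ * π g * π b * ((π g')⁻¹ * π g)⁻¹ = (π g')⁻¹ * (π g * π b * (π g)⁻¹) * π g' by group,
        ← h1]
      group
    have hq : ∀ k : G, (∀ b ∈ B, π k * π b * (π k)⁻¹ = π b) → ∀ b ∈ B, k * b * k⁻¹ * b⁻¹ ∈ Q := by
      intro k hk b hb
      refine (QuotientGroup.eq_one_iff _).1 ?_
      show π _ = 1
      rw [map_mul, map_mul, map_mul, map_inv, map_inv, hk b hb, mul_inv_cancel]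
    have hnorm : ∀ k : G, (∀ b ∈ B, π k * π b * (π k)⁻¹ = π b) → k ∈ normalizer (B : Set G) := by
      intro k hk
      have hle : B.map (MulAut.conj k).toMonoidHom ≤ B := by
        rintro _ ⟨b, hb, rfl⟩
        have := mul_mem (hQB (hq k hk b hb)) hb
        simpa using this
      have heq := eq_of_le_of_card_ge hle (card_map_of_injective (MulAut.conj k).injective).ge
      rw [mem_normalizer_iff]
      refine fun z => ⟨fun hz => hle ⟨z, hz, rfl⟩, fun hz => ?_⟩
      obtain ⟨v, hv, he⟩ := heq.symm.le hz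
      rwa [(MulAut.conj k).injective he] at hv
    set NB := normalizer (B : Set G) with hNB
    let CB := (centralizer (B : Set G)).subgroupOf NB
    haveI : CB.Normal := by
      refine ⟨fun c hc n => mem_centralizer_iff.2 fun b hb => ?_⟩
      have h1 := mem_centralizer_iff.1 hc _ ((mem_normalizer_iff''.1 n.2 b).1 hb)
      simpa [mul_assoc] using congrArg (fun t => (n : G) * t * (n : G)⁻¹) h1
    let ψ := QuotientGroup.mk' CB
    let K₀ : Subgroup NB :=
      { carrier := {k | ∀ b ∈ B, π (k : G) * π b * (π (k : G))⁻¹ = π b}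
        one_mem' := fun b _ => by simp
        mul_mem' := fun {k l} hk hl b hb => by
          rw [Subgroup.coe_mul, map_mul,
            show π (k : G) * π (l : G) * π b * (π (k : G) * π (l : G))⁻¹ =
              π (k : G) * (π (l : G) * π b * (π (l : G))⁻¹) * (π (k : G))⁻¹ by group,
            hl b hb, hk b hb]
        inv_mem' := fun {k} hk b hb => by
          rw [Subgroup.coe_inv, map_inv, inv_inv]
          conv_lhs => rw [← hk b hb]
          group }
    haveI : K₀.Normal := ⟨fun k hk n b hb => by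
      have h1 := hk _ ((mem_normalizer_iff''.1 n.2 b).1 hb)
      simp only [map_mul, map_inv, inv_inv] at h1
      calc π ((n * k * n⁻¹ : NB) : G) * π b * (π ((n * k * n⁻¹ : NB) : G))⁻¹
          = π (n : G) * (π (k : G) * ((π (n : G))⁻¹ * π b * π (n : G)) * (π (k : G))⁻¹) *
              (π (n : G))⁻¹ := by simp [mul_assoc]
        _ = _ := by rw [h1]; group⟩
    have hK₀p : IsPGroup p (K₀.map ψ) := by
      rintro ⟨_, k, hk, rfl⟩
      -- a power centralizes `Q`
      obtain ⟨e, he⟩ : ∃ e : ℕ, (k : G) ^ p ^ e ∈ C := by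
        obtain ⟨s, hs, c, hc, hsc⟩ := hdec (k : G)
        obtain ⟨e, hse⟩ := S.isPGroup' ⟨s, hs⟩
        refine ⟨e, (QuotientGroup.eq_one_iff _).1 ?_⟩
        rw [QuotientGroup.mk_pow, hsc, QuotientGroup.mk_mul, (QuotientGroup.eq_one_iff c).2 hc, mul_one,
          ← QuotientGroup.mk_pow, show s ^ p ^ e = 1 from congrArg Subtype.val hse, QuotientGroup.mk_one]
      obtain ⟨f, hf⟩ := IsPGroup.iff_card.1 hQp
      refine ⟨e + f, Subtype.ext ?_⟩
      rw [SubmonoidClass.coe_pow, OneMemClass.coe_one, ← map_pow, QuotientGroup.mk'_apply,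
        QuotientGroup.eq_one_iff, mem_subgroupOf, SubmonoidClass.coe_pow, mem_centralizer_iff]
      intro b hb
      set k' := (k : G) ^ p ^ e with hk'
      have hk'fix : ∀ b ∈ B, π k' * π b * (π k')⁻¹ = π b := fun b hb => by
        have := (K₀.pow_mem hk (p ^ e)) b hb
        rwa [SubmonoidClass.coe_pow] at this
      set d := k' * b * k'⁻¹ * b⁻¹ with hd
      have hdQ : d ∈ Q := hq k' hk'fix b hb
      have hcomm : d * k' = k' * d := mem_centralizer_iff.1 he d hdQ
      have hiter : ∀ n : ℕ, k' ^ n * b * (k' ^ n)⁻¹ = d ^ n * b := by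
        intro n
        induction n with
        | zero => simp
        | succ n ih =>
          calc k' ^ (n + 1) * b * (k' ^ (n + 1))⁻¹ = k' * (k' ^ n * b * (k' ^ n)⁻¹) * k'⁻¹ := by
                rw [pow_succ']; group
            _ = k' * d ^ n * k'⁻¹ * (d * b) := by rw [ih, hd]; group
            _ = d ^ (n + 1) * b := by
                rw [((Commute.pow_left (show Commute d k' from hcomm) n).symm).eq,
                  mul_inv_cancel_right, pow_succ]
                group
      have hdQ' : d ^ p ^ f = 1 := by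
        rw [← hf]
        exact congrArg Subtype.val (pow_card_eq_one' (x := (⟨d, hdQ⟩ : Q)))
      have := hiter (p ^ f)
      rw [hdQ', one_mul, mul_inv_eq_iff_eq_mul] at this
      rw [pow_add, pow_mul, ← hk']
      exact this.symm
    let R := (S : Subgroup G) ⊓ NB
    have hRN : R ≤ NB := inf_le_right
    let PN : Sylow p NB :=
      ((S.isPGroup'.to_le inf_le_left).of_equiv (subgroupOfEquivOfLe hRN).symm).toSylow hidx
    have hhN : h ∈ NB := hnorm h hfix
    have hmem : ψ ⟨h, hhN⟩ ∈ (PN.mapSurjective (QuotientGroup.mk'_surjective CB) : Subgroup _) := by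
      haveI : (K₀.map ψ).Normal := ‹K₀.Normal›.map ψ (QuotientGroup.mk'_surjective CB)
      exact (Agent.Solv.le_pCore hK₀p).trans (Agent.Solv.pCore_le_sylow _) ⟨⟨h, hhN⟩, fun b hb => hfix b hb, rfl⟩
    obtain ⟨s, hs, hsh⟩ := hmem
    rw [QuotientGroup.mk'_eq_mk'] at hsh
    obtain ⟨c, hc, hsc⟩ := hsh
    have hsR : (s : G) ∈ R := hs
    have hact : ∀ b ∈ B, h * b * h⁻¹ = (s : G) * b * (s : G)⁻¹ := fun b hb => by
      have e1 : (s : G) * (c : G) = h := congrArg Subtype.val hsc
      have h2 : b * (c : G) = (c : G) * b := mem_centralizer_iff.1 hc b hb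
      rw [← e1, mul_assoc (s : G), ← h2]
      group
    have hreach := reach_inner h𝓦 hyp S hsR.1 (A := (B : Set G)) hBS
    have himg : (fun a => (s : G) * a * (s : G)⁻¹) '' (B : Set G) ⊆ (B : Set G) := by
      rintro _ ⟨b, hb, rfl⟩; exact (mem_normalizer_iff.1 hsR.2 b).1 hb
    refine (hreach.trans (k := g') (hg'.mono himg)).congr fun b hb => ?_
    rw [show g * b * g⁻¹ = g' * (h * b * h⁻¹) * g'⁻¹ by rw [hh]; group, hact b hb]
    group
  -- the general subgroup
  set B := closure A ⊔ Q with hB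
  have hBS : B ≤ (S : Subgroup G) := sup_le ((closure_le _).2 hA) hQS
  have hgB : (fun a => g * a * g⁻¹) '' (B : Set G) ⊆ (S : Subgroup G) := by
    have : B.map (MulAut.conj g).toMonoidHom ≤ (S : Subgroup G) := by
      rw [Subgroup.map_sup, sup_le_iff, MonoidHom.map_closure, closure_le]
      refine ⟨hg, ?_⟩
      rintro _ ⟨q, hq, rfl⟩
      exact hQS (‹Q.Normal›.conj_mem q hq g)
    rintro _ ⟨b, hb, rfl⟩
    exact this ⟨b, hb, rfl⟩
  obtain ⟨x, hxS, hidx⟩ := exists_fullyNormalized S B hBS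
  set Bf := B.map (MulAut.conj x).toMonoidHom with hBf
  have hQBf : Q ≤ Bf := fun q hq => ⟨x⁻¹ * q * x, le_sup_right (a := closure A) (by
    simpa using ‹Q.Normal›.conj_mem q hq x⁻¹), by simp [mul_assoc]⟩
  have e1 : (fun a => x⁻¹ * a * x⁻¹⁻¹) '' (Bf : Set G) = (B : Set G) := by
    rw [hBf, Subgroup.coe_map, Set.image_image]
    simp [mul_assoc]
  have h1 := key Bf hQBf hxS hidx x⁻¹ (e1 ▸ hBS)
  have h2 := key Bf hQBf hxS hidx (g * x⁻¹) (by
    rw [← image_lconj_mul, e1]; exact hgB)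
  have h3 := h1.symm
  rw [e1, inv_inv] at h3
  have e2 : (fun a => x * a * x⁻¹) '' (B : Set G) = (Bf : Set G) := by
    rw [hBf, Subgroup.coe_map]; rfl
  have h4 := h3.trans (k := g * x⁻¹) (by rw [e2]; exact h2)
  rw [inv_mul_cancel_right] at h4
  exact h4.mono fun a ha => le_sup_left (b := Q) (subset_closure ha)

/-- A Sylow subgroup meets a normal subgroup in one of its Sylow subgroups. -/
theorem not_dvd_relIndex_normal (S : Sylow p G) (N : Subgroup G) [N.Normal] :
    ¬ p ∣ (S : Subgroup G).relIndex N := by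
  intro h
  refine S.not_dvd_index (h.trans ?_)
  refine (dvd_of_eq ?_).trans (relIndex_dvd_index_of_le (le_sup_left : (S : Subgroup G) ≤ (S : Subgroup G) ⊔ N))
  have h1 := Agent.Solv.card_sup_mul_card_inf N (S : Subgroup G) le_normalizer_of_normal
  have h2 := ((S : Subgroup G).subgroupOf ((S : Subgroup G) ⊔ N)).card_mul_index
  rw [Agent.Solv.card_subgroupOf le_sup_left] at h2
  have h3 := (((S : Subgroup G) ⊓ N).subgroupOf N).card_mul_index
  rw [Agent.Solv.card_subgroupOf inf_le_right, show ((((S : Subgroup G) ⊓ N).subgroupOf N).index) =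
    (S : Subgroup G).relIndex N from inf_relIndex_right _ _] at h3
  rw [sup_comm N, inf_comm N, ← h2, ← h3] at h1
  change (S : Subgroup G).relIndex N = ((S : Subgroup G).subgroupOf ((S : Subgroup G) ⊔ N)).index
  have hpos : 0 < Nat.card (S : Subgroup G) * Nat.card ↥((S : Subgroup G) ⊓ N) :=
    Nat.mul_pos Nat.card_pos Nat.card_pos
  refine Nat.eq_of_mul_eq_mul_left hpos ?_
  linarith

/-- The normalizer of a Sylow subgroup of `C(Q) Q`. -/
theorem proper_normalizer (S : Sylow p G) (hO : pPrimeCore p G = ⊥)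
    (hCQ : ¬ centralizer (pCore p G : Set G) ≤ pCore p G) :
    normalizer (((S : Subgroup G) ⊓ (centralizer (pCore p G : Set G) ⊔ pCore p G) : Subgroup G) : Set G) ⊔
        (centralizer (pCore p G : Set G) ⊔ pCore p G) = ⊤ ∧
      (S : Subgroup G) ≤
        normalizer (((S : Subgroup G) ⊓ (centralizer (pCore p G : Set G) ⊔ pCore p G) : Subgroup G) : Set G) ∧
      normalizer (((S : Subgroup G) ⊓ (centralizer (pCore p G : Set G) ⊔ pCore p G) : Subgroup G) : Set G) ≠ ⊤ := by
  haveI := Agent.Solv.pCore_characteristic p G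
  set Q := pCore p G with hQ
  set C := centralizer (Q : Set G) with hC
  -- `N(R)` is proper
  have hQS : Q ≤ (S : Subgroup G) := Agent.Solv.pCore_le_sylow S
  set R₀ := (S : Subgroup G) ⊓ (C ⊔ Q) with hR₀
  have hR₀M : R₀ ≤ C ⊔ Q := inf_le_right
  have hidx : ¬ p ∣ R₀.relIndex (C ⊔ Q) := by
    rw [hR₀, inf_relIndex_right]
    exact not_dvd_relIndex_normal S (C ⊔ Q)
  let P₀ : Sylow p (C ⊔ Q : Subgroup G) :=
    ((S.isPGroup'.to_le (inf_le_left : R₀ ≤ _)).of_equiv (subgroupOfEquivOfLe hR₀M).symm).toSylow hidx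
  have hfr : normalizer (R₀ : Set G) ⊔ (C ⊔ Q) = ⊤ := by
    have h := Sylow.normalizer_sup_eq_top P₀
    rwa [show ((P₀ : Subgroup (C ⊔ Q : Subgroup G))).map (C ⊔ Q).subtype = R₀ from
      map_subgroupOf_eq_of_le hR₀M] at h
  have hSN : (S : Subgroup G) ≤ normalizer (R₀ : Set G) := by
    intro s (hs : s ∈ (S : Subgroup G))
    rw [mem_normalizer_iff]
    intro z
    have hn : (C ⊔ Q).Normal := inferInstance
    refine ⟨fun hz => ⟨(S : Subgroup G).mul_mem ((S : Subgroup G).mul_mem hs hz.1) ((S : Subgroup G).inv_mem hs),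
      hn.conj_mem z hz.2 s⟩, fun hz => ?_⟩
    refine ⟨?_, ?_⟩
    · have := mul_mem (mul_mem (inv_mem hs) hz.1) hs
      refine SetLike.mem_coe.2 ?_
      simpa [mul_assoc] using this
    · simpa [mul_assoc] using hn.conj_mem _ hz.2 s⁻¹
  have hNR : normalizer (R₀ : Set G) ≠ ⊤ := by
    intro h
    haveI : R₀.Normal := normalizer_eq_top_iff.1 h
    have hRQ : R₀ ≤ Q := Agent.Solv.le_pCore (S.isPGroup'.to_le inf_le_left)
    -- a Sylow subgroup of `C` is central in it
    have hSC : (S : Subgroup G) ⊓ C ≤ Q := (le_inf inf_le_left (inf_le_right.trans le_sup_left)).trans hRQ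
    have hidxC : ¬ p ∣ ((S : Subgroup G) ⊓ C).relIndex C := by
      rw [inf_relIndex_right]
      exact not_dvd_relIndex_normal S C
    let PC : Sylow p C := ((S.isPGroup'.to_le (inf_le_left : (S : Subgroup G) ⊓ C ≤ _)).of_equiv
      (subgroupOfEquivOfLe inf_le_right).symm).toSylow hidxC
    have hc : normalizer ((PC : Subgroup C) : Set C) ≤ centralizer ((PC : Subgroup C) : Set C) := by
      intro x _
      rw [mem_centralizer_iff]
      intro z hz
      have hz' : (z : G) ∈ Q := hSC hz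
      exact Subtype.ext (mem_centralizer_iff.1 x.2 (z : G) hz')
    let φ := MonoidHom.transferSylow PC hc
    have hcomp := MonoidHom.ker_transferSylow_isComplement' PC hc
    set K := φ.ker.map C.subtype with hK
    have hKcop : ¬ p ∣ Nat.card φ.ker := by
      rw [← hcomp.index_eq_card]
      exact PC.not_dvd_index
    haveI : φ.ker.Characteristic := by
      constructor
      intro e
      ext x
      have key : ∀ (y : C), orderOf y ∣ Nat.card φ.ker → y ∈ φ.ker := by
        intro y hy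
        refine MonoidHom.mem_ker.2 ?_
        have h1 : orderOf (φ y) ∣ Nat.card φ.ker := (orderOf_map_dvd φ y).trans hy
        obtain ⟨k, hk⟩ := PC.isPGroup'.exists_card_eq
        have h2 : orderOf (φ y) ∣ p ^ k := hk ▸ orderOf_dvd_natCard _
        exact orderOf_eq_one_iff.1 (Nat.eq_one_of_dvd_coprimes
          (((Nat.Prime.coprime_iff_not_dvd Fact.out).2 hKcop).pow_left k).symm h1 h2)
      constructor
      · intro hx
        have h1 : e x ∈ φ.ker := hx
        refine key x ?_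
        rw [← e.orderOf_eq x]
        exact (φ.ker.orderOf_coe ⟨e x, h1⟩) ▸ orderOf_dvd_natCard _
      · intro hx
        refine key (e x) ?_
        rw [e.orderOf_eq x]
        exact (φ.ker.orderOf_coe ⟨x, hx⟩) ▸ orderOf_dvd_natCard _
    haveI : K.Normal := inferInstance
    have hKbot : K = ⊥ := le_bot_iff.1 (hO ▸ Agent.Solv.le_pPrimeCore (p := p) (N := K) (by
      rw [hK, card_map_of_injective C.subtype_injective]
      exact ((Nat.Prime.coprime_iff_not_dvd Fact.out).2 hKcop).symm))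
    refine hCQ fun x hx => ?_
    have hker : φ.ker = ⊥ := (map_eq_bot_iff_of_injective _ C.subtype_injective).1 hKbot
    have hPC : (PC : Subgroup C) = ⊤ := by
      refine eq_top_of_card_eq _ ?_
      have := hcomp.card_mul
      rw [hker, card_bot, one_mul] at this
      exact this
    exact hSC (hPC.ge (mem_top (⟨x, hx⟩ : C)))
  exact ⟨hfr, hSN, hNR⟩

/-- The reduction theorem. -/
theorem ctrl_of_hyp (h𝓦 : IsFam p 𝓦) : ∀ (G : Type u) [Group G] [Finite G], Hyp p G 𝓦 → Ctrl p G 𝓦 := by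
  suffices ∀ (n : ℕ) (G : Type u) [Group G] [Finite G], Nat.card G ≤ n → Hyp p G 𝓦 → Ctrl p G 𝓦 from
    fun G _ _ => this (Nat.card G) G le_rfl
  intro n
  induction n with
  | zero =>
    intro G _ _ hn
    exact absurd (Nat.card_pos (α := G)) (by omega)
  | succ n ih =>
    intro G _ _ hn hyp S
    have hind : ∀ H : Subgroup G, H ≠ ⊤ → Ctrl p H 𝓦 := fun H hH => by
      refine ih H ?_ (hyp.of_sec (Sec.subgroup H))
      have h1 := card_le_card_group H
      have h2 : Nat.card H ≠ Nat.card G := fun e => hH (eq_top_of_card_eq H e)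
      omega
    have hquot : ∀ (N : Subgroup G) [N.Normal], N ≠ ⊥ → Ctrl p (G ⧸ N) 𝓦 := fun N _ hN => by
      refine ih (G ⧸ N) ?_ (hyp.of_sec (Sec.of_surjective _ (QuotientGroup.mk'_surjective N)))
      have h1 := card_eq_card_quotient_mul_card_subgroup N
      have h2 := N.one_lt_card_iff_ne_bot.2 hN
      have h3 : Nat.card (G ⧸ N) < Nat.card G := by
        rw [h1]; exact (lt_mul_iff_one_lt_right Nat.card_pos).2 h2
      omega
    haveI := Agent.Solv.pPrimeCore_characteristic p G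
    haveI := Agent.Solv.pCore_characteristic p G
    by_cases hO : pPrimeCore p G = ⊥
    swap
    · exact ctrlAt_of_pPrime h𝓦 S _ (Agent.Solv.card_pPrimeCore_coprime p G) (hquot _ hO)
    set Q := pCore p G with hQ
    by_cases hQ0 : Q = ⊥
    · -- all local subgroups are proper
      intro A g hA hg
      have hD : closure A ≤ (S : Subgroup G) := (closure_le _).2 hA
      have hgD : ∀ d ∈ closure A, g * d * g⁻¹ ∈ (S : Subgroup G) := fun d hd => by
        have : closure A ≤ (S : Subgroup G).comap (MulAut.conj g).toMonoidHom :=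
          (closure_le _).2 fun a ha => hg ⟨a, ha, rfl⟩
        exact this hd
      refine (reach_of_family S (ind G 𝓦) (isConjugacyFunctor_ind h𝓦)
        (fun T => ¬ p ∣ ((S : Subgroup G) ⊓ normalizer (T : Set G)).relIndex (normalizer (T : Set G)))
        (fun T hT hT0 => ?_) (fun T hT hT0 _ => ?_) _ hD g hgD).mono subset_closure
      · obtain ⟨g, h1, h2⟩ := exists_conj_sylow_of S
          (U := (S : Subgroup G) ⊓ normalizer (T : Set G))
          (H := normalizer (T : Set G)) inf_le_right (S.isPGroup'.to_le inf_le_left)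
        rw [map_conj_normalizer] at h2
        exact ⟨g, h1, h2, h2⟩
      · have hne : normalizer (T : Set G) ≠ ⊤ := fun h => hT0 (le_bot_iff.1 (by
          rw [← hQ0, hQ]
          exact Agent.Solv.le_pCore (hN := normalizer_eq_top_iff.1 h) (S.isPGroup'.to_le hT)))
        obtain ⟨P⟩ := (inferInstance : Nonempty (Sylow p (normalizer (T : Set G))))
        have hP := hind _ hne P
        refine ⟨(P : Subgroup (normalizer (T : Set G))).map (normalizer (T : Set G)).subtype,
          map_subtype_le _, P.isPGroup'.map _, ?_, fun A h hh hA hAh => ?_⟩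
        · rw [relIndex, subgroupOf, comap_map_eq_self_of_injective (subtype_injective _)]
          exact P.not_dvd_index
        · let N := normalizer (T : Set G)
          have hAN : A ⊆ Set.range N.subtype := fun a ha => by
            obtain ⟨b, -, rfl⟩ := hA ha; exact ⟨b, rfl⟩
          obtain ⟨n, c, hc0, hcW, hcP, hcl⟩ := (hP (N.subtype ⁻¹' A) ⟨h, hh⟩ (fun a ha => by
            obtain ⟨b, hb, hbe⟩ := hA ha
            rwa [N.subtype_injective hbe] at hb) (by
            rintro _ ⟨a, ha, rfl⟩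
            obtain ⟨b, hb, hbe⟩ := hAh ⟨(a : G), ha, rfl⟩
            rwa [N.subtype_injective (a₁ := b) (a₂ := ⟨h, hh⟩ * a * (⟨h, hh⟩ : N)⁻¹) hbe] at hb)).exists_chain
          refine ⟨n, fun i => (c i : G), congrArg Subtype.val hc0, fun i => ?_, fun i => ?_, fun a ha => ?_⟩
          · obtain ⟨W, ⟨W₀, hW₀, rfl⟩, hy⟩ := hcW i
            refine ⟨_, ⟨W₀, hW₀, rfl⟩, ((c i.succ * (c i.castSucc)⁻¹ : N)).2, ?_⟩
            show _ ∈ normalizer ((inducedFunctor W₀ _ : Subgroup G) : Set G)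
            rw [inducedFunctor_map (h𝓦 W₀ hW₀) N.subtype _ P.isPGroup'
              fun x _ hx => N.subtype_injective (hx.trans (map_one _).symm)]
            exact le_normalizer_map _ ⟨_, hy.2, rfl⟩
          · rintro _ ⟨a, ha, rfl⟩
            obtain ⟨b, rfl⟩ := hAN ha
            exact ⟨_, hcP i ⟨b, ha, rfl⟩, rfl⟩
          · obtain ⟨b, rfl⟩ := hAN ha
            exact congrArg Subtype.val (hcl b ha)
    set C := centralizer (Q : Set G) with hC
    by_cases hCQ : C ≤ Q
    · exact hyp G Sec.refl hCQ S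
    -- `N(R)` is proper
    have hQS : Q ≤ (S : Subgroup G) := Agent.Solv.pCore_le_sylow S
    by_cases htop : C ⊔ (S : Subgroup G) = ⊤
    · exact ctrlAt_of_pCore h𝓦 hyp S Q rfl htop hind (hquot Q hQ0)
    obtain ⟨hfr, hSN, hNR⟩ := proper_normalizer S hO hCQ
    intro A g hA hg
    obtain ⟨nn, hnn, m, hm, rfl⟩ := mem_sup_of_normal_right.1 (hfr.ge (mem_top g))
    let H := C ⊔ (S : Subgroup G)
    have hmH : m ∈ H := sup_le_sup_left hQS C hm
    obtain ⟨x, hx, hxA⟩ := exists_split S hSN (le_sup_right : (S : Subgroup G) ≤ H) hnn hmH hA hg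
    have h1 := reach_of_subgroup h𝓦 S (le_sup_right : (S : Subgroup G) ≤ H) (hind H htop)
      (mul_mem hx.2 hmH) hA hxA
    have h2 := reach_of_subgroup h𝓦 S hSN (hind _ hNR) (g := nn * x⁻¹) (mul_mem hnn (inv_mem hx.1))
      h1.image_subset (by
        rw [image_lconj_mul, show nn * x⁻¹ * (x * m) = nn * m by group]
        exact hg)
    have h3 := h1.trans h2
    rwa [show nn * x⁻¹ * (x * m) = nn * m by group] at h3

theorem ctrl_of_equiv (h𝓦 : IsFam p 𝓦) {X Y : Type u} [Group X] [Finite X] [Group Y] [Finite Y] (e : X ≃* Y)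
    (h : Ctrl p X 𝓦) : Ctrl p Y 𝓦 := by
  intro S A g hA hg
  let S' : Sylow p X := S.mapSurjective (f := e.symm.toMonoidHom) e.symm.surjective
  have hback : ((S' : Subgroup X)).map e.toMonoidHom = (S : Subgroup Y) := by
    show ((S : Subgroup Y).map e.symm.toMonoidHom).map e.toMonoidHom = _
    rw [map_map]
    convert map_id (S : Subgroup Y)
    ext; simp
  have h' := reach_map h𝓦 e.toMonoidHom e.injective S'.isPGroup'
    (h S' (e.symm '' A) (e.symm g) (by rintro _ ⟨a, ha, rfl⟩; exact ⟨a, hA ha, rfl⟩) (by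
      rintro _ ⟨_, ⟨a, ha, rfl⟩, rfl⟩
      exact ⟨g * a * g⁻¹, hg ⟨a, ha, rfl⟩, by simp⟩))
  rw [hback, Set.image_image] at h'
  simpa using h'

omit [Finite G] [Fact p.Prime] in
theorem centralizer_pCore_le_of_equiv {X Y : Type u} [Group X] [Group Y] (e : X ≃* Y)
    (h : centralizer (pCore p X : Set X) ≤ pCore p X) : centralizer (pCore p Y : Set Y) ≤ pCore p Y := by
  rw [← Agent.Solv.pCore_map_equiv p e]
  intro y hy
  refine ⟨e.symm y, h (mem_centralizer_iff.2 fun z hz => e.injective ?_), by simp⟩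
  have := mem_centralizer_iff.1 hy (e z) ⟨z, hz, rfl⟩
  simpa using this

/-- Sections given by subgroup pairs. -/
theorem hyp_of_sections (h𝓦 : IsFam p 𝓦)
    (h : ∀ (K R : Subgroup G) [hR : (R.subgroupOf K).Normal],
      centralizer (pCore p (K ⧸ R.subgroupOf K) : Set (K ⧸ R.subgroupOf K)) ≤ pCore p (K ⧸ R.subgroupOf K) →
        Ctrl p (K ⧸ R.subgroupOf K) 𝓦) : Hyp p G 𝓦 := by
  rintro X _ _ ⟨K, f, hf⟩ hX
  have hker : (f.ker.map K.subtype).subgroupOf K = f.ker :=
    comap_map_eq_self_of_injective K.subtype_injective _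
  haveI : ((f.ker.map K.subtype).subgroupOf K).Normal := by rw [hker]; infer_instance
  let e : K ⧸ (f.ker.map K.subtype).subgroupOf K ≃* X :=
    (QuotientGroup.quotientMulEquivOfEq hker).trans (QuotientGroup.quotientKerEquivOfSurjective f hf)
  exact ctrl_of_equiv h𝓦 e (h K _ (centralizer_pCore_le_of_equiv e.symm hX))

/-- A single functor. -/
theorem ctrlAt_of_normal (h𝓦 : IsFam p 𝓦) {W : ∀ (Q : Type u) [Group Q], Subgroup Q} (hW : W ∈ 𝓦)
    (S : Sylow p G) (hn : (inducedFunctor (G := G) W (S : Subgroup G)).Normal) : CtrlAt p G 𝓦 S := by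
  intro A g hA hg
  refine Reach.single ⟨W, hW, rfl⟩ ?_ hA hg
  rw [normalizer_eq_top_iff.2 hn]
  trivial

theorem controlsStrongFusion_of_ctrlAt {W : ∀ (Q : Type u) [Group Q], Subgroup Q} (S : Sylow p G)
    (h : CtrlAt p G {W} S) : ControlsStrongFusion p (inducedFunctor (G := G) W (S : Subgroup G)) := by
  refine ⟨S, map_subtype_le _, fun A hA => ⟨hA, fun g hg => ?_⟩⟩
  have h' := h A g hA hg
  rw [ind, Set.image_singleton] at h'
  obtain ⟨x, hx, he⟩ := h'.exists_single
  exact ⟨x, hx, fun a ha => (he a ha).symm⟩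

end Cfsg.Agent.Local.FusionRed
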