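import Cfsg.Prelude.Def_CaseTheorems
import Mathlib.GroupTheory.PGroup
import Mathlib.GroupTheory.Sylow
import Cfsg.Agent.Lib.Solv.SchurZassenhaus

/-!
Elementary facts about `p`-groups for odd `p`: involutions acting on them, a fixed-point lemma,
normal elementary subgroups of order `p²`, and cyclicity when there is a unique subgroup of order `p`.
-/

set_option autoImplicit false
set_option linter.style.haveILetI false

namespace Cfsg.Agent.Local

open Subgroup
open Cfsg.Agent.Solv (le_normalizer_of_conj_mem)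
open scoped commutatorElement Pointwise

variable {G : Type*} [Group G] {p : ℕ}

theorem eq_one_of_sq_of_isPGroup [Fact p.Prime] (hp : p ≠ 2) {P : Subgroup G} (hP : IsPGroup p P)
    {g : G} (hg : g ∈ P) (h : g * g = 1) : g = 1 := by
  obtain ⟨k, hk⟩ := hP ⟨g, hg⟩
  have hk' : g ^ (p ^ k) = 1 := by simpa using congrArg Subtype.val hk
  obtain ⟨m, hm⟩ := ((Fact.out : p.Prime).odd_of_ne_two hp).pow (n := k)
  rw [hm, pow_succ, pow_mul, pow_two, h, one_pow, one_mul] at hk'
  exact hk'

/-- Square roots in a `p`-group, `p` odd, as powers. -/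
theorem exists_sq_eq_of_isPGroup [Fact p.Prime] (hp : p ≠ 2) {P : Subgroup G} (hP : IsPGroup p P)
    {g : G} (hg : g ∈ P) : ∃ n : ℕ, g ^ n * g ^ n = g := by
  obtain ⟨k, hk⟩ := hP ⟨g, hg⟩
  have hk' : g ^ (p ^ k) = 1 := by simpa using congrArg Subtype.val hk
  obtain ⟨m, hm⟩ := ((Fact.out : p.Prime).odd_of_ne_two hp).pow (n := k)
  refine ⟨m + 1, ?_⟩
  rw [← pow_add, show m + 1 + (m + 1) = p ^ k + 1 by omega, pow_succ, hk', one_mul]

/-- The coset `q U` of a `t`-stable coset meets the centralizer of the involution `t`. -/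
theorem exists_mul_commute_of_involution [Fact p.Prime] (hp : p ≠ 2) {U : Subgroup G}
    (hU : IsPGroup p U) {t q : G} (ht : t * t = 1) (h : q⁻¹ * (t * q * t) ∈ U) :
    ∃ u ∈ U, t * (q * u) = (q * u) * t := by
  set a := q⁻¹ * (t * q * t) with ha
  have hta : t * a * t = a⁻¹ := by
    have htinv : t⁻¹ = t := inv_eq_of_mul_eq_one_right ht
    rw [ha]
    simp only [mul_inv_rev, inv_inv, htinv, mul_assoc, ht, mul_one]
  obtain ⟨n, hn⟩ := exists_sq_eq_of_isPGroup hp hU h
  refine ⟨a ^ n, pow_mem h n, ?_⟩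
  have h1 : t * a ^ n * t = (a ^ n)⁻¹ := by
    have : t * a ^ n * t⁻¹ = (t * a * t⁻¹) ^ n := (conj_pow ..).symm
    rw [inv_eq_of_mul_eq_one_right ht, hta, inv_pow] at this
    exact this
  have h2 : t * (q * a ^ n) * t = q * a ^ n := by
    calc t * (q * a ^ n) * t = (t * q) * (t * t) * (a ^ n * t) := by rw [ht]; group
      _ = (t * q * t) * (t * a ^ n * t) := by group
      _ = (q * a) * (a ^ n)⁻¹ := by rw [h1, ha]; group
      _ = q * (a ^ n * a ^ n) * (a ^ n)⁻¹ := by rw [hn]
      _ = q * a ^ n := by group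
  calc t * (q * a ^ n) = t * (q * a ^ n) * (t * t) := by rw [ht, mul_one]
    _ = (t * (q * a ^ n) * t) * t := by group
    _ = q * a ^ n * t := by rw [h2]

/-- The element `e⁻¹ (t e t)` is inverted by the involution `t`. -/
theorem involution_inverts {t : G} (ht : t * t = 1) (e : G) :
    t * (e⁻¹ * (t * e * t)) * t = (e⁻¹ * (t * e * t))⁻¹ := by
  have htinv : t⁻¹ = t := inv_eq_of_mul_eq_one_right ht
  simp only [mul_inv_rev, inv_inv, htinv, mul_assoc, ht, mul_one]

/-- An involution fixing all elements of order `p` of a `p`-group fixes it pointwise. -/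
theorem involution_centralizes [Fact p.Prime] (hp : p ≠ 2) {P : Subgroup G} (hP : IsPGroup p P)
    {t : G} (ht : t * t = 1) (htP : ∀ x ∈ P, t * x * t ∈ P)
    (h : ∀ x ∈ P, x ^ p = 1 → t * x * t = x) : ∀ x ∈ P, t * x * t = x := by
  intro x hx
  set g := x⁻¹ * (t * x * t) with hg
  have hgP : g ∈ P := P.mul_mem (P.inv_mem hx) (htP x hx)
  have hgi := involution_inverts ht x
  rw [← hg] at hgi
  suffices g = 1 by rw [hg, inv_mul_eq_one] at this; exact this.symm
  by_contra hne
  obtain ⟨k, hk⟩ := hP ⟨g, hgP⟩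
  have hk' : g ^ (p ^ k) = 1 := by simpa using congrArg Subtype.val hk
  obtain ⟨m, hm⟩ : ∃ m, g ^ (p ^ m) ≠ 1 ∧ g ^ (p ^ (m + 1)) = 1 := by
    by_contra hcon
    push Not at hcon
    have : ∀ m, g ^ (p ^ m) ≠ 1 := fun m => by
      induction m with
      | zero => simpa using hne
      | succ m ih => exact hcon m ih
    exact this k hk'
  set y := g ^ (p ^ m) with hy
  have hyP : y ∈ P := pow_mem hgP _
  have hyp : y ^ p = 1 := by rw [hy, ← pow_mul, ← pow_succ]; exact hm.2
  have h1 := h y hyP hyp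
  have h2 : t * y * t = y⁻¹ := by
    have : t * y * t⁻¹ = (t * g * t⁻¹) ^ (p ^ m) := (conj_pow ..).symm
    rw [inv_eq_of_mul_eq_one_right ht, hgi, inv_pow] at this
    exact this
  rw [h1] at h2
  exact hm.1 (eq_one_of_sq_of_isPGroup hp hP hyP (by nth_rewrite 2 [h2]; rw [mul_inv_cancel]))

/-- Powers in a class two situation. -/
theorem mul_pow_of_commutator {a b c : G} (hc : b * a = a * b * c) (hca : c * a = a * c)
    (hcb : c * b = b * c) (n : ℕ) : (a * b) ^ n = a ^ n * b ^ n * c ^ (n.choose 2) := by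
  have hpow : ∀ k : ℕ, b ^ k * a = a * b ^ k * c ^ k := by
    intro k
    induction k with
    | zero => simp
    | succ k ih =>
      have e : b * c ^ k = c ^ k * b := ((Commute.pow_left hcb k).eq).symm
      calc b ^ (k + 1) * a = b ^ k * (b * a) := by rw [pow_succ, mul_assoc]
        _ = b ^ k * a * b * c := by rw [hc]; group
        _ = a * b ^ k * (c ^ k * b) * c := by rw [ih]; group
        _ = a * b ^ (k + 1) * c ^ (k + 1) := by rw [← e, pow_succ, pow_succ]; group
  induction n with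
  | zero => simp
  | succ n ih =>
    have e1 : c ^ (n.choose 2) * a = a * c ^ (n.choose 2) := (Commute.pow_left hca _).eq
    have e2 : ∀ k : ℕ, c ^ k * b = b * c ^ k := fun k => (Commute.pow_left hcb k).eq
    rw [Nat.choose_succ_succ n 1, Nat.choose_one_right]
    calc (a * b) ^ (n + 1) = (a * b) ^ n * (a * b) := pow_succ _ _
      _ = a ^ n * b ^ n * (c ^ (n.choose 2) * a) * b := by rw [ih]; group
      _ = a ^ n * (b ^ n * a) * (c ^ (n.choose 2) * b) := by rw [e1]; group
      _ = a ^ n * (a * b ^ n * c ^ n) * (b * c ^ (n.choose 2)) := by rw [hpow, e2]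
      _ = a ^ n * a * b ^ n * (c ^ n * b) * c ^ (n.choose 2) := by group
      _ = a ^ (n + 1) * b ^ (n + 1) * c ^ (n + n.choose 2) := by
        rw [e2, pow_succ, pow_succ, pow_add]; group

variable [Finite G]

/-- A `p`-group `N` normalizing `K > Z`, with `Z` normalized by both, fixes an element of `K ∖ Z`
modulo `Z`. -/
theorem exists_fixed_mod [Fact p.Prime] {N K Z : Subgroup G} (hN : IsPGroup p N) (hK : IsPGroup p K)
    (_hZK : Z ≤ K) (hne : ∃ k ∈ K, k ∉ Z) (hNK : N ≤ normalizer (K : Set G))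
    (hNZ : N ≤ normalizer (Z : Set G)) :
    ∃ k ∈ K, k ∉ Z ∧ ∀ n ∈ N, k⁻¹ * (n * k * n⁻¹) ∈ Z := by
  classical
  letI act : MulAction N (K ⧸ Z.subgroupOf K) :=
    { smul := fun n => Quotient.map' (fun k => ⟨(n : G) * k * (n : G)⁻¹,
          (mem_normalizer_iff.mp (hNK n.2) _).mp k.2⟩) (fun a b hab => by
            rw [QuotientGroup.leftRel_apply] at hab ⊢
            have := (mem_normalizer_iff.mp (hNZ n.2) _).mp hab
            rw [mem_subgroupOf]
            simpa [mul_assoc] using this)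
      one_smul := fun q => by
        induction q using QuotientGroup.induction_on with
        | _ k =>
          apply congrArg QuotientGroup.mk
          ext; simp
      mul_smul := fun m n q => by
        induction q using QuotientGroup.induction_on with
        | _ k =>
          apply congrArg QuotientGroup.mk
          ext; simp [mul_assoc] }
  have hdvd : p ∣ Nat.card (K ⧸ Z.subgroupOf K) := by
    rw [← Subgroup.index_eq_card]
    obtain ⟨e, he⟩ := hK.index (Z.subgroupOf K)
    rw [he]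
    refine dvd_pow_self p fun h0 => ?_
    rw [h0, pow_zero, index_eq_one, subgroupOf_eq_top] at he
    obtain ⟨k, hk, hkZ⟩ := hne
    exact hkZ (he hk)
  obtain ⟨b, hb, hba⟩ := hN.exists_fixed_point_of_prime_dvd_card_of_fixed_point
    (K ⧸ Z.subgroupOf K) hdvd (a := ((1 : K) : K ⧸ Z.subgroupOf K)) (fun n => by
      apply congrArg QuotientGroup.mk
      ext; simp)
  induction b using QuotientGroup.induction_on with
  | _ k =>
    refine ⟨k, k.2, fun hk => hba ?_, fun n hn => ?_⟩
    · rw [eq_comm, QuotientGroup.eq, mem_subgroupOf]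
      simpa using inv_mem hk
    · have := QuotientGroup.eq.mp ((hb ⟨n, hn⟩).symm)
      rw [mem_subgroupOf] at this
      simpa using this

/-- The elements of exponent `p` of `L` central modulo the central subgroup `Z` of exponent `p`. -/
def expCentralMod (L Z : Subgroup G) (p : ℕ) : Set G :=
  {k | k ∈ L ∧ k ^ p = 1 ∧ ∀ g ∈ L, k⁻¹ * (g * k * g⁻¹) ∈ Z}

omit [Finite G] in
/-- `expCentralMod` is a subgroup (for odd `p`). -/
theorem exists_expCentralMod [Fact p.Prime] (hp : p ≠ 2) {L Z : Subgroup G} (_hZL : Z ≤ L)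
    (hZc : ∀ z ∈ Z, ∀ g ∈ L, z * g = g * z) (hZp : ∀ z ∈ Z, z ^ p = 1) :
    ∃ K : Subgroup G, (K : Set G) = expCentralMod L Z p := by
  have hone : (1 : G) ∈ expCentralMod L Z p := ⟨L.one_mem, one_pow _, fun g _ => by simp⟩
  have hmul : ∀ a b, a ∈ expCentralMod L Z p → b ∈ expCentralMod L Z p →
      a * b ∈ expCentralMod L Z p := by
    rintro a b ⟨ha, hap, hac⟩ ⟨hb, hbp, hbc⟩
    refine ⟨L.mul_mem ha hb, ?_, fun g hg => ?_⟩
    · set c := (a * b)⁻¹ * (b * a) with hcdef
      have hcZ : c ∈ Z := by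
        have h1 := hac b hb
        have e : c = b⁻¹ * (a⁻¹ * (b * a * b⁻¹)) * b := by rw [hcdef]; group
        rw [e, mul_assoc, hZc _ h1 b hb, ← mul_assoc, inv_mul_cancel, one_mul]
        exact h1
      rw [mul_pow_of_commutator (c := c) (by rw [hcdef]; group) (hZc c hcZ a ha) (hZc c hcZ b hb),
        hap, hbp, one_mul, one_mul]
      obtain ⟨m, hm⟩ : p ∣ p.choose 2 := (Fact.out : p.Prime).dvd_choose_self two_ne_zero
        (lt_of_le_of_ne (Fact.out : p.Prime).two_le (Ne.symm hp))
      rw [hm, pow_mul, hZp c hcZ, one_pow]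
    · have h1 := hac g hg
      have h2 := hbc g hg
      have e : (a * b)⁻¹ * (g * (a * b) * g⁻¹) =
          b⁻¹ * (a⁻¹ * (g * a * g⁻¹)) * (b * (b⁻¹ * (g * b * g⁻¹))) := by group
      rw [e, mul_assoc b⁻¹ _ _, ← mul_assoc _ b, hZc _ h1 b hb, mul_assoc b, inv_mul_cancel_left]
      exact Z.mul_mem h1 h2
  refine ⟨⟨⟨⟨expCentralMod L Z p, fun {a b} => hmul a b⟩, hone⟩, fun {a} ha => ?_⟩, rfl⟩
  have hpow : ∀ n : ℕ, a ^ n ∈ expCentralMod L Z p := by
    intro n
    induction n with
    | zero => simpa using hone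
    | succ n ih => rw [pow_succ]; exact hmul _ _ ih ha
  have hinv : a⁻¹ = a ^ (p - 1) := by
    apply inv_eq_of_mul_eq_one_right
    rw [← pow_succ', Nat.sub_add_cancel (Fact.out : p.Prime).one_le]
    exact ha.2.1
  change a⁻¹ ∈ expCentralMod L Z p
  rw [hinv]
  exact hpow _

/-- A `p`-group with an element of order `p` outside the central subgroup `Z` of exponent `p` has
such an element that is central modulo `Z`. -/
theorem exists_exp_central_mod [Fact p.Prime] (hp : p ≠ 2) {E Z : Subgroup G} (hE : IsPGroup p E)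
    (hZE : Z ≤ E) (hZc : ∀ z ∈ Z, ∀ g ∈ E, z * g = g * z) (hZp : ∀ z ∈ Z, z ^ p = 1)
    {c : G} (hc : c ∈ E) (hcp : c ^ p = 1) (hcZ : c ∉ Z) :
    ∃ w ∈ E, w ^ p = 1 ∧ w ∉ Z ∧ ∀ g ∈ E, w⁻¹ * (g * w * g⁻¹) ∈ Z := by
  let Ls : Set (Subgroup G) := {L | L ≤ E ∧ Z ≤ L ∧ ∃ w ∈ L, w ∈ expCentralMod L Z p ∧ w ∉ Z}
  have hne : Ls.Nonempty := by
    have hle : Z ⊔ zpowers c ≤ E := sup_le hZE (by simpa using hc)
    refine ⟨Z ⊔ zpowers c, hle, le_sup_left, c, mem_sup_right (mem_zpowers c),
      ⟨mem_sup_right (mem_zpowers c), hcp, ?_⟩, hcZ⟩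
    intro g hg
    have hcc : g ∈ centralizer ({c} : Set G) := by
      refine (sup_le (a := Z) (b := zpowers c) ?_ ?_) hg
      · intro z hz; rw [mem_centralizer_singleton_iff]; exact hZc z hz c hc
      · rw [zpowers_le, mem_centralizer_singleton_iff]
    rw [mem_centralizer_singleton_iff] at hcc
    rw [hcc]
    simp [Z.one_mem]
  obtain ⟨L, ⟨hLE, hZL, w, hw, hwK, hwZ⟩, hmax⟩ := (Set.toFinite Ls).exists_maximal hne
  suffices hLtop : E ≤ L from ⟨w, hLE hw, hwK.2.1, hwZ, fun g hg => hwK.2.2 g (hLtop hg)⟩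
  by_contra hlt
  obtain ⟨K, hK⟩ := exists_expCentralMod hp hZL (fun z hz g hg => hZc z hz g (hLE hg)) hZp
  have hKmem : ∀ k, k ∈ K ↔ k ∈ expCentralMod L Z p := fun k => by rw [← hK]; rfl
  set N := E ⊓ normalizer (L : Set G) with hN
  have hLN : ¬ N ≤ L := by
    intro hNL
    haveI := hE.isNilpotent
    have hlt' : L.subgroupOf E < ⊤ := lt_top_iff_ne_top.2 fun h => hlt (subgroupOf_eq_top.1 h)
    obtain ⟨v, hv, hvn⟩ := SetLike.exists_of_lt (Group.normalizerCondition_of_isNilpotent _ hlt')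
    refine hvn (hNL ⟨v.2, ?_⟩)
    change (v : G) ∈ normalizer (L : Set G)
    rw [mem_normalizer_iff] at hv ⊢
    intro x
    constructor
    · intro hx
      exact (hv ⟨x, hLE hx⟩).1 hx
    · intro hx
      have hxE : x ∈ E := by
        have := E.mul_mem (E.mul_mem (E.inv_mem v.2) (hLE hx)) v.2
        simpa [mul_assoc] using this
      exact (hv ⟨x, hxE⟩).2 hx
  have hNE : N ≤ E := inf_le_left
  have hZN : Z ≤ N := le_inf hZE (hZL.trans le_normalizer)
  have hNK : N ≤ normalizer (K : Set G) := by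
    refine le_normalizer_of_conj_mem fun n hn k hk => ?_
    rw [hKmem] at hk ⊢
    have hnL := fun x (hx : x ∈ L) => (mem_normalizer_iff.mp hn.2 x).mp hx
    refine ⟨hnL k hk.1, by rw [conj_pow, hk.2.1, mul_one, mul_inv_cancel], fun g hg => ?_⟩
    have hg' : n⁻¹ * g * n ∈ L := by
      rw [mem_normalizer_iff.mp hn.2]
      simpa [mul_assoc] using hg
    have hz := hk.2.2 _ hg'
    have e : (n * k * n⁻¹)⁻¹ * (g * (n * k * n⁻¹) * g⁻¹) =
        n * (k⁻¹ * ((n⁻¹ * g * n) * k * (n⁻¹ * g * n)⁻¹)) * n⁻¹ := by group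
    rw [e, ← hZc _ hz n (hNE hn), mul_inv_cancel_right]
    exact hz
  have hNZ : N ≤ normalizer (Z : Set G) := by
    refine le_normalizer_of_conj_mem fun n hn z hz => ?_
    rw [← hZc z hz n (hNE hn), mul_inv_cancel_right]
    exact hz
  have hZK : Z ≤ K := fun z hz => (hKmem z).2 ⟨hZL hz, hZp z hz, fun g hg => by
    rw [← hZc z hz g (hLE hg), mul_inv_cancel_right, inv_mul_cancel]; exact Z.one_mem⟩
  obtain ⟨k, hk, hkZ, hkfix⟩ := exists_fixed_mod (hE.to_le hNE)
    (hE.to_le fun x hx => hLE ((hKmem x).1 hx).1) hZK ⟨w, (hKmem w).2 hwK, hwZ⟩ hNK hNZ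
  have hkK := (hKmem k).1 hk
  have hLN' : L ≤ N := le_inf hLE le_normalizer
  exact hLN (hmax ⟨hNE, hZN, k, hLN' hkK.1, ⟨hLN' hkK.1, hkK.2.1, hkfix⟩, hkZ⟩ hLN')

/-- For odd `p`, a `p`-group whose elements of order `p` lie in one subgroup of order `p` is
cyclic. -/
theorem isCyclic_of_unique_order [Fact p.Prime] (hp : p ≠ 2) {z : G} (hzp : z ^ p = 1)
    (P : Subgroup G) (hP : IsPGroup p P)
    (h : ∀ x ∈ P, x ^ p = 1 → x ∈ zpowers z) : ∃ g ∈ P, P = zpowers g := by
  classical
  suffices key : ∀ (n : ℕ) (P : Subgroup G), Nat.card P ≤ n → IsPGroup p P →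
      (∀ x ∈ P, x ^ p = 1 → x ∈ zpowers z) → ∃ g ∈ P, P = zpowers g from
    key _ P le_rfl hP h
  intro n
  induction n with
  | zero => intro P hc _ _; exact absurd hc (not_le.2 Nat.card_pos)
  | succ n ih =>
    intro P hc hP h
    by_cases hPb : P = ⊥
    · exact ⟨1, P.one_mem, by rw [hPb, zpowers_one_eq_bot]⟩
    let Ms : Set (Subgroup G) := {L | L < P}
    obtain ⟨L, hLP, hLmax⟩ := (Set.toFinite Ms).exists_maximal ⟨⊥, bot_lt_iff_ne_bot.2 hPb⟩
    have hLP : L < P := hLP
    have hlt : ∀ M : Subgroup G, M < P → Nat.card M ≤ n := fun M hM => by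
      have h1 := card_le_of_le hM.le
      have h2 : Nat.card M ≠ Nat.card P := fun e => hM.ne (eq_of_le_of_card_ge hM.le e.ge)
      omega
    obtain ⟨a, haL, hLa⟩ := ih L (hlt L hLP) (hP.to_le hLP.le) fun x hx => h x (hLP.le hx)
    have hLn : ∀ g ∈ P, ∀ x ∈ L, g * x * g⁻¹ ∈ L := by
      haveI := hP.isNilpotent
      have hlt' : L.subgroupOf P < ⊤ := lt_top_iff_ne_top.2 fun h => hLP.not_ge (subgroupOf_eq_top.1 h)
      obtain ⟨v, hv, hvn⟩ := SetLike.exists_of_lt (Group.normalizerCondition_of_isNilpotent _ hlt')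
      set M := P ⊓ normalizer (L : Set G) with hM
      have hMP : M = P := by
        by_contra hne
        refine hvn (hLmax (lt_of_le_of_ne inf_le_left hne) (le_inf hLP.le le_normalizer) ⟨v.2, ?_⟩)
        change (v : G) ∈ normalizer (L : Set G)
        rw [mem_normalizer_iff] at hv ⊢
        intro x
        constructor
        · intro hx
          exact (hv ⟨x, hLP.le hx⟩).1 hx
        · intro hx
          have hxE : x ∈ P := by
            have := P.mul_mem (P.mul_mem (P.inv_mem v.2) (hLP.le hx)) v.2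
            simpa [mul_assoc] using this
          exact (hv ⟨x, hxE⟩).2 hx
      intro g hg x hx
      exact (mem_normalizer_iff.mp (hMP.ge hg).2 x).mp hx
    -- an element of `P` outside `L` whose `p`th power lies in `L`
    obtain ⟨g, hgP, hgL, hgp⟩ : ∃ g ∈ P, g ∉ L ∧ g ^ p ∈ L := by
      obtain ⟨g, hg, hgL⟩ := SetLike.exists_of_lt hLP
      obtain ⟨k, hk⟩ := hP ⟨g, hg⟩
      have hk' : g ^ (p ^ k) = 1 := by simpa using congrArg Subtype.val hk
      by_contra hcon
      push Not at hcon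
      have : ∀ m, g ^ (p ^ m) ∉ L := fun m => by
        induction m with
        | zero => simpa using hgL
        | succ m ihm => rw [pow_succ, pow_mul]; exact hcon _ (P.pow_mem hg _) ihm
      exact this k (hk' ▸ L.one_mem)
    have hjoin : L ⊔ zpowers g = P := by
      by_contra hne
      have hlt2 : L ⊔ zpowers g < P := lt_of_le_of_ne (sup_le hLP.le (by simpa using hgP)) hne
      exact hgL (hLmax hlt2 le_sup_left (mem_sup_right (mem_zpowers g)))
    obtain ⟨i, hi⟩ : ∃ i : ℕ, a ^ i = g ^ p := by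
      have := hgp; rw [hLa] at this
      exact mem_powers_iff_mem_zpowers.mpr this
    obtain ⟨e, he⟩ := hP ⟨a, hLP.le haL⟩
    have he' : a ^ (p ^ e) = 1 := by simpa using congrArg Subtype.val he
    by_cases ha1 : a = 1
    · refine ⟨g, hgP, ?_⟩
      rw [hLa, ha1, zpowers_one_eq_bot, bot_sup_eq] at hjoin
      exact hjoin.symm
    by_cases hpi : p ∣ i
    swap
    · refine ⟨g, hgP, le_antisymm ?_ (by simpa using hgP)⟩
      rw [← hjoin]
      refine sup_le ?_ le_rfl
      rw [hLa, zpowers_le]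
      obtain ⟨m, hm⟩ := exists_pow_eq_self_of_coprime (x := a) (n := i)
        ((((Fact.out : p.Prime).coprime_iff_not_dvd.2 hpi).symm.pow_right e).coprime_dvd_right
          (orderOf_dvd_of_pow_eq_one he'))
      rw [← hm, hi]
      exact (zpowers g).pow_mem ((zpowers g).pow_mem (mem_zpowers g) _) _
    obtain ⟨j, rfl⟩ := hpi
    exfalso
    have hordp : ∀ x ∈ P, x ^ p = 1 → x ≠ 1 → z ∈ zpowers x := by
      intro x hx hxp hx1
      obtain ⟨k, rfl⟩ := mem_powers_iff_mem_zpowers.mpr (h x hx hxp)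
      have hz1 : z ≠ 1 := fun h1 => hx1 (by simp [h1])
      have hoz : orderOf z = p := orderOf_eq_prime hzp hz1
      have hk : ¬ p ∣ k := fun ⟨l, hl⟩ => hx1 (by
        change z ^ k = 1
        rw [hl, pow_mul, hzp, one_pow])
      obtain ⟨m, hm⟩ := exists_pow_eq_self_of_coprime (x := z) (n := k)
        (hoz.symm ▸ ((Fact.out : p.Prime).coprime_iff_not_dvd.2 hk).symm)
      have hmem := (zpowers (z ^ k)).pow_mem (mem_zpowers (z ^ k)) m
      rwa [hm] at hmem
    -- an element of order `p` in `L`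
    obtain ⟨a0, ha0L, ha0p, ha01⟩ : ∃ a0 ∈ L, a0 ^ p = 1 ∧ a0 ≠ 1 := by
      by_contra hcon
      push Not at hcon
      have : ∀ m, a ^ (p ^ m) ≠ 1 := fun m => by
        induction m with
        | zero => simpa using ha1
        | succ m ihm =>
          intro h1
          exact ihm (hcon _ (L.pow_mem haL _) (by rw [← pow_mul, ← pow_succ, h1]))
      exact this e he'
    have hzL : z ∈ L := (zpowers_le.2 ha0L) (hordp a0 (hLP.le ha0L) ha0p ha01)
    -- `g` commutes with `a ^ p`
    have hcomm : Commute g (a ^ p) := by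
      let M : Subgroup G := zpowers (a ^ p) ⊔ zpowers g
      have hnorm : zpowers g ≤ normalizer ((zpowers (a ^ p) : Subgroup G) : Set G) := by
        refine le_normalizer_of_conj_mem fun x hx y hy => ?_
        have hxP : x ∈ P := (zpowers_le.2 hgP) hx
        obtain ⟨k, rfl⟩ := mem_powers_iff_mem_zpowers.mpr hy
        obtain ⟨r, hr⟩ : ∃ r : ℕ, a ^ r = x * a * x⁻¹ := by
          have := hLn x hxP a haL
          rw [hLa] at this
          exact mem_powers_iff_mem_zpowers.mpr this
        refine mem_powers_iff_mem_zpowers.mp ⟨r * k, ?_⟩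
        change (a ^ p) ^ (r * k) = x * (a ^ p) ^ k * x⁻¹
        rw [← conj_pow, ← conj_pow, ← hr, ← pow_mul, ← pow_mul, ← pow_mul]
        congr 1
        ring
      have hMP : M ≤ P := sup_le (zpowers_le.2 (P.pow_mem (hLP.le haL) _)) (zpowers_le.2 hgP)
      have haM : a ∉ M := by
        intro haM
        have : a ∈ ((zpowers (a ^ p) : Subgroup G) : Set G) * ((zpowers g : Subgroup G) : Set G) := by
          rw [← coe_mul_of_right_le_normalizer_left _ _ hnorm]
          exact haM
        obtain ⟨x, hx, y, hy, hxy⟩ := this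
        have hxL : x ∈ L := (zpowers_le.2 (L.pow_mem haL p)) hx
        have hyL : y ∈ L := by
          have h0 : x * y = a := hxy
          have : y = x⁻¹ * a := by rw [← h0]; group
          rw [this]; exact L.mul_mem (L.inv_mem hxL) haL
        obtain ⟨s, rfl⟩ := mem_powers_iff_mem_zpowers.mpr hy
        have hps : p ∣ s := by
          by_contra hps
          obtain ⟨k, hk⟩ := hP ⟨g, hgP⟩
          have hk' : g ^ (p ^ k) = 1 := by simpa using congrArg Subtype.val hk
          obtain ⟨m, hm⟩ := exists_pow_eq_self_of_coprime (x := g) (n := s)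
            ((((Fact.out : p.Prime).coprime_iff_not_dvd.2 hps).symm.pow_right k).coprime_dvd_right
              (orderOf_dvd_of_pow_eq_one hk'))
          exact hgL (hm ▸ L.pow_mem hyL m)
        obtain ⟨t, rfl⟩ := hps
        have hy' : g ^ (p * t) ∈ zpowers (a ^ p) := by
          rw [pow_mul, ← hi, pow_mul]
          exact pow_mem (pow_mem (mem_zpowers _) _) _
        have haz : a ∈ zpowers (a ^ p) := by
          have h0 := (zpowers (a ^ p)).mul_mem hx hy'
          rwa [show x * g ^ (p * t) = a from hxy] at h0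
        obtain ⟨s, hs⟩ := mem_powers_iff_mem_zpowers.mpr haz
        have hs' : a ^ (p * s) = a := by rw [pow_mul]; exact hs
        have : ∀ m, a ^ ((p * s) ^ m) = a := fun m => by
          induction m with
          | zero => simp
          | succ m ihm => rw [pow_succ, pow_mul, ihm, hs']
        exact ha1 (by rw [← this e, mul_pow, pow_mul, he', one_pow])
      have hMlt : M < P := lt_of_le_of_ne hMP fun h0 => haM (h0 ▸ hLP.le haL)
      obtain ⟨b, -, hb⟩ := ih M (hlt M hMlt) (hP.to_le hMP) fun x hx => h x (hMP hx)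
      have h1 : g ∈ zpowers b := hb ▸ (mem_sup_right (mem_zpowers g) : g ∈ M)
      have h2 : a ^ p ∈ zpowers b := hb ▸ (mem_sup_left (mem_zpowers (a ^ p)) : a ^ p ∈ M)
      obtain ⟨k, hk⟩ := h1
      obtain ⟨l, hl⟩ := h2
      rw [← hk, ← hl]
      exact (Commute.refl b).zpow_zpow k l
    -- the commutator `q` of `a` and `g`
    set q := a⁻¹ * (g⁻¹ * a * g) with hq
    have hgaL : g⁻¹ * a * g ∈ L := by
      simpa using hLn g⁻¹ (P.inv_mem hgP) a haL
    have hqL : q ∈ L := L.mul_mem (L.inv_mem haL) hgaL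
    have hLcomm : ∀ x ∈ L, ∀ y ∈ L, Commute x y := by
      intro x hx y hy
      rw [hLa] at hx hy
      obtain ⟨k, rfl⟩ := hx
      obtain ⟨l, rfl⟩ := hy
      exact (Commute.refl a).zpow_zpow k l
    have hqp : q ^ p = 1 := by
      rw [hq, (hLcomm _ (L.inv_mem haL) _ hgaL).mul_pow, inv_pow,
        show g⁻¹ * a * g = g⁻¹ * a * (g⁻¹)⁻¹ by group, conj_pow, inv_inv, mul_assoc g⁻¹,
        ← hcomm.eq, inv_mul_cancel_left, inv_mul_cancel]
    have hgq : Commute g q := by
      by_cases hq1 : q = 1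
      · rw [hq1]; exact Commute.one_right g
      by_cases hap : a ^ p = 1
      · -- then `L` has order `p` and `g ^ p = 1`
        exfalso
        have hgp1 : g ^ p = 1 := by rw [← hi, pow_mul, hap, one_pow]
        have hgz := h g hgP hgp1
        exact hgL ((zpowers_le.2 hzL) hgz)
      obtain ⟨s, hs⟩ : ∃ s : ℕ, a ^ s = q := by
        have := hqL; rw [hLa] at this
        exact mem_powers_iff_mem_zpowers.mpr this
      have hps : p ∣ s := by
        by_contra hps
        obtain ⟨m, hm⟩ := exists_pow_eq_self_of_coprime (x := a) (n := s)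
          ((((Fact.out : p.Prime).coprime_iff_not_dvd.2 hps).symm.pow_right e).coprime_dvd_right
            (orderOf_dvd_of_pow_eq_one he'))
        apply hap
        rw [← hm, hs, ← pow_mul, mul_comm, pow_mul, hqp, one_pow]
      obtain ⟨t, rfl⟩ := hps
      rw [← hs, pow_mul]
      exact hcomm.pow_right t
    -- `g * a ^ (-j)` has order `p` and lies outside `L`
    set b := (a ^ j)⁻¹ with hb
    have hbL : b ∈ L := L.inv_mem (L.pow_mem haL j)
    have hcq : b * g = g * b * (q ^ j)⁻¹ := by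
      have h1 : g⁻¹ * a ^ j * g = a ^ j * q ^ j := by
        rw [show g⁻¹ * a ^ j * g = (g⁻¹ * a * g) ^ j by
          rw [show g⁻¹ * a * g = g⁻¹ * a * (g⁻¹)⁻¹ by group, conj_pow, inv_inv],
          show g⁻¹ * a * g = a * q by rw [hq]; group, (hLcomm a haL q hqL).mul_pow]
      have h2 : g⁻¹ * b * g = b * (q ^ j)⁻¹ := by
        calc g⁻¹ * b * g = (g⁻¹ * a ^ j * g)⁻¹ := by rw [hb]; group
          _ = (q ^ j)⁻¹ * (a ^ j)⁻¹ := by rw [h1, mul_inv_rev]
          _ = b * (q ^ j)⁻¹ :=
            (hLcomm _ (L.inv_mem (L.pow_mem hqL j)) _ (L.inv_mem (L.pow_mem haL j))).eq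
      calc b * g = g * (g⁻¹ * b * g) := by group
        _ = g * b * (q ^ j)⁻¹ := by rw [h2]; group
    have hgb : (g * b) ^ p = 1 := by
      obtain ⟨m, hm⟩ : p ∣ p.choose 2 := (Fact.out : p.Prime).dvd_choose_self two_ne_zero
        (lt_of_le_of_ne (Fact.out : p.Prime).two_le (Ne.symm hp))
      rw [mul_pow_of_commutator hcq ((hgq.pow_right j).inv_right).symm.eq
        (hLcomm _ (L.inv_mem (L.pow_mem hqL j)) _ hbL).eq, hm, pow_mul,
        show ((q ^ j)⁻¹) ^ p = 1 by rw [inv_pow, ← pow_mul, mul_comm j p, pow_mul, hqp, one_pow,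
          inv_one], one_pow, mul_one, hb, inv_pow, ← pow_mul, mul_comm j p, ← hi, mul_inv_cancel]
    have hgbP : g * b ∈ P := P.mul_mem hgP (hLP.le hbL)
    have hgbL : g * b ∈ L := (zpowers_le.2 hzL) (h _ hgbP hgb)
    exact hgL (by simpa using L.mul_mem hgbL (L.inv_mem hbL))

end Cfsg.Agent.Local
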