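import Cfsg.Agent.Lib.Local.ConjFamily

/-!
Local-to-global control of strong fusion by conjugacy functors.
-/

set_option autoImplicit false
set_option linter.style.haveILetI false

namespace Cfsg.Agent.Local

open Subgroup

variable {G : Type*} [Group G]

/-- `A` can be moved inside `S` to agree with conjugation by `g` by steps in the `N(W S)`. -/
inductive Reach (S : Subgroup G) (𝓦 : Set (Subgroup G → Subgroup G)) : Set G → G → Prop
  | refl {A : Set G} {g : G} (hA : A ⊆ S) (hg : ∀ a ∈ A, g * a * g⁻¹ = a) : Reach S 𝓦 A g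
  | step {A : Set G} {g y g' : G} {W : Subgroup G → Subgroup G} (hA : A ⊆ S) (hW : W ∈ 𝓦)
      (hy : y ∈ Subgroup.normalizer ((W S : Subgroup G) : Set G))
      (h : Reach S 𝓦 ((fun a => y * a * y⁻¹) '' A) g')
      (he : ∀ a ∈ A, g * a * g⁻¹ = g' * (y * a * y⁻¹) * g'⁻¹) : Reach S 𝓦 A g

variable {S : Subgroup G} {𝓦 : Set (Subgroup G → Subgroup G)}

theorem image_lconj_mul (A : Set G) (x y : G) :
    (fun a => y * a * y⁻¹) '' ((fun a => x * a * x⁻¹) '' A) =
      (fun a => y * x * a * (y * x)⁻¹) '' A := by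
  rw [Set.image_image]
  congr 1
  funext a
  group

theorem Reach.subset {A : Set G} {g : G} (h : Reach S 𝓦 A g) : A ⊆ S := by
  cases h with
  | refl hA _ => exact hA
  | step hA _ _ _ _ => exact hA

theorem Reach.image_subset {A : Set G} {g : G} (h : Reach S 𝓦 A g) :
    (fun a => g * a * g⁻¹) '' A ⊆ S := by
  induction h with
  | refl hA hg => rintro _ ⟨a, ha, rfl⟩; simp only; rw [hg a ha]; exact hA ha
  | @step A g y g' W _ _ _ _ he ih =>
    rintro _ ⟨a, ha, rfl⟩
    simp only
    rw [he a ha]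
    exact ih ⟨_, ⟨a, ha, rfl⟩, rfl⟩

theorem Reach.mono {A B : Set G} {g : G} (h : Reach S 𝓦 A g) : B ⊆ A → Reach S 𝓦 B g := by
  induction h generalizing B with
  | refl hA hg => intro hBA; exact .refl (hBA.trans hA) fun a ha => hg a (hBA ha)
  | step hA hW hy _ he ih =>
    intro hBA
    exact .step (hBA.trans hA) hW hy (ih (Set.image_mono hBA)) fun a ha => he a (hBA ha)

theorem Reach.congr {A : Set G} {g g₁ : G} (h : Reach S 𝓦 A g)
    (he : ∀ a ∈ A, g₁ * a * g₁⁻¹ = g * a * g⁻¹) : Reach S 𝓦 A g₁ := by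
  cases h with
  | refl hA hg => exact .refl hA fun a ha => (he a ha).trans (hg a ha)
  | step hA hW hy h' he' => exact .step hA hW hy h' fun a ha => (he a ha).trans (he' a ha)

theorem Reach.single {A : Set G} {W : Subgroup G → Subgroup G} {y : G} (hW : W ∈ 𝓦)
    (hy : y ∈ Subgroup.normalizer ((W S : Subgroup G) : Set G)) (hA : A ⊆ S)
    (hA' : (fun a => y * a * y⁻¹) '' A ⊆ S) : Reach S 𝓦 A y :=
  .step hA hW hy (g' := 1) (.refl hA' fun a _ => by group) fun a _ => by group

theorem Reach.trans {A : Set G} {g k : G} (h : Reach S 𝓦 A g) :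
    Reach S 𝓦 ((fun a => g * a * g⁻¹) '' A) k → Reach S 𝓦 A (k * g) := by
  induction h with
  | @refl A g hA hg =>
    intro h2
    rw [Set.image_congr hg, Set.image_id'] at h2
    exact h2.congr fun a ha => by
      rw [show k * g * a * (k * g)⁻¹ = k * (g * a * g⁻¹) * k⁻¹ by group, hg a ha]
  | @step A g y g' W hA hW hy h' he ih =>
    intro h2
    refine .step hA hW hy (ih ?_) fun a ha => ?_
    · rw [Set.image_image]
      rwa [Set.image_congr he] at h2
    · rw [show k * g * a * (k * g)⁻¹ = k * (g * a * g⁻¹) * k⁻¹ by group, he a ha]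
      group

theorem Reach.symm {A : Set G} {g : G} (h : Reach S 𝓦 A g) :
    Reach S 𝓦 ((fun a => g * a * g⁻¹) '' A) g⁻¹ := by
  induction h with
  | @refl A g hA hg =>
    rw [Set.image_congr hg, Set.image_id']
    exact .refl hA fun a ha => by
      calc g⁻¹ * a * g⁻¹⁻¹ = g⁻¹ * (g * a * g⁻¹) * g⁻¹⁻¹ := by rw [hg a ha]
        _ = a := by group
  | @step A g y g' W hA hW hy h' he ih =>
    have hse : (fun a => g * a * g⁻¹) '' A =
        (fun a => g' * a * g'⁻¹) '' ((fun a => y * a * y⁻¹) '' A) := by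
      rw [Set.image_image]; exact Set.image_congr he
    rw [hse]
    have h1 : Reach S 𝓦 ((fun a => g' * a * g'⁻¹) '' ((fun a => y * a * y⁻¹) '' A))
        (y⁻¹ * g'⁻¹) := by
      refine ih.trans (Reach.single hW (inv_mem hy) ?_ ?_)
      · rintro _ ⟨_, ⟨b, hb, rfl⟩, rfl⟩
        have e : g'⁻¹ * (g' * b * g'⁻¹) * g'⁻¹⁻¹ = b := by group
        simp only
        rw [e]
        exact h'.subset hb
      · rintro _ ⟨_, ⟨_, ⟨_, ⟨a, ha, rfl⟩, rfl⟩, rfl⟩, rfl⟩
        have e : y⁻¹ * (g'⁻¹ * (g' * (y * a * y⁻¹) * g'⁻¹) * g'⁻¹⁻¹) * y⁻¹⁻¹ = a := by group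
        simp only
        rw [e]
        exact hA ha
    refine h1.congr ?_
    rintro _ ⟨_, ⟨a, ha, rfl⟩, rfl⟩
    simp only
    rw [← he a ha]
    calc g⁻¹ * (g * a * g⁻¹) * g⁻¹⁻¹ = a := by group
      _ = _ := by rw [he a ha]; group

section Finite

variable [Finite G] {p : ℕ} [Fact p.Prime]

theorem reach_of_family (P : Sylow p G) (𝓦 : Set (Subgroup G → Subgroup G))
    (h𝓦 : ∀ W ∈ 𝓦, IsConjugacyFunctor p W) (good : Subgroup G → Prop)
    (hgood : ∀ T : Subgroup G, T ≤ (P : Subgroup G) → T ≠ ⊥ → ∃ g : G,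
      (∀ u ∈ (P : Subgroup G) ⊓ Subgroup.normalizer (T : Set G), g * u * g⁻¹ ∈ (P : Subgroup G)) ∧
      good (T.map (MulAut.conj g).toMonoidHom) ∧
      ¬ p ∣ ((P : Subgroup G) ⊓ Subgroup.normalizer ((T.map (MulAut.conj g).toMonoidHom : Subgroup G) : Set G)).relIndex
        (Subgroup.normalizer ((T.map (MulAut.conj g).toMonoidHom : Subgroup G) : Set G)))
    (hloc : ∀ T : Subgroup G, T ≤ (P : Subgroup G) → T ≠ ⊥ → good T →
      FamilyControlsStrongFusionIn p 𝓦 (Subgroup.normalizer (T : Set G)))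
    (D : Subgroup G) : D ≤ (P : Subgroup G) → ∀ g : G, (∀ d ∈ D, g * d * g⁻¹ ∈ (P : Subgroup G)) →
      Reach (P : Subgroup G) 𝓦 (D : Set G) g := by
  suffices ∀ (k : ℕ) (D : Subgroup G), Nat.card (P : Subgroup G) ≤ k + Nat.card D →
      D ≤ (P : Subgroup G) → ∀ g : G, (∀ d ∈ D, g * d * g⁻¹ ∈ (P : Subgroup G)) →
        Reach (P : Subgroup G) 𝓦 (D : Set G) g from
    this (Nat.card (P : Subgroup G)) D (Nat.le_add_right _ _)
  intro k
  induction k using Nat.strong_induction_on with
  | _ k ih =>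
  intro D hk hDP g hg
  rcases eq_or_ne D ⊥ with rfl | hD0
  · exact .refl (fun a ha => by rw [(mem_bot.1 ha : a = 1)]; exact one_mem _)
      fun a ha => by rw [(mem_bot.1 ha : a = 1)]; group
  have ih' : ∀ E : Subgroup G, Nat.card D < Nat.card E → E ≤ (P : Subgroup G) →
      ∀ g : G, (∀ d ∈ E, g * d * g⁻¹ ∈ (P : Subgroup G)) → Reach (P : Subgroup G) 𝓦 (E : Set G) g := by
    intro E hE hEP g hg
    have := card_le_of_le hEP
    exact ih (k - 1) (by omega) E (by omega) hEP g hg
  have local_lemma : ∀ T : Subgroup G, T ≤ (P : Subgroup G) → T ≠ ⊥ →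
      ∀ (E : Subgroup G), Nat.card E = Nat.card D →
      E ≤ (P : Subgroup G) ⊓ Subgroup.normalizer (T : Set G) →
      ∀ m ∈ Subgroup.normalizer (T : Set G), (∀ d ∈ E, m * d * m⁻¹ ∈ (P : Subgroup G)) →
        Reach (P : Subgroup G) 𝓦 (E : Set G) m := by
    suffices ∀ (j : ℕ) (T : Subgroup G),
        Nat.card (P : Subgroup G) ≤ j + Nat.card ↥((P : Subgroup G) ⊓ Subgroup.normalizer (T : Set G)) →
        T ≤ (P : Subgroup G) → T ≠ ⊥ → ∀ (E : Subgroup G), Nat.card E = Nat.card D →
        E ≤ (P : Subgroup G) ⊓ Subgroup.normalizer (T : Set G) →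
        ∀ m ∈ Subgroup.normalizer (T : Set G), (∀ d ∈ E, m * d * m⁻¹ ∈ (P : Subgroup G)) →
          Reach (P : Subgroup G) 𝓦 (E : Set G) m from
      fun T => this (Nat.card (P : Subgroup G)) T (Nat.le_add_right _ _)
    intro j
    induction j using Nat.strong_induction_on with
    | _ j ihj =>
    intro T hj hTP hT0 E hEc hE m hm hmE
    set N := (P : Subgroup G) ⊓ Subgroup.normalizer (T : Set G) with hNdef
    -- fusion of `E` inside the normalizer of a good subgroup
    have good_step : ∀ T : Subgroup G, T ≤ (P : Subgroup G) → T ≠ ⊥ → good T →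
        ¬ p ∣ ((P : Subgroup G) ⊓ Subgroup.normalizer (T : Set G)).relIndex (Subgroup.normalizer (T : Set G)) →
        Nat.card N ≤ Nat.card ↥((P : Subgroup G) ⊓ Subgroup.normalizer (T : Set G)) →
        ∀ (E : Subgroup G), Nat.card E = Nat.card D →
        E ≤ (P : Subgroup G) ⊓ Subgroup.normalizer (T : Set G) →
        ∀ m ∈ Subgroup.normalizer (T : Set G), (∀ d ∈ E, m * d * m⁻¹ ∈ (P : Subgroup G)) →
          Reach (P : Subgroup G) 𝓦 (E : Set G) m := by
      intro T hTP hT0 hTg hidx hcardN E hEc hE m hm hmE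
      set H := Subgroup.normalizer (T : Set G) with hH
      set R := (P : Subgroup G) ⊓ H with hR
      have hRp : IsPGroup p R := P.isPGroup'.to_le inf_le_left
      obtain ⟨T', hT'H, hT'p, hT'idx, hctl⟩ := hloc T hTP hT0 hTg
      obtain ⟨x, hxH, hx⟩ := exists_conj_le_of_not_dvd_relIndex hT'H hT'p hT'idx
        (inf_le_right : R ≤ H) hRp
      have hRT : R.map (MulAut.conj x).toMonoidHom = T' := by
        refine eq_of_isPGroup_of_le (H := H) ?_ hT'H hT'p ?_
        · rintro _ ⟨u, hu, rfl⟩; exact hx u hu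
        · have hHx : H.map (MulAut.conj x).toMonoidHom = H := by
            refine eq_of_le_of_card_ge ?_ (Nat.card_congr
              (H.equivMapOfInjective _ (MulAut.conj x).injective).toEquiv).le
            rintro _ ⟨u, hu, rfl⟩; exact mul_mem (mul_mem hxH hu) (inv_mem hxH)
          conv => arg 1; arg 2; arg 2; rw [← hHx]
          rw [relIndex_map_map_of_injective _ _ (MulAut.conj x).injective]
          exact hidx
      obtain ⟨n, c, hc0, hcW, hcT, hcl⟩ := hctl ((fun a => x * a * x⁻¹) '' (E : Set G))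
        (x * m * x⁻¹) (mul_mem (mul_mem hxH hm) (inv_mem hxH))
        (by rintro _ ⟨a, ha, rfl⟩; exact hx a (hE ha)) (by
          rintro _ ⟨_, ⟨a, ha, rfl⟩, rfl⟩
          show x * m * x⁻¹ * (x * a * x⁻¹) * (x * m * x⁻¹)⁻¹ ∈ T'
          rw [show x * m * x⁻¹ * (x * a * x⁻¹) * (x * m * x⁻¹)⁻¹ = x * (m * a * m⁻¹) * x⁻¹ by group]
          exact hx _ ⟨hmE a ha, mul_mem (mul_mem hm (hE ha).2) (Subgroup.inv_mem _ hm)⟩)
      -- transport the chain to `R`
      have hR' : ∀ i, ∀ a ∈ E, (x⁻¹ * c i * x) * a * (x⁻¹ * c i * x)⁻¹ ∈ R := by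
        intro i a ha
        have h1 := hcT i ⟨_, ⟨a, ha, rfl⟩, rfl⟩
        rw [← hRT] at h1
        obtain ⟨r, hr, hre⟩ := h1
        have hre' : x * r * x⁻¹ = c i * (x * a * x⁻¹) * (c i)⁻¹ := hre
        rw [show (x⁻¹ * c i * x) * a * (x⁻¹ * c i * x)⁻¹ = x⁻¹ * (c i * (x * a * x⁻¹) * (c i)⁻¹) * x by group,
          ← hre', show x⁻¹ * (x * r * x⁻¹) * x = r by group]
        exact hr
      have key : ∀ i : Fin (n + 1), Reach (P : Subgroup G) 𝓦 (E : Set G) (x⁻¹ * c i * x) := by
        intro i
        induction i using Fin.induction with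
        | zero =>
          exact .refl (hE.trans inf_le_left) fun a _ => by rw [hc0]; group
        | succ i ihi =>
          obtain ⟨W, hW, hyH, hyW⟩ := hcW i
          set y := x⁻¹ * (c i.succ * (c i.castSucc)⁻¹) * x with hy
          have hyN : y ∈ Subgroup.normalizer ((W R : Subgroup G) : Set G) := by
            have h1 : W T' = (W R).map (MulAut.conj x).toMonoidHom := by
              rw [← hRT]; exact (h𝓦 W hW R hRp).2.2 x
            rw [h1, ← map_conj_normalizer] at hyW
            obtain ⟨r, hr, hre⟩ := hyW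
            have hre' : x * r * x⁻¹ = c i.succ * (c i.castSucc)⁻¹ := hre
            rw [hy, ← hre', show x⁻¹ * (x * r * x⁻¹) * x = r by group]
            exact hr
          rw [show x⁻¹ * c i.succ * x = y * (x⁻¹ * c i.castSucc * x) by rw [hy]; group]
          refine ihi.trans ?_
          set Ei := E.map (MulAut.conj (x⁻¹ * c i.castSucc * x)).toMonoidHom with hEi
          change Reach (P : Subgroup G) 𝓦 (Ei : Set G) y
          have hEiR : Ei ≤ R := by rintro _ ⟨a, ha, rfl⟩; exact hR' _ a ha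
          have hEiy : ∀ d ∈ Ei, y * d * y⁻¹ ∈ R := by
            rintro _ ⟨a, ha, rfl⟩
            have := hR' i.succ a ha
            rw [show (x⁻¹ * c i.succ * x) * a * (x⁻¹ * c i.succ * x)⁻¹ =
              y * ((MulAut.conj (x⁻¹ * c i.castSucc * x)).toMonoidHom a) * y⁻¹ by simp [hy, mul_assoc]] at this
            exact this
          have hEic : Nat.card Ei = Nat.card D :=
            (Nat.card_congr (E.equivMapOfInjective _ (MulAut.conj _).injective).toEquiv).symm.trans hEc
          by_cases hRP : R = (P : Subgroup G)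
          · exact Reach.single hW (hRP ▸ hyN) (hEiR.trans inf_le_left)
              (by rintro _ ⟨d, hd, rfl⟩; exact (hEiy d hd).1)
          have hWR := (h𝓦 W hW R hRp)
          have hTR : T ≤ R := le_inf hTP le_normalizer
          have hWne : W R ≠ ⊥ := hWR.2.1 fun e => hT0 (le_bot_iff.1 (e ▸ hTR))
          have hRlt : R < (P : Subgroup G) ⊓ Subgroup.normalizer ((W R : Subgroup G) : Set G) := by
            refine (lt_sylow_inf_normalizer P (lt_of_le_of_ne inf_le_left hRP)).trans_le ?_
            refine le_inf inf_le_left ?_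
            rintro u ⟨-, hu⟩
            have h1 : R.map (MulAut.conj u).toMonoidHom = R := by
              ext z
              constructor
              · rintro ⟨r, hr, rfl⟩; exact (mem_normalizer_iff.1 hu r).1 hr
              · intro hz
                exact ⟨u⁻¹ * z * u, (mem_normalizer_iff''.1 hu z).1 hz, by simp [mul_assoc]⟩
            have h2 := hWR.2.2 u
            rw [h1] at h2
            rw [mem_normalizer_iff]
            intro z
            conv_rhs => rw [h2]
            constructor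
            · exact fun hz => ⟨z, hz, rfl⟩
            · rintro ⟨w, hw, he⟩
              have : w = z := (MulAut.conj u).injective he
              exact this ▸ hw
          have hlt : Nat.card R < Nat.card ↥((P : Subgroup G) ⊓ Subgroup.normalizer ((W R : Subgroup G) : Set G)) :=
            lt_of_le_of_ne (card_le_of_le hRlt.le) fun e => hRlt.ne (eq_of_le_of_card_ge hRlt.le e.ge)
          have hPle : Nat.card ↥((P : Subgroup G) ⊓ Subgroup.normalizer ((W R : Subgroup G) : Set G)) ≤
              Nat.card (P : Subgroup G) := card_le_of_le inf_le_left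
          exact ihj (j - 1) (by omega) (W R) (by omega) (hWR.1.trans inf_le_left) hWne Ei hEic
            (hEiR.trans hRlt.le) y hyN fun d hd => (hEiy d hd).1
      refine (key (Fin.last n)).congr fun a ha => ?_
      have h1 := hcl _ ⟨a, ha, rfl⟩
      calc m * a * m⁻¹ = x⁻¹ * ((x * m * x⁻¹) * (x * a * x⁻¹) * (x * m * x⁻¹)⁻¹) * x := by group
        _ = _ := by rw [← h1]; group
    obtain ⟨c, hcN, hcg, hidx⟩ := hgood T hTP hT0
    set T₁ := T.map (MulAut.conj c).toMonoidHom with hT₁
    have hT₁P : T₁ ≤ (P : Subgroup G) := by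
      rintro _ ⟨t, ht, rfl⟩; exact hcN t ⟨hTP ht, le_normalizer ht⟩
    have hT₁0 : T₁ ≠ ⊥ := fun e => hT0 ((map_eq_bot_iff_of_injective _ (MulAut.conj c).injective).1 e)
    have hNN : N.map (MulAut.conj c).toMonoidHom ≤ (P : Subgroup G) ⊓ Subgroup.normalizer (T₁ : Set G) := by
      rintro _ ⟨u, hu, rfl⟩
      exact ⟨hcN u hu, (map_conj_normalizer c T).le ⟨u, hu.2, rfl⟩⟩
    by_cases hlt : Nat.card D < Nat.card N
    · have hcR : Reach (P : Subgroup G) 𝓦 (N : Set G) c := ih' N hlt inf_le_left c hcN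
      have hE2 : (fun a => m * a * m⁻¹) '' (E : Set G) ⊆ (N : Set G) := by
        rintro _ ⟨a, ha, rfl⟩
        exact ⟨hmE a ha, mul_mem (mul_mem hm (hE ha).2) (Subgroup.inv_mem _ hm)⟩
      have h1 := hcR.mono (B := (E : Set G)) hE
      have h3 := (hcR.mono hE2).symm
      have h2 := good_step T₁ hT₁P hT₁0 hcg hidx
        ((Nat.card_congr (N.equivMapOfInjective _ (MulAut.conj c).injective).toEquiv).trans_le
          (card_le_of_le hNN))
        (E.map (MulAut.conj c).toMonoidHom)
        ((Nat.card_congr (E.equivMapOfInjective _ (MulAut.conj c).injective).toEquiv).symm.trans hEc)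
        ((map_mono hE).trans hNN) (c * m * c⁻¹) ((map_conj_normalizer c T).le ⟨m, hm, rfl⟩) (by
          rintro _ ⟨a, ha, rfl⟩
          have := hcN _ (hE2 ⟨a, ha, rfl⟩)
          rw [show c * m * c⁻¹ * ((MulAut.conj c).toMonoidHom a) * (c * m * c⁻¹)⁻¹ =
            c * (m * a * m⁻¹) * c⁻¹ by simp [mul_assoc]]
          exact this)
      have h4 := h2.trans (k := c⁻¹) (by
        rw [show (fun a => c * m * c⁻¹ * a * (c * m * c⁻¹)⁻¹) '' ((E.map (MulAut.conj c).toMonoidHom : Subgroup G) : Set G) =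
          (fun a => c * a * c⁻¹) '' ((fun a => m * a * m⁻¹) '' (E : Set G)) by
          rw [Subgroup.coe_map, Set.image_image, Set.image_image]
          exact Set.image_congr fun a _ => by simp [mul_assoc]]
        exact h3)
      have h5 := h1.trans (k := c⁻¹ * (c * m * c⁻¹)) h4
      rwa [show c⁻¹ * (c * m * c⁻¹) * c = m by group] at h5
    · have hEN : E = N := eq_of_le_of_card_ge hE (by omega)
      subst hEN
      have hmN : ∀ d ∈ N, m * d * m⁻¹ ∈ N := fun d hd =>
        ⟨hmE d hd, mul_mem (mul_mem hm hd.2) (Subgroup.inv_mem _ hm)⟩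
      have hmNN : m ∈ Subgroup.normalizer (N : Set G) := by
        have hmap : N.map (MulAut.conj m).toMonoidHom = N :=
          eq_of_le_of_card_ge (by rintro _ ⟨d, hd, rfl⟩; exact hmN d hd)
            (Nat.card_congr (N.equivMapOfInjective _ (MulAut.conj m).injective).toEquiv).le
        rw [mem_normalizer_iff]
        intro z
        conv_rhs => rw [← hmap]
        constructor
        · exact fun hz => ⟨z, hz, rfl⟩
        · rintro ⟨w, hw, he⟩
          have : w = z := (MulAut.conj m).injective he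
          exact this ▸ hw
      by_cases hNP : N = (P : Subgroup G)
      · have hP0 : (P : Subgroup G) ≠ ⊥ := fun e => hT0 (le_bot_iff.1 (e ▸ hTP))
        obtain ⟨c₁, hc₁, hgd, hid⟩ := hgood (P : Subgroup G) le_rfl hP0
        have hPc : (P : Subgroup G).map (MulAut.conj c₁).toMonoidHom = (P : Subgroup G) :=
          eq_of_le_of_card_ge (by rintro _ ⟨d, hd, rfl⟩; exact hc₁ d ⟨hd, le_normalizer hd⟩)
            (Nat.card_congr ((P : Subgroup G).equivMapOfInjective _ (MulAut.conj c₁).injective).toEquiv).le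
        rw [hPc] at hgd hid
        exact good_step (P : Subgroup G) le_rfl hP0 hgd hid
          (card_le_of_le (le_inf inf_le_left (inf_le_left.trans le_normalizer))) N hEc
          (le_inf inf_le_left (inf_le_left.trans le_normalizer)) m (hNP ▸ hmNN) hmE
      · have hlt' := lt_sylow_inf_normalizer P (lt_of_le_of_ne inf_le_left hNP)
        have hlt2 : Nat.card N < Nat.card ↥((P : Subgroup G) ⊓ Subgroup.normalizer (N : Set G)) :=
          lt_of_le_of_ne (card_le_of_le hlt'.le) fun e => hlt'.ne (eq_of_le_of_card_ge hlt'.le e.ge)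
        have hPle : Nat.card ↥((P : Subgroup G) ⊓ Subgroup.normalizer (N : Set G)) ≤ Nat.card (P : Subgroup G) :=
          card_le_of_le inf_le_left
        have hN0 : N ≠ ⊥ := fun e => hT0 (le_bot_iff.1 (e ▸ le_inf hTP le_normalizer))
        exact ihj (j - 1) (by omega) N (by omega) inf_le_left hN0 N hEc hlt'.le m hmNN hmE
  rcases hDP.eq_or_lt with hDeq | hlt
  · have hmap : (P : Subgroup G).map (MulAut.conj g).toMonoidHom = (P : Subgroup G) :=
      eq_of_le_of_card_ge (by rintro _ ⟨d, hd, rfl⟩; exact hg d (hDeq ▸ hd))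
        (Nat.card_congr ((P : Subgroup G).equivMapOfInjective _ (MulAut.conj g).injective).toEquiv).le
    refine local_lemma (P : Subgroup G) le_rfl (hDeq ▸ hD0) D rfl (le_inf hDP (hDP.trans le_normalizer))
      g ?_ hg
    rw [mem_normalizer_iff]
    intro z
    conv_rhs => rw [← hmap]
    constructor
    · exact fun hz => ⟨z, hz, rfl⟩
    · rintro ⟨w, hw, he⟩
      have : w = z := (MulAut.conj g).injective he
      exact this ▸ hw
  -- move both ends onto one fully normalized conjugate
  obtain ⟨c₀, hc₀P, hidx⟩ := exists_fullyNormalized P D hDP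
  set U := D.map (MulAut.conj c₀).toMonoidHom with hUdef
  have key : ∀ D' : Subgroup G, D' < (P : Subgroup G) → Nat.card D' = Nat.card D → ∀ d : G,
      D'.map (MulAut.conj d).toMonoidHom = U →
      ∃ b : G, D'.map (MulAut.conj b).toMonoidHom = U ∧ Reach (P : Subgroup G) 𝓦 (D' : Set G) b := by
    intro D' hD' hc d hd
    have hM : ((P : Subgroup G) ⊓ Subgroup.normalizer (D' : Set G)).map (MulAut.conj d).toMonoidHom ≤
        Subgroup.normalizer (U : Set G) := by
      rw [← hd, ← map_conj_normalizer]; exact map_mono inf_le_right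
    obtain ⟨n, hn, hn'⟩ := exists_conj_le_of_not_dvd_relIndex inf_le_right
      (P.isPGroup'.to_le inf_le_left) hidx hM ((P.isPGroup'.to_le inf_le_left).map _)
    refine ⟨n * d, ?_, ?_⟩
    · refine eq_of_le_of_card_ge ?_ ?_
      · rintro _ ⟨a, ha, rfl⟩
        have h1 : d * a * d⁻¹ ∈ U := hd ▸ ⟨a, ha, rfl⟩
        have := (mem_normalizer_iff.1 hn _).1 h1
        rw [show (MulAut.conj (n * d)).toMonoidHom a = n * (d * a * d⁻¹) * n⁻¹ by simp [mul_assoc]]
        exact this
      · rw [← hd]
        exact ((Nat.card_congr (D'.equivMapOfInjective _ (MulAut.conj d).injective).toEquiv).symm.trans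
          (Nat.card_congr (D'.equivMapOfInjective _ (MulAut.conj (n * d)).injective).toEquiv)).le
    · have hlt' := lt_sylow_inf_normalizer P hD'
      have h1 : Nat.card D < Nat.card ↥((P : Subgroup G) ⊓ Subgroup.normalizer (D' : Set G)) :=
        hc ▸ lt_of_le_of_ne (card_le_of_le hlt'.le) fun e => hlt'.ne (eq_of_le_of_card_ge hlt'.le e.ge)
      refine (ih' _ h1 inf_le_left (n * d) fun u hu => ?_).mono hlt'.le
      have := (hn' _ ⟨u, hu, rfl⟩).1
      rw [show n * d * u * (n * d)⁻¹ = n * ((MulAut.conj d).toMonoidHom u) * n⁻¹ by simp [mul_assoc]]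
      exact this
  set D' := D.map (MulAut.conj g).toMonoidHom with hD'
  have hD'P : D' ≤ (P : Subgroup G) := by rintro _ ⟨d, hd, rfl⟩; exact hg d hd
  have hD'c : Nat.card D' = Nat.card D :=
    (Nat.card_congr (D.equivMapOfInjective _ (MulAut.conj g).injective).toEquiv).symm
  have hD'lt : D' < (P : Subgroup G) := lt_of_le_of_ne hD'P fun e => hlt.ne
    (eq_of_le_of_card_ge hDP (by rw [← hD'c, e]))
  have mapmap : ∀ (X : Subgroup G) (a b : G), (X.map (MulAut.conj a).toMonoidHom).map (MulAut.conj b).toMonoidHom =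
      X.map (MulAut.conj (b * a)).toMonoidHom := fun X a b => by
    rw [map_map]; congr 1; ext y; simp [mul_assoc]
  obtain ⟨b, hb, hbR⟩ := key D hlt rfl c₀ rfl
  obtain ⟨b', hb', hbR'⟩ := key D' hD'lt hD'c (c₀ * g⁻¹) (by
    rw [hD', mapmap, inv_mul_cancel_right])
  set m := b' * g * b⁻¹ with hm
  have hmN : m ∈ Subgroup.normalizer (U : Set G) := by
    have h1 : U.map (MulAut.conj m).toMonoidHom = U := by
      conv_lhs => rw [← hb]
      rw [mapmap, hm, inv_mul_cancel_right, ← mapmap, ← hD', hb']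
    rw [mem_normalizer_iff]
    intro z
    conv_rhs => rw [← h1]
    constructor
    · exact fun hz => ⟨z, hz, rfl⟩
    · rintro ⟨w, hw, he⟩
      have : w = z := (MulAut.conj m).injective he
      exact this ▸ hw
  have hU0 : U ≠ ⊥ := fun e => hD0 ((map_eq_bot_iff_of_injective _ (MulAut.conj c₀).injective).1 e)
  have hUc : Nat.card U = Nat.card D :=
    (Nat.card_congr (D.equivMapOfInjective _ (MulAut.conj c₀).injective).toEquiv).symm
  have h2 := local_lemma U hc₀P hU0 U hUc (le_inf hc₀P le_normalizer) m hmN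
    fun d hd => hc₀P ((mem_normalizer_iff.1 hmN d).1 hd)
  have e1 : (fun a => b * a * b⁻¹) '' (D : Set G) = (U : Set G) := by
    rw [← hb]; rfl
  have e2 : (fun a => m * a * m⁻¹) '' (U : Set G) = (fun a => b' * a * b'⁻¹) '' (D' : Set G) := by
    rw [← e1, hD', Subgroup.coe_map, Set.image_image, Set.image_image]
    exact Set.image_congr fun a _ => by simp [hm, mul_assoc]
  have h5 := h2.trans (k := b'⁻¹) (by rw [e2]; exact hbR'.symm)
  have h6 := hbR.trans (k := b'⁻¹ * m) (by rw [e1]; exact h5)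
  rwa [show b'⁻¹ * m * b = g by rw [hm]; group] at h6

theorem Reach.exists_chain {A : Set G} {g : G} (h : Reach S 𝓦 A g) :
    ∃ (n : ℕ) (c : Fin (n + 1) → G), c 0 = 1 ∧
      (∀ i : Fin n, ∃ W ∈ 𝓦, c i.succ * (c i.castSucc)⁻¹ ∈
        (⊤ : Subgroup G) ⊓ Subgroup.normalizer ((W S : Subgroup G) : Set G)) ∧
      (∀ i : Fin (n + 1), (fun a => c i * a * (c i)⁻¹) '' A ⊆ S) ∧
      ∀ a ∈ A, c (Fin.last n) * a * (c (Fin.last n))⁻¹ = g * a * g⁻¹ := by
  induction h with
  | @refl A g hA hg =>
    exact ⟨0, fun _ => 1, rfl, Fin.rec0, fun _ => by simpa using hA, fun a ha => by simp [hg a ha]⟩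
  | @step A g y g' W hA hW hy _ he ih =>
    obtain ⟨n, c, h0, hs, hT, hl⟩ := ih
    refine ⟨n + 1, Fin.cons 1 fun i => c i * y, rfl, fun i => ?_, fun i => ?_, fun a ha => ?_⟩
    · induction i using Fin.cases with
      | zero => exact ⟨W, hW, trivial, by simpa [h0] using hy⟩
      | succ j =>
        obtain ⟨W', hW', h1⟩ := hs j
        refine ⟨W', hW', ?_⟩
        rw [show (j.succ).castSucc = (j.castSucc).succ from rfl, Fin.cons_succ, Fin.cons_succ,
          show c j.succ * y * (c j.castSucc * y)⁻¹ = c j.succ * (c j.castSucc)⁻¹ by group]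
        exact h1
    · induction i using Fin.cases with
      | zero => simpa using hA
      | succ j =>
        rw [Fin.cons_succ, ← image_lconj_mul]
        exact hT j
    · rw [← Fin.succ_last, Fin.cons_succ, he a ha, ← hl _ ⟨a, ha, rfl⟩]
      group

theorem Reach.exists_single {A : Set G} {g : G} {W : Subgroup G → Subgroup G}
    (h : Reach S {W} A g) :
    ∃ x ∈ Subgroup.normalizer ((W S : Subgroup G) : Set G), ∀ a ∈ A, x * a * x⁻¹ = g * a * g⁻¹ := by
  induction h with
  | @refl A g hA hg => exact ⟨1, one_mem _, fun a ha => by simp [hg a ha]⟩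
  | @step A g y g' W' hA hW hy _ he ih =>
    obtain ⟨x, hx, hxe⟩ := ih
    rw [Set.mem_singleton_iff] at hW
    subst hW
    refine ⟨x * y, mul_mem hx hy, fun a ha => ?_⟩
    rw [he a ha, ← hxe _ ⟨a, ha, rfl⟩]
    group

end Finite

end Cfsg.Agent.Local
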