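import Cfsg.Agent.Lib.Local.QdRankTwo
import Cfsg.Prelude.Def_PLocal
import Mathlib.LinearAlgebra.Matrix.Notation
import Mathlib.Tactic.LinearCombination

/-!
A `p`-group extension of `Qd(p)` of `p`-rank at most two is trivial (`p > 3`).
-/

set_option autoImplicit false
set_option linter.style.haveILetI false

namespace Cfsg.Agent.Local

open Subgroup Matrix

variable {p : ℕ} [hpf : Fact p.Prime]

/-- The affine matrix with linear part `!![a, b; c, e]` and translation part `(r, s)`. -/
def affMat (a b c e r s : ZMod p) : Matrix (Fin 3) (Fin 3) (ZMod p) :=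
  !![a, b, r; c, e, s; 0, 0, 1]

theorem affMat_det (a b c e r s : ZMod p) : (affMat a b c e r s).det = a * e - b * c := by
  rw [affMat, det_fin_three]
  simp

theorem affMat_mul (a b c e r s a' b' c' e' r' s' : ZMod p) :
    affMat a b c e r s * affMat a' b' c' e' r' s' =
      affMat (a * a' + b * c') (a * b' + b * e') (c * a' + e * c') (c * b' + e * e')
        (a * r' + b * s' + r) (c * r' + e * s' + s) := by
  ext i j
  fin_cases i <;> fin_cases j <;> simp [affMat, Matrix.mul_apply, Fin.sum_univ_three]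

theorem affMat_one : affMat (1 : ZMod p) 0 0 1 0 0 = 1 := by
  ext i j
  fin_cases i <;> fin_cases j <;> simp [affMat]

/-- The element of `qd p` given by an affine matrix. -/
def qdElt (a b c e r s : ZMod p) (h : a * e - b * c = 1) : qd p :=
  ⟨⟨affMat a b c e r s, by rw [affMat_det, h]⟩,
    subset_closure ⟨by simp [affMat], by simp [affMat], by simp [affMat]⟩⟩

omit hpf in
theorem qd_ext {q q' : qd p}
    (h : ((q : SpecialLinearGroup (Fin 3) (ZMod p)) : Matrix (Fin 3) (Fin 3) (ZMod p)) =
      ((q' : SpecialLinearGroup (Fin 3) (ZMod p)) : Matrix (Fin 3) (Fin 3) (ZMod p))) : q = q' :=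
  Subtype.ext (Subtype.ext h)

theorem qdElt_mul (a b c e r s a' b' c' e' r' s' : ZMod p) (h : a * e - b * c = 1)
    (h' : a' * e' - b' * c' = 1) :
    qdElt a b c e r s h * qdElt a' b' c' e' r' s' h' =
      qdElt (a * a' + b * c') (a * b' + b * e') (c * a' + e * c') (c * b' + e * e')
        (a * r' + b * s' + r) (c * r' + e * s' + s)
        (by linear_combination (a' * e' - b' * c') * h + h') :=
  qd_ext (affMat_mul a b c e r s a' b' c' e' r' s')

theorem qdElt_congr {a b c e r s a' b' c' e' r' s' : ZMod p} (h : a * e - b * c = 1)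
    (h' : a' * e' - b' * c' = 1) (ha : a = a') (hb : b = b') (hc : c = c') (he : e = e')
    (hr : r = r') (hs : s = s') : qdElt a b c e r s h = qdElt a' b' c' e' r' s' h' := by
  subst ha hb hc he hr hs
  rfl

theorem qdElt_one : qdElt (1 : ZMod p) 0 0 1 0 0 (by ring) = 1 := qd_ext affMat_one

theorem qd_last_row (q : SpecialLinearGroup (Fin 3) (ZMod p)) (hq : q ∈ qd p) :
    (q : Matrix (Fin 3) (Fin 3) (ZMod p)) 2 0 = 0 ∧ (q : Matrix (Fin 3) (Fin 3) (ZMod p)) 2 1 = 0 ∧
      (q : Matrix (Fin 3) (Fin 3) (ZMod p)) 2 2 = 1 := by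
  rw [qd] at hq
  induction hq using closure_induction with
  | mem q hq => exact hq
  | one => simp
  | mul u v _ _ hu hv =>
    change (u.1 * v.1) 2 0 = 0 ∧ (u.1 * v.1) 2 1 = 0 ∧ (u.1 * v.1) 2 2 = 1
    simp [Matrix.mul_apply, Fin.sum_univ_three, hu.1, hu.2.1, hu.2.2, hv.1, hv.2.1, hv.2.2]
  | inv u _ hu =>
    obtain ⟨n, hn⟩ : ∃ n : ℕ, u ^ n = u⁻¹ :=
      mem_powers_iff_mem_zpowers.mpr (inv_mem (mem_zpowers u))
    rw [← hn]
    clear hn
    induction n with
    | zero => simp
    | succ n ih =>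
      rw [pow_succ]
      generalize (u ^ n : SpecialLinearGroup (Fin 3) (ZMod p)) = w at ih ⊢
      change (w.1 * u.1) 2 0 = 0 ∧ (w.1 * u.1) 2 1 = 0 ∧ (w.1 * u.1) 2 2 = 1
      simp [Matrix.mul_apply, Fin.sum_univ_three, hu.1, hu.2.1, hu.2.2, ih.1, ih.2.1, ih.2.2]

theorem exists_qdElt (q : qd p) : ∃ a b c e r s h, q = qdElt a b c e r s h := by
  obtain ⟨⟨M, hM⟩, hq⟩ := q
  obtain ⟨h0, h1, h2⟩ := qd_last_row _ hq
  have hdet : M 0 0 * M 1 1 - M 0 1 * M 1 0 = 1 := by
    rw [det_fin_three] at hM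
    simp only at h0 h1 h2
    rw [h0, h1, h2] at hM
    linear_combination hM
  refine ⟨M 0 0, M 0 1, M 1 0, M 1 1, M 0 2, M 1 2, hdet, qd_ext ?_⟩
  simp only at h0 h1 h2
  change M = affMat _ _ _ _ _ _
  ext i j
  fin_cases i <;> fin_cases j <;> simp [affMat, h0, h1, h2]

/-- The translation by `(r, s)`. -/
def trans (r s : ZMod p) : qd p := qdElt 1 0 0 1 r s (by ring)

theorem trans_mul (r s r' s' : ZMod p) : trans r s * trans r' s' = trans (r + r') (s + s') := by
  rw [trans, trans, trans, qdElt_mul]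
  exact qdElt_congr _ _ (by ring) (by ring) (by ring) (by ring) (by ring) (by ring)

theorem trans_pow (r s : ZMod p) (n : ℕ) : trans r s ^ n = trans ((n : ZMod p) * r) ((n : ZMod p) * s) := by
  induction n with
  | zero =>
    rw [pow_zero]
    refine qdElt_one.symm.trans (qdElt_congr _ _ rfl rfl rfl rfl ?_ ?_) <;> simp
  | succ n ih =>
    rw [pow_succ, ih, trans_mul]
    exact qdElt_congr _ _ rfl rfl rfl rfl (by push_cast; ring) (by push_cast; ring)

theorem trans_inj {r s r' s' : ZMod p} (h : trans r s = trans r' s') : r = r' ∧ s = s' := by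
  have h' := congrArg (fun q : qd p => ((q : SpecialLinearGroup (Fin 3) (ZMod p)) :
    Matrix (Fin 3) (Fin 3) (ZMod p))) h
  have h0 := congrFun (congrFun h' 0) 2
  have h1 := congrFun (congrFun h' 1) 2
  simp [trans, qdElt, affMat] at h0 h1
  exact ⟨h0, h1⟩

/-- The translation subgroup of `qd p`. -/
def transGroup : Subgroup (qd p) where
  carrier := {q | ∃ r s, q = trans r s}
  one_mem' := ⟨0, 0, qdElt_one.symm⟩
  mul_mem' := by
    rintro _ _ ⟨r, s, rfl⟩ ⟨r', s', rfl⟩
    exact ⟨_, _, trans_mul r s r' s'⟩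
  inv_mem' := by
    rintro _ ⟨r, s, rfl⟩
    refine ⟨-r, -s, inv_eq_of_mul_eq_one_right ?_⟩
    rw [trans_mul]
    exact (qdElt_congr _ _ rfl rfl rfl rfl (by ring) (by ring)).trans qdElt_one

theorem transGroup_normal : (transGroup (p := p)).Normal := by
  refine ⟨?_⟩
  rintro _ ⟨r, s, rfl⟩ g
  obtain ⟨a, b, c, e, u, v, h, rfl⟩ := exists_qdElt g
  refine ⟨a * r + b * s, c * r + e * s, mul_inv_eq_iff_eq_mul.2 ?_⟩
  rw [trans, trans, qdElt_mul, qdElt_mul]
  exact qdElt_congr _ _ (by ring) (by ring) (by ring) (by ring) (by ring) (by ring)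

theorem card_transGroup : Nat.card (transGroup (p := p)) = p ^ 2 := by
  have e : ZMod p × ZMod p ≃ transGroup (p := p) :=
    Equiv.ofBijective (fun rs => ⟨trans rs.1 rs.2, rs.1, rs.2, rfl⟩) ⟨fun a b h => by
      obtain ⟨h1, h2⟩ := trans_inj (congrArg Subtype.val h)
      exact Prod.ext h1 h2, by
      rintro ⟨_, r, s, rfl⟩
      exact ⟨(r, s), rfl⟩⟩
  rw [← Nat.card_congr e, Nat.card_prod, Nat.card_zmod, sq]

variable {G : Type*} [Group G] [Finite G]

/-- A finite group of `p`-rank at most two mapping onto `Qd(p)` with a `p`-group as kernel is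
isomorphic to `Qd(p)` (`p > 3`). -/
theorem ker_eq_bot_of_rank_two (hp : 3 < p) (f : G →* qd p) (hf : Function.Surjective f)
    (hker : IsPGroup p f.ker) (hr : PRankLE p 2 G) : f.ker = ⊥ := by
  have hp2 : p ≠ 2 := by omega
  haveI : NeZero p := ⟨hpf.out.ne_zero⟩
  have hmem : ∀ g : G, g ∈ f.ker ↔ f g = 1 := fun g => Iff.rfl
  have h2ne : (2 : ZMod p) ≠ 0 := by
    intro h
    have h' : ((2 : ℕ) : ZMod p) = 0 := by exact_mod_cast h
    rw [ZMod.natCast_eq_zero_iff] at h'
    have := Nat.le_of_dvd two_pos h'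
    omega
  obtain ⟨m, hm⟩ : ∃ m : ℕ, (2 : ZMod p) * m = 1 :=
    ⟨((2 : ZMod p)⁻¹).val, by rw [ZMod.natCast_zmod_val, mul_inv_cancel₀ h2ne]⟩
  -- the involution
  set τ : qd p := qdElt (-1) 0 0 (-1) 0 0 (by ring) with hτ
  have hττ : τ * τ = 1 := by
    rw [hτ, qdElt_mul]
    exact (qdElt_congr _ _ (by ring) (by ring) (by ring) (by ring) (by ring) (by ring)).trans qdElt_one
  obtain ⟨t0, ht0⟩ := hf τ
  obtain ⟨k, hk⟩ := hker.exists_card_eq
  have ht02 : t0 * t0 ∈ f.ker := by rw [hmem, map_mul, ht0, hττ]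
  set t := t0 ^ (p ^ k) with ht
  have htt : t * t = 1 := by
    rw [ht, ← (Commute.refl t0).mul_pow, ← hk]
    exact congrArg Subtype.val (pow_card_eq_one' (x := (⟨t0 * t0, ht02⟩ : f.ker)))
  have hft : f t = τ := by
    obtain ⟨l, hl⟩ := ((Fact.out : p.Prime).odd_of_ne_two hp2).pow (n := k)
    rw [ht, map_pow, ht0, hl, pow_succ, pow_mul, pow_two, hττ, one_pow, one_mul]
  -- lifts commuting with `t`
  have hlift : ∀ q : qd p, τ * q = q * τ → ∃ g : G, f g = q ∧ t * g = g * t := by
    intro q hq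
    obtain ⟨g, rfl⟩ := hf q
    have h : g⁻¹ * (t * g * t) ∈ f.ker := by
      rw [hmem, map_mul, map_inv, map_mul, map_mul, hft, hq, mul_assoc, hττ, mul_one, inv_mul_cancel]
    obtain ⟨u, hu, hu'⟩ := exists_mul_commute_of_involution hp2 hker htt h
    exact ⟨g * u, by rw [map_mul, (hmem u).1 hu, mul_one], hu'⟩
  have hτU : ∀ (a : ZMod p), τ * qdElt 1 a 0 1 0 0 (by ring) = qdElt 1 a 0 1 0 0 (by ring) * τ := by
    intro a
    rw [hτ, qdElt_mul, qdElt_mul]
    exact qdElt_congr _ _ (by ring) (by ring) (by ring) (by ring) (by ring) (by ring)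
  have hτL : τ * qdElt 1 0 1 1 0 0 (by ring) = qdElt 1 0 1 1 0 0 (by ring) * τ := by
    rw [hτ, qdElt_mul, qdElt_mul]
    exact qdElt_congr _ _ (by ring) (by ring) (by ring) (by ring) (by ring) (by ring)
  obtain ⟨x, hfx, htx⟩ := hlift _ (hτU 1)
  obtain ⟨y, hfy, hty⟩ := hlift _ hτL
  obtain ⟨e1, hfe1⟩ := hf (trans 1 0)
  obtain ⟨e2, hfe2⟩ := hf (trans 0 1)
  have hupow : ∀ n : ℕ, f x ^ n = qdElt 1 (n : ZMod p) 0 1 0 0 (by ring) := by
    intro n
    induction n with
    | zero =>
      rw [pow_zero]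
      exact qdElt_one.symm.trans (qdElt_congr _ _ rfl (by simp) rfl rfl rfl rfl)
    | succ n ih =>
      rw [pow_succ, ih, hfx, qdElt_mul]
      exact qdElt_congr _ _ (by ring) (by push_cast; ring) (by ring) (by ring) (by ring) (by ring)
  have hwpow : ∀ n : ℕ, f y ^ n = qdElt 1 0 (n : ZMod p) 1 0 0 (by ring) := by
    intro n
    induction n with
    | zero =>
      rw [pow_zero]
      exact qdElt_one.symm.trans (qdElt_congr _ _ rfl rfl (by simp) rfl rfl rfl)
    | succ n ih =>
      rw [pow_succ, ih, hfy, qdElt_mul]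
      exact qdElt_congr _ _ (by ring) (by ring) (by push_cast; ring) (by ring) (by ring) (by ring)
  have hxinv : (f x)⁻¹ = qdElt 1 (-1) 0 1 0 0 (by ring) := by
    refine inv_eq_of_mul_eq_one_right ?_
    rw [hfx, qdElt_mul]
    exact (qdElt_congr _ _ (by ring) (by ring) (by ring) (by ring) (by ring) (by ring)).trans qdElt_one
  have hyinv : (f y ^ m)⁻¹ = qdElt 1 0 (-(m : ZMod p)) 1 0 0 (by ring) := by
    refine inv_eq_of_mul_eq_one_right ?_
    rw [hwpow, qdElt_mul]
    exact (qdElt_congr _ _ (by ring) (by ring) (by ring) (by ring) (by ring) (by ring)).trans qdElt_one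
  set h := x ^ 2 * (y ^ m)⁻¹ * x ^ 2 * (x⁻¹ * y * x⁻¹) with hh
  have hfh : f h = qdElt 2 0 0 (m : ZMod p) 0 0 (by linear_combination hm) := by
    rw [hh]
    simp only [map_mul, map_inv, map_pow]
    rw [hupow, hyinv, hxinv, hfy]
    simp only [qdElt_mul]
    exact qdElt_congr _ _ (by push_cast; linear_combination (-2 : ZMod p) * hm)
      (by push_cast; linear_combination hm) (by push_cast; linear_combination -hm)
      (by push_cast; ring) (by push_cast; ring) (by push_cast; ring)
  let E : Subgroup G := transGroup.comap f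
  haveI hEn : E.Normal := transGroup_normal.comap f
  have hKE : f.ker ≤ E := fun g hg => by
    change f g ∈ transGroup
    rw [(hmem g).1 hg]
    exact one_mem _
  have hexp : ∀ e ∈ E, e ^ p ∈ f.ker := by
    rintro e ⟨r, s, hrs⟩
    rw [hmem, map_pow, hrs, trans_pow, ZMod.natCast_self, zero_mul, zero_mul]
    exact qdElt_one
  let d : QdData p G :=
  { U := f.ker
    E := E
    Un := inferInstance
    En := hEn
    hU := hker
    hUE := hKE
    hE := by
      rintro ⟨e, he⟩
      obtain ⟨n, hn⟩ := hker ⟨_, hexp e he⟩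
      have hn' : (e ^ p) ^ (p ^ n) = 1 := by simpa using congrArg Subtype.val hn
      exact ⟨n + 1, Subtype.ext (by simpa [pow_succ', pow_mul] using hn')⟩
    x := x
    y := y
    t := t
    h := h
    e1 := e1
    e2 := e2
    ht := htt
    htx := htx
    hty := hty
    hth := by
      have cx : Commute t x := htx
      have cy : Commute t y := hty
      exact ((((cx.pow_right 2).mul_right (cy.pow_right m).inv_right).mul_right (cx.pow_right 2)).mul_right
        ((cx.inv_right.mul_right cy).mul_right cx.inv_right)).eq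
    he1 := ⟨1, 0, hfe1⟩
    he2 := ⟨0, 1, hfe2⟩
    he1U := fun h1 => one_ne_zero
      (trans_inj (((hfe1).symm.trans ((hmem e1).1 h1)).trans qdElt_one.symm : trans 1 0 = trans (0 : ZMod p) 0)).1
    hspan := by
      rintro e ⟨r, s, hrs⟩
      refine ⟨r.val, s.val, ?_⟩
      rw [hmem, map_mul, map_inv, map_mul, map_pow, map_pow, hfe1, hfe2, hrs, trans_pow, trans_pow,
        trans_mul, inv_mul_eq_one]
      exact qdElt_congr _ _ rfl rfl rfl rfl (by simp) (by simp)
    hexp := hexp
    hinv := by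
      rintro e ⟨r, s, hrs⟩
      rw [hmem, map_mul, map_mul, map_mul, hft, hrs, hτ, trans, qdElt_mul, qdElt_mul, qdElt_mul]
      exact (qdElt_congr _ _ (by ring) (by ring) (by ring) (by ring) (by ring) (by ring)).trans qdElt_one
    hindex := by
      have h1 : E.index = (transGroup (p := p)).index := index_comap_of_surjective _ hf
      have h2 : f.ker.index = Nat.card (qd p) := by
        rw [index_ker, (MonoidHom.range_eq_top.2 hf), card_top]
      have h3 := f.ker.card_mul_index
      have h4 := E.card_mul_index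
      rw [h1] at h4
      rw [h2, ← card_mul_index (transGroup (p := p)), card_transGroup] at h3
      refine Nat.eq_of_mul_eq_mul_right (Nat.pos_of_ne_zero (index_ne_zero_of_finite (H := transGroup (p := p)))) ?_
      rw [h4, ← h3]
      ring
    hxp := by
      rw [hmem, map_pow, hupow, ZMod.natCast_self]
      exact qdElt_one
    hyp := by
      rw [hmem, map_pow, hwpow, ZMod.natCast_self]
      exact qdElt_one
    hxE := by
      rintro ⟨r, s, hrs⟩
      rw [hfx, trans] at hrs
      have h1 := congrFun (congrFun (congrArg (fun q : qd p => ((q : SpecialLinearGroup (Fin 3) (ZMod p)) :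
        Matrix (Fin 3) (Fin 3) (ZMod p))) hrs) 0) 1
      simp [qdElt, affMat] at h1
    hxe2 := by
      rw [hmem]
      simp only [map_mul, map_inv, hfe1, hfe2]
      rw [inv_mul_eq_one, eq_mul_inv_iff_mul_eq, eq_mul_inv_iff_mul_eq, hfx, trans, trans, qdElt_mul,
        qdElt_mul, qdElt_mul]
      exact qdElt_congr _ _ (by ring) (by ring) (by ring) (by ring) (by ring) (by ring)
    hxe1 := by
      rw [hmem]
      simp only [map_mul, map_inv, hfe1]
      rw [mul_inv_eq_one, mul_inv_eq_iff_eq_mul, hfx, trans, qdElt_mul, qdElt_mul]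
      exact qdElt_congr _ _ (by ring) (by ring) (by ring) (by ring) (by ring) (by ring)
    hye1 := by
      rw [hmem]
      simp only [map_mul, map_inv, hfe1, hfe2]
      rw [inv_mul_eq_one, eq_mul_inv_iff_mul_eq, eq_mul_inv_iff_mul_eq, hfy, trans, trans, qdElt_mul,
        qdElt_mul, qdElt_mul]
      exact qdElt_congr _ _ (by ring) (by ring) (by ring) (by ring) (by ring) (by ring)
    htw := by
      have hx' : x ∈ closure ({x, y} : Set G) := subset_closure (by simp)
      have hy' : y ∈ closure ({x, y} : Set G) := subset_closure (by simp)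
      refine ⟨y * x⁻¹ * y * (y * x⁻¹ * y),
        mul_mem (mul_mem (mul_mem hy' (inv_mem hx')) hy') (mul_mem (mul_mem hy' (inv_mem hx')) hy'), ?_⟩
      rw [hmem]
      simp only [map_mul, map_inv, hft]
      rw [inv_mul_eq_one, hxinv, hfy]
      simp only [qdElt_mul, hτ]
      exact qdElt_congr _ _ (by ring) (by ring) (by ring) (by ring) (by ring) (by ring)
    hhw := by
      have hx' : x ∈ closure ({x, y} : Set G) := subset_closure (by simp)
      have hy' : y ∈ closure ({x, y} : Set G) := subset_closure (by simp)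
      exact mul_mem (mul_mem (mul_mem (pow_mem hx' _) (inv_mem (pow_mem hy' _))) (pow_mem hx' _))
        (mul_mem (mul_mem (inv_mem hx') hy') (inv_mem hx'))
    hhx := by
      rw [hmem]
      simp only [map_mul, map_inv, map_pow]
      rw [inv_mul_eq_one, eq_mul_inv_iff_mul_eq, hupow, hfx, hfh, qdElt_mul, qdElt_mul]
      exact qdElt_congr _ _ (by ring) (by push_cast; linear_combination (2 : ZMod p) * hm) (by ring)
        (by ring) (by ring) (by ring) }
  exact d.U_eq_bot hp hr

end Cfsg.Agent.Local
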