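import Cfsg.Agent.Lib.Local.TransferReduction
import Cfsg.Prelude.Def_LocalEven
import Cfsg.Prelude.Def_PLocal
import Mathlib.Algebra.Polynomial.AlgebraMap
import Mathlib.Algebra.Polynomial.Expand

/-!
Glauberman's transfer lemma: an element of a Sylow subgroup outside the `p`-core acting on the chief
factors inside the `p`-core with degree less than `p`.
-/

set_option autoImplicit false
set_option linter.style.haveILetI false

universe u

namespace Cfsg.Agent.Local.EngelTransfer

open Subgroup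
open scoped Pointwise commutatorElement

variable {G : Type u} [Group G] {p : ℕ} [Fact p.Prime]

open Polynomial in
/-- In characteristic `p`, `(σ - 1) ^ (p - 1) = 1 + σ + ⋯ + σ ^ (p - 1)`. -/
theorem sub_one_pow_eq_sum {R : Type*} [Ring R] (σ : R) :
    ∃ f : R, (σ - 1) ^ (p - 1) = (∑ i ∈ Finset.range p, σ ^ i) + (p : R) * f := by
  have hp := (Fact.out : p.Prime)
  set D : ℤ[X] := (X - 1) ^ (p - 1) - ∑ i ∈ Finset.range p, X ^ i with hD
  have h0 : D.map (Int.castRingHom (ZMod p)) = 0 := by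
    have h1 : ((X : (ZMod p)[X]) - 1) * ((X - 1) ^ (p - 1) - ∑ i ∈ Finset.range p, X ^ i) = 0 := by
      rw [mul_sub, ← pow_succ', Nat.sub_add_cancel hp.one_lt.le, mul_geom_sum, sub_pow_char, one_pow,
        sub_self]
    have h2 : ((X : (ZMod p)[X]) - 1) ≠ 0 := by
      rw [← C_1]; exact X_sub_C_ne_zero 1
    simpa [hD, Polynomial.map_sum] using (mul_eq_zero.1 h1).resolve_left h2
  obtain ⟨f, hf⟩ : C (p : ℤ) ∣ D := by
    rw [C_dvd_iff_dvd_coeff]
    intro i
    have := congrArg (fun q => Polynomial.coeff q i) h0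
    simpa [coeff_map, ZMod.intCast_zmod_eq_zero_iff_dvd] using this
  refine ⟨aeval σ f, ?_⟩
  have h3 := congrArg (aeval σ) hf
  simp only [hD, map_sub, map_pow, aeval_X, map_one, map_sum, map_mul, aeval_C] at h3
  rw [sub_eq_iff_eq_add'] at h3
  rw [h3, map_natCast]

/-- An element acting with degree less than `p` on an abelian group of exponent `p` has trace zero. -/
theorem prod_conj_eq_one (A : Subgroup G) [A.Normal] (hAc : ∀ x ∈ A, ∀ y ∈ A, x * y = y * x)
    (hAp : ∀ x ∈ A, x ^ p = 1) (v : G) (hv : iterCommutator A (zpowers v) (p - 1) = ⊥)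
    {B : Type*} [CommGroup B] (F : A →* B) (x : A) :
    ∏ i ∈ Finset.range p, F ((MulAut.conjNormal v ^ i : MulAut A) x) = 1 := by
  letI : CommGroup A := { (inferInstance : Group A) with
    mul_comm := fun a b => Subtype.ext (hAc a a.2 b b.2) }
  let σ₀ : MulAut A := MulAut.conjNormal v
  let σ : AddMonoid.End (Additive A) := MonoidHom.toAdditive σ₀.toMonoidHom
  have hpow : ∀ (i : ℕ) (y : A), (σ ^ i) (Additive.ofMul y) = Additive.ofMul ((σ₀ ^ i) y) := by
    intro i
    induction i with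
    | zero => intro y; rfl
    | succ i ih =>
      intro y
      rw [pow_succ', pow_succ']
      show σ ((σ ^ i) (Additive.ofMul y)) = _
      rw [ih]
      rfl
  have hiter : ∀ (k : ℕ) (y : A),
      ((Additive.toMul (((σ - 1) ^ k) (Additive.ofMul y)) : A) : G) ∈ iterCommutator A (zpowers v) k := by
    intro k
    induction k with
    | zero => intro y; exact y.2
    | succ k ih =>
      intro y
      rw [pow_succ']
      show ((Additive.toMul ((σ - 1) (((σ - 1) ^ k) (Additive.ofMul y))) : A) : G) ∈ _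
      set z : A := Additive.toMul (((σ - 1) ^ k) (Additive.ofMul y)) with hz
      have e : ((Additive.toMul ((σ - 1) (((σ - 1) ^ k) (Additive.ofMul y))) : A) : G) =
          ⁅v, (z : G)⁆ := by
        have e1 : (Additive.toMul ((σ - 1) (((σ - 1) ^ k) (Additive.ofMul y))) : A) = σ₀ z / z := rfl
        rw [e1, commutatorElement_def, div_eq_mul_inv, coe_mul, coe_inv, MulAut.conjNormal_apply]
      rw [e, iterCommutator, commutator_comm]
      exact commutator_mem_commutator (mem_zpowers v) (ih y)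
  obtain ⟨f, hf⟩ := sub_one_pow_eq_sum (p := p) σ
  have h1 : ((σ - 1) ^ (p - 1)) (Additive.ofMul x) = 0 := by
    have := hiter (p - 1) x
    rw [hv, mem_bot] at this
    exact congrArg Additive.ofMul (Subtype.ext this : (Additive.toMul (((σ - 1) ^ (p - 1)) (Additive.ofMul x)) : A) = 1)
  have h2 : ((p : AddMonoid.End (Additive A)) * f) (Additive.ofMul x) = 0 := by
    show ((p : AddMonoid.End (Additive A))) (f (Additive.ofMul x)) = 0
    rw [AddMonoid.End.natCast_apply]
    set w : A := Additive.toMul (f (Additive.ofMul x))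
    show Additive.ofMul (w ^ p) = 0
    rw [show w ^ p = 1 from Subtype.ext (by rw [SubmonoidClass.coe_pow, hAp _ w.2]; rfl)]
    rfl
  have h3 := DFunLike.congr_fun hf (Additive.ofMul x)
  rw [h1] at h3
  replace h3 : 0 = (∑ i ∈ Finset.range p, σ ^ i) (Additive.ofMul x) + ((p : AddMonoid.End (Additive A)) * f) (Additive.ofMul x) := h3
  rw [h2, add_zero] at h3
  have h4 : ∏ i ∈ Finset.range p, (σ₀ ^ i) x = 1 := by
    have h5' : ∑ i ∈ Finset.range p, (σ ^ i) (Additive.ofMul x) = 0 :=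
      (AddMonoidHom.finsetSum_apply (fun i => σ ^ i) (Finset.range p) (Additive.ofMul x)).symm.trans h3.symm
    have h5 := congrArg Additive.toMul h5'
    rw [toMul_sum] at h5
    simpa [hpow] using h5
  rw [← map_prod]
  exact (congrArg F h4).trans (map_one F)

variable [Finite G]

open Classical in
/-- Cancellation in orbits not fixed by the low degree elements. -/
theorem prod_eq_one_of_moved {Ω : Type*} [MulAction G Ω] [Finite Ω] {X B : Type*} [CommGroup B]
    (op : G → X → X) (hop : ∀ g h x, op (g * h) x = op g (op h x)) (f : Ω → X → B)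
    (hf : ∀ g c x, f (g • c) x = f c (op g⁻¹ x)) (Eng : Set G)
    (htr : ∀ v ∈ Eng, ∀ c x, ∏ i ∈ Finset.range p, f c (op (v ^ i) x) = 1)
    (hinv : ∀ v ∈ Eng, v⁻¹ ∈ Eng) (L : Subgroup G) : IsPGroup p L →
      ∀ D : Finset Ω, (∀ l ∈ L, ∀ c ∈ D, l • c ∈ D) →
      (∀ c ∈ D, ∃ v ∈ Eng, v ∈ L ∧ v • c ≠ c) → ∀ x, ∏ c ∈ D, f c x = 1 := by
  suffices ∀ (n : ℕ) (L : Subgroup G), Nat.card L ≤ n → IsPGroup p L →
      ∀ D : Finset Ω, (∀ l ∈ L, ∀ c ∈ D, l • c ∈ D) →
      (∀ c ∈ D, ∃ v ∈ Eng, v ∈ L ∧ v • c ≠ c) → ∀ x, ∏ c ∈ D, f c x = 1 from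
    this (Nat.card L) L le_rfl
  intro n
  induction n with
  | zero => intro L hL; exact absurd (Nat.card_pos (α := L)) (by omega)
  | succ n ih =>
    intro L hLn hLp D
    induction hD : D.card using Nat.strong_induction_on generalizing D with
    | _ m ihD =>
    intro hinvD hmv x
    rcases D.eq_empty_or_nonempty with rfl | ⟨c, hc⟩
    · simp
    let O : Finset Ω := D.filter (fun d => ∃ l ∈ L, l • c = d)
    have hOinv : ∀ l ∈ L, ∀ d ∈ O, l • d ∈ O := by
      intro l hl d hd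
      obtain ⟨hdD, l', hl', rfl⟩ := Finset.mem_filter.1 hd
      exact Finset.mem_filter.2 ⟨hinvD l hl _ hdD, l * l', mul_mem hl hl', mul_smul l l' c⟩
    have hrest : ∀ x, ∏ d ∈ D \ O, f d x = 1 := by
      refine ihD _ ?_ _ rfl (fun l hl d hd => ?_) fun d hd => hmv d (Finset.mem_sdiff.1 hd).1
      · rw [← hD]
        refine Finset.card_lt_card ⟨Finset.sdiff_subset, fun h => ?_⟩
        exact (Finset.mem_sdiff.1 (h hc)).2 (Finset.mem_filter.2 ⟨hc, 1, one_mem L, one_smul G c⟩)
      · obtain ⟨hdD, hdO⟩ := Finset.mem_sdiff.1 hd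
        refine Finset.mem_sdiff.2 ⟨hinvD l hl d hdD, fun h => hdO ?_⟩
        have := hOinv l⁻¹ (inv_mem hl) _ h
        rwa [inv_smul_smul] at this
    rw [← Finset.prod_sdiff (Finset.filter_subset _ D : O ⊆ D), hrest x, one_mul]
    -- a maximal subgroup containing the stabilizer
    haveI : Group.IsNilpotent L := hLp.isNilpotent
    let L₀ : Subgroup L := MulAction.stabilizer L c
    have hL₀ : L₀ ≠ ⊤ := by
      intro h
      obtain ⟨v, -, hvL, hvc⟩ := hmv c hc
      exact hvc (h.ge (mem_top (⟨v, hvL⟩ : L)))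
    obtain ⟨L₁, hL₁, hle⟩ := ((eq_top_or_exists_le_coatom L₀).resolve_left hL₀)
    haveI : L₁.Normal := Group.normalizerCondition_of_isNilpotent.normal_of_coatom L₁ hL₁
    have hidx : L₁.index = p := by
      obtain ⟨k, hk⟩ := (hLp.to_quotient L₁).exists_card_eq
      rw [index_eq_card]
      rcases k with _ | k
      · exfalso
        rw [pow_zero, ← index_eq_card, index_eq_one] at hk
        exact hL₁.1 hk
      obtain ⟨M, hM⟩ := Sylow.exists_subgroup_card_pow_prime p (n := 1)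
        (by rw [hk, pow_one]; exact dvd_pow_self p (Nat.succ_ne_zero k))
      have hcm : L₁ < M.comap (QuotientGroup.mk' L₁) := by
        refine lt_of_le_of_ne (fun l hl => ?_) fun e => ?_
        · show QuotientGroup.mk' L₁ l ∈ M
          rw [show QuotientGroup.mk' L₁ l = 1 from (QuotientGroup.eq_one_iff l).2 hl]
          exact one_mem M
        · have : M = ⊥ := by
            rw [← map_comap_eq_self_of_surjective (QuotientGroup.mk'_surjective L₁) M, ← e,
              Subgroup.map_eq_bot_iff, QuotientGroup.ker_mk']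
          rw [this, card_bot, pow_one] at hM
          exact (Fact.out : p.Prime).ne_one hM.symm
      have hMtop : M = ⊤ := by
        rw [← map_comap_eq_self_of_surjective (QuotientGroup.mk'_surjective L₁) M, hL₁.2 _ hcm,
          map_top_of_surjective _ (QuotientGroup.mk'_surjective L₁)]
      rw [hMtop, card_top, pow_one] at hM
      exact hM
    by_cases hcase : ∃ v ∈ Eng, ∃ hv : v ∈ L, (⟨v, hv⟩ : L) ∉ L₁
    swap
    · push Not at hcase
      refine ih (L₁.map L.subtype) ?_ ((hLp.to_subgroup L₁).map _) O ?_ ?_ x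
      · rw [card_map_of_injective L.subtype_injective]
        have h1 := L₁.card_mul_index
        rw [hidx] at h1
        have h2 : Nat.card L₁ < Nat.card L := h1 ▸ lt_mul_of_one_lt_right Nat.card_pos (Fact.out : p.Prime).one_lt
        omega
      · rintro _ ⟨l, -, rfl⟩ d hd
        exact hOinv l l.2 d hd
      · intro d hd
        obtain ⟨v, hv, hvL, hvc⟩ := hmv d (Finset.mem_filter.1 hd).1
        exact ⟨v, hv, ⟨⟨v, hvL⟩, hcase v hv hvL, rfl⟩, hvc⟩
    obtain ⟨v, hv, hvL, hvL₁⟩ := hcase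
    let O₁ : Finset Ω := O.filter (fun d => ∃ l ∈ L₁, (l : G) • c = d)
    have hvord : ∀ i : ℕ, (⟨v, hvL⟩ : L) ^ i ∈ L₁ → p ∣ i := by
      intro i hi
      have h1 : ((⟨v, hvL⟩ : L) : L ⧸ L₁) ^ i = 1 := by
        rw [← QuotientGroup.mk_pow, QuotientGroup.eq_one_iff]; exact hi
      have h2 : orderOf ((⟨v, hvL⟩ : L) : L ⧸ L₁) = p :=
        orderOf_eq_prime (by rw [← hidx, index_eq_card]; exact pow_card_eq_one')
          (fun h => hvL₁ ((QuotientGroup.eq_one_iff _).1 h))
      exact h2 ▸ orderOf_dvd_of_pow_eq_one h1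
    have hcover : ∀ l : L, ∃ i < p, ((⟨v, hvL⟩ : L) ^ i)⁻¹ * l ∈ L₁ := by
      intro l
      have hcard : Nat.card (L ⧸ L₁) = p := by rw [← index_eq_card, hidx]
      have hgen : ((l : L ⧸ L₁)) ∈ zpowers ((⟨v, hvL⟩ : L) : L ⧸ L₁) :=
        mem_zpowers_of_prime_card hcard fun h => hvL₁ ((QuotientGroup.eq_one_iff _).1 h)
      obtain ⟨i, hi⟩ := (mem_powers_iff_mem_zpowers.2 hgen)
      refine ⟨i % p, Nat.mod_lt i (Fact.out : p.Prime).pos, ?_⟩
      have h2 : ((⟨v, hvL⟩ : L) : L ⧸ L₁) ^ p = 1 := hcard ▸ pow_card_eq_one'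
      have h3 : ((⟨v, hvL⟩ : L) : L ⧸ L₁) ^ (i % p) = (l : L ⧸ L₁) := by
        rw [← hi]
        beta_reduce
        conv_rhs => rw [← Nat.mod_add_div i p, pow_add, pow_mul, h2, one_pow, mul_one]
      rw [← QuotientGroup.eq, QuotientGroup.mk_pow]
      exact h3
    have hsplit : ∏ d ∈ O, f d x = ∏ d ∈ O₁, ∏ i ∈ Finset.range p, f ((v ^ i) • d) x := by
      rw [← Finset.prod_product']
      refine (Finset.prod_nbij (fun q : Ω × ℕ => (v ^ q.2) • q.1) ?_ ?_ ?_ (fun q _ => rfl)).symm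
      · rintro ⟨d, i⟩ hq
        obtain ⟨hd, -⟩ := Finset.mem_product.1 hq
        exact hOinv _ (pow_mem hvL i) d (Finset.mem_filter.1 hd).1
      · rintro ⟨d, i⟩ hq ⟨d', i'⟩ hq' h
        rw [Finset.mem_coe, Finset.mem_product] at hq hq'
        obtain ⟨-, l, hl, rfl⟩ := Finset.mem_filter.1 hq.1
        obtain ⟨-, l', hl', rfl⟩ := Finset.mem_filter.1 hq'.1
        have hi := Finset.mem_range.1 hq.2
        have hi' := Finset.mem_range.1 hq'.2
        have h' : (((⟨v, hvL⟩ : L) ^ i' * l')⁻¹ * ((⟨v, hvL⟩ : L) ^ i * l)) ∈ L₀ := by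
          show (((((⟨v, hvL⟩ : L) ^ i' * l')⁻¹ * ((⟨v, hvL⟩ : L) ^ i * l)) : L) : G) • c = c
          rw [coe_mul, coe_inv, coe_mul, coe_mul, SubmonoidClass.coe_pow, SubmonoidClass.coe_pow,
            mul_smul, mul_smul]
          simp only at h
          rw [h]
          simp [mul_smul]
        have h'' := hle h'
        have hq1 : (((⟨v, hvL⟩ : L) : L ⧸ L₁)) ^ i = (((⟨v, hvL⟩ : L) : L ⧸ L₁)) ^ i' := by
          rw [← QuotientGroup.eq_one_iff] at h''
          rw [QuotientGroup.mk_mul, QuotientGroup.mk_inv, QuotientGroup.mk_mul, QuotientGroup.mk_mul,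
            (QuotientGroup.eq_one_iff l).2 hl, (QuotientGroup.eq_one_iff l').2 hl', mul_one, mul_one,
            inv_mul_eq_one] at h''
          exact h''.symm
        have hii : i = i' := by
          rcases le_total i i' with hle' | hle'
          · have := hvord (i' - i) ((QuotientGroup.eq_one_iff _).1 (by
              rw [QuotientGroup.mk_pow]
              rw [← Nat.add_sub_cancel' hle', pow_add] at hq1
              exact (mul_eq_left.1 hq1.symm)))
            have := Nat.eq_zero_of_dvd_of_lt this (by omega)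
            omega
          · have := hvord (i - i') ((QuotientGroup.eq_one_iff _).1 (by
              rw [QuotientGroup.mk_pow]
              rw [← Nat.add_sub_cancel' hle', pow_add] at hq1
              exact (mul_eq_left.1 hq1)))
            have := Nat.eq_zero_of_dvd_of_lt this (by omega)
            omega
        subst hii
        simp only at h
        rw [smul_left_cancel_iff] at h
        exact Prod.ext h rfl
      · intro d hd
        obtain ⟨hdD, l, hl, rfl⟩ := Finset.mem_filter.1 (Finset.mem_coe.1 hd)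
        obtain ⟨i, hi, hil⟩ := hcover ⟨l, hl⟩
        refine ⟨((((⟨v, hvL⟩ : L) ^ i)⁻¹ * ⟨l, hl⟩ : L) • c, i), ?_, ?_⟩
        · rw [Finset.mem_coe, Finset.mem_product]
          refine ⟨Finset.mem_filter.2 ⟨?_, ⟨_, hil, rfl⟩⟩, Finset.mem_range.2 hi⟩
          exact hOinv _ (((⟨v, hvL⟩ : L) ^ i)⁻¹ * ⟨l, hl⟩ : L).2 c
            (Finset.mem_filter.2 ⟨hc, 1, one_mem L, one_smul G c⟩)
        · show (v ^ i) • ((((⟨v, hvL⟩ : L) ^ i)⁻¹ * ⟨l, hl⟩ : L) : G) • c = l • c
          rw [← mul_smul, coe_mul, coe_inv, SubmonoidClass.coe_pow, mul_inv_cancel_left]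
    rw [hsplit]
    refine Finset.prod_eq_one fun d _ => ?_
    simp only [hf, ← inv_pow]
    exact htr v⁻¹ (hinv v hv) d x

/-- The main lemma. -/
theorem inf_commutator_le_of_engel (S : Sylow p G) (T Q : Subgroup G) (hQ : pCore p G = Q)
    (hTS : T ≤ (S : Subgroup G))
    (hT : ∀ H : Subgroup G, H ≠ ⊤ → (S : Subgroup G) ≤ H → (S : Subgroup G) ⊓ ⁅H, H⁆ ≤ T)
    (hSQ : ¬ (S : Subgroup G) ≤ Q)
    (heng : normalizer ((T ⊓ Q : Subgroup G) : Set G) ≠ ⊤ → ∃ u ∈ (S : Subgroup G), u ∉ Q ∧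
      ∀ U V : Subgroup G, IsChiefFactor U V → U ≤ Q → iterCommutator U (zpowers u) (p - 1) ≤ V) :
    Q ⊓ _root_.commutator G ≤ T := by
  classical
  haveI : Q.Normal := by
    rw [← hQ]
    haveI := Agent.Solv.pCore_characteristic p G
    infer_instance
  have hQS : Q ≤ (S : Subgroup G) := hQ ▸ Agent.Solv.pCore_le_sylow S
  obtain ⟨w₀, hw₀S, hw₀Q⟩ := SetLike.not_le_iff_exists.1 hSQ
  have hSne : (S : Subgroup G) ≠ ⊤ := fun h => hw₀Q (hQ ▸
    Agent.Solv.le_pCore (hN := (h ▸ inferInstance : (S : Subgroup G).Normal)) S.isPGroup' hw₀S)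
  have hS' : ⁅(S : Subgroup G), (S : Subgroup G)⁆ ≤ T :=
    le_trans (le_inf (commutator_le_self _) le_rfl) (hT _ hSne le_rfl)
  -- the quotient of the Sylow subgroup
  have hTn : (T.subgroupOf (S : Subgroup G)).Normal := by
    refine ⟨fun t ht s => ?_⟩
    have h1 : ⁅(s : G), (t : G)⁆ ∈ T := hS' (commutator_mem_commutator s.2 t.2)
    have h2 := mul_mem h1 ht
    simpa [commutatorElement_def, mem_subgroupOf, mul_assoc] using h2
  letI : CommGroup ((S : Subgroup G) ⧸ T.subgroupOf (S : Subgroup G)) :=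
    { (inferInstance : Group ((S : Subgroup G) ⧸ T.subgroupOf (S : Subgroup G))) with
      mul_comm := fun a b => by
        obtain ⟨a, rfl⟩ := QuotientGroup.mk_surjective a
        obtain ⟨b, rfl⟩ := QuotientGroup.mk_surjective b
        rw [← QuotientGroup.mk_mul, ← QuotientGroup.mk_mul, QuotientGroup.eq]
        have h1 : ⁅((b⁻¹ : (S : Subgroup G)) : G), ((a⁻¹ : (S : Subgroup G)) : G)⁆ ∈ T :=
          hS' (commutator_mem_commutator (b⁻¹).2 (a⁻¹).2)
        simpa [commutatorElement_def, mem_subgroupOf, mul_assoc] using h1 }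
  let ψ : (S : Subgroup G) →* (S : Subgroup G) ⧸ T.subgroupOf (S : Subgroup G) := QuotientGroup.mk' _
  let Ψ : G → (S : Subgroup G) ⧸ T.subgroupOf (S : Subgroup G) := fun w =>
    if h : w ∈ (S : Subgroup G) then ψ ⟨w, h⟩ else 1
  have hΨ : ∀ w (h : w ∈ (S : Subgroup G)), Ψ w = ψ ⟨w, h⟩ := fun w h => dif_pos h
  have hΨmul : ∀ a ∈ (S : Subgroup G), ∀ b ∈ (S : Subgroup G), Ψ (a * b) = Ψ a * Ψ b := fun a ha b hb => by
    rw [hΨ a ha, hΨ b hb, hΨ _ (mul_mem ha hb), ← map_mul]; rfl
  have hΨT : ∀ w ∈ T, Ψ w = 1 := fun w hw => by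
    rw [hΨ w (hTS hw)]; exact (QuotientGroup.eq_one_iff _).2 hw
  have hΨker : ∀ w ∈ (S : Subgroup G), Ψ w = 1 → w ∈ T := fun w hw h => by
    rw [hΨ w hw] at h
    exact (QuotientGroup.eq_one_iff (N := T.subgroupOf (S : Subgroup G)) _).1 h
  have hΨconj : ∀ w ∈ (S : Subgroup G), ∀ s ∈ (S : Subgroup G), Ψ (s * w * s⁻¹) = Ψ w := fun w hw s hs => by
    rw [hΨmul _ (mul_mem hs hw) _ (inv_mem hs), hΨmul _ hs _ hw, mul_comm (Ψ s), mul_assoc,
      ← hΨmul _ hs _ (inv_mem hs), mul_inv_cancel, hΨT 1 (one_mem T), mul_one]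
  -- the terms of the transfer
  have hconjQ : ∀ (g : G), ∀ w ∈ Q, g⁻¹ * w * g ∈ (S : Subgroup G) := fun g w hw => hQS (by
    simpa using ‹Q.Normal›.conj_mem w hw g⁻¹)
  let f : G ⧸ (S : Subgroup G) → G → (S : Subgroup G) ⧸ T.subgroupOf (S : Subgroup G) := fun c w =>
    Ψ ((c.out : G)⁻¹ * w * c.out)
  have hfmk : ∀ (g : G), ∀ w ∈ Q, f (g : G ⧸ (S : Subgroup G)) w = Ψ (g⁻¹ * w * g) := fun g w hw => by
    obtain ⟨s, hs⟩ := QuotientGroup.mk_out_eq_mul (S : Subgroup G) g
    show Ψ ((((g : G ⧸ (S : Subgroup G))).out)⁻¹ * w * ((g : G ⧸ (S : Subgroup G))).out) = _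
    rw [hs, show (g * (s : G))⁻¹ * w * (g * s) = (s : G)⁻¹ * (g⁻¹ * w * g) * ((s : G)⁻¹)⁻¹ by group,
      hΨconj _ (hconjQ g w hw) _ (inv_mem s.2)]
  have hV : ∀ w (hw : w ∈ Q), MonoidHom.transfer ψ w = ∏ᶠ c, f c w := by
    intro w hw
    haveI : Fintype (G ⧸ (S : Subgroup G)) := Fintype.ofFinite _
    haveI : Fintype (Quotient (MulAction.orbitRel (zpowers w) (G ⧸ (S : Subgroup G)))) := Fintype.ofFinite _
    have hfix : ∀ c : G ⧸ (S : Subgroup G), w • c = c := by
      intro c
      obtain ⟨g, rfl⟩ := QuotientGroup.mk_surjective c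
      show ((w * g : G) : G ⧸ (S : Subgroup G)) = (g : G ⧸ (S : Subgroup G))
      rw [QuotientGroup.eq, show (w * g)⁻¹ * g = (g⁻¹ * w * g)⁻¹ by group]
      exact inv_mem (hconjQ g w hw)
    have hfixz : ∀ (z : zpowers w) (c : G ⧸ (S : Subgroup G)), z • c = c := by
      rintro ⟨_, k, rfl⟩ c
      exact MulAction.mem_stabilizer_iff.1 (zpow_mem (MulAction.mem_stabilizer_iff.2 (hfix c)) k)
    rw [MonoidHom.transfer_eq_prod_quotient_orbitRel_zpowers_quot, finprod_eq_prod_of_fintype]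
    refine Fintype.prod_bijective Quotient.out ⟨Quotient.out_injective, fun c => ⟨Quotient.mk'' c, ?_⟩⟩ _ _
      fun q => ?_
    · obtain ⟨z, hz⟩ := Quotient.exact' (Quotient.out_eq' (Quotient.mk'' c :
        Quotient (MulAction.orbitRel (zpowers w) (G ⧸ (S : Subgroup G)))))
      rw [← hz]
      exact hfixz z c
    · have hper : Function.minimalPeriod (w • ·) q.out = 1 :=
        Function.minimalPeriod_eq_one_iff_isFixedPt.2 (hfix _)
      show ψ _ = Ψ _
      rw [hΨ _ (hconjQ _ w hw)]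
      congr 1
      exact Subtype.ext (by simp [hper])
  have hVcomm : ∀ w ∈ _root_.commutator G, MonoidHom.transfer ψ w = 1 := fun w hw =>
    Abelianization.commutator_subset_ker _ hw
  have hcop : ¬ p ∣ Nat.card (G ⧸ (S : Subgroup G)) := by rw [← index_eq_card]; exact S.not_dvd_index
  have hpow : ∀ w ∈ (S : Subgroup G), ∀ n : ℕ, ¬ p ∣ n → Ψ w ^ n = 1 → w ∈ T := by
    intro w hw n hn h
    refine hΨker w hw ?_
    obtain ⟨k, hk⟩ := (S.isPGroup'.to_quotient (T.subgroupOf (S : Subgroup G))) (Ψ w)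
    exact orderOf_eq_one_iff.1 (Nat.eq_one_of_dvd_coprimes
      (Nat.Coprime.pow_left k ((Nat.Prime.coprime_iff_not_dvd Fact.out).2 hn))
      (orderOf_dvd_of_pow_eq_one hk) (orderOf_dvd_of_pow_eq_one h))
  let M := normalizer ((T ⊓ Q : Subgroup G) : Set G)
  have hinvM : ∀ H : Subgroup G, H ≠ ⊤ → (S : Subgroup G) ≤ H → ∀ h ∈ H, ∀ w ∈ Q,
      w⁻¹ * (h * w * h⁻¹) ∈ T ⊓ Q := by
    intro H hH hSH h hh w hw
    have h1 : w⁻¹ * (h * w * h⁻¹) ∈ Q := mul_mem (inv_mem hw) (‹Q.Normal›.conj_mem w hw h)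
    refine ⟨hT H hH hSH ⟨hQS h1, ?_⟩, h1⟩
    rw [show w⁻¹ * (h * w * h⁻¹) = ⁅w⁻¹, h⁆ by rw [commutatorElement_def]; group]
    exact commutator_mem_commutator (inv_mem (hSH (hQS hw))) hh
  have hle_M : ∀ H : Subgroup G, H ≠ ⊤ → (S : Subgroup G) ≤ H → H ≤ M := by
    intro H hH hSH h hh
    have key : ∀ h ∈ H, ∀ w ∈ T ⊓ Q, h * w * h⁻¹ ∈ T ⊓ Q := fun h hh w hw => by
      have := mul_mem hw (hinvM H hH hSH h hh w hw.2)
      rwa [mul_inv_cancel_left] at this
    rw [mem_normalizer_iff]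
    refine fun w => ⟨key h hh w, fun hw => ?_⟩
    have := key h⁻¹ (inv_mem hh) _ hw
    simpa [mul_assoc] using this
  intro x hx
  by_cases hM : M = ⊤
  · -- `[Q, G] ≤ T`
    haveI : (T ⊓ Q).Normal := normalizer_eq_top_iff.1 hM
    let K : Subgroup G :=
      { carrier := {g | ∀ w ∈ Q, w⁻¹ * (g * w * g⁻¹) ∈ T ⊓ Q}
        one_mem' := fun w _ => by simp
        mul_mem' := fun {g h} hg hh w hw => by
          have := mul_mem (hh w hw) (hg _ (‹Q.Normal›.conj_mem w hw h))
          simpa [mul_assoc] using this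
        inv_mem' := fun {g} hg w hw => by
          have := inv_mem (hg _ (‹Q.Normal›.conj_mem w hw g⁻¹))
          simpa [mul_assoc] using this }
    haveI : K.Normal := ⟨fun k hk g w hw => by
      have := (inferInstance : (T ⊓ Q).Normal).conj_mem _ (hk _ (‹Q.Normal›.conj_mem w hw g⁻¹)) g
      simpa [mul_assoc] using this⟩
    have hSK : (S : Subgroup G) ≤ K := fun s hs => hinvM _ hSne le_rfl s hs
    have hNS : normalizer ((S : Subgroup G) : Set G) ≠ ⊤ := fun h => hw₀Q (hQ ▸
      Agent.Solv.le_pCore (hN := normalizer_eq_top_iff.1 h) S.isPGroup' hw₀S)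
    have hK : K = ⊤ := by
      rw [← Sylow.normalizer_sup_eq_top' (N := K) S hSK, eq_comm, sup_eq_right]
      exact fun g hg => hinvM _ hNS le_normalizer g hg
    haveI : Fintype (G ⧸ (S : Subgroup G)) := Fintype.ofFinite _
    have h1 := hVcomm x hx.2
    rw [hV x hx.1, finprod_eq_prod_of_fintype, Finset.prod_eq_pow_card (b := Ψ x) fun c _ => ?_] at h1
    · refine hpow x (hQS hx.1) _ ?_ h1
      rwa [Finset.card_univ, ← Nat.card_eq_fintype_card]
    · obtain ⟨g, rfl⟩ := QuotientGroup.mk_surjective c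
      rw [hfmk g x hx.1]
      have h2 : x⁻¹ * (g⁻¹ * x * g⁻¹⁻¹) ∈ T ⊓ Q := (hK.ge (mem_top g⁻¹)) x hx.1
      rw [inv_inv] at h2
      rw [show g⁻¹ * x * g = x * (x⁻¹ * (g⁻¹ * x * g)) by group, hΨmul _ (hQS hx.1) _ (hTS h2.1), hΨT _ h2.1,
        mul_one]
  obtain ⟨u₀, hu₀S, hu₀Q, hu₀⟩ := heng hM
  -- the core of `T ∩ Q`
  set R := (T ⊓ Q).normalCore with hR
  have hRT : R ≤ T := (normalCore_le _).trans inf_le_left
  have hRQ : R ≤ Q := (normalCore_le _).trans inf_le_right
  set D := (Q ⊓ _root_.commutator G) ⊔ R with hD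
  by_cases hDR : D ≤ R
  · exact hRT (hDR (mem_sup_left hx))
  exfalso
  haveI : D.Normal := inferInstance
  have hDQ : D ≤ Q := sup_le inf_le_left hRQ
  -- a chief factor
  let π := QuotientGroup.mk' R
  have hπs : Function.Surjective π := QuotientGroup.mk'_surjective R
  haveI : (D.map π).Normal := ‹D.Normal›.map π hπs
  obtain ⟨Ub, hUbn, hUbD, hUb0, hUbmin⟩ := Agent.Solv.exists_minimal_normal_le (N := D.map π) (fun h => hDR (by
    intro d hd
    have : π d ∈ D.map π := mem_map_of_mem π hd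
    rw [h, mem_bot] at this
    exact (QuotientGroup.eq_one_iff d).1 this))
  haveI := hUbn
  set U := Ub.comap π with hU
  haveI : U.Normal := hUbn.comap π
  have hRU : R ≤ U := fun r hr => by
    show π r ∈ Ub
    rw [show π r = 1 from (QuotientGroup.eq_one_iff r).2 hr]
    exact one_mem Ub
  have hUD : U ≤ D := by
    refine (comap_mono hUbD).trans ?_
    rw [comap_map_eq, QuotientGroup.ker_mk']
    exact sup_le le_rfl le_sup_right
  have hUQ : U ≤ Q := hUD.trans hDQ
  have hUmap : U.map π = Ub := map_comap_eq_self_of_surjective hπs Ub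
  have hchief : IsChiefFactor U R := by
    refine ⟨lt_of_le_of_ne hRU fun e => hUb0 ?_, inferInstance, inferInstance, fun N hN hRN hNU => ?_⟩
    · rw [← hUmap, ← e, QuotientGroup.map_mk'_self]
    · haveI := hN
      rcases hUbmin (N.map π) (hN.map π hπs) (hUmap ▸ map_mono hNU) with h | h
      · left
        refine le_antisymm (fun n hn => ?_) hRN
        have : π n ∈ N.map π := mem_map_of_mem π hn
        rw [h, mem_bot] at this
        exact (QuotientGroup.eq_one_iff n).1 this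
      · right
        rw [hU, ← h, comap_map_eq, QuotientGroup.ker_mk', sup_eq_left.2 hRN]
  have hUbp : IsPGroup p Ub := hUmap ▸ ((S.isPGroup'.to_le (hUQ.trans hQS)).map π)
  haveI : Group.IsNilpotent Ub := hUbp.isNilpotent
  obtain ⟨hUbc, p', hp', hUbe⟩ := Agent.Solv.minimal_normal_elementary Ub hUb0 hUbmin
  have hUbe' : ∀ z ∈ Ub, z ^ p = 1 := by
    obtain ⟨⟨z, hz⟩, hz1⟩ := Ub.ne_bot_iff_exists_ne_one.1 hUb0
    obtain ⟨k, hk⟩ := hUbp ⟨z, hz⟩
    have h1 : orderOf z = p' := by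
      haveI := Fact.mk hp'
      exact orderOf_eq_prime (hUbe z hz) fun e => hz1 (Subtype.ext e)
    have h2 : p' ∣ p ^ k := h1 ▸ orderOf_dvd_of_pow_eq_one (congrArg Subtype.val hk)
    have h3 : p' = p := (Nat.prime_dvd_prime_iff_eq hp' Fact.out).1 (hp'.dvd_of_dvd_pow h2)
    exact h3 ▸ hUbe
  -- the elements acting with low degree
  let Eng : Set G := {v | v ∈ (S : Subgroup G) ∧
    ∀ U V : Subgroup G, IsChiefFactor U V → U ≤ Q → iterCommutator U (zpowers v) (p - 1) ≤ V}
  have hEinv : ∀ v ∈ Eng, v⁻¹ ∈ Eng := fun v hv => ⟨inv_mem hv.1, by rw [zpowers_inv]; exact hv.2⟩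
  let A := closure Eng
  have hAS : A ≤ (S : Subgroup G) := (closure_le _).2 fun v hv => hv.1
  have hEconj : ∀ v ∈ Eng, ∀ g : G, g * v * g⁻¹ ∈ (S : Subgroup G) → g * v * g⁻¹ ∈ Eng := by
    intro v hv g hgS
    refine ⟨hgS, fun U V hUV hUQ' => ?_⟩
    have hit : ∀ k, iterCommutator U (zpowers (g * v * g⁻¹)) k =
        (iterCommutator U (zpowers v) k).map (MulAut.conj g).toMonoidHom := by
      intro k
      induction k with
      | zero =>
        show U = U.map _
        haveI := hUV.2.1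
        refine le_antisymm (fun z hz => ?_) ?_
        · exact ⟨g⁻¹ * z * g, by simpa using (inferInstance : U.Normal).conj_mem z hz g⁻¹, by simp [mul_assoc]⟩
        · rintro _ ⟨z, hz, rfl⟩
          exact (inferInstance : U.Normal).conj_mem z hz g
      | succ k ih =>
        show ⁅iterCommutator U (zpowers (g * v * g⁻¹)) k, zpowers (g * v * g⁻¹)⁆ =
          (⁅iterCommutator U (zpowers v) k, zpowers v⁆ : Subgroup G).map (MulAut.conj g).toMonoidHom
        rw [ih, map_commutator, MonoidHom.map_zpowers]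
        rfl
    rw [hit]
    haveI := hUV.2.2.1
    rw [map_le_iff_le_comap]
    refine (hv.2 U V hUV hUQ').trans fun z hz => ?_
    exact (inferInstance : V.Normal).conj_mem z hz g
  have hNA : normalizer (A : Set G) ≠ ⊤ := fun h => hu₀Q (hQ ▸
    Agent.Solv.le_pCore (hN := normalizer_eq_top_iff.1 h) (S.isPGroup'.to_le hAS)
      (subset_closure ⟨hu₀S, hu₀⟩))
  have hSNA : (S : Subgroup G) ≤ normalizer (A : Set G) := by
    refine Agent.Solv.le_normalizer_of_conj_mem fun s hs a ha => ?_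
    induction ha using closure_induction with
    | mem v hv => exact subset_closure (hEconj v hv s (mul_mem (mul_mem hs hv.1) (inv_mem hs)))
    | one => simp
    | mul a b _ _ iha ihb => simpa [mul_assoc] using mul_mem iha ihb
    | inv a _ iha => simpa [mul_assoc] using inv_mem iha
  -- the trace of the low degree elements
  have hUbconj : ∀ (g : G) (z : U), g * z * g⁻¹ ∈ U := fun g z => (inferInstance : U.Normal).conj_mem z z.2 g
  let op : G → U → U := fun g z => ⟨g * z * g⁻¹, hUbconj g z⟩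
  let F : G ⧸ (S : Subgroup G) → U → (S : Subgroup G) ⧸ T.subgroupOf (S : Subgroup G) := fun c z => f c z
  have hFsmul : ∀ (g : G) c z, F (g • c) z = F c (op g⁻¹ z) := by
    intro g c z
    obtain ⟨h, rfl⟩ := QuotientGroup.mk_surjective c
    show f ((g * h : G) : G ⧸ (S : Subgroup G)) (z : G) = f (h : G ⧸ (S : Subgroup G)) (g⁻¹ * z * g⁻¹⁻¹)
    rw [hfmk _ _ (hUQ z.2), hfmk _ _ (hUQ (hUbconj g⁻¹ z))]
    congr 1
    group
  have htr : ∀ v ∈ Eng, ∀ c z, ∏ i ∈ Finset.range p, F c (op (v ^ i) z) = 1 := by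
    intro v hv c z
    -- factor through the chief factor
    have hlin : ∀ a ∈ U, ∀ b ∈ U, f c (a * b) = f c a * f c b := fun a ha b hb => by
      show Ψ _ = Ψ _ * Ψ _
      rw [← hΨmul _ (hconjQ _ a (hUQ ha)) _ (hconjQ _ b (hUQ hb))]
      congr 1
      group
    let Fc : U →* (S : Subgroup G) ⧸ T.subgroupOf (S : Subgroup G) :=
      MonoidHom.mk' (fun a => f c a) fun a b => hlin a a.2 b b.2
    let pU : U →* Ub := (π.comp U.subtype).codRestrict Ub fun a => a.2
    have hpUs : Function.Surjective pU := fun b => by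
      obtain ⟨g, hg⟩ := hπs b
      exact ⟨⟨g, show π g ∈ Ub from hg ▸ b.2⟩, Subtype.ext hg⟩
    have hker : pU.ker ≤ Fc.ker := fun a ha => by
      have haR : (a : G) ∈ R := (QuotientGroup.eq_one_iff _).1 (congrArg Subtype.val ha :)
      refine MonoidHom.mem_ker.2 ?_
      show Ψ _ = 1
      exact hΨT _ (hRT (by simpa using (inferInstance : R.Normal).conj_mem _ haR (c.out : G)⁻¹))
    let Fb : Ub →* (S : Subgroup G) ⧸ T.subgroupOf (S : Subgroup G) := pU.liftOfSurjective hpUs ⟨Fc, hker⟩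
    have hFb : ∀ a : U, Fb (pU a) = F c a := fun a => pU.liftOfRightInverse_comp_apply _ _ _ a
    have hUbv : iterCommutator Ub (zpowers (π v)) (p - 1) = ⊥ := by
      have hit : ∀ k, iterCommutator Ub (zpowers (π v)) k = (iterCommutator U (zpowers v) k).map π := by
        intro k
        induction k with
        | zero => exact hUmap.symm
        | succ k ih =>
          show ⁅iterCommutator Ub (zpowers (π v)) k, zpowers (π v)⁆ =
            (⁅iterCommutator U (zpowers v) k, zpowers v⁆ : Subgroup G).map π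
          rw [ih, map_commutator, MonoidHom.map_zpowers]
      rw [hit, eq_bot_iff, map_le_iff_le_comap]
      exact (hv.2 U R hchief hUQ).trans fun z hz => mem_bot.2 ((QuotientGroup.eq_one_iff z).2 hz)
    have hprod := prod_conj_eq_one Ub (fun a ha b hb => congrArg Subtype.val
      (hUbc.is_comm.comm (⟨a, ha⟩ : Ub) ⟨b, hb⟩)) hUbe' (π v) hUbv Fb (pU z)
    have hterm : ∀ i : ℕ, (MulAut.conjNormal (π v) ^ i : MulAut Ub) (pU z) = pU (op (v ^ i) z) := by
      intro i
      rw [← map_pow, ← map_pow]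
      refine Subtype.ext ?_
      rw [MulAut.conjNormal_apply]
      show π (v ^ i) * π (z : G) * (π (v ^ i))⁻¹ = π (v ^ i * z * (v ^ i)⁻¹)
      rw [map_mul, map_mul, map_inv]
    simp only [hterm, hFb] at hprod
    exact hprod
  haveI : Fintype (G ⧸ (S : Subgroup G)) := Fintype.ofFinite _
  let Fix : Finset (G ⧸ (S : Subgroup G)) := Finset.univ.filter fun c => ∀ a ∈ A, a • c = c
  have hfixM : ∀ c ∈ Fix, ∀ z : U, F c z = Ψ z := by
    intro c hc z
    obtain ⟨g, rfl⟩ := QuotientGroup.mk_surjective c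
    have hfix := (Finset.mem_filter.1 hc).2
    have hgA : ∀ a ∈ A, g⁻¹ * a * g ∈ (S : Subgroup G) := fun a ha => by
      have h : ((a * g : G) : G ⧸ (S : Subgroup G)) = (g : G ⧸ (S : Subgroup G)) := hfix a ha
      rw [QuotientGroup.eq] at h
      have := inv_mem h
      simpa [mul_assoc] using this
    have hle : A.map (MulAut.conj g⁻¹).toMonoidHom ≤ A := by
      rw [MonoidHom.map_closure, closure_le]
      rintro _ ⟨v, hv, rfl⟩
      have h1 := hgA v (subset_closure hv)
      have h2 := hEconj v hv g⁻¹ (by simpa using h1)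
      exact subset_closure (by simpa using h2)
    have hgN : g⁻¹ ∈ normalizer (A : Set G) := by
      have heq := eq_of_le_of_card_ge hle (card_map_of_injective (MulAut.conj g⁻¹).injective).ge
      rw [mem_normalizer_iff]
      refine fun a => ⟨fun ha => hle ⟨a, ha, rfl⟩, fun ha => ?_⟩
      obtain ⟨b, hb, he⟩ := heq.symm.le ha
      rwa [(MulAut.conj g⁻¹).injective he] at hb
    show f (g : G ⧸ (S : Subgroup G)) (z : G) = Ψ z
    have h2 := hinvM _ hNA hSNA g⁻¹ hgN z (hUQ z.2)
    rw [inv_inv] at h2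
    rw [hfmk g _ (hUQ z.2), show g⁻¹ * (z : G) * g = z * ((z : G)⁻¹ * (g⁻¹ * z * g)) by group,
      hΨmul _ (hQS (hUQ z.2)) _ (hTS h2.1), hΨT _ h2.1, mul_one]
  have hmoved : ∀ z : U, ∏ c ∈ Finset.univ \ Fix, F c z = 1 := by
    intro z
    refine prod_eq_one_of_moved (p := p) op (fun g h a => Subtype.ext (by simp [op, mul_assoc])) F hFsmul Eng htr
      hEinv (S : Subgroup G) S.isPGroup' _ (fun l hl c hc => ?_) (fun c hc => ?_) z
    · rw [Finset.mem_sdiff] at hc ⊢
      refine ⟨Finset.mem_univ _, fun h => hc.2 ?_⟩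
      rw [Finset.mem_filter] at h ⊢
      refine ⟨Finset.mem_univ _, fun a ha => ?_⟩
      have h1 := h.2 _ ((mem_normalizer_iff.1 (hSNA hl) a).1 ha)
      rw [mul_smul, mul_smul, inv_smul_smul, smul_left_cancel_iff] at h1
      exact h1
    · rw [Finset.mem_sdiff] at hc
      by_contra hcon
      push Not at hcon
      refine hc.2 (Finset.mem_filter.2 ⟨Finset.mem_univ _, fun a ha => ?_⟩)
      induction ha using closure_induction with
      | mem v hv => exact hcon v hv hv.1
      | one => simp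
      | mul a b _ _ iha ihb => rw [mul_smul, ihb, iha]
      | inv a _ iha => rw [inv_smul_eq_iff, iha]
  have hcard : ¬ p ∣ Fix.card := by
    intro h
    haveI := Fintype.ofFinite A
    have h1 := (S.isPGroup'.to_le hAS).card_modEq_card_fixedPoints (G ⧸ (S : Subgroup G))
    have h2 : Nat.card (MulAction.fixedPoints A (G ⧸ (S : Subgroup G))) = Fix.card := by
      rw [Nat.card_coe_set_eq, ← Set.ncard_coe_finset]
      congr 1
      ext c
      simp only [Fix, MulAction.mem_fixedPoints, Finset.coe_filter, Finset.mem_univ, true_and, Set.mem_ofPred_eq]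
      exact ⟨fun h a ha => h ⟨a, ha⟩, fun h a => h a a.2⟩
    rw [h2] at h1
    exact hcop (Nat.modEq_zero_iff_dvd.1 (h1.trans (Nat.modEq_zero_iff_dvd.2 h)))
  have hUT : U ≤ T ⊓ Q := fun z hz => by
    refine ⟨hpow z (hQS (hUQ hz)) _ hcard ?_, hUQ hz⟩
    have h1 : ∏ c, F c ⟨z, hz⟩ = Ψ z ^ Fix.card := by
      rw [← Finset.prod_sdiff (Finset.subset_univ Fix), hmoved, one_mul]
      exact Finset.prod_eq_pow_card fun c hc => hfixM c hc ⟨z, hz⟩
    have h2 : MonoidHom.transfer ψ z = 1 := by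
      obtain ⟨d, hd, r, hr, rfl⟩ := mem_sup_of_normal_right.1 (hUD hz)
      rw [map_mul, hVcomm d hd.2, one_mul, hV r (hRQ hr)]
      refine finprod_eq_one_of_forall_eq_one fun c => ?_
      show Ψ _ = 1
      exact hΨT _ (hRT (by simpa using (inferInstance : R.Normal).conj_mem r hr (c.out : G)⁻¹))
    rw [hV z (hUQ hz), finprod_eq_prod_of_fintype] at h2
    exact h1.symm.trans h2
  exact hchief.1.not_ge (normal_le_normalCore.2 hUT)

open FusionRed (ind Sec IsFam)
open TransferRed (CT tSub le_tSub inf_commutator_subgroup_le)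

variable {𝓦 : Set (∀ (Q : Type u) [Group Q], Subgroup Q)}

omit [Fact p.Prime] in
theorem card_le_of_sec {X : Type u} [Group X] (h : Sec X G) : Nat.card X ≤ Nat.card G := by
  obtain ⟨K, f, hf⟩ := h
  exact (Nat.card_le_card_of_surjective f hf).trans (card_le_card_group K)

omit [Fact p.Prime] in
/-- The normalizer of the intersection with the `p`-core contains the proper overgroups of `S`. -/
theorem le_normalizer_inf (S T Q : Subgroup G) [Q.Normal] (hQS : Q ≤ S)
    (hT : ∀ H : Subgroup G, H ≠ ⊤ → S ≤ H → S ⊓ ⁅H, H⁆ ≤ T)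
    (H : Subgroup G) (hH : H ≠ ⊤) (hSH : S ≤ H) : H ≤ normalizer ((T ⊓ Q : Subgroup G) : Set G) := by
  refine Agent.Solv.le_normalizer_of_conj_mem fun h hh w hw => ?_
  have h1 : w⁻¹ * (h * w * h⁻¹) ∈ Q := mul_mem (inv_mem hw.2) (‹Q.Normal›.conj_mem w hw.2 h)
  have h2 : w⁻¹ * (h * w * h⁻¹) ∈ T := by
    refine hT H hH hSH ⟨hQS h1, ?_⟩
    rw [show w⁻¹ * (h * w * h⁻¹) = ⁅w⁻¹, h⁆ by rw [commutatorElement_def]; group]
    exact commutator_mem_commutator (inv_mem (hSH (hQS hw.2))) hh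
  have := mul_mem hw (show w⁻¹ * (h * w * h⁻¹) ∈ T ⊓ Q from ⟨h2, h1⟩)
  rwa [mul_inv_cancel_left] at this

/-- Transfer control from the low degree elements in the constrained sections. -/
theorem ct_of_engel (h𝓦 : IsFam p 𝓦)
    (h : ∀ (Y : Type u) [Group Y] [Finite Y], Sec Y G → centralizer (pCore p Y : Set Y) ≤ pCore p Y →
      ∀ T : Sylow p Y, (∃ W ∈ 𝓦, (inducedFunctor (G := Y) W (T : Subgroup Y)).Normal) ∨
        ∃ g ∈ (T : Subgroup Y), g ∉ pCore p Y ∧ ∀ U V : Subgroup Y, IsChiefFactor U V → U ≤ pCore p Y →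
          iterCommutator U (zpowers g) (p - 1) ≤ V) :
    ∀ (X : Type u) [Group X] [Finite X], Sec X G → CT p X 𝓦 := by
  suffices ∀ (n : ℕ) (X : Type u) [Group X] [Finite X], Nat.card X ≤ n → Sec X G → CT p X 𝓦 from
    fun X _ _ => this (Nat.card X) X le_rfl
  intro n
  induction n with
  | zero =>
    intro X _ _ hn
    exact absurd (Nat.card_pos (α := X)) (by omega)
  | succ n ih =>
    intro X _ _ hn hX
    refine TransferRed.ct_of_hyp h𝓦 X fun Y _ _ hY hYc T => ?_
    rcases h Y (hY.trans hX) hYc T with ⟨W, hW, hWn⟩ | ⟨g, hgT, hgQ, hg⟩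
    · refine le_trans (le_of_eq_of_le ?_ (le_inf (inf_le_left.trans (Agent.Solv.pCore_le_sylow T)) inf_le_right))
        (le_tSub (𝓕 := ind Y 𝓦) (W := inducedFunctor W) ⟨W, hW, rfl⟩ _)
      rw [normalizer_eq_top_iff.2 hWn]
      rfl
    · refine inf_commutator_le_of_engel T _ (pCore p Y) rfl (TransferRed.tSub_le _ _) (fun H hH hTH => ?_)
        (fun hle => hgQ (hle hgT)) fun _ => ⟨g, hgT, hgQ, hg⟩
      refine inf_commutator_subgroup_le h𝓦 T hTH (ih H ?_ ((Sec.subgroup H).trans (hY.trans hX)))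
      have h1 := card_le_card_group H
      have h2 : Nat.card H ≠ Nat.card Y := fun e => hH (eq_top_of_card_eq H e)
      have h3 := card_le_of_sec hY
      omega

end Cfsg.Agent.Local.EngelTransfer
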