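import Cfsg.Agent.Lib.Local.FusionReduction
import Cfsg.Agent.Lib.Local.EngelTransfer
import Cfsg.Agent.Lib.Solv.ThompsonComplement

/-!
Thompson's normal `p`-complement criterion in functor form.
-/

set_option autoImplicit false
set_option linter.style.haveILetI false

universe u

namespace Cfsg.Agent.Local.NPCFunctor

open Subgroup
open scoped Pointwise commutatorElement
open FusionRed (Sec inducedFunctor_map isConjugacyFunctor_induced normalizer_le_normalizer_functor)
open Agent.Solv

variable {p : ℕ} [Fact p.Prime] {W : ∀ (Q : Type u) [Group Q], Subgroup Q}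

omit [Fact p.Prime] in
/-- The normalizer of the functor value in a subgroup sits in the one of the group. -/
theorem npc_normalizer_of_injective {G H : Type u} [Group G] [Finite G] [Group H] [Finite H]
    [Fact p.Prime] (hW : IsCharPFunctor.{u} p W) (f : H →* G) (hf : Function.Injective f)
    (Q : Subgroup H) (hQ : IsPGroup p Q)
    (h : HasNormalPComplement p (normalizer ((inducedFunctor W (Q.map f) : Subgroup G) : Set G))) :
    HasNormalPComplement p (normalizer ((inducedFunctor W Q : Subgroup H) : Set H)) := by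
  refine hasNormalPComplement_of_injective
    ((f.comp (normalizer ((inducedFunctor W Q : Subgroup H) : Set H)).subtype).codRestrict
      (normalizer ((inducedFunctor W (Q.map f) : Subgroup G) : Set G)) fun x => ?_) ?_ h
  · exact map_normalizer_le_of_eq f
      (inducedFunctor_map hW f Q hQ fun y _ hy => hf (hy.trans f.map_one.symm)).symm
      (mem_map_of_mem f x.2)
  · exact fun x y hxy => Subtype.ext (hf (congrArg Subtype.val hxy))

/-- The normal `p`-complement criterion. -/
theorem npc_of_functor {G : Type u} [Group G] [Finite G] (hW : IsCharPFunctor.{u} p W)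
    (hgood : ∀ (Y : Type u) [Group Y] [Finite Y], Sec Y G →
      centralizer (pCore p Y : Set Y) ≤ pCore p Y → HasNormalPComplement p (Y ⧸ pCore p Y) →
      ∀ T : Sylow p Y, IsCoatom (T : Subgroup Y) →
        (inducedFunctor (G := Y) W (T : Subgroup Y)).Normal)
    (S : Sylow p G)
    (hN : HasNormalPComplement p (normalizer ((inducedFunctor W (S : Subgroup G) : Subgroup G) : Set G))) :
    HasNormalPComplement p G := by
  suffices ∀ (n : ℕ) (X : Type u) [Group X] [Finite X], Nat.card X ≤ n → Sec X G → ∀ S : Sylow p X,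
      HasNormalPComplement p (normalizer ((inducedFunctor W (S : Subgroup X) : Subgroup X) : Set X)) →
      HasNormalPComplement p X from this _ G le_rfl Sec.refl S hN
  clear hN S
  intro n
  induction n with
  | zero => intro X _ _ hn; exact absurd (Nat.card_pos (α := X)) (by omega)
  | succ n ih =>
  intro X _ _ hn hX S hN
  by_contra hcon
  have hcj := isConjugacyFunctor_induced (G := X) hW
  -- the `p'`-core is trivial
  have hO : pPrimeCore p X = ⊥ := by
    by_contra hne
    set f := QuotientGroup.mk' (pPrimeCore p X) with hf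
    have hlt : Nat.card (X ⧸ pPrimeCore p X) < Nat.card X := by
      rw [card_eq_card_quotient_mul_card_subgroup (pPrimeCore p X)]
      exact lt_mul_of_one_lt_right Nat.card_pos ((one_lt_card_iff_ne_bot _).mpr hne)
    refine hcon (hasNormalPComplement_of_normal_coprime _ (card_pPrimeCore_coprime p X)
      (ih _ (by omega) ((Sec.of_surjective f (QuotientGroup.mk'_surjective _)).trans hX)
        (S.mapSurjective (QuotientGroup.mk'_surjective _)) ?_))
    have hinf : (S : Subgroup X) ⊓ pPrimeCore p X = ⊥ :=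
      inf_eq_bot_of_isPGroup S.isPGroup' (card_pPrimeCore_coprime p X)
    rw [Sylow.coe_mapSurjective, inducedFunctor_map hW f _ S.isPGroup' fun x hx h => by
      rw [← mem_bot, ← hinf]; exact ⟨hx, (QuotientGroup.eq_one_iff x).1 h⟩]
    set w := inducedFunctor W (S : Subgroup X) with hw
    have hwp : IsPGroup p w := S.isPGroup'.to_le (map_subtype_le _)
    refine hasNormalPComplement_of_le (L := (normalizer (w : Set X)).map f) ?_
      (hasNormalPComplement_of_surjective _ (f.subgroupMap_surjective _) hN)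
    intro y hy
    obtain ⟨g, rfl⟩ := QuotientGroup.mk'_surjective _ y
    haveI := hwp.isNilpotent
    obtain ⟨m, hm, hmg⟩ := exists_mul_of_map_eq (pPrimeCore p X) w inferInstance
      (coprime_card_of_isPGroup hwp (card_pPrimeCore_coprime p X)) hy
    refine ⟨_, hmg, ?_⟩
    rw [map_mul, map_inv, show f m = 1 from (QuotientGroup.eq_one_iff m).mpr hm, inv_one, one_mul]
  -- proper overgroups of a Sylow subgroup
  have hsub : ∀ H : Subgroup X, H ≠ ⊤ → ∀ P : Sylow p X, (P : Subgroup X) ≤ H →
      HasNormalPComplement p H := by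
    intro H hH P hPH
    have hlt : Nat.card H < Nat.card X :=
      lt_of_le_of_ne (card_le_card_group _) fun h => hH (eq_top_of_card_eq _ h)
    obtain ⟨g, hg⟩ := MulAction.exists_smul_eq X P S
    refine ih H (by omega) ((Sec.subgroup H).trans hX) (P.subtype hPH) ?_
    refine npc_normalizer_of_injective hW ((MulAut.conj g).toMonoidHom.comp H.subtype)
      ((MulAut.conj g).injective.comp H.subtype_injective) _ (P.subtype hPH).isPGroup' ?_
    rw [← map_map, Sylow.coe_subtype, map_subgroupOf_eq_of_le hPH]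
    have e : (P : Subgroup X).map (MulAut.conj g).toMonoidHom = (S : Subgroup X) := by
      rw [← hg]; rfl
    rw [e]; exact hN
  -- the `p`-core is nontrivial
  have hU : pCore p X ≠ ⊥ := by
    intro hbot
    set bad := {V : Subgroup X | IsPGroup p V ∧ V ≠ ⊥ ∧
      ¬ HasNormalPComplement p (normalizer (V : Set X))} with hbad
    have hne : bad.Nonempty := by
      by_contra hempty
      refine hcon (hasNormalPComplement_iff_normalizer.mpr fun V hV hV1 => ?_)
      by_contra hV2
      exact hempty ⟨V, hV, hV1, hV2⟩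
    let pf : Subgroup X → ℕ := fun V => (Nat.card V).factorization p
    obtain ⟨V, ⟨hVp, hV1, hVb⟩, hmax⟩ :=
      Set.exists_max_image bad (fun V => pf (normalizer (V : Set X))) (Set.toFinite _) hne
    set H := normalizer (V : Set X) with hH
    have hHne : H ≠ ⊤ := fun h => hV1 (le_bot_iff.mp (hbot ▸
      (haveI := normalizer_eq_top_iff.mp h; le_pCore hVp)))
    have hlt : Nat.card H < Nat.card X :=
      lt_of_le_of_ne (card_le_card_group _) fun h => hHne (eq_top_of_card_eq _ h)
    obtain ⟨R⟩ : Nonempty (Sylow p H) := inferInstance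
    set R0 := (R : Subgroup H).map H.subtype with hR0
    have hR0p : IsPGroup p R0 := R.isPGroup'.map _
    obtain ⟨P, hP⟩ := hR0p.exists_le_sylow
    rcases eq_or_lt_of_le hP with heq | hltP
    · exact hVb (hsub H hHne P (heq ▸ map_subtype_le _))
    set R1 := (P : Subgroup X) ⊓ normalizer (R0 : Set X) with hR1
    have hR1lt : R0 < R1 := by
      haveI := P.isPGroup'.isNilpotent
      refine lt_of_le_of_ne (le_inf hP le_normalizer) fun h => ?_
      refine (Group.normalizerCondition_of_isNilpotent (R0.subgroupOf (P : Subgroup X)) ?_).ne ?_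
      · rw [lt_top_iff_ne_top, ne_eq, subgroupOf_eq_top]
        exact fun h => hltP.not_ge h
      · rw [← subgroupOf_normalizer_eq hP]
        conv_lhs => rw [h, hR1, inf_subgroupOf_left]
    have hR0ne : R0 ≠ ⊥ := by
      intro h
      haveI : (V.subgroupOf H).Normal := normal_subgroupOf_of_le_normalizer le_rfl
      refine hV1 (le_bot_iff.mp (h ▸ ?_))
      exact (map_subgroupOf_eq_of_le (le_normalizer : V ≤ H)).ge.trans
        (map_mono (IsPGroup.le_sylow_of_normal (N := V.subgroupOf H) hVp.comap_subtype R))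
    refine hVb (ih H (by omega) ((Sec.subgroup H).trans hX) R ?_)
    refine npc_normalizer_of_injective hW H.subtype H.subtype_injective _ R.isPGroup' ?_
    by_contra hb
    rw [← hR0] at hb
    have h1 : pf (normalizer ((inducedFunctor W R0 : Subgroup X) : Set X)) ≤ pf H :=
      hmax _ ⟨hR0p.to_le (map_subtype_le _), (hcj R0 hR0p).2.1 hR0ne, hb⟩
    obtain ⟨k, hk⟩ := IsPGroup.iff_card.mp (P.isPGroup'.to_le (inf_le_left : R1 ≤ P))
    obtain ⟨j, hj⟩ := IsPGroup.iff_card.mp hR0p
    have hp := (Fact.out : p.Prime)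
    have h2 : k ≤ pf (normalizer ((inducedFunctor W R0 : Subgroup X) : Set X)) :=
      (hp.pow_dvd_iff_le_factorization Nat.card_pos.ne').mp (hk ▸ card_dvd_of_le
        ((inf_le_right : R1 ≤ normalizer (R0 : Set X)).trans
          (normalizer_le_normalizer_functor hcj hR0p)))
    have h3 : Nat.card R0 < Nat.card R1 :=
      lt_of_le_of_ne (card_le_of_le hR1lt.le) fun h => hR1lt.ne (eq_of_le_of_card_ge hR1lt.le h.ge)
    rw [hk, hj, Nat.pow_lt_pow_iff_right hp.one_lt] at h3
    have h4 : pf H = j := by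
      have h5 : Nat.card R0 = p ^ pf H := by
        rw [hR0, card_map_subtype, R.card_eq_multiplicity]
      rw [hj] at h5
      exact (Nat.pow_right_injective hp.two_le h5).symm
    omega
  set U := pCore p X with hUdef
  haveI : U.Normal := by
    haveI := pCore_characteristic p X
    infer_instance
  have hUS : U ≤ (S : Subgroup X) := pCore_le_sylow S
  -- the quotient by the `p`-core
  have hQ : HasNormalPComplement p (X ⧸ U) := by
    set f := QuotientGroup.mk' U with hf
    set Sb := S.mapSurjective (QuotientGroup.mk'_surjective U) with hSb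
    have hlt : Nat.card (X ⧸ U) < Nat.card X := by
      rw [card_eq_card_quotient_mul_card_subgroup U]
      exact lt_mul_of_one_lt_right Nat.card_pos ((one_lt_card_iff_ne_bot _).mpr hU)
    rcases eq_or_ne (Sb : Subgroup (X ⧸ U)) ⊥ with h0 | h0
    · refine hasNormalPComplement_of_coprime (Nat.Coprime.symm ?_)
      rw [(Fact.out : p.Prime).coprime_iff_not_dvd]
      exact fun h => Sb.ne_bot_of_dvd_card h h0
    refine ih _ (by omega) ((Sec.of_surjective f (QuotientGroup.mk'_surjective _)).trans hX) Sb ?_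
    set wb := inducedFunctor W (Sb : Subgroup (X ⧸ U)) with hwb
    have hwp : IsPGroup p wb := Sb.isPGroup'.to_le (map_subtype_le _)
    set U1 := wb.comap f with hU1
    have hU1p : IsPGroup p U1 :=
      hwp.comap_of_ker_isPGroup f (by rw [hf, QuotientGroup.ker_mk']; exact isPGroup_pCore p X)
    have hN1 : normalizer (U1 : Set X) ≠ ⊤ := by
      intro h
      haveI := normalizer_eq_top_iff.mp h
      have h1 : U1 ≤ U := le_pCore hU1p
      refine (isConjugacyFunctor_induced (G := X ⧸ U) hW _ Sb.isPGroup').2.1 h0 ?_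
      rw [← hwb, ← map_comap_eq_self_of_surjective (QuotientGroup.mk'_surjective U) wb, ← hf, ← hU1,
        Subgroup.map_eq_bot_iff, hf, QuotientGroup.ker_mk']
      exact h1
    have hSle : (S : Subgroup X) ≤ normalizer (U1 : Set X) := by
      intro s hs
      rw [hU1, ← comap_normalizer_eq_of_surjective _ (QuotientGroup.mk'_surjective U)]
      refine normalizer_le_normalizer_functor (isConjugacyFunctor_induced hW) Sb.isPGroup'
        (le_normalizer ?_)
      rw [hSb, Sylow.coe_mapSurjective]
      exact mem_map_of_mem f hs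
    have hnpc := hsub _ hN1 S hSle
    refine hasNormalPComplement_of_le (L := (normalizer (U1 : Set X)).map f) ?_
      (hasNormalPComplement_of_surjective _ (f.subgroupMap_surjective _) hnpc)
    intro y hy
    obtain ⟨g, rfl⟩ := QuotientGroup.mk'_surjective U y
    refine mem_map_of_mem f ?_
    rw [hU1, ← comap_normalizer_eq_of_surjective _ (QuotientGroup.mk'_surjective U)]
    exact hy
  -- the group is constrained
  have hsolv : IsPSolvable p X := by
    refine isPSolvable_of_extension U (isPSolvable_of_isPGroup (isPGroup_pCore p X)) ?_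
    refine isPSolvable_of_extension (pPrimeCore p (X ⧸ U))
      (isPSolvable_of_coprime (card_pPrimeCore_coprime p _)) (isPSolvable_of_isPGroup ?_)
    obtain ⟨k, hk⟩ := hasNormalPComplement_iff_index.mp hQ
    exact IsPGroup.of_card (n := k) (by rw [← index_eq_card, hk])
  have hC : centralizer (pCore p X : Set X) ≤ pCore p X := centralizer_pCore_le_of_isPSolvable hsolv hO
  -- the Sylow subgroup is maximal
  have hco : IsCoatom (S : Subgroup X) := by
    refine ⟨fun h => hcon (hasNormalPComplement_of_isPGroup ?_), fun H hH => ?_⟩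
    · exact (h ▸ S.isPGroup' : IsPGroup p (⊤ : Subgroup X)).of_equiv topEquiv
    by_contra hne
    have hnpc := hsub H hne S hH.le
    set R := (pPrimeCore p H).map H.subtype with hR
    have hRc : (Nat.card R).Coprime p := by
      rw [hR, card_map_subtype]; exact card_pPrimeCore_coprime p H
    have hUR : U ⊓ R = ⊥ := inf_eq_bot_of_isPGroup (isPGroup_pCore p X) hRc
    have hR1 : R = ⊥ := by
      refine le_bot_iff.mp (hUR ▸ le_inf (le_trans ?_ hC) le_rfl)
      intro r hr
      rw [mem_centralizer_iff]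
      intro u hu
      have h1 : ⁅u, r⁆ ∈ U ⊓ R := by
        refine ⟨(?_ : ⁅u, r⁆ ∈ U), (?_ : ⁅u, r⁆ ∈ R)⟩
        · rw [commutatorElement_def, show u * r * u⁻¹ * r⁻¹ = u * (r * u⁻¹ * r⁻¹) by group]
          exact mul_mem hu (‹U.Normal›.conj_mem _ (inv_mem hu) r)
        · rw [commutatorElement_def]
          refine mul_mem ?_ (inv_mem hr)
          obtain ⟨r', hr', rfl⟩ := hr
          exact ⟨⟨u, (hUS.trans hH.le) hu⟩ * r' * ⟨u, (hUS.trans hH.le) hu⟩⁻¹,
            (inferInstance : (pPrimeCore p H).Normal).conj_mem r' hr' _, rfl⟩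
      rw [hUR, mem_bot, commutatorElement_eq_one_iff_mul_comm] at h1
      exact h1
    have h2 := isComplement'_pPrimeCore hnpc (S.subtype hH.le)
    rw [(map_eq_bot_iff_of_injective _ H.subtype_injective).mp hR1, isComplement'_bot_left,
      Sylow.coe_subtype, subgroupOf_eq_top] at h2
    exact hH.not_ge h2
  haveI := hgood X hX hC hQ S hco
  exact hcon (hasNormalPComplement_of_injective ((MonoidHom.id X).codRestrict _ fun x =>
    normalizer_eq_top_iff.mpr this ▸ mem_top x) (fun a b hab => congrArg Subtype.val hab) hN)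

/-- An operator of trace zero centralizes the abelian coprime groups of operators it normalizes. -/
theorem commute_of_trace_eq_one {A : Type*} [CommGroup A] [Finite A] (hA : ∀ a : A, a ^ p = 1)
    (R : Subgroup (MulAut A)) (hRab : ∀ r ∈ R, ∀ s ∈ R, r * s = s * r)
    (hRc : (Nat.card R).Coprime p) (σ : MulAut A) (hσR : σ ∈ normalizer (R : Set (MulAut A)))
    (hσ : ∀ a, ∏ i ∈ Finset.range p, (σ ^ i) a = 1) :
    ∀ r ∈ R, σ * r = r * σ := by
  classical
  haveI : Finite (MulAut A) := Finite.of_injective (fun e => (e : A → A)) DFunLike.coe_injective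
  letI := Fintype.ofFinite R
  have hp := (Fact.out : p.Prime)
  have hσp : σ ^ p = 1 := by
    refine MulEquiv.ext fun a => ?_
    have h1 := hσ (σ a)
    have h2 := (Finset.prod_range_succ (fun i => (σ ^ i) a) p).symm.trans
      (Finset.prod_range_succ' (fun i => (σ ^ i) a) p)
    simp only [hσ a, one_mul, pow_zero, MulAut.one_apply] at h2
    rw [h2, MulAut.one_apply]
    conv_lhs => arg 1; arg 2; ext i; rw [pow_succ, MulAut.mul_apply]
    rw [h1, one_mul]
  have hconj : ∀ (i : ℕ) (r : MulAut A), r ∈ R → σ ^ i * r * (σ ^ i)⁻¹ ∈ R := fun i r hr =>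
    (mem_normalizer_iff.1 (pow_mem hσR i) r).1 hr
  let ψ : ℕ → MulAut A → MulAut A := fun i r => r⁻¹ * (σ ^ i * r * (σ ^ i)⁻¹)
  have hψmem : ∀ i r, r ∈ R → ψ i r ∈ R := fun i r hr => mul_mem (inv_mem hr) (hconj i r hr)
  have hψmul : ∀ i r, r ∈ R → ∀ s, s ∈ R → ψ i (r * s) = ψ i r * ψ i s := by
    intro i r hr s hs
    show (r * s)⁻¹ * (σ ^ i * (r * s) * (σ ^ i)⁻¹) = _
    rw [show (r * s)⁻¹ * (σ ^ i * (r * s) * (σ ^ i)⁻¹) = s⁻¹ * ψ i r * (σ ^ i * s * (σ ^ i)⁻¹) by
      simp only [ψ]; group, hRab _ (inv_mem hs) _ (hψmem i r hr), mul_assoc]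
  have hE : ∀ (i : ℕ) (b : A) (r' : R),
      ψ i r' (∏ r : R, ψ i r b) = ∏ r : R, ψ i r b := by
    intro i b r'
    rw [map_prod]
    refine Fintype.prod_equiv (Equiv.mulLeft r') _ _ fun r => ?_
    rw [← MulAut.mul_apply, ← hψmul i _ r'.2 _ r.2]
    rfl
  have htot : ∀ a : A, ∏ i ∈ Finset.range p, ∏ r : R, ψ i r ((σ ^ i) a) = 1 := by
    intro a
    rw [Finset.prod_comm]
    refine Finset.prod_eq_one fun r _ => ?_
    have h1 := congrArg ((r : MulAut A)⁻¹ : MulAut A) (hσ ((r : MulAut A) a))
    rw [map_prod, map_one] at h1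
    refine Eq.trans (Finset.prod_congr rfl fun i _ => ?_) h1
    simp only [ψ, MulAut.mul_apply, MulAut.inv_apply_self]
  intro r₀ hr₀
  have hfix : ∀ a : A, ψ 1 r₀ (a ^ Nat.card R) = a ^ Nat.card R := by
    intro a
    have h0 : ∏ r : R, ψ 0 r ((σ ^ 0) a) = a ^ Nat.card R := by
      simp [ψ, Nat.card_eq_fintype_card]
    have hgood : ∀ i ∈ Finset.range p, i ≠ 0 →
        ψ 1 r₀ (∏ r : R, ψ i r ((σ ^ i) a)) = ∏ r : R, ψ i r ((σ ^ i) a) := by
      intro i hi hi0
      set E := ∏ r : R, ψ i r ((σ ^ i) a) with hEdef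
      have hj : ∀ (j : ℕ) (r : MulAut A), r ∈ R → ψ (i * j) r E = E := by
        intro j
        induction j with
        | zero => intro r _; simp [ψ]
        | succ j ih =>
          intro r hr
          have h1 : ψ (i * (j + 1)) r = ψ (i * j) r * ψ i (σ ^ (i * j) * r * (σ ^ (i * j))⁻¹) := by
            simp only [ψ]
            rw [show i * (j + 1) = i + i * j by ring, pow_add]
            group
          rw [h1, MulAut.mul_apply, hE i _ ⟨_, hconj (i * j) r hr⟩, ih r hr]
      have hcop : i.Coprime p := Nat.Coprime.symm ((hp.coprime_iff_not_dvd).2 fun h =>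
        hi0 (Nat.eq_zero_of_dvd_of_lt h (Finset.mem_range.1 hi)))
      obtain ⟨j, -, hj1⟩ := Nat.exists_mul_mod_eq_one_of_coprime hcop hp.one_lt
      have h2 : σ ^ (i * j) = σ ^ 1 := by
        rw [← Nat.mod_add_div (i * j) p, hj1, pow_add, pow_mul, hσp, one_pow, mul_one]
      have h3 := hj j r₀ hr₀
      simp only [ψ] at h3 ⊢
      rwa [h2] at h3
    have h4 := htot a
    rw [← Finset.prod_erase_mul _ _ (Finset.mem_range.2 hp.pos), h0] at h4
    have h5 : a ^ Nat.card R = (∏ i ∈ (Finset.range p).erase 0, ∏ r : R, ψ i r ((σ ^ i) a))⁻¹ :=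
      eq_inv_of_mul_eq_one_right h4
    rw [h5, map_inv, map_prod]
    congr 1
    exact Finset.prod_congr rfl fun i hi =>
      hgood i (Finset.mem_of_mem_erase hi) (Finset.ne_of_mem_erase hi)
  have hone : ψ 1 r₀ = 1 := by
    refine MulEquiv.ext fun b => ?_
    obtain ⟨m, -, hm⟩ := Nat.exists_mul_mod_eq_one_of_coprime hRc hp.one_lt
    have h1 : b = (b ^ m) ^ Nat.card R := by
      rw [← pow_mul, mul_comm, ← Nat.mod_add_div (Nat.card R * m) p, hm, pow_add, pow_mul, hA,
        one_pow, mul_one, pow_one]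
    rw [MulAut.one_apply, h1]
    exact hfix _
  simp only [ψ, pow_one, inv_mul_eq_one] at hone
  conv_rhs => rw [hone]
  group

/-- An element with a chief factor of low degree but nontrivial action. -/
theorem false_of_chief_engel {Y : Type u} [Group Y] [Finite Y]
    (hQ : HasNormalPComplement p (Y ⧸ pCore p Y)) (T : Sylow p Y) (hco : IsCoatom (T : Subgroup Y))
    {g : Y} (hgT : g ∈ (T : Subgroup Y)) (hgQ : g ∉ pCore p Y) {U V : Subgroup Y}
    (hUV : IsChiefFactor U V) (hUQ : U ≤ pCore p Y)
    (hit : iterCommutator U (zpowers g) (p - 1) ≤ V) (hne : ¬ ⁅U, zpowers g⁆ ≤ V) : False := by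
  classical
  have hp := (Fact.out : p.Prime)
  obtain ⟨hVU, hUn, hVn, hmin⟩ := hUV
  haveI := hUn
  haveI := hVn
  haveI : (pCore p Y).Normal := by
    haveI := pCore_characteristic p Y
    infer_instance
  set π := QuotientGroup.mk' V with hπ
  have hπs := QuotientGroup.mk'_surjective V
  set M := U.map π with hM
  haveI : M.Normal := hUn.map π hπs
  have hVM : V ≤ U := hVU.le
  have hM0 : M ≠ ⊥ := by
    rw [hM, Ne, Subgroup.map_eq_bot_iff, hπ, QuotientGroup.ker_mk']
    exact hVU.not_ge
  have hMmin : ∀ N : Subgroup (Y ⧸ V), N.Normal → N ≤ M → N = ⊥ ∨ N = M := by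
    intro N hN hNM
    have e : (N.comap π).map π = N := map_comap_eq_self_of_surjective hπs N
    have h1 : V ≤ N.comap π := fun v hv => by
      rw [mem_comap, show π v = 1 from (QuotientGroup.eq_one_iff v).2 hv]
      exact one_mem N
    have h2 : N.comap π ≤ U := by
      refine (comap_mono hNM).trans (le_of_eq ?_)
      rw [hM, comap_map_eq_self]
      rw [hπ, QuotientGroup.ker_mk']; exact hVM
    rcases hmin (N.comap π) (hN.comap π) h1 h2 with h | h
    · left
      rw [← e, h, Subgroup.map_eq_bot_iff, hπ, QuotientGroup.ker_mk']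
    · right
      rw [← e, h]
  have hMp : IsPGroup p M := ((isPGroup_pCore p Y).to_le hUQ).map π
  haveI := hMp.isNilpotent
  obtain ⟨hMc, r, hr, hexp⟩ := minimal_normal_elementary M hM0 hMmin
  have hMpow : ∀ x ∈ M, x ^ p = 1 := by
    intro x hx
    rcases eq_or_ne x 1 with rfl | hx1
    · exact one_pow p
    obtain ⟨k, hk⟩ := hMp ⟨x, hx⟩
    have hk' : x ^ (p ^ k) = 1 := congrArg Subtype.val hk
    have h1 : orderOf x = r := by
      haveI : Fact r.Prime := ⟨hr⟩
      exact orderOf_eq_prime (hexp x hx) hx1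
    rw [← (Nat.prime_dvd_prime_iff_eq hr hp).1
      (hr.dvd_of_dvd_pow (h1 ▸ orderOf_dvd_of_pow_eq_one hk'))]
    exact hexp x hx
  have hcomm : ∀ x ∈ M, ∀ y ∈ M, x * y = y * x := fun x hx y hy =>
    congrArg Subtype.val (hMc.is_comm.comm ⟨x, hx⟩ ⟨y, hy⟩)
  letI : CommGroup M := { (inferInstance : Group M) with
    mul_comm := fun a b => hMc.is_comm.comm a b }
  let c : Y →* MulAut M := (MulAut.conjNormal).comp π
  -- the Sylow subgroup has fixed points
  have hfix : ∀ (L : Subgroup Y), IsPGroup p L →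
      ∃ m : M, m ≠ 1 ∧ ∀ l ∈ L, c l m = m := by
    intro L hL
    let act : MulAction L M := MulAction.compHom M (c.comp L.subtype)
    have hcard : p ∣ Nat.card M := by
      obtain ⟨k, hk⟩ := IsPGroup.iff_card.mp hMp
      rcases k with _ | k
      · exact absurd (Subgroup.card_eq_one.mp (by rw [hk, pow_zero])) hM0
      · rw [hk]; exact dvd_pow_self p k.succ_ne_zero
    obtain ⟨m, hm, hm1⟩ := @IsPGroup.exists_fixed_point_of_prime_dvd_card_of_fixed_point p L _ hL _ M act
      _ hcard (1 : M) (fun l => map_one (c (l : Y)))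
    exact ⟨m, fun h => hm1 h.symm, fun l hl => hm ⟨l, hl⟩⟩
  -- the `p`-core acts trivially
  have hker : pCore p Y ≤ c.ker := by
    obtain ⟨m, hm1, hm⟩ := hfix _ (isPGroup_pCore p Y)
    let F : Subgroup (Y ⧸ V) :=
      M ⊓ centralizer (((pCore p Y).map π : Subgroup (Y ⧸ V)) : Set (Y ⧸ V))
    haveI : ((pCore p Y).map π).Normal := Normal.map inferInstance π hπs
    rcases hMmin F inferInstance inf_le_left with h | h
    · exfalso
      refine hm1 (Subtype.ext (mem_bot.1 (h ▸ (⟨m.2, ?_⟩ : (m : Y ⧸ V) ∈ F))))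
      rintro _ ⟨q, hq, rfl⟩
      have h1 := congrArg Subtype.val (hm q hq)
      simp only [c, MonoidHom.comp_apply, MulAut.conjNormal_apply] at h1
      exact mul_inv_eq_iff_eq_mul.1 h1
    · intro q hq
      rw [MonoidHom.mem_ker]
      refine MulEquiv.ext fun x => Subtype.ext ?_
      have h1 : (x : Y ⧸ V) ∈ F := h.ge x.2
      simp only [c, MonoidHom.comp_apply, MulAut.conjNormal_apply, MulAut.one_apply]
      rw [h1.2 _ (mem_map_of_mem π hq), mul_inv_cancel_right]
  -- the kernel does not cover
  have hnot : ¬ ((T : Subgroup Y) ⊔ c.ker = ⊤) := by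
    intro htop
    obtain ⟨m, hm1, hm⟩ := hfix _ T.isPGroup'
    have hfixed : ∀ y : Y, c y m = m := by
      intro y
      obtain ⟨t, ht, k, hk, rfl⟩ : ∃ t ∈ (T : Subgroup Y), ∃ k ∈ c.ker, t * k = y := by
        have := htop.ge (mem_top y)
        rwa [mem_sup_of_normal_right] at this
      rw [map_mul, MonoidHom.mem_ker.1 hk, mul_one, hm t ht]
    let F : Subgroup (Y ⧸ V) := M ⊓ centralizer (Set.univ : Set (Y ⧸ V))
    have hFn : F.Normal := ⟨fun x hx w => by
      have : w * x * w⁻¹ = x := by rw [hx.2 w trivial, mul_inv_cancel_right]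
      rw [this]; exact hx⟩
    rcases hMmin F hFn inf_le_left with h | h
    · refine hm1 (Subtype.ext (mem_bot.1 (h ▸ (⟨m.2, ?_⟩ : (m : Y ⧸ V) ∈ F))))
      intro w _
      obtain ⟨y, rfl⟩ := hπs w
      have h1 := congrArg Subtype.val (hfixed y)
      simp only [c, MonoidHom.comp_apply, MulAut.conjNormal_apply] at h1
      exact mul_inv_eq_iff_eq_mul.1 h1
    · refine hne (commutator_le.2 fun u hu z _ => ?_)
      rw [← QuotientGroup.eq_one_iff]
      show π ⁅u, z⁆ = 1
      rw [map_commutatorElement, commutatorElement_eq_one_iff_mul_comm]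
      exact ((h.ge (mem_map_of_mem π hu)).2 (π z) trivial).symm
  -- the quotient by the `p`-core
  set f := QuotientGroup.mk' (pCore p Y) with hf
  have hfs := QuotientGroup.mk'_surjective (pCore p Y)
  set Tb := (T : Subgroup Y).map f with hTb
  let φ : Y ⧸ pCore p Y →* MulAut M := QuotientGroup.lift (pCore p Y) c hker
  have hTT : Tb.comap f = (T : Subgroup Y) := by
    rw [hTb, comap_map_eq_self]
    rw [hf, QuotientGroup.ker_mk']; exact pCore_le_sylow T
  have hTbco : ∀ H : Subgroup (Y ⧸ pCore p Y), Tb < H → H = ⊤ := by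
    intro H hH
    have h1 := hco.2 (H.comap f) (hTT ▸ (comap_lt_comap_of_surjective hfs).2 hH)
    rw [← map_comap_eq_self_of_surjective hfs H, h1, map_top_of_surjective f hfs]
  set K := pPrimeCore p (Y ⧸ pCore p Y) with hK
  have hKc : (Nat.card K).Coprime p := card_pPrimeCore_coprime p _
  let Tbs := T.mapSurjective hfs
  have hTbs : (Tbs : Subgroup (Y ⧸ pCore p Y)) = Tb := Sylow.coe_mapSurjective hfs T
  have hcompl := isComplement'_pPrimeCore hQ Tbs
  rw [← hK, hTbs] at hcompl
  have hTbp : IsPGroup p Tb := T.isPGroup'.map f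
  have hinf : ∀ H : Subgroup (Y ⧸ pCore p Y), H ≤ K → H ≤ Tb → H = ⊥ := fun H h1 h2 =>
    le_bot_iff.mp ((IsComplement'.disjoint hcompl).eq_bot ▸ le_inf h1 h2)
  -- the complement is abelian
  have hKab : ∀ a ∈ K, ∀ b ∈ K, a * b = b * a := by
    rcases eq_or_ne K ⊥ with h0 | h0
    · intro a ha b hb
      rw [h0, mem_bot] at ha hb
      rw [ha, hb]
    obtain ⟨q, hq, hqd⟩ := Nat.exists_prime_and_dvd (n := Nat.card K)
      (by have := (one_lt_card_iff_ne_bot K).mpr h0; omega)
    haveI : Fact q.Prime := ⟨hq⟩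
    obtain ⟨R, hR⟩ := exists_invariant_sylow Tb K le_normalizer_of_normal
      (coprime_card_of_isPGroup hTbp hKc) (Or.inl (by haveI := hTbp.isNilpotent; infer_instance)) q
    set R' := (R : Subgroup K).map K.subtype with hR'
    set Z := R' ⊓ centralizer (R' : Set (Y ⧸ pCore p Y)) with hZ
    have hZK : Z ≤ K := inf_le_left.trans (map_subtype_le _)
    have hTZ : Tb ≤ normalizer (Z : Set (Y ⧸ pCore p Y)) := by
      refine Agent.Solv.le_normalizer_inf hR (le_normalizer_of_conj_mem fun t ht x hx => ?_)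
      rw [mem_centralizer_iff]
      intro w hw
      have h2 := hx (t⁻¹ * w * t) ((mem_normalizer_iff''.1 (hR ht) w).1 hw)
      calc w * (t * x * t⁻¹) = t * ((t⁻¹ * w * t) * x) * t⁻¹ := by group
        _ = t * x * t⁻¹ * w := by rw [h2]; group
    · have hZ0 : Z ≠ ⊥ := by
        have hR0 : (R : Subgroup K) ≠ ⊥ := R.ne_bot_of_dvd_card hqd
        haveI : Nontrivial (R : Subgroup K) := (nontrivial_iff_ne_bot _).mpr hR0
        haveI : Nontrivial (center (R : Subgroup K)) := IsPGroup.center_nontrivial R.isPGroup'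
        obtain ⟨z, hz⟩ := exists_ne (1 : center (R : Subgroup K))
        intro h
        refine hz (Subtype.ext (Subtype.ext (Subtype.ext (mem_bot.1 (h ▸ (⟨?_, ?_⟩ : ((((z : (R : Subgroup K)) : K)) : Y ⧸ pCore p Y) ∈ Z))))))
        · exact ⟨_, (z : (R : Subgroup K)).2, rfl⟩
        · rintro _ ⟨w, hw, rfl⟩
          exact congrArg (fun x : (R : Subgroup K) => ((x : K) : Y ⧸ pCore p Y)) (mem_center_iff.mp z.2 ⟨w, hw⟩)
      have hlt : Tb < Z ⊔ Tb := lt_of_le_of_ne le_sup_right fun h =>
        hZ0 (hinf Z hZK (h ▸ le_sup_left))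
      have htop := hTbco _ hlt
      have hKZ : K ≤ Z := by
        intro k hk
        have h1 := htop.ge (mem_top k)
        rw [← SetLike.mem_coe, coe_mul_of_right_le_normalizer_left Z Tb hTZ, Set.mem_mul] at h1
        obtain ⟨z, hz, t, ht, rfl⟩ := h1
        have h2 : t ∈ K := by
          have := mul_mem (inv_mem (hZK hz)) hk
          rwa [inv_mul_cancel_left] at this
        have h3 : t = 1 := by
          have : t ∈ (⊥ : Subgroup (Y ⧸ pCore p Y)) := (IsComplement'.disjoint hcompl).eq_bot ▸ ⟨h2, ht⟩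
          exact mem_bot.1 this
        rw [h3, mul_one]; exact hz
      intro a ha b hb
      exact (hKZ hb).2 a (hKZ ha).1
  -- the element centralizes the complement
  have hgb : f g ∈ centralizer (K : Set (Y ⧸ pCore p Y)) := by
    have hKk : K ⊓ φ.ker = ⊥ := by
      by_contra h0
      set L := K ⊓ φ.ker
      have hlt : Tb < Tb ⊔ L := lt_of_le_of_ne le_sup_left fun h =>
        h0 (hinf L inf_le_left (h ▸ le_sup_right))
      refine hnot (top_le_iff.1 ?_)
      intro y _
      have h1 : f y ∈ Tb ⊔ L := (hTbco _ hlt).ge (mem_top _)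
      rw [mem_sup_of_normal_right] at h1
      obtain ⟨_, ⟨t, ht, rfl⟩, l, hl, he⟩ := h1
      have h2 : t⁻¹ * y ∈ c.ker := by
        have e : f (t⁻¹ * y) = l := by rw [map_mul, map_inv, ← he, inv_mul_cancel_left]
        rw [MonoidHom.mem_ker, ← QuotientGroup.lift_mk' (pCore p Y) hker (t⁻¹ * y)]
        show φ (f (t⁻¹ * y)) = 1
        rw [e]
        exact hl.2
      have h3 := mul_mem_sup ht h2
      rwa [mul_inv_cancel_left] at h3
    have hσ : ∀ a : M, ∏ i ∈ Finset.range p, ((c g) ^ i) a = 1 := by
      intro a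
      have h1 : iterCommutator M (zpowers (π g)) (p - 1) = ⊥ := by
        have hk : ∀ k, iterCommutator M (zpowers (π g)) k = (iterCommutator U (zpowers g) k).map π := by
          intro k
          induction k with
          | zero => rfl
          | succ k ih =>
            rw [iterCommutator, iterCommutator, ih, map_commutator, MonoidHom.map_zpowers]
        rw [hk, Subgroup.map_eq_bot_iff, hπ, QuotientGroup.ker_mk']
        exact hit
      exact EngelTransfer.prod_conj_eq_one M hcomm hMpow (π g) h1 (MonoidHom.id M) a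
    have hcg : c g = φ (f g) := (QuotientGroup.lift_mk' (pCore p Y) hker g).symm
    have hnorm : c g ∈ normalizer ((K.map φ : Subgroup (MulAut M)) : Set (MulAut M)) := by
      rw [hcg]
      exact le_normalizer_map φ (mem_map_of_mem φ (le_normalizer_of_normal (K := ⊤) (mem_top _)))
    have hall := commute_of_trace_eq_one (fun a => Subtype.ext (hMpow a a.2)) (K.map φ) (by
      rintro _ ⟨a, ha, rfl⟩ _ ⟨b, hb, rfl⟩
      rw [← map_mul, ← map_mul, hKab a ha b hb])
      (hKc.coprime_dvd_left (card_map_dvd K φ)) (c g) hnorm hσ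
    intro k hk
    have h1 := hall (φ k) (mem_map_of_mem φ hk)
    rw [hcg, ← map_mul, ← map_mul] at h1
    have h2 : k * f g * k⁻¹ * (f g)⁻¹ ∈ K ⊓ φ.ker := by
      refine ⟨?_, ?_⟩
      · rw [show k * f g * k⁻¹ * (f g)⁻¹ = k * (f g * k⁻¹ * (f g)⁻¹) by group]
        exact mul_mem hk ((inferInstance : K.Normal).conj_mem _ (inv_mem hk) _)
      · show φ _ = 1
        rw [show k * f g * k⁻¹ * (f g)⁻¹ = (k * f g) * (f g * k)⁻¹ by group, map_mul, map_inv, h1,
          mul_inv_cancel]
    rw [hKk, mem_bot, ← commutatorElement_def, commutatorElement_eq_one_iff_mul_comm] at h2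
    exact h2
  -- conclusion
  have hCn : (Tb ⊓ centralizer (K : Set (Y ⧸ pCore p Y))).Normal := by
    refine normalizer_eq_top_iff.mp (top_le_iff.mp ?_)
    rw [← IsComplement'.sup_eq_top hcompl]
    exact sup_le (le_trans (le_centralizer_iff.mp inf_le_right) (centralizer_le_normalizer _))
      (Agent.Solv.le_normalizer_inf le_normalizer le_normalizer_of_normal)
  have h1 : Tb ⊓ centralizer (K : Set (Y ⧸ pCore p Y)) ≤ pCore p (Y ⧸ pCore p Y) :=
    le_pCore (hN := hCn) (hTbp.to_le inf_le_left)
  rw [pCore_quotient_pCore] at h1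
  exact hgQ ((QuotientGroup.eq_one_iff g).1 (mem_bot.1 (h1 ⟨mem_map_of_mem f hgT, hgb⟩)))

end Cfsg.Agent.Local.NPCFunctor
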