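import Cfsg.Agent.Lib.Local.Component
import Cfsg.Agent.Lib.Solv.Subnormal
import Mathlib.GroupTheory.Perm.Basic

/-!
The layer and the generalized Fitting subgroup.
-/

set_option autoImplicit false
set_option linter.style.haveILetI false

namespace Cfsg.Agent.Local

open Subgroup
open scoped commutatorElement

/-- A group whose central quotient is simple nonabelian has quasisimple derived subgroup. -/
theorem quasisimple_commutator {X : Type*} [Group X] (hs : IsSimpleGroup (X ⧸ center X))
    (hna : ¬ IsMulCommutative (X ⧸ center X)) :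
    commutator X ⊔ center X = ⊤ ∧ IsQuasisimple ↥(commutator X) := by
  haveI := hs
  set π := QuotientGroup.mk' (center X) with hπ
  have hsurj : Function.Surjective π := QuotientGroup.mk'_surjective _
  have hperf : (commutator X).map π = ⊤ := by
    refine ((inferInstance : (commutator X).Normal).map π hsurj).eq_bot_or_eq_top.resolve_left
      fun h => hna ?_
    rw [Subgroup.map_eq_bot_iff, QuotientGroup.ker_mk'] at h
    exact (Subgroup.Normal.quotient_commutative_iff_commutator_le).2 h
  have htop : commutator X ⊔ center X = ⊤ := by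
    have h := congrArg (Subgroup.comap π) hperf
    rwa [Subgroup.comap_map_eq, QuotientGroup.ker_mk', Subgroup.comap_top] at h
  refine ⟨htop, ?_, ?_⟩
  · -- the derived subgroup is perfect
    rw [Group.isPerfect_def]
    apply Subgroup.map_injective (commutator X).subtype_injective
    rw [Subgroup.map_subtype_commutator, ← MonoidHom.range_eq_map, Subgroup.range_subtype]
    refine le_antisymm (commutator_le_self _) ?_
    conv_lhs => rw [commutator_def]
    rw [Subgroup.commutator_le]
    intro a _ b _
    obtain ⟨a', ha', z, hz, rfl⟩ :=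
      Subgroup.mem_sup_of_normal_right.1 (htop ▸ mem_top a : a ∈ commutator X ⊔ center X)
    obtain ⟨b', hb', w, hw, rfl⟩ :=
      Subgroup.mem_sup_of_normal_right.1 (htop ▸ mem_top b : b ∈ commutator X ⊔ center X)
    have hzc : ∀ x : X, z * x = x * z := fun x => (Subgroup.mem_center_iff.1 hz x).symm
    have hwc : ∀ x : X, w * x = x * w := fun x => (Subgroup.mem_center_iff.1 hw x).symm
    have e : ⁅a' * z, b' * w⁆ = ⁅a', b'⁆ := by
      simp only [commutatorElement_def, mul_inv_rev]
      calc a' * z * (b' * w) * (z⁻¹ * a'⁻¹) * (w⁻¹ * b'⁻¹)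
          = a' * (z * (b' * w)) * z⁻¹ * a'⁻¹ * w⁻¹ * b'⁻¹ := by group
        _ = a' * b' * (w * a'⁻¹) * w⁻¹ * b'⁻¹ := by rw [hzc]; group
        _ = a' * b' * a'⁻¹ * b'⁻¹ := by rw [hwc]; group
    rw [e]
    exact Subgroup.commutator_mem_commutator ha' hb'
  · -- the central quotient
    let f : ↥(commutator X) →* X ⧸ center X := π.comp (commutator X).subtype
    have hf : Function.Surjective f := fun q => by
      obtain ⟨a, ha, he⟩ := Subgroup.mem_map.1 (hperf ▸ mem_top q : q ∈ (commutator X).map π)
      exact ⟨⟨a, ha⟩, he⟩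
    have hker : f.ker = center ↥(commutator X) := by
      ext a
      rw [MonoidHom.mem_ker, MonoidHom.comp_apply, hπ, QuotientGroup.mk'_apply,
        QuotientGroup.eq_one_iff, Subgroup.coe_subtype, Subgroup.mem_center_iff,
        Subgroup.mem_center_iff]
      constructor
      · exact fun h g => Subtype.ext (h g)
      · intro h g
        obtain ⟨b, hb, z, hz, rfl⟩ :=
          Subgroup.mem_sup_of_normal_right.1 (htop ▸ mem_top g : g ∈ commutator X ⊔ center X)
        have h1 : b * (a : X) = a * b := congrArg Subtype.val (h ⟨b, hb⟩)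
        rw [mul_assoc, ← Subgroup.mem_center_iff.1 hz, ← mul_assoc, h1, mul_assoc]
    let e : ↥(commutator X) ⧸ center ↥(commutator X) ≃* X ⧸ center X :=
      (QuotientGroup.quotientMulEquivOfEq hker.symm).trans
        (QuotientGroup.quotientKerEquivOfSurjective f hf)
    haveI : Nontrivial (↥(commutator X) ⧸ center ↥(commutator X)) := e.toEquiv.nontrivial
    exact IsSimpleGroup.isSimpleGroup_of_surjective e.symm.toMonoidHom e.symm.surjective

variable {G : Type*} [Group G] [Finite G]

theorem component_not_le_fitting {K : Subgroup G} (hK : IsComponent K) :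
    ¬ K ≤ fittingSubgroup G := fun h => by
  haveI := Solv.fittingSubgroup_isNilpotent G
  exact qs_not_isSolvable hK.2
    (Group.isSolvable_of_isSolvable_injective (f := inclusion h) (inclusion_injective h))

theorem component_le_centralizer_fitting {K : Subgroup G} (hK : IsComponent K) :
    K ≤ centralizer (fittingSubgroup G : Set G) :=
  commutator_eq_bot_iff_le_centralizer.1 (component_commutator_fitting hK)

theorem layer_le_centralizer_fitting : layer G ≤ centralizer (fittingSubgroup G : Set G) :=
  sSup_le fun _ hK => component_le_centralizer_fitting hK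

/-- A finite group without components whose Fitting subgroup is central is abelian. -/
theorem center_eq_top_of_layer_eq_bot (hE : layer G = ⊥) (hF : fittingSubgroup G ≤ center G) :
    center G = ⊤ := by
  by_contra hne
  haveI : Nontrivial (G ⧸ center G) := QuotientGroup.nontrivial_iff.2 hne
  obtain ⟨S, ⟨hSn, hSne⟩, hSmin⟩ := (Set.toFinite {S : Subgroup (G ⧸ center G) |
    S.IsSubnormal ∧ S ≠ ⊥}).exists_minimal ⟨⊤, IsSubnormal.top, top_ne_bot⟩
  haveI : IsSimpleGroup S := by
    haveI := (S.nontrivial_iff_ne_bot).2 hSne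
    refine ⟨fun N hN => ?_⟩
    by_cases h : N = ⊥
    · exact Or.inl h
    refine Or.inr (eq_top_iff.2 fun x _ => ?_)
    have hNs : (N.map S.subtype).IsSubnormal := hN.isSubnormal.trans' hSn
    have hne' : N.map S.subtype ≠ ⊥ := fun e =>
      h ((Subgroup.map_eq_bot_iff_of_injective _ S.subtype_injective).1 e)
    obtain ⟨y, hy, hyx⟩ := hSmin ⟨hNs, hne'⟩ (Subgroup.map_subtype_le N) x.2
    exact S.subtype_injective hyx ▸ hy
  set T := S.comap (QuotientGroup.mk' (center G)) with hT
  have hTs : T.IsSubnormal := hSn.comap _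
  have hZT : center G ≤ T := fun x hx => by
    rw [hT, Subgroup.mem_comap, QuotientGroup.mk'_apply, (QuotientGroup.eq_one_iff x).2 hx]
    exact one_mem _
  let f : T →* S := MonoidHom.mk' (fun x => ⟨QuotientGroup.mk' (center G) x, x.2⟩)
    fun a b => Subtype.ext (map_mul _ _ _)
  have hf : Function.Surjective f := fun q => by
    obtain ⟨x, hx⟩ := QuotientGroup.mk'_surjective (center G) q.1
    exact ⟨⟨x, by rw [hT, Subgroup.mem_comap, hx]; exact q.2⟩, Subtype.ext hx⟩
  have hker : f.ker ≤ center T := fun x hx => by
    have h1 : (x : G) ∈ center G :=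
      (QuotientGroup.eq_one_iff _).1 (congrArg Subtype.val (MonoidHom.mem_ker.1 hx))
    exact mem_center_iff.2 fun g => Subtype.ext (mem_center_iff.1 h1 g)
  have hTZ : ¬ T ≤ center G := fun h => by
    apply hSne
    rw [eq_bot_iff]
    intro q hq
    obtain ⟨x, rfl⟩ := QuotientGroup.mk'_surjective (center G) q
    exact Subgroup.mem_bot.2 ((QuotientGroup.eq_one_iff x).2 (h hq))
  by_cases hab : IsMulCommutative S
  · -- then `T` is nilpotent
    haveI : Group.IsNilpotent S := by
      letI : CommGroup S := { (inferInstance : Group S) with mul_comm := hab.is_comm.comm }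
      infer_instance
    exact hTZ (((Solv.le_fittingSubgroup_of_isSubnormal hTs)
      (Subgroup.isNilpotent_of_ker_le_center f hker)).trans hF)
  · have hc : f.ker = center T := by
      refine le_antisymm hker fun x hx => ?_
      rw [MonoidHom.mem_ker]
      have hcS : center S = ⊥ :=
        (inferInstance : (center S).Normal).eq_bot_or_eq_top.resolve_right fun h => hab
          ⟨⟨fun a b => (mem_center_iff.1 (h ▸ mem_top b : b ∈ center S) a)⟩⟩
      rw [← Subgroup.mem_bot, ← hcS, mem_center_iff]
      intro q
      obtain ⟨y, rfl⟩ := hf q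
      rw [← map_mul, ← map_mul, mem_center_iff.1 hx]
    let e : T ⧸ center T ≃* S :=
      (QuotientGroup.quotientMulEquivOfEq hc.symm).trans
        (QuotientGroup.quotientKerEquivOfSurjective f hf)
    haveI : Nontrivial (T ⧸ center T) := e.toEquiv.nontrivial
    have hq := quasisimple_commutator (X := T)
      (IsSimpleGroup.isSimpleGroup_of_surjective e.symm.toMonoidHom e.symm.surjective)
      fun h => hab ⟨⟨fun a b => e.symm.injective (by rw [map_mul, map_mul, h.is_comm.comm])⟩⟩
    have hcomp : IsComponent ((commutator T).map T.subtype) :=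
      ⟨(inferInstance : (commutator T).Normal).isSubnormal.trans' hTs,
        qs_congr hq.2 ((commutator T).equivMapOfInjective _ T.subtype_injective)⟩
    have hle : (commutator T).map T.subtype ≤ layer G := le_sSup hcomp
    rw [hE] at hle
    exact component_ne_bot hcomp (le_bot_iff.1 hle)

/-- `C(F*(G)) ≤ F*(G)`. -/
theorem centralizer_generalizedFitting_le :
    centralizer (generalizedFittingSubgroup G : Set G) ≤ generalizedFittingSubgroup G := by
  haveI hLn : (layer G).Normal := layer_normal
  haveI : (generalizedFittingSubgroup G).Normal := Subgroup.sup_normal _ _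
  set C := centralizer (generalizedFittingSubgroup G : Set G) with hC
  haveI hCn : C.Normal := inferInstance
  have hE : layer C = ⊥ := by
    rw [layer, eq_bot_iff]
    refine sSup_le fun K hK => ?_
    exfalso
    have hKG := isComponent_map_subtype hCn.isSubnormal hK
    have h1 : K.map C.subtype ≤ generalizedFittingSubgroup G := (le_sSup (s := {K : Subgroup G | IsComponent K}) hKG).trans le_sup_left
    apply qs_not_isMulCommutative hKG.2
    exact ⟨⟨fun a b => Subtype.ext ((Subgroup.map_subtype_le K b.2 a (h1 a.2)))⟩⟩
  have hF : fittingSubgroup C ≤ center C := by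
    intro x hx
    haveI hn : Group.IsNilpotent ((fittingSubgroup C).map C.subtype) :=
      (Group.isNilpotent_congr ((fittingSubgroup C).equivMapOfInjective _ C.subtype_injective)).1
        (Solv.fittingSubgroup_isNilpotent C)
    have hxF : (x : G) ∈ fittingSubgroup G :=
      Solv.le_fittingSubgroup_of_isSubnormal
        ((Solv.fittingSubgroup_normal C).isSubnormal.trans' hCn.isSubnormal) hn ⟨x, hx, rfl⟩
    exact mem_center_iff.2 fun g => Subtype.ext (g.2 (x : G) (mem_sup_right hxF)).symm
  have hab := center_eq_top_of_layer_eq_bot hE hF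
  have hnil : Group.IsNilpotent C := by
    letI : CommGroup C := { (inferInstance : Group C) with
      mul_comm := fun a b => mem_center_iff.1 (hab ▸ mem_top b : b ∈ center C) a }
    infer_instance
  exact (Solv.le_fittingSubgroup hnil).trans le_sup_right

/-- A solvable normal subgroup of `C(F(G))` is central in `F(G)`. -/
theorem solvable_le_center_fitting (N : Subgroup G)
    (hN : N ≤ centralizer (fittingSubgroup G : Set G))
    (hnorm : centralizer (fittingSubgroup G : Set G) ≤ normalizer (N : Set G))
    (hsolv : Group.IsSolvable N) : N ≤ (center ↥(fittingSubgroup G)).map (fittingSubgroup G).subtype := by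
  haveI := hsolv
  set C := centralizer (fittingSubgroup G : Set G) with hC
  haveI hCn : C.Normal := inferInstance
  haveI : (N.subgroupOf C).Normal := (Subgroup.normal_subgroupOf_iff_le_normalizer hN).2 hnorm
  have hNs : N.IsSubnormal := by
    have := (inferInstance : (N.subgroupOf C).Normal).isSubnormal.trans' hCn.isSubnormal
    rwa [Subgroup.map_subgroupOf_eq_of_le hN] at this
  set FN := (fittingSubgroup N).map N.subtype with hFN
  have hFle : FN ≤ fittingSubgroup G := Solv.le_fittingSubgroup_of_isSubnormal
    ((Solv.fittingSubgroup_normal N).isSubnormal.trans' hNs)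
    ((Group.isNilpotent_congr ((fittingSubgroup N).equivMapOfInjective _ N.subtype_injective)).1
      (Solv.fittingSubgroup_isNilpotent N))
  have hNF : (⊤ : Subgroup N) ≤ fittingSubgroup N := by
    refine le_trans ?_ (Solv.centralizer_fittingSubgroup_le (G := N))
    intro x _ y hy
    exact Subtype.ext (hN x.2 (y : G) (hFle ⟨y, hy, rfl⟩))
  intro x hx
  have hxF : x ∈ fittingSubgroup G := hFle ⟨⟨x, hx⟩, hNF (mem_top _), rfl⟩
  exact ⟨⟨x, hxF⟩, mem_center_iff.2 fun g => Subtype.ext (hN hx g g.2), rfl⟩

theorem commutative_center_map (H : Subgroup G) :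
    IsMulCommutative ↥((center H).map H.subtype) :=
  ⟨⟨fun a b => Subtype.ext (by
    obtain ⟨a', -, ha'⟩ := a.2
    obtain ⟨b', hb', hb''⟩ := b.2
    show (a : G) * b = b * a
    rw [← ha', ← hb'', ← map_mul, ← map_mul, mem_center_iff.1 hb'])⟩⟩

/-- `Z(E) = F ∩ E`. -/
theorem center_layer_eq :
    (center ↥(layer G)).map (layer G).subtype = fittingSubgroup G ⊓ layer G := by
  haveI hLn : (layer G).Normal := layer_normal
  refine le_antisymm (le_inf ?_ (Subgroup.map_subtype_le _)) ?_
  · haveI := commutative_center_map (layer G)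
    refine Solv.le_fittingSubgroup ?_
    letI : CommGroup ↥((center ↥(layer G)).map (layer G).subtype) :=
      { (inferInstance : Group _) with mul_comm := this.is_comm.comm }
    infer_instance
  · rintro x ⟨hxF, hxE⟩
    exact ⟨⟨x, hxE⟩, mem_center_iff.2 fun g =>
      Subtype.ext (layer_le_centralizer_fitting g.2 x hxF).symm, rfl⟩

/-- For subnormal `B`: `F* ⊓ B = E(B) (F ⊓ B)`. -/
theorem generalizedFitting_inf_le {B : Subgroup G} (hB : B.IsSubnormal) :
    generalizedFittingSubgroup G ⊓ B ≤
      sSup {K : Subgroup G | IsComponent K ∧ K ≤ B} ⊔ (fittingSubgroup G ⊓ B) := by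
  haveI hLn : (layer G).Normal := layer_normal
  set E₁ := sSup {K : Subgroup G | IsComponent K ∧ K ≤ B} with hE₁
  set E₂ := sSup {K : Subgroup G | IsComponent K ∧ ¬ K ≤ B} with hE₂
  have hE₁B : E₁ ≤ B := sSup_le fun K hK => hK.2
  have hE₂B : E₂ ≤ centralizer (B : Set G) := sSup_le fun K hK =>
    commutator_eq_bot_iff_le_centralizer.1
      ((component_le_or_commutator_eq_bot hK.1 hB).resolve_left hK.2)
  have hcomm : E₂ ≤ centralizer (E₁ : Set G) := hE₂B.trans (centralizer_le hE₁B)
  have hEdec : layer G = E₁ ⊔ E₂ := by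
    refine le_antisymm (sSup_le fun K hK => ?_)
      (sup_le (sSup_le fun K hK => le_sSup hK.1) (sSup_le fun K hK => le_sSup hK.1))
    by_cases h : K ≤ B
    · exact le_trans (le_sSup (s := {K : Subgroup G | IsComponent K ∧ K ≤ B}) ⟨hK, h⟩) le_sup_left
    · exact le_trans (le_sSup (s := {K : Subgroup G | IsComponent K ∧ ¬ K ≤ B}) ⟨hK, h⟩) le_sup_right
  rintro x ⟨hxF, hxB⟩
  obtain ⟨e, he, f, hf, rfl⟩ := Subgroup.mem_sup_of_normal_right.1
    (show x ∈ layer G ⊔ fittingSubgroup G from hxF)
  rw [hEdec] at he
  obtain ⟨e₁, he₁, e₂, he₂, rfl⟩ : ∃ e₁ ∈ E₁, ∃ e₂ ∈ E₂, e₁ * e₂ = e := by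
    rw [← SetLike.mem_coe, Subgroup.coe_mul_of_right_le_normalizer_left E₁ E₂
      (hcomm.trans (Subgroup.centralizer_le_normalizer _))] at he
    exact Set.mem_mul.1 he
  have hyB : e₂ * f ∈ B := by
    have h1 := mul_mem (inv_mem (hE₁B he₁)) hxB
    simpa [mul_assoc] using h1
  -- `e₂` is central in the layer
  have hE₂F : E₂ ≤ centralizer (fittingSubgroup G : Set G) :=
    (sSup_le fun K hK => le_sSup hK.1 : E₂ ≤ layer G).trans layer_le_centralizer_fitting
  have he₂Z : e₂ ∈ fittingSubgroup G := by
    have hmem : e₂ ∈ (center ↥(layer G)).map (layer G).subtype := by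
      refine ⟨⟨e₂, hEdec ▸ mem_sup_right he₂⟩, mem_center_iff.2 fun g => Subtype.ext ?_, rfl⟩
      show (g : G) * e₂ = e₂ * g
      have hle : layer G ≤ centralizer ({e₂} : Set G) := by
        rw [hEdec]
        refine sup_le (fun a ha => ?_) (fun a ha => ?_)
        · exact mem_centralizer_singleton_iff.2 (hcomm he₂ a ha)
        · refine mem_centralizer_singleton_iff.2 ?_
          have h1 : e₂ * f * a = a * (e₂ * f) := hE₂B ha _ hyB
          have h2 : f * a = a * f := hE₂F ha f hf
          rw [mul_assoc e₂ f a, h2, ← mul_assoc, ← mul_assoc a] at h1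
          exact (mul_right_cancel h1).symm
      exact mem_centralizer_singleton_iff.1 (hle g.2)
    rw [center_layer_eq] at hmem
    exact hmem.1
  rw [mul_assoc]
  exact mul_mem (mem_sup_left he₁)
    (mem_sup_right ⟨mul_mem he₂Z hf, hyB⟩)

theorem component_layer_map_le {B : Subgroup G} (hB : B.IsSubnormal) :
    (layer B).map B.subtype = sSup {K : Subgroup G | IsComponent K ∧ K ≤ B} := by
  refine le_antisymm ?_ (sSup_le fun K hK => ?_)
  · rw [map_le_iff_le_comap]
    refine sSup_le fun K hK => ?_
    rw [← map_le_iff_le_comap]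
    exact le_sSup ⟨isComponent_map_subtype hB hK, map_subtype_le _⟩
  · rw [← map_subgroupOf_eq_of_le hK.2]
    exact map_mono (le_sSup (isComponent_subgroupOf hK.2 hK.1))

theorem fitting_map_eq {B : Subgroup G} (hB : B.IsSubnormal) :
    (fittingSubgroup B).map B.subtype = fittingSubgroup G ⊓ B := by
  refine le_antisymm (le_inf ?_ (map_subtype_le _)) ?_
  · exact Solv.le_fittingSubgroup_of_isSubnormal
      ((Solv.fittingSubgroup_normal B).isSubnormal.trans' hB)
      ((Group.isNilpotent_congr ((fittingSubgroup B).equivMapOfInjective _ B.subtype_injective)).1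
        (Solv.fittingSubgroup_isNilpotent B))
  · haveI := Solv.fittingSubgroup_isNilpotent G
    haveI : ((fittingSubgroup G ⊓ B).subgroupOf B).Normal := by
      rw [Subgroup.inf_subgroupOf_right]
      exact Subgroup.normal_subgroupOf
    have hn : Group.IsNilpotent ((fittingSubgroup G ⊓ B).subgroupOf B) :=
      Subgroup.isNilpotent_of_ker_le_center
        ((inclusion (inf_le_left : fittingSubgroup G ⊓ B ≤ fittingSubgroup G)).comp
          (subgroupOfEquivOfLe (inf_le_right : fittingSubgroup G ⊓ B ≤ B)).toMonoidHom)
        (fun x hx => by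
          have h1 : x = 1 := by simpa using hx
          rw [h1]
          exact one_mem _)
    have h := map_mono (f := B.subtype) (Solv.le_fittingSubgroup hn)
    rwa [map_subgroupOf_eq_of_le inf_le_right] at h

/-- `F*(G) ⊓ B = F*(B)` for subnormal `B`. -/
theorem generalizedFitting_inf {B : Subgroup G} (hB : B.IsSubnormal) :
    generalizedFittingSubgroup G ⊓ B = (generalizedFittingSubgroup B).map B.subtype := by
  rw [generalizedFittingSubgroup, generalizedFittingSubgroup, Subgroup.map_sup,
    component_layer_map_le hB, fitting_map_eq hB]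
  exact le_antisymm (generalizedFitting_inf_le hB)
    (le_inf (sup_le_sup (sSup_le fun K hK => le_sSup hK.1) inf_le_left)
      (sup_le (sSup_le fun K hK => hK.2) inf_le_right))

/-- Perfectness of the layer. -/
theorem layer_commutator : ⁅layer G, layer G⁆ = layer G := by
  refine le_antisymm (commutator_le_self _) (sSup_le fun K hK => ?_)
  rw [← component_eq_commutator hK]
  exact commutator_mono (le_sSup hK) (le_sSup hK)

end Cfsg.Agent.Local
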