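import Cfsg.Prelude.Def_Local
import Cfsg.Agent.Lib.Solv.Basic
import Mathlib.GroupTheory.IsPerfect
import Mathlib.GroupTheory.IsSubnormal

/-!
Quasisimple groups, components and the layer.
-/

set_option autoImplicit false
set_option linter.style.haveILetI false

namespace Cfsg.Agent.Local

open Subgroup
open scoped commutatorElement

section Quasisimple

variable {K : Type*} [Group K] (h : IsQuasisimple K)
include h

theorem qs_center_ne_top : center K ≠ ⊤ := fun e => by
  haveI := h.2.toNontrivial
  exact not_subsingleton (K ⧸ center K) (QuotientGroup.subsingleton_iff.2 e)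

theorem qs_nontrivial : Nontrivial K := by
  by_contra hn
  rw [not_nontrivial_iff_subsingleton] at hn
  exact qs_center_ne_top h (Subsingleton.elim _ _)

theorem qs_not_isMulCommutative : ¬ IsMulCommutative K := fun hc =>
  qs_center_ne_top h ((eq_top_iff' _).2 fun x => mem_center_iff.2 fun g => hc.is_comm.comm g x)

theorem qs_not_isSolvable : ¬ Group.IsSolvable K := by
  haveI := qs_nontrivial h
  haveI := h.1
  exact Group.IsPerfect.not_isSolvable K

theorem qs_not_isMulCommutative_quotient : ¬ IsMulCommutative (K ⧸ center K) := fun hc => by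
  have hle : commutator K ≤ center K :=
    (Subgroup.Normal.quotient_commutative_iff_commutator_le).1 hc
  rw [h.1.commutator_eq_top, top_le_iff] at hle
  exact qs_center_ne_top h hle

theorem qs_normal_le_center_or_eq_top (N : Subgroup K) [hN : N.Normal] :
    N ≤ center K ∨ N = ⊤ := by
  haveI := h.2
  rcases (hN.map (QuotientGroup.mk' (center K))
    (QuotientGroup.mk'_surjective _)).eq_bot_or_eq_top with e | e
  · left
    rwa [Subgroup.map_eq_bot_iff, QuotientGroup.ker_mk'] at e
  · right
    have hNZ : N ⊔ center K = ⊤ := by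
      rw [← QuotientGroup.ker_mk' (center K), ← comap_map_eq, e, comap_top]
    rw [eq_top_iff, ← h.1.commutator_eq_top, commutator_def, commutator_le]
    intro a _ b _
    obtain ⟨a1, ha1, a2, ha2, rfl⟩ :=
      mem_sup_of_normal_left.1 (hNZ ▸ mem_top a : a ∈ N ⊔ center K)
    have e2 : ⁅a1 * a2, b⁆ = a1 * (b * a1⁻¹ * b⁻¹) := by
      rw [commutatorElement_def, mul_inv_rev]
      calc a1 * a2 * b * (a2⁻¹ * a1⁻¹) * b⁻¹ = a1 * (a2 * b) * a2⁻¹ * a1⁻¹ * b⁻¹ := by group
        _ = a1 * (b * a2) * a2⁻¹ * a1⁻¹ * b⁻¹ := by rw [mem_center_iff.1 ha2 b]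
        _ = a1 * (b * a1⁻¹ * b⁻¹) := by group
    rw [e2]
    exact N.mul_mem ha1 (hN.conj_mem _ (N.inv_mem ha1) b)

theorem qs_subnormal_le_center_or_eq_top {H : Subgroup K} (hH : H.IsSubnormal) :
    H ≤ center K ∨ H = ⊤ := by
  rcases hH.lt_normal with e | ⟨N, hN, hle, hlt⟩
  · exact Or.inr e
  · exact Or.inl (hle.trans ((qs_normal_le_center_or_eq_top h N).resolve_right hlt.ne))

theorem qs_congr {L : Type*} [Group L] (e : K ≃* L) : IsQuasisimple L := by
  haveI := h.1
  refine ⟨Group.IsPerfect.ofSurjective (f := e.toMonoidHom) e.surjective, ?_⟩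
  haveI := h.2
  have hmap : (center K).map e.toMonoidHom = center L := by
    ext x
    rw [mem_map_equiv, mem_center_iff, mem_center_iff]
    constructor
    · intro hx g
      simpa using congrArg e (hx (e.symm g))
    · intro hx g
      simpa using congrArg e.symm (hx (e g))
  exact (QuotientGroup.congr (center K) (center L) e hmap).symm.isSimpleGroup

end Quasisimple

variable {G : Type*} [Group G]

theorem isComponent_map_subtype {M : Subgroup G} (hM : M.IsSubnormal) {K : Subgroup M}
    (hK : IsComponent K) : IsComponent (K.map M.subtype) :=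
  ⟨hK.1.trans' hM, qs_congr hK.2 (K.equivMapOfInjective _ M.subtype_injective)⟩

theorem isComponent_subgroupOf {M K : Subgroup G} (hKM : K ≤ M) (hK : IsComponent K) :
    IsComponent (K.subgroupOf M) :=
  ⟨hK.1.subgroupOf, qs_congr hK.2 (subgroupOfEquivOfLe hKM).symm⟩

theorem isComponent_map_equiv {H : Type*} [Group H] (e : G ≃* H) {K : Subgroup G}
    (hK : IsComponent K) : IsComponent (K.map e.toMonoidHom) :=
  ⟨hK.1.map e.surjective, qs_congr hK.2 (K.equivMapOfInjective _ e.injective)⟩

theorem isComponent_conj {K : Subgroup G} (hK : IsComponent K) (g : G) :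
    IsComponent (K.map (MulAut.conj g).toMonoidHom) :=
  isComponent_map_equiv (MulAut.conj g) hK

theorem component_eq_commutator {K : Subgroup G} (hK : IsComponent K) : ⁅K, K⁆ = K :=
  haveI := hK.2.1
  commutator_eq_self

theorem component_ne_bot {K : Subgroup G} (hK : IsComponent K) : K ≠ ⊥ :=
  (nontrivial_iff_ne_bot K).1 (qs_nontrivial hK.2)

theorem component_le_or_commutator_eq_bot_aux (n : ℕ) :
    ∀ {G : Type*} [Group G] [Finite G], Nat.card G ≤ n → ∀ {K H : Subgroup G},
      IsComponent K → H.IsSubnormal → K ≤ H ∨ ⁅K, H⁆ = ⊥ := by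
  induction n with
  | zero => intro G _ _ h; exact absurd h (by have := Nat.card_pos (α := G); omega)
  | succ n ih =>
    intro G _ _ hn K H hK hH
    rcases hH.lt_normal with e | ⟨B, hB, hHB, hBlt⟩
    · exact Or.inl (e ▸ le_top)
    have key : ∀ M : Subgroup G, M < ⊤ → K ≤ M → ∀ X : Subgroup G, X ≤ M →
        (X.subgroupOf M).IsSubnormal → K ≤ X ∨ ⁅K, X⁆ = ⊥ := by
      intro M hM hKM X hXM hX
      have hcard : Nat.card M < Nat.card G := lt_of_le_of_ne M.card_le_card_group
        fun e => hM.ne ((card_eq_iff_eq_top M).1 e)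
      rcases ih (G := M) (by omega) (isComponent_subgroupOf hKM hK) hX with h | h
      · left
        intro x hx
        exact h (show (⟨x, hKM hx⟩ : M) ∈ K.subgroupOf M from hx)
      · right
        have h2 := congrArg (Subgroup.map M.subtype) h
        rwa [Subgroup.map_commutator, map_subgroupOf_eq_of_le hKM, map_subgroupOf_eq_of_le hXM,
          Subgroup.map_bot] at h2
    by_cases hKB : K ≤ B
    · exact key B hBlt hKB H hHB hH.subgroupOf
    right
    suffices ⁅K, B⁆ = ⊥ from le_bot_iff.1 ((commutator_mono le_rfl hHB).trans this.le)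
    rcases hK.1.lt_normal with e | ⟨A, hA, hKA, hAlt⟩
    · have hB' := hB
      have hq : IsQuasisimple G := qs_congr (e ▸ hK.2) Subgroup.topEquiv
      have hBc := (qs_normal_le_center_or_eq_top hq B).resolve_right hBlt.ne
      rw [commutator_eq_bot_iff_le_centralizer]
      intro k _
      rw [mem_centralizer_iff]
      intro b hb
      exact (mem_center_iff.1 (hBc hb) k).symm
    haveI := hA
    haveI := hB
    have h1 : ⁅K, A ⊓ B⁆ = ⊥ :=
      (key A hAlt hKA (A ⊓ B) inf_le_left
        (Normal.isSubnormal inferInstance)).resolve_left fun h => hKB (h.trans inf_le_right)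
    have hKB' : ⁅K, B⁆ ≤ A ⊓ B :=
      (commutator_mono hKA le_rfl).trans (le_inf (commutator_le_left _ _) (commutator_le_right _ _))
    have h2 : ⁅⁅K, B⁆, K⁆ = ⊥ := le_bot_iff.1
      ((commutator_mono hKB' le_rfl).trans (by rw [commutator_comm]; exact h1.le))
    have h3 : ⁅⁅B, K⁆, K⁆ = ⊥ := by rwa [commutator_comm B K]
    have h4 := commutator_commutator_eq_bot_of_rotate h2 h3
    rwa [component_eq_commutator hK] at h4

variable [Finite G]

theorem component_le_or_commutator_eq_bot {K H : Subgroup G} (hK : IsComponent K)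
    (hH : H.IsSubnormal) : K ≤ H ∨ ⁅K, H⁆ = ⊥ :=
  component_le_or_commutator_eq_bot_aux (Nat.card G) le_rfl hK hH

theorem component_eq_of_le {K L : Subgroup G} (hK : IsComponent K) (hL : IsComponent L)
    (h : K ≤ L) : K = L := by
  rcases qs_subnormal_le_center_or_eq_top hL.2 (hK.1.subgroupOf (K := L)) with e | e
  · exfalso
    refine qs_not_isMulCommutative hK.2 ⟨⟨fun a b => Subtype.ext ?_⟩⟩
    have := mem_center_iff.1 (e (show (⟨b, h b.2⟩ : L) ∈ K.subgroupOf L from b.2)) ⟨a, h a.2⟩
    have h2 := congrArg Subtype.val this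
    exact h2
  · exact le_antisymm h (subgroupOf_eq_top.1 e)

theorem components_commute {K L : Subgroup G} (hK : IsComponent K) (hL : IsComponent L)
    (hne : K ≠ L) : ⁅K, L⁆ = ⊥ :=
  (component_le_or_commutator_eq_bot hK hL.1).resolve_left
    fun h => hne (component_eq_of_le hK hL h)

omit [Finite G] in
theorem layer_normal : (layer G).Normal := by
  rw [← normalizer_eq_top_iff, eq_top_iff]
  intro g _
  have key : ∀ x : G, (layer G).map (MulAut.conj x).toMonoidHom ≤ layer G := fun x => by
    rw [map_le_iff_le_comap]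
    exact sSup_le fun K hK => map_le_iff_le_comap.1 (le_sSup (isComponent_conj hK x))
  rw [mem_normalizer_iff]
  intro y
  constructor
  · intro hy
    exact key g ⟨y, hy, rfl⟩
  · intro hy
    have := key g⁻¹ ⟨_, hy, rfl⟩
    simpa [mul_assoc] using this

theorem component_commutator_fitting {K : Subgroup G} (hK : IsComponent K) :
    ⁅K, fittingSubgroup G⁆ = ⊥ := by
  refine (component_le_or_commutator_eq_bot hK
    (Solv.fittingSubgroup_normal G).isSubnormal).resolve_left fun h => ?_
  haveI := Solv.fittingSubgroup_isNilpotent G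
  exact qs_not_isSolvable hK.2
    (Group.isSolvable_of_isSolvable_injective (f := inclusion h) (inclusion_injective h))

theorem component_commutator_pCore {K : Subgroup G} (hK : IsComponent K) (p : ℕ) [Fact p.Prime] :
    ⁅K, pCore p G⁆ = ⊥ :=
  le_bot_iff.1 ((commutator_mono le_rfl (Solv.pCore_le_fittingSubgroup p)).trans
    (component_commutator_fitting hK).le)

theorem component_commutator_layer_normal (N : Subgroup G) [hN : N.Normal]
    (h : ∀ K, IsComponent K → ¬ K ≤ N) : ⁅layer G, N⁆ = ⊥ := by
  rw [commutator_eq_bot_iff_le_centralizer]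
  refine sSup_le fun K hK => ?_
  rw [← commutator_eq_bot_iff_le_centralizer]
  exact (component_le_or_commutator_eq_bot hK hN.isSubnormal).resolve_left (h K hK)

end Cfsg.Agent.Local
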