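import Cfsg.Agent.Lib.Local.Basic
import Cfsg.Agent.Lib.Local.Component
import Mathlib.GroupTheory.SchurZassenhaus

/-!
Basic properties of `p`-components.
-/

set_option autoImplicit false
set_option linter.style.haveILetI false

namespace Cfsg.Agent.Local

open Subgroup

variable {G : Type*} [Group G]

theorem relIndex_dvd_index_of_isSubnormal {H : Subgroup G} (hH : H.IsSubnormal) :
    ∀ K : Subgroup G, H.relIndex K ∣ H.index := by
  induction hH with
  | top => intro K; simp
  | step A B hle hB hN ih =>
    intro K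
    rw [← relIndex_mul_index hle, ← inf_relIndex_right A K]
    have h1 : (A ⊓ K).relIndex K = (A ⊓ K).relIndex (B ⊓ K) * (B ⊓ K).relIndex K :=
      (relIndex_mul_relIndex (A ⊓ K) (B ⊓ K) K (inf_le_inf_right _ hle) inf_le_right).symm
    rw [h1, inf_relIndex_right B K]
    refine mul_dvd_mul ?_ (ih K)
    haveI := hN
    have h2 := relIndex_dvd_index_of_normal (A.subgroupOf B) ((B ⊓ K).subgroupOf B)
    rw [relIndex_subgroupOf inf_le_left] at h2
    have h3 : (A ⊓ K).relIndex (B ⊓ K) = A.relIndex (B ⊓ K) := by
      rw [← inf_relIndex_right A (B ⊓ K), ← inf_assoc, inf_eq_left.2 hle]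
    rw [h3]
    exact h2

variable [Finite G] {p : ℕ} [hp : Fact p.Prime]

/-- A proper quotient of a component modulo a central subgroup has order divisible by `p`,
when `O_{p'}(G) = 1`. -/
theorem component_index_center_not_coprime (hG : pPrimeCore p G = ⊥) {K : Subgroup G}
    (hK : IsComponent K) : p ∣ (center K).index := by
  by_contra hdvd
  have hZp : IsPGroup p (center K) := by
    refine IsPGroup.of_card (Nat.eq_prime_pow_of_unique_prime_dvd Nat.card_pos.ne'
      fun {q} hq hd => ?_)
    haveI := Fact.mk hq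
    obtain ⟨z, hz⟩ := exists_prime_orderOf_dvd_card' q hd
    by_contra hne
    have hWn : (zpowers (z : K)).Normal := ⟨fun a ha g => by
      have hc : a ∈ center K := (zpowers_le.2 z.2) ha
      rw [(mem_center_iff.1 hc g), mul_inv_cancel_right]
      exact ha⟩
    have hcard : Nat.card ((zpowers (z : K)).map K.subtype) = q := by
      rw [Solv.card_map_subtype, Nat.card_zpowers, Subgroup.orderOf_coe, hz]
    have hle := le_pPrimeCore_of_isSubnormal (p := p) (hWn.isSubnormal.trans' hK.1)
      (by rw [hcard]; exact (Nat.coprime_primes hq hp.out).2 hne)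
    rw [hG, le_bot_iff, Subgroup.eq_bot_iff_card, hcard] at hle
    exact hq.one_lt.ne' hle
  have hcop : (Nat.card (center K)).Coprime (center K).index := by
    obtain ⟨k, hk⟩ := IsPGroup.iff_card.1 hZp
    rw [hk]
    exact (hp.out.coprime_iff_not_dvd.2 hdvd).pow_left k
  obtain ⟨C, hC⟩ := exists_right_complement'_of_coprime (N := center K) hcop
  have hCn : C.Normal := ⟨fun c hc g => by
    obtain ⟨z, hz, d, hd, rfl⟩ := mem_sup_of_normal_left.1
      (hC.sup_eq_top ▸ mem_top g : g ∈ center K ⊔ C)
    rw [show z * d * c * (z * d)⁻¹ = z * (d * c * d⁻¹) * z⁻¹ by group,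
      ← mem_center_iff.1 hz (d * c * d⁻¹), mul_inv_cancel_right]
    exact C.mul_mem (C.mul_mem hd hc) (C.inv_mem hd)⟩
  have hCcard : (Nat.card (C.map K.subtype)).Coprime p := by
    rw [Solv.card_map_subtype, ← hC.symm.index_eq_card]
    exact (hp.out.coprime_iff_not_dvd.2 hdvd).symm
  have hle := le_pPrimeCore_of_isSubnormal (p := p) (hCn.isSubnormal.trans' hK.1) hCcard
  rw [hG, le_bot_iff, map_eq_bot_iff_of_injective _ K.subtype_injective] at hle
  exact qs_center_ne_top hK.2 (by simpa [hle] using hC.sup_eq_top)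

theorem pComponent_le_of_map_eq {K L : Subgroup G} (hK : IsPComponent p K)
    (hL : IsPComponent p L)
    (h : K.map (QuotientGroup.mk' (pPrimeCore p G)) = L.map (QuotientGroup.mk' (pPrimeCore p G))) :
    K ≤ L := by
  set O := pPrimeCore p G
  set f := QuotientGroup.mk' O with hf
  have hKL : K ≤ L ⊔ O := by
    rw [← QuotientGroup.ker_mk' O, ← comap_map_eq, ← h]
    exact le_comap_map _ _
  -- index of `K ⊓ L` in `K` is prime to `p`
  set M := L ⊔ O
  have hidx : (L.relIndex K).Coprime p := by
    have h1 := relIndex_dvd_index_of_isSubnormal (hL.1.subgroupOf (K := M)) (K.subgroupOf M)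
    rw [relIndex_subgroupOf hKL] at h1
    refine Nat.Coprime.coprime_dvd_left h1 ?_
    have h2 : L.relIndex M ∣ Nat.card O := by
      show L.relIndex (L ⊔ O) ∣ _
      have e1 := (L.subgroupOf (L ⊔ O)).card_mul_index
      rw [Solv.card_subgroupOf le_sup_left] at e1
      have e2 := Solv.card_sup_dvd_of_normal O L
      rw [sup_comm, ← e1, mul_comm (Nat.card O)] at e2
      exact (Nat.mul_dvd_mul_iff_left Nat.card_pos).1 e2
    exact (Solv.card_pPrimeCore_coprime p G).coprime_dvd_left h2
  by_contra hne
  have hsn : ((K ⊓ L).subgroupOf K).IsSubnormal := (hK.1.inf hL.1).subgroupOf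
  rcases hsn.lt_normal with e | ⟨N, hN, hle, hlt⟩
  · exact hne fun x hx =>
      ((e ▸ mem_top (⟨x, hx⟩ : K) : (⟨x, hx⟩ : K) ∈ (K ⊓ L).subgroupOf K)).2
  set g : K →* K.map f := f.subgroupMap K
  have hgs : Function.Surjective g := f.subgroupMap_surjective K
  have hN' : (N.map g).Normal := hN.map g hgs
  have hidx2 : N.index.Coprime p := by
    refine hidx.coprime_dvd_left ?_
    have : (K ⊓ L).subgroupOf K = L.subgroupOf K := by
      rw [inf_comm, inf_subgroupOf_right]
    exact (index_dvd_of_le hle).trans (by rw [this]; exact dvd_rfl)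
  rcases qs_normal_le_center_or_eq_top hK.2.1.2 (N.map g) with e | e
  · refine absurd (component_index_center_not_coprime (Solv.pPrimeCore_quotient_pPrimeCore p)
      hK.2.1) ?_
    intro hd
    have : (center (K.map f)).index ∣ N.index :=
      (index_dvd_of_le e).trans (index_map_dvd _ hgs)
    exact hp.out.coprime_iff_not_dvd.1 hidx2.symm (hd.trans this)
  · have heq : (N.map K.subtype).map f = K.map f := by
      rw [map_map, show f.comp K.subtype = (K.map f).subtype.comp g from rfl, ← map_map, e,
        ← MonoidHom.range_eq_map, range_subtype]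
    have := hK.2.2 _ (hN.isSubnormal.trans' hK.1) (map_subtype_le _) heq
    apply hlt.ne
    apply map_injective K.subtype_injective
    rw [this, ← MonoidHom.range_eq_map, range_subtype]

theorem pComponent_eq_of_map_eq {K L : Subgroup G} (hK : IsPComponent p K)
    (hL : IsPComponent p L)
    (h : K.map (QuotientGroup.mk' (pPrimeCore p G)) = L.map (QuotientGroup.mk' (pPrimeCore p G))) :
    K = L :=
  le_antisymm (pComponent_le_of_map_eq hK hL h) (pComponent_le_of_map_eq hL hK h.symm)

theorem pComponents_commute_mod {K L : Subgroup G} (hK : IsPComponent p K)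
    (hL : IsPComponent p L) (hne : K ≠ L) : ⁅K, L⁆ ≤ pPrimeCore p G := by
  have h := components_commute hK.2.1 hL.2.1 fun e => hne (pComponent_eq_of_map_eq hK hL e)
  rwa [← map_commutator, Subgroup.map_eq_bot_iff, QuotientGroup.ker_mk'] at h

theorem isPComponent_of_no_coprime_quotient {H : Subgroup G} (hsn : H.IsSubnormal)
    (hc : IsComponent (H.map (QuotientGroup.mk' (pPrimeCore p G))))
    (hmin : ∀ N : Subgroup H, N.Normal → (N.index).Coprime p → N = ⊤) : IsPComponent p H := by
  refine ⟨hsn, hc, fun H' hH' hle he => ?_⟩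
  by_contra hne
  rcases (hH'.subgroupOf (K := H)).lt_normal with e | ⟨N, hN, hle', hlt⟩
  · exact hne (le_antisymm hle (subgroupOf_eq_top.1 e))
  set O := pPrimeCore p G
  have hH : H ≤ H' ⊔ O := by
    rw [← QuotientGroup.ker_mk' O, ← comap_map_eq, he]; exact le_comap_map _ _
  refine hlt.ne (hmin N hN ((Solv.card_pPrimeCore_coprime p G).coprime_dvd_left ?_))
  have hsup : N ⊔ O.subgroupOf H = ⊤ := by
    rw [eq_top_iff]
    intro x _
    obtain ⟨a, ha, b, hb, hab⟩ := mem_sup_of_normal_right.1 (hH x.2)
    have hbH : b ∈ H := by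
      rw [show b = a⁻¹ * (x : G) by rw [← hab]; group]
      exact H.mul_mem (H.inv_mem (hle ha)) x.2
    rw [show x = (⟨a, hle ha⟩ : H) * ⟨b, hbH⟩ from Subtype.ext hab.symm]
    exact mul_mem_sup (hle' (show (⟨a, hle ha⟩ : H) ∈ H'.subgroupOf H from ha)) hb
  have h1 : N.index = N.relIndex (O.subgroupOf H) := by
    rw [← relIndex_top_right, ← hsup, sup_comm, relIndex_sup_right]
  rw [h1]
  refine (relIndex_dvd_card N _).trans ?_
  exact card_comap_dvd_of_injective O _ H.subtype_injective

end Cfsg.Agent.Local
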