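import Cfsg.Agent.Lib.Struct.CyclicQuotientGen
import Cfsg.Agent.Lib.Solv.StructMisc
import Cfsg.Agent.Lib.Solv.Coprime

/-!
A group acted on coprimely by a noncyclic abelian group is generated by centralizers of nontrivial
elements.
-/

set_option autoImplicit false
set_option linter.style.haveILetI false

namespace Cfsg.Agent.Local.CoprimeGen

open Subgroup
open scoped commutatorElement

variable {G : Type*} [Group G] [Finite G]

theorem le_of_centralizers_nilpotent (E V H : Subgroup G) [IsMulCommutative E] (hE : ¬ IsCyclic E)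
    [hnil : Group.IsNilpotent V]
    (hEV : E ≤ normalizer (V : Set G)) (hcop : (Nat.card E).Coprime (Nat.card V))
    (hH : ∀ e ∈ E, e ≠ 1 → V ⊓ centralizer ({e} : Set G) ≤ H) : V ≤ H := by
  classical
  letI : CommGroup E :=
    { (inferInstance : Group E) with mul_comm := fun a b => mul_comm' a b }
  set D := _root_.commutator V
  let act : E → MulAut V := fun e =>
    { toFun := fun v => ⟨e * v * (e : G)⁻¹, (mem_normalizer_iff.1 (hEV e.2) _).1 v.2⟩
      invFun := fun v => ⟨(e : G)⁻¹ * v * e, (mem_normalizer_iff''.1 (hEV e.2) _).1 v.2⟩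
      left_inv := fun v => Subtype.ext (by simp [mul_assoc])
      right_inv := fun v => Subtype.ext (by simp [mul_assoc])
      map_mul' := fun v w => Subtype.ext (by simp [mul_assoc]) }
  let φ : E →* MulAut (Abelianization V) :=
    { toFun := fun e => (act e).abelianizationCongr
      map_one' := MulEquiv.ext fun x => by
        induction x using QuotientGroup.induction_on with
        | H v => exact congrArg Abelianization.of (Subtype.ext (by simp [act]))
      map_mul' := fun a b => MulEquiv.ext fun x => by
        induction x using QuotientGroup.induction_on with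
        | H v => exact congrArg Abelianization.of (Subtype.ext (by simp [act, mul_assoc])) }
  set J := (H.subgroupOf V).map (Abelianization.of) with hJ
  have htop : J = ⊤ := by
    refine Struct.CyclicQuotientGen.eq_top_of_fixed φ
      (hcop.coprime_dvd_right (Subgroup.card_quotient_dvd_card D)) J fun B a hBa x hx => ?_
    obtain ⟨b, hbB, hb1⟩ : ∃ b ∈ B, b ≠ 1 := by
      by_contra h
      push Not at h
      refine hE ⟨⟨a, fun y => ?_⟩⟩
      have hy : y ∈ B ⊔ zpowers a := hBa ▸ mem_top y
      rwa [(eq_bot_iff.2 fun z hz => mem_bot.2 (h z hz) : B = ⊥), bot_sup_eq] at hy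
    induction x using QuotientGroup.induction_on with
    | H v =>
      have hfix : ∀ z ∈ zpowers (b : G), z * v * z⁻¹ * (v : G)⁻¹ ∈ D.map V.subtype := by
        intro z hz
        obtain ⟨i, rfl⟩ := mem_zpowers_iff.1 hz
        have h1 : (⟨(b : G) ^ i, zpow_mem b.2 i⟩ : E) ∈ B := by
          rw [show (⟨(b : G) ^ i, zpow_mem b.2 i⟩ : E) = b ^ i from Subtype.ext (by simp)]
          exact zpow_mem hbB i
        have h2 : QuotientGroup.mk (s := D) (act ⟨(b : G) ^ i, zpow_mem b.2 i⟩ v : V) = QuotientGroup.mk (s := D) v := hx _ h1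
        have h3 : (act ⟨(b : G) ^ i, zpow_mem b.2 i⟩ v) * v⁻¹ ∈ D := by
          refine (QuotientGroup.eq_one_iff (N := D) _).1 ?_
          rw [QuotientGroup.mk_mul, QuotientGroup.mk_inv]
          exact mul_inv_eq_one.2 h2
        exact ⟨_, h3, rfl⟩
      have hb : zpowers (b : G) ≤ E := zpowers_le.2 b.2
      obtain ⟨c, hc, hcv⟩ := Solv.exists_centralizer_lift (zpowers (b : G)) V (hb.trans hEV)
        (hcop.coprime_dvd_left (card_dvd_of_le hb)) (Or.inl inferInstance) (D.map V.subtype)
        (map_subtype_le _)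
        (by
          intro g hg
          have h := le_normalizer_map (H := D) V.subtype
          exact h ⟨⟨g, hg⟩, by rw [normalizer_eq_top]; trivial, rfl⟩)
        (by
          intro z hz
          have hinv : ∀ e : E, ∀ u ∈ D, act e u ∈ D := fun e u hu => by
            have : (_root_.commutator V).Characteristic := inferInstance
            exact Subgroup.characteristic_iff_le_comap.1 this (act e) hu
          rw [mem_normalizer_iff]
          intro u
          constructor
          · rintro ⟨w, hw, rfl⟩
            exact ⟨_, hinv ⟨z, hb hz⟩ w hw, rfl⟩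
          · rintro ⟨w, hw, e⟩
            refine ⟨_, hinv ⟨z, hb hz⟩⁻¹ w hw, ?_⟩
            show z⁻¹ * (w : G) * z⁻¹⁻¹ = u
            rw [show (w : G) = z * u * z⁻¹ from e]; group)
        v v.2 hfix
      have hcH : c ∈ H := hH b b.2 (fun e => hb1 (Subtype.ext e))
        (mem_inf.2 ⟨hc.1, mem_centralizer_iff.2 fun y hy => by
          rw [Set.mem_singleton_iff.1 hy]; exact mem_centralizer_iff.1 hc.2 b (mem_zpowers _)⟩)
      refine ⟨⟨c, hc.1⟩, hcH, ?_⟩
      obtain ⟨w, hw, e⟩ := hcv
      refine (QuotientGroup.eq (s := D)).2 ?_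
      have h4 : (v : G)⁻¹ * c = w := e.symm
      have h5 : (⟨c, hc.1⟩ : V)⁻¹ * v = w⁻¹ := Subtype.ext (by
        show c⁻¹ * (v : G) = (w : G)⁻¹
        rw [← h4]; group)
      rw [h5]
      exact inv_mem hw
  have h1 : H.subgroupOf V ⊔ frattini V = ⊤ := by
    refine top_le_iff.1 fun v _ => ?_
    obtain ⟨w, hw, e⟩ := (htop ▸ mem_top (Abelianization.of v) : Abelianization.of v ∈ J)
    rw [show v = w * (w⁻¹ * v) by group]
    exact mul_mem (mem_sup_left hw) (mem_sup_right (Solv.commutator_le_frattini ((QuotientGroup.eq (s := D)).1 e)))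
  exact subgroupOf_eq_top.1 (frattini_nongenerating h1)

theorem le_of_centralizers (E V H : Subgroup G) [IsMulCommutative E] (hE : ¬ IsCyclic E)
    (hEV : E ≤ normalizer (V : Set G)) (hcop : (Nat.card E).Coprime (Nat.card V))
    (hH : ∀ e ∈ E, e ≠ 1 → V ⊓ centralizer ({e} : Set G) ≤ H) : V ≤ H := by
  classical
  suffices h : (H.subgroupOf V).index = 1 from subgroupOf_eq_top.1 (index_eq_one.1 h)
  by_contra hne
  obtain ⟨q, hq, hd⟩ := Nat.exists_prime_and_dvd hne
  haveI : Fact q.Prime := ⟨hq⟩
  haveI hsol : Group.IsSolvable E := Group.isSolvable_of_comm fun a b => mul_comm' a b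
  obtain ⟨Q, hQ⟩ := Solv.exists_invariant_sylow E V hEV hcop (Or.inl hsol) q
  haveI : Group.IsNilpotent ((Q : Subgroup V).map V.subtype) := (Q.isPGroup'.map V.subtype).isNilpotent
  have hQH : (Q : Subgroup V).map V.subtype ≤ H :=
    le_of_centralizers_nilpotent E _ H hE hQ (hcop.coprime_dvd_right (card_dvd_of_le (map_subtype_le _)))
      fun e he he1 => (inf_le_inf_right _ (map_subtype_le _)).trans (hH e he he1)
  exact Q.not_dvd_index (hd.trans (index_dvd_of_le (map_le_iff_le_comap.1 hQH)))

end Cfsg.Agent.Local.CoprimeGen
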