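import Cfsg.Agent.Lib.Local.CosetGraph
import Cfsg.Agent.Lib.Solv.Basic
import Cfsg.Prelude.Def_PLocal

/-!
Vertex stabilizers, their `p`-cores and centre closures in amalgams.
-/

set_option autoImplicit false
set_option linter.style.haveILetI false

namespace Cfsg.Agent.Local.Amalgam

open Subgroup

variable {X : Type*} [Group X] {p : ℕ}

theorem omegaOne_map {Y : Type*} [Group Y] (f : X →* Y) (hf : Function.Injective f) (H : Subgroup X) :
    (omegaOne p H).map f = omegaOne p (H.map f) := by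
  rw [omegaOne, omegaOne, MonoidHom.map_closure]
  congr 1
  ext y
  constructor
  · rintro ⟨x, ⟨hx, hxp⟩, rfl⟩
    exact ⟨⟨x, hx, rfl⟩, by rw [← map_pow, hxp, map_one]⟩
  · rintro ⟨⟨x, hx, rfl⟩, hy⟩
    exact ⟨x, ⟨hx, hf (by rw [map_pow, hy, map_one])⟩, rfl⟩

theorem omegaOne_le (H : Subgroup X) : omegaOne p H ≤ H := by
  rw [omegaOne, closure_le]
  exact fun x hx => hx.1

theorem map_centralizer (e : MulAut X) (S : Subgroup X) :
    (centralizer (S : Set X)).map e.toMonoidHom = centralizer ((S.map e.toMonoidHom : Subgroup X) : Set X) := by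
  ext y
  constructor
  · rintro ⟨x, hx, rfl⟩
    rw [mem_centralizer_iff]
    rintro _ ⟨s, hs, rfl⟩
    show e s * e x = e x * e s
    rw [← map_mul, ← map_mul, mem_centralizer_iff.1 hx s hs]
  · intro hy
    refine ⟨e.symm y, mem_centralizer_iff.2 fun s hs => e.injective ?_, by simp⟩
    rw [map_mul, map_mul, e.apply_symm_apply]
    exact mem_centralizer_iff.1 hy (e s) ⟨s, hs, rfl⟩

theorem sylowCenterClosure_le (H : Subgroup X) : sylowCenterClosure p H ≤ H :=
  iSup_le fun _ => (omegaOne_le _).trans (inf_le_left.trans (map_subtype_le _))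

theorem le_normalizer_sylowCenterClosure (H : Subgroup X) :
    H ≤ normalizer (sylowCenterClosure p H : Set X) := by
  have hle : ∀ h ∈ H, (sylowCenterClosure p H).map (MulAut.conj h).toMonoidHom ≤ sylowCenterClosure p H := by
    intro h hh
    rw [sylowCenterClosure, Subgroup.map_iSup]
    refine iSup_le fun S => ?_
    refine le_trans (le_of_eq ?_) (le_iSup (fun T : Sylow p H =>
      omegaOne p (((T : Subgroup H).map H.subtype) ⊓
        centralizer (((T : Subgroup H).map H.subtype : Subgroup X) : Set X))) ((⟨h, hh⟩ : H) • S))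
    rw [omegaOne_map _ (MulAut.conj h).injective, Subgroup.map_inf _ _ _ (MulAut.conj h).injective,
      map_centralizer]
    have e : ((S : Subgroup H).map H.subtype).map (MulAut.conj h).toMonoidHom =
        (((⟨h, hh⟩ : H) • S : Sylow p H) : Subgroup H).map H.subtype := by
      ext y
      constructor
      · rintro ⟨_, ⟨x, hx, rfl⟩, rfl⟩
        exact ⟨_, ⟨x, hx, rfl⟩, rfl⟩
      · rintro ⟨_, ⟨x, hx, rfl⟩, rfl⟩
        exact ⟨_, ⟨x, hx, rfl⟩, rfl⟩
    rw [e]
  intro h hh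
  rw [mem_normalizer_iff]
  intro x
  refine ⟨fun hx => hle h hh ⟨x, hx, rfl⟩, fun hx => ?_⟩
  have h2 : h⁻¹ * (h * x * h⁻¹) * h⁻¹⁻¹ ∈ sylowCenterClosure p H :=
    hle h⁻¹ (inv_mem hh) ⟨_, hx, rfl⟩
  rwa [show h⁻¹ * (h * x * h⁻¹) * h⁻¹⁻¹ = x by group] at h2

theorem pCoreOf_map (e : MulAut X) (H : Subgroup X) :
    pCoreOf p (H.map e.toMonoidHom) = (pCoreOf p H).map e.toMonoidHom := by
  have h := Solv.pCore_map_equiv p (H.equivMapOfInjective e.toMonoidHom e.injective)
  rw [pCoreOf, pCoreOf, ← h, map_map, map_map]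
  rfl

/-- The `p`-core of a finite group lies in every subgroup containing a Sylow subgroup. -/
theorem pCoreOf_le_of_card [Fact p.Prime] {M K : Subgroup X} [Finite M] (hKM : K ≤ M) (S : Sylow p K)
    (P : Sylow p M) (h : Nat.card S = Nat.card P) : pCoreOf p M ≤ K := by
  obtain ⟨Q, hQ⟩ := (S.isPGroup'.map (inclusion hKM)).exists_le_sylow
  have hcard : Nat.card ((S : Subgroup K).map (inclusion hKM)) = Nat.card Q := by
    rw [card_map_of_injective (inclusion_injective hKM), Q.card_eq_multiplicity]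
    show Nat.card S = _
    rw [h]
    exact P.card_eq_multiplicity
  have he : (S : Subgroup K).map (inclusion hKM) = Q := eq_of_le_of_card_ge hQ hcard.ge
  rintro _ ⟨x, hx, rfl⟩
  have hxQ : x ∈ (Q : Subgroup M) := Solv.pCore_le_sylow Q hx
  rw [← he] at hxQ
  obtain ⟨y, -, rfl⟩ := hxQ
  exact y.2

variable {M₁ M₂ : Subgroup X}

theorem pCoreOf_le_inter [Fact p.Prime] (h : IsCharPAmalgamPair p M₁ M₂) :
    pCoreOf p M₁ ≤ M₁ ⊓ M₂ ∧ pCoreOf p M₂ ≤ M₁ ⊓ M₂ := by
  haveI := h.2.1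
  haveI := h.2.2.1
  haveI : Finite ↥(M₁ ⊓ M₂) :=
    Finite.of_injective _ (inclusion_injective (inf_le_left : M₁ ⊓ M₂ ≤ M₁))
  obtain ⟨S⟩ := Sylow.nonempty (p := p) (G := ↥(M₁ ⊓ M₂))
  obtain ⟨P₁⟩ := Sylow.nonempty (p := p) (G := M₁)
  obtain ⟨P₂⟩ := Sylow.nonempty (p := p) (G := M₂)
  exact ⟨pCoreOf_le_of_card inf_le_left S P₁ (h.2.2.2.2.2.1 S P₁ P₂).1,
    pCoreOf_le_of_card inf_le_right S P₂ (h.2.2.2.2.2.1 S P₁ P₂).2⟩

theorem vertexQ_le_neighbourKernel [Fact p.Prime] (h : IsCharPAmalgamPair p M₁ M₂) (δ : CosetVertex M₁ M₂) :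
    vertexQ p δ ≤ neighbourKernel δ := by
  refine le_inf (map_subtype_le _) (le_iInf fun μ => le_iInf fun hμ => ?_)
  obtain ⟨x, ⟨rfl, rfl⟩ | ⟨rfl, rfl⟩⟩ := (CosetGr.adj_iff _ _).1 hμ
  · simp only [vertexQ, CosetGr.stabilizer_inl, CosetGr.stabilizer_inr, pCoreOf_map]
    exact map_mono ((pCoreOf_le_inter h).1.trans inf_le_right)
  · simp only [vertexQ, CosetGr.stabilizer_inl, CosetGr.stabilizer_inr, pCoreOf_map]
    exact map_mono ((pCoreOf_le_inter h).2.trans inf_le_left)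

theorem neighbourKernel_le_of_adj {ν μ : CosetVertex M₁ M₂} (h : (cosetGraph M₁ M₂).Adj ν μ) :
    neighbourKernel ν ≤ MulAction.stabilizer X μ :=
  inf_le_right.trans (iInf₂_le μ h)

theorem vertexZ_le_stabilizer_of_dist {α α' : CosetVertex M₁ M₂} (hgen : M₁ ⊔ M₂ = ⊤)
    (hd : (cosetGraph M₁ M₂).dist α α' ≤ criticalDistance p M₁ M₂) :
    vertexZ p α ≤ MulAction.stabilizer X α' := by
  obtain ⟨w, hw⟩ := ((CosetGr.connected (M₁ := M₁) (M₂ := M₂) hgen).preconnected α' α).exists_walk_length_eq_dist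
  match w with
  | .nil => exact sylowCenterClosure_le _
  | .cons (v := ν) hadj w' =>
    refine le_trans ?_ (neighbourKernel_le_of_adj hadj.symm)
    by_contra hne
    have h1 : criticalDistance p M₁ M₂ ≤ (cosetGraph M₁ M₂).dist α ν := Nat.sInf_le ⟨α, ν, rfl, hne⟩
    have h2 : (cosetGraph M₁ M₂).dist ν α ≤ w'.length := SimpleGraph.dist_le w'
    rw [SimpleGraph.Walk.length_cons] at hw
    have e1 : (cosetGraph M₁ M₂).dist α ν = (cosetGraph M₁ M₂).dist ν α := SimpleGraph.dist_comm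
    have e2 : (cosetGraph M₁ M₂).dist α α' = (cosetGraph M₁ M₂).dist α' α := SimpleGraph.dist_comm
    omega

end Cfsg.Agent.Local.Amalgam
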