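import Cfsg.Prelude.Def_Local
import Cfsg.Agent.Lib.Solv.Coprime
import Cfsg.Agent.Lib.Local.Basic

/-!
In a solvable group `H`, a `p'`-subgroup centralizing a `p`-subgroup `X` and normalized by
`C_H(X)` lies in `O_{p'}(H)`; consequence: balance for solvable centralizers.
-/

set_option autoImplicit false

namespace Cfsg.Agent.Local

open Subgroup
open scoped Pointwise

variable {H : Type*} [Group H] [Finite H] {p : ℕ} [Fact p.Prime]

theorem le_pPrimeCore_of_centralizer_normalizes [Group.IsSolvable H] (X Q : Subgroup H)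
    (hX : IsPGroup p X) (hQ : (Nat.card Q).Coprime p) (hQX : Q ≤ centralizer (X : Set H))
    (hN : centralizer (X : Set H) ≤ normalizer (Q : Set H)) : Q ≤ pPrimeCore p H := by
  set N := pPrimeCore p H with hNdef
  set f := QuotientGroup.mk' N with hf
  haveI : Group.IsSolvable (H ⧸ N) :=
    Group.isSolvable_of_surjective (f := f) (QuotientGroup.mk'_surjective N)
  have hcopX : (Nat.card N).Coprime (Nat.card X) := by
    obtain ⟨k, hk⟩ := IsPGroup.iff_card.1 hX
    rw [hk]; exact (Solv.card_pPrimeCore_coprime p H).pow_right k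
  -- centralizer of the image
  have hcent : ∀ u : H ⧸ N, u ∈ centralizer ((X.map f : Subgroup (H ⧸ N)) : Set (H ⧸ N)) →
      ∃ c ∈ centralizer (X : Set H), f c = u := by
    intro u hu
    obtain ⟨h, rfl⟩ := QuotientGroup.mk'_surjective N u
    have hmod : ∀ x ∈ X, h * x * h⁻¹ * x⁻¹ ∈ N := fun x hx => by
      rw [← QuotientGroup.eq_one_iff]
      show f (h * x * h⁻¹ * x⁻¹) = 1
      have := mem_centralizer_iff.1 hu (f x) ⟨x, hx, rfl⟩
      simp only [map_mul, map_inv]
      rw [show f h * f x = f x * f h from this.symm]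
      group
    have hK : MulAut.conj h • X ≤ N ⊔ X := by
      intro y hy
      rw [mem_pointwise_smul_iff_inv_smul_mem] at hy
      have hy' : h⁻¹ * y * h ∈ X := by simpa using hy
      rw [show y = (h * (h⁻¹ * y * h) * h⁻¹ * (h⁻¹ * y * h)⁻¹) * (h⁻¹ * y * h) by group]
      exact mul_mem_sup (hmod _ hy') hy'
    obtain ⟨n, hn, hne⟩ := Solv.conj_of_card_eq N X (MulAut.conj h • X)
      (Or.inl inferInstance) le_normalizer_of_normal hK (Solv.card_conj_smul _ _) hcopX
    refine ⟨n⁻¹ * h, mem_centralizer_iff.2 fun x hx => ?_, ?_⟩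
    · have h1 : h * x * h⁻¹ ∈ MulAut.conj n • X := hne ▸ smul_mem_pointwise_smul x (MulAut.conj h) X hx
      rw [mem_pointwise_smul_iff_inv_smul_mem] at h1
      rw [← map_inv, MulAut.smul_def, MulAut.conj_apply, inv_inv] at h1
      have h2 : n⁻¹ * (h * x * h⁻¹) * n ∈ X := h1
      have h3 : n⁻¹ * (h * x * h⁻¹) * n * x⁻¹ ∈ N ⊓ X := by
        refine ⟨?_, mul_mem h2 (X.inv_mem hx)⟩
        rw [show n⁻¹ * (h * x * h⁻¹) * n * x⁻¹ =
          n⁻¹ * (h * x * h⁻¹ * x⁻¹) * (x * n * x⁻¹) by group]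
        exact mul_mem (mul_mem (N.inv_mem hn) (hmod x hx))
          ((inferInstance : N.Normal).conj_mem n hn x)
      rw [Solv.inf_eq_bot_of_coprime_card N X hcopX, mem_bot, mul_inv_eq_one] at h3
      conv_lhs => rw [← h3]
      group
    · rw [map_mul, map_inv, show f n = 1 from (QuotientGroup.eq_one_iff n).2 hn, inv_one, one_mul]
  -- Thompson's lemma
  set U := pCore p (H ⧸ N) with hU
  have hQU : Q.map f ≤ centralizer (U : Set (H ⧸ N)) := by
    refine Solv.thompson_pq p (X.map f) (Q.map f) U (hX.map f)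
      (hQ.coprime_dvd_left (card_map_dvd _ _)) (Solv.isPGroup_pCore p _) ?_
      le_normalizer_of_normal le_normalizer_of_normal ?_
    · rintro _ ⟨x, hx, rfl⟩
      rw [mem_centralizer_iff]
      rintro _ ⟨q, hq, rfl⟩
      rw [← map_mul, ← map_mul]
      exact congrArg f ((mem_centralizer_iff.1 (hQX hq) x hx).symm)
    · rintro u ⟨hu, huc⟩
      rw [mem_centralizer_iff]
      rintro _ ⟨q, hq, rfl⟩
      obtain ⟨c, hc, rfl⟩ := hcent u huc
      have h1 : f c * f q * (f c)⁻¹ * (f q)⁻¹ ∈ U ⊓ Q.map f := by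
        refine ⟨?_, ⟨c * q * c⁻¹ * q⁻¹, mul_mem ?_ (inv_mem hq), by simp⟩⟩
        · rw [show f c * f q * (f c)⁻¹ * (f q)⁻¹ = f c * (f q * (f c)⁻¹ * (f q)⁻¹) by group]
          exact mul_mem hu ((inferInstance : U.Normal).conj_mem _ (inv_mem hu) _)
        · exact (mem_normalizer_iff.1 (hN hc) q).1 hq
      rw [Solv.inf_eq_bot_of_isPGroup (Solv.isPGroup_pCore p _)
        (hQ.coprime_dvd_left (card_map_dvd _ _)), mem_bot, mul_inv_eq_one] at h1
      exact (mul_inv_eq_iff_eq_mul.1 h1).symm
  have hle : Q.map f ≤ U := hQU.trans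
    (Solv.centralizer_pCore_le_of_isSolvable (Solv.pPrimeCore_quotient_pPrimeCore p))
  have hbot : Q.map f = ⊥ := by
    rw [← inf_eq_right.2 hle]
    exact Solv.inf_eq_bot_of_isPGroup (Solv.isPGroup_pCore p _)
      (hQ.coprime_dvd_left (card_map_dvd _ _))
  rwa [Subgroup.map_eq_bot_iff, hf, QuotientGroup.ker_mk'] at hbot

theorem balance_solvable {G : Type*} [Group G] [Finite G] {p : ℕ} [Fact p.Prime] (x y : G)
    (hx : IsPGroup p (zpowers x)) (hxy : x * y = y * x)
    (hCy : Group.IsSolvable ↥(centralizer ({y} : Set G))) :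
    centralizerPPrimeCore p x ⊓ centralizer {y} ≤ centralizerPPrimeCore p y := by
  set C := centralizer ({y} : Set G) with hC
  set Cx := centralizer ({x} : Set G) with hCx
  set D := centralizerPPrimeCore p x with hD
  have hxC : x ∈ C := mem_centralizer_singleton_iff.2 hxy
  haveI := hCy
  have hDx : D ≤ Cx := map_subtype_le _
  have hsub : (D ⊓ C).subgroupOf C ≤ pPrimeCore p C := by
    refine le_pPrimeCore_of_centralizer_normalizes ((zpowers x).subgroupOf C) _ hx.comap_subtype
      ?_ ?_ ?_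
    · refine (Solv.card_pPrimeCore_coprime p Cx).coprime_dvd_left ?_
      rw [Solv.card_subgroupOf inf_le_right, ← Solv.card_map_subtype Cx]
      exact card_dvd_of_le inf_le_left
    · intro q hq
      rw [mem_centralizer_iff]
      intro z hz
      obtain ⟨k, hk⟩ := mem_zpowers_iff.1 hz
      have hq' : Commute x (q : G) := (mem_centralizer_singleton_iff.1 (hDx hq.1)).symm
      apply Subtype.ext
      show (z : G) * q = q * z
      have hk' : x ^ k = (z : G) := hk
      rw [← hk']
      exact (hq'.zpow_left k).eq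
    · intro c hc
      have hcx : (c : G) ∈ Cx := by
        have := mem_centralizer_iff.1 hc ⟨x, hxC⟩ (mem_zpowers x)
        exact mem_centralizer_singleton_iff.2 (congrArg Subtype.val this).symm
      have key : ∀ d : G, d ∈ Cx → ∀ q : G, q ∈ D → d * q * d⁻¹ ∈ D := by
        rintro d hd _ ⟨q, hq, rfl⟩
        exact ⟨⟨d, hd⟩ * q * ⟨d, hd⟩⁻¹,
          (inferInstance : (pPrimeCore p Cx).Normal).conj_mem q hq _, rfl⟩
      rw [mem_normalizer_iff]
      intro q
      constructor
      · rintro ⟨h1, h2⟩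
        exact ⟨key _ hcx _ h1, (c * q * c⁻¹ : C).2⟩
      · rintro ⟨h1, _⟩
        refine ⟨?_, q.2⟩
        have := key _ (inv_mem hcx) _ h1
        simpa [mul_assoc] using this
  intro d hd
  exact ⟨⟨d, hd.2⟩, hsub hd, rfl⟩

end Cfsg.Agent.Local
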