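import Cfsg.Agent.Lib.Local.LBalance
import Mathlib.GroupTheory.NoncommPiCoprod
import Mathlib.Algebra.Group.Submonoid.Finite

/-!
# Cores of centralizers acting on components
-/

set_option autoImplicit false
set_option linter.style.haveILetI false

namespace Cfsg.Agent.Local

open Subgroup
open scoped commutatorElement

/-- An endomorphism of a perfect group which is trivial modulo the centre is trivial. -/
theorem eq_self_of_mod_center {X : Type*} [Group X]
    (hperf : ⁅(⊤ : Subgroup X), (⊤ : Subgroup X)⁆ = ⊤) (φ : X →* X)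
    (h : ∀ y, φ y * y⁻¹ ∈ center X) (y : X) : φ y = y := by
  have hfix : (⊤ : Subgroup X) ≤ φ.eqLocus (MonoidHom.id X) := by
    rw [← hperf, commutator_le]
    intro a _ b _
    show φ ⁅a, b⁆ = ⁅a, b⁆
    obtain ⟨za, hza, ea⟩ : ∃ z ∈ center X, φ a = z * a := ⟨_, h a, by group⟩
    obtain ⟨zb, hzb, eb⟩ : ∃ z ∈ center X, φ b = z * b := ⟨_, h b, by group⟩
    rw [map_commutatorElement, ea, eb, commutatorElement_def, commutatorElement_def, mul_inv_rev,
      mul_inv_rev]
    have c1 : za * a * (zb * b) = za * zb * (a * b) := by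
      rw [mul_assoc za a, ← mul_assoc a zb b, mem_center_iff.1 hzb a]; group
    have c2 : za * zb * (a * b) = a * b * (zb * za) := by
      rw [← mem_center_iff.1 hza zb]
      exact ((mem_center_iff.1 (mul_mem hzb hza) (a * b)).symm)
    calc za * a * (zb * b) * (a⁻¹ * za⁻¹) * (b⁻¹ * zb⁻¹)
        = a * b * (zb * za) * (a⁻¹ * za⁻¹) * (b⁻¹ * zb⁻¹) := by rw [c1, c2]
      _ = a * b * (zb * (za * a⁻¹) * za⁻¹) * (b⁻¹ * zb⁻¹) := by group
      _ = a * b * (zb * (a⁻¹ * za) * za⁻¹) * (b⁻¹ * zb⁻¹) := by
          rw [mem_center_iff.1 hza a⁻¹]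
      _ = a * b * (zb * (a⁻¹ * b⁻¹)) * zb⁻¹ := by group
      _ = a * b * ((a⁻¹ * b⁻¹) * zb) * zb⁻¹ := by rw [mem_center_iff.1 hzb (a⁻¹ * b⁻¹)]
      _ = a * b * a⁻¹ * b⁻¹ := by group
  exact hfix (mem_top y)

theorem piHom_ext {ι : Type*} [Finite ι] [DecidableEq ι] {M : ι → Type*} [∀ i, Group (M i)]
    {N : Type*} [Group N] {f g : (∀ i, M i) →* N}
    (h : ∀ i x, f (Pi.mulSingle i x) = g (Pi.mulSingle i x)) : f = g :=
  MonoidHom.ext fun x => pi_mem_of_mulSingle_mem (H := f.eqLocus g) x fun i => h i (x i)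

variable {G : Type*} [Group G] [Finite G] {p : ℕ} [hp : Fact p.Prime]

theorem le_core_map {C R : Subgroup G} (hRC : R ≤ C) (hn : C ≤ normalizer (R : Set G))
    (hc : (Nat.card R).Coprime p) : R ≤ (pPrimeCore p ↥C).map C.subtype := by
  haveI : (R.subgroupOf C).Normal := normal_subgroupOf_of_le_normalizer hn
  rw [← map_subgroupOf_eq_of_le hRC]
  exact map_mono (Solv.le_pPrimeCore (by rwa [Solv.card_subgroupOf hRC]))

theorem le_normalizer_core_map (C : Subgroup G) :
    normalizer (C : Set G) ≤ normalizer ((pPrimeCore p ↥C).map C.subtype : Set G) := by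
  haveI := Solv.pPrimeCore_characteristic p ↥C
  exact fun g hg => Inv.normalizer_map_char _ hg

theorem core_centralizer_le_centralizer_pCore {P : Subgroup G} (hP : IsPGroup p P) :
    (pPrimeCore p ↥(centralizer (P : Set G))).map (centralizer (P : Set G)).subtype ≤
      centralizer (pCore p G : Set G) := by
  set C := centralizer (P : Set G) with hC
  set O₁ := (pPrimeCore p ↥C).map C.subtype with hO₁
  have hO₁le : O₁ ≤ C := map_subtype_le _
  have hCn : C ≤ normalizer (O₁ : Set G) := le_normalizer.trans (le_normalizer_core_map C)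
  have hcard : (Nat.card O₁).Coprime p := by
    rw [hO₁, Solv.card_map_subtype]; exact Solv.card_pPrimeCore_coprime p ↥C
  haveI : (pCore p G).Normal := by haveI := Solv.pCore_characteristic p G; infer_instance
  refine Solv.thompson_pq p P O₁ (pCore p G) hP hcard (Solv.isPGroup_pCore p G) ?_
    (le_normalizer_pCore _) (le_normalizer_pCore _) ?_
  · rw [le_centralizer_iff]; exact hO₁le
  · intro x hx
    rw [mem_centralizer_iff]
    intro o ho
    replace ho : o ∈ O₁ := ho
    have hp' : IsPGroup p ↥(pCore p G ⊓ C : Subgroup G) :=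
      (Solv.isPGroup_pCore p G).to_le inf_le_left
    have hxC : x ∈ C := hx.2
    have h2 : o * x * o⁻¹ * x⁻¹ ∈ ((pCore p G ⊓ C) ⊓ O₁ : Subgroup G) := by
      refine ⟨⟨(pCore p G).mul_mem ((inferInstance : (pCore p G).Normal).conj_mem x hx.1 o)
        ((pCore p G).inv_mem hx.1), ?_⟩, ?_⟩
      · exact C.mul_mem (C.mul_mem (C.mul_mem (hO₁le ho) hxC) (C.inv_mem (hO₁le ho)))
          (C.inv_mem hxC)
      · rw [show o * x * o⁻¹ * x⁻¹ = o * (x * o⁻¹ * x⁻¹) by group]
        exact O₁.mul_mem ho ((mem_normalizer_iff.1 (hCn hxC) _).1 (O₁.inv_mem ho))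
    rw [Solv.inf_eq_bot_of_isPGroup hp' hcard, mem_bot, mul_inv_eq_one,
      mul_inv_eq_iff_eq_mul] at h2
    exact h2

theorem core_centralizer_le_compNormalizer (hO : pPrimeCore p G = ⊥) {P : Subgroup G}
    (hP : IsPGroup p P) :
    (pPrimeCore p ↥(centralizer (P : Set G))).map (centralizer (P : Set G)).subtype ≤
      compNormalizer G :=
  le_compNormalizer_iff.2 fun L hL _ ho =>
    LayerNorm.normalizes_component hO P _ hP (map_subtype_le _)
      (le_normalizer.trans (le_normalizer_core_map _))
      (by rw [Solv.card_map_subtype]; exact Solv.card_pPrimeCore_coprime p _)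
      (core_centralizer_le_centralizer_pCore hP) hL ho

omit [Finite G] hp in
theorem core_congr {C D : Subgroup G} (h : C = D) :
    (pPrimeCore p ↥C).map C.subtype = (pPrimeCore p ↥D).map D.subtype := by
  subst h; rfl

omit hp in
theorem centralizerPPrimeCore_eq (x : G) :
    centralizerPPrimeCore p x =
      (pPrimeCore p ↥(centralizer (zpowers x : Set G))).map (centralizer (zpowers x : Set G)).subtype := by
  refine core_congr ?_
  rw [zpowers_eq_closure, centralizer_closure]

omit hp in
theorem centralizerPPrimeCore_le_centralizer (x : G) :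
    centralizerPPrimeCore p x ≤ centralizer ({x} : Set G) := map_subtype_le _

theorem card_centralizerPPrimeCore_coprime (x : G) :
    (Nat.card ↥(centralizerPPrimeCore p x)).Coprime p := by
  rw [centralizerPPrimeCore, Solv.card_map_subtype]
  exact Solv.card_pPrimeCore_coprime p _

theorem centralizer_le_normalizer_centralizerPPrimeCore (x : G) :
    centralizer ({x} : Set G) ≤ normalizer (centralizerPPrimeCore p x : Set G) :=
  le_normalizer.trans (le_normalizer_core_map _)

omit hp in
theorem isPGroup_zpowers [Fact p.Prime] {x : G} (hx : orderOf x = p) : IsPGroup p (zpowers x) :=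
  IsPGroup.of_card (n := 1) (by rw [Nat.card_zpowers, hx, pow_one])

theorem centralizerPPrimeCore_le_centralizer_pCore {x : G} (hx : orderOf x = p) :
    centralizerPPrimeCore p x ≤ centralizer (pCore p G : Set G) := by
  rw [centralizerPPrimeCore_eq]
  exact core_centralizer_le_centralizer_pCore (isPGroup_zpowers hx)

theorem centralizerPPrimeCore_le_compNormalizer (hO : pPrimeCore p G = ⊥) {x : G}
    (hx : orderOf x = p) : centralizerPPrimeCore p x ≤ compNormalizer G := by
  rw [centralizerPPrimeCore_eq]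
  exact core_centralizer_le_compNormalizer hO (isPGroup_zpowers hx)

/-- A `p'`-group centralizing `O_p` and all components is trivial when `O_{p'}` is. -/
theorem eq_bot_of_centralizes (hO : pPrimeCore p G = ⊥) {R : Subgroup G}
    (hc : (Nat.card R).Coprime p) (hQ : R ≤ centralizer (pCore p G : Set G))
    (hL : ∀ L : Subgroup G, IsComponent L → R ≤ centralizer (L : Set G)) : R = ⊥ := by
  have hF : generalizedFittingSubgroup G = (layer G) ⊔ pCore p G := by
    rw [generalizedFittingSubgroup, Solv.fittingSubgroup_eq_pCore hO]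
  have hE : R ≤ centralizer (layer G : Set G) := by
    rw [le_centralizer_iff]
    exact sSup_le fun L hL' => le_centralizer_iff.1 (hL L hL')
  have hcent : R ≤ centralizer (generalizedFittingSubgroup G : Set G) := by
    rw [hF]; exact le_centralizer_sup hE hQ
  have hZ : R ≤ pCore p G := by
    intro r hr
    have hle := centralizer_generalizedFitting_le (G := G)
    have hrF := hle (hcent hr)
    -- the centralizer of `F*` lies in the Fitting subgroup
    have hn : ((centralizer (generalizedFittingSubgroup G : Set G)) ⊓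
        generalizedFittingSubgroup G : Subgroup G).Normal := by
      haveI := layer_normal (G := G)
      haveI := Solv.fittingSubgroup_normal G
      haveI : (generalizedFittingSubgroup G).Normal := Subgroup.sup_normal _ _
      exact Subgroup.normal_inf_normal _ _
    haveI := hn
    have hnil : Group.IsNilpotent ↥((centralizer (generalizedFittingSubgroup G : Set G)) ⊓
        generalizedFittingSubgroup G : Subgroup G) :=
      Subgroup.isNilpotent_of_ker_le_center
        (1 : ↥((centralizer (generalizedFittingSubgroup G : Set G)) ⊓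
          generalizedFittingSubgroup G : Subgroup G) →* Unit) fun y _ => by
        rw [mem_center_iff]
        intro z
        exact Subtype.ext (mem_centralizer_iff.1 y.2.1 (z : G) z.2.2)
    rw [← Solv.fittingSubgroup_eq_pCore hO]
    exact Solv.le_fittingSubgroup hnil ⟨hcent hr, hrF⟩
  have h := Solv.inf_eq_bot_of_isPGroup (Solv.isPGroup_pCore p G) hc
  exact le_bot_iff.1 ((le_inf hZ le_rfl).trans h.le)

omit hp in
/-- A normalizing element either acts nontrivially as `[L, x] = L` or centralizes `L`. -/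
theorem centralizes_of_commutator_ne {L : Subgroup G} (hL : IsComponent L) {x : G}
    (hx : x ∈ normalizer (L : Set G)) (hne : ⁅L, zpowers x⁆ ≠ L) :
    L ≤ centralizer ({x} : Set G) := by
  have hle : ⁅L, zpowers x⁆ ≤ L := le_normalizer_iff_commutator_le_left.1 (zpowers_le.2 hx)
  haveI : (⁅L, zpowers x⁆.subgroupOf L).Normal :=
    normal_subgroupOf_of_le_normalizer (normalizer_commutator_ge_left L (zpowers x))
  rcases qs_normal_le_center_or_eq_top hL.2 (⁅L, zpowers x⁆.subgroupOf L) with e | e
  · intro y hy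
    have hφ := eq_self_of_mod_center (qs_top_commutator hL.2)
      (L.normalizerMonoidHom ⟨x, hx⟩).toMonoidHom (fun z => e (by
        show x * (z : G) * x⁻¹ * (z : G)⁻¹ ∈ ⁅L, zpowers x⁆
        rw [commutator_comm L (zpowers x), ← commutatorElement_def]
        exact commutator_mem_commutator (mem_zpowers x) z.2)) ⟨y, hy⟩
    have h3 : x * y * x⁻¹ = y := congrArg Subtype.val hφ
    exact mem_centralizer_singleton_iff.2 (mul_inv_eq_iff_eq_mul.1 h3).symm
  · exact absurd (le_antisymm hle (subgroupOf_eq_top.1 e)) hne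

/-- `[L, O_{p'}(C(x))] = 1` unless `x` acts nontrivially on the component `L`. -/
theorem component_core_commute (hO : pPrimeCore p G = ⊥) {x : G} (hx : orderOf x = p)
    {L : Subgroup G} (hL : IsComponent L) (hne : ⁅L, zpowers x⁆ ≠ L) :
    ⁅L, centralizerPPrimeCore p x⁆ = ⊥ := by
  have hidx : p ∣ (center ↥L).index := component_index_center_not_coprime hO hL
  by_cases hxL : x ∈ normalizer (L : Set G)
  · have hLx := centralizes_of_commutator_ne hL hxL hne
    have hLc := isComponent_subgroupOf hLx hL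
    haveI := Solv.pPrimeCore_characteristic p ↥(centralizer ({x} : Set G))
    rcases component_le_or_commutator_eq_bot hLc
      (inferInstance : (pPrimeCore p ↥(centralizer ({x} : Set G))).Normal).isSubnormal with e | e
    · exfalso
      refine hp.out.coprime_iff_not_dvd.1
        ((Solv.card_pPrimeCore_coprime p ↥(centralizer ({x} : Set G))).coprime_dvd_left ?_).symm hidx
      refine (index_dvd_card _).trans ?_
      rw [← Solv.card_subgroupOf hLx]
      exact card_dvd_of_le e
    · have h := congrArg (Subgroup.map (centralizer ({x} : Set G)).subtype) e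
      rwa [map_commutator, map_subgroupOf_eq_of_le hLx, Subgroup.map_bot] at h
  -- `x` moves `L`
  haveI : NeZero p := ⟨hp.out.ne_zero⟩
  set R := centralizerPPrimeCore p x with hR
  have hRn : R ≤ normalizer (L : Set G) :=
    (centralizerPPrimeCore_le_compNormalizer hO hx).trans (le_compNormalizer_iff.1 le_rfl L hL)
  let φ : Fin p → ↥L →* G := fun i => (MulAut.conj (x ^ (i : ℕ))).toMonoidHom.comp L.subtype
  have hdist : ∀ i j : Fin p, i ≠ j →
      L.map (MulAut.conj (x ^ (i : ℕ))).toMonoidHom ≠ L.map (MulAut.conj (x ^ (j : ℕ))).toMonoidHom := by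
    intro i j hij e
    apply hxL
    have h1 : (x ^ (j : ℕ))⁻¹ * x ^ (i : ℕ) ∈ normalizer (L : Set G) := by
      refine mem_normalizer_iff_map_conj_eq.2 ?_
      show L.map (MulAut.conj ((x ^ (j : ℕ))⁻¹ * x ^ (i : ℕ))).toMonoidHom = L
      rw [← Fusion.map_conj_mul, e, Fusion.map_conj_mul, inv_mul_cancel, map_one]
      ext y; simp
    rw [show (x ^ (j : ℕ))⁻¹ * x ^ (i : ℕ) = x ^ ((i : ℤ) - (j : ℤ)) by
      rw [zpow_sub, zpow_natCast, zpow_natCast]
      exact ((Commute.refl x).pow_pow _ _).inv_left.eq] at h1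
    have h0 : ¬ (p : ℤ) ∣ (i : ℤ) - (j : ℤ) := by
      intro hd
      have := Int.eq_zero_of_abs_lt_dvd hd (by
        rw [abs_lt]; constructor <;> [have := j.2; have := i.2] <;> omega)
      exact hij (Fin.ext (by omega))
    obtain ⟨a, b, hab⟩ : IsCoprime ((i : ℤ) - (j : ℤ)) (p : ℤ) :=
      (Nat.prime_iff_prime_int.1 hp.out).coprime_iff_not_dvd.2 h0 |>.symm
    have hxp : x ^ (p : ℤ) = 1 := by rw [zpow_natCast, ← hx]; exact pow_orderOf_eq_one x
    have : x = (x ^ ((i : ℤ) - (j : ℤ))) ^ a := by
      calc x = x ^ (a * ((i : ℤ) - (j : ℤ)) + b * (p : ℤ)) := by rw [hab, zpow_one]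
        _ = _ := by rw [zpow_add, mul_comm b, zpow_mul x (p : ℤ), hxp, one_zpow, mul_one, mul_comm, zpow_mul]
    rw [this]
    exact zpow_mem h1 a
  have hcomm : Pairwise fun i j => ∀ a b, Commute (φ i a) (φ j b) := by
    intro i j hij a b
    have h := components_commute (isComponent_conj hL (x ^ (i : ℕ))) (isComponent_conj hL (x ^ (j : ℕ)))
      (hdist i j hij)
    rw [commutator_eq_bot_iff_le_centralizer] at h
    exact (mem_centralizer_iff.1 (h ⟨(a : G), a.2, rfl⟩) _ ⟨(b : G), b.2, rfl⟩).symm
  set F := MonoidHom.noncommPiCoprod φ hcomm with hF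
  let diag : ↥L →* (Fin p → ↥L) := Pi.monoidHom fun _ => MonoidHom.id _
  set δ := F.comp diag with hδ
  -- `x` fixes the diagonal
  let shift : (Fin p → ↥L) →* (Fin p → ↥L) := Pi.monoidHom fun i => Pi.evalMonoidHom _ (i - 1)
  have hshift : (MulAut.conj x).toMonoidHom.comp F = F.comp shift := by
    refine piHom_ext fun i y => ?_
    have e : shift (Pi.mulSingle i y) = Pi.mulSingle (i + 1) y := by
      funext j
      show (Pi.mulSingle i y : Fin p → ↥L) (j - 1) = _
      simp [Pi.mulSingle_apply, sub_eq_iff_eq_add]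
    rw [MonoidHom.comp_apply, MonoidHom.comp_apply, e, hF, MonoidHom.noncommPiCoprod_mulSingle,
      MonoidHom.noncommPiCoprod_mulSingle]
    show x * (x ^ (i : ℕ) * (y : G) * (x ^ (i : ℕ))⁻¹) * x⁻¹ =
      x ^ ((i + 1 : Fin p) : ℕ) * (y : G) * (x ^ ((i + 1 : Fin p) : ℕ))⁻¹
    have h1 : x ^ ((i + 1 : Fin p) : ℕ) = x * x ^ (i : ℕ) := by
      rw [← pow_succ', ← pow_mod_orderOf x ((i : ℕ) + 1), hx]
      congr 1
      rw [Fin.val_add, Fin.val_one', Nat.add_mod_mod]
    rw [h1]; group
  have hδx : ∀ l, δ l ∈ centralizer ({x} : Set G) := by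
    intro l
    have h1 : x * δ l * x⁻¹ = δ l := DFunLike.congr_fun hshift (diag l)
    exact mem_centralizer_singleton_iff.2 (mul_inv_eq_iff_eq_mul.1 h1).symm
  have hδr : ∀ (r : G) (hr : r ∈ R) (l : ↥L),
      δ (L.normalizerMonoidHom ⟨r, hRn hr⟩ l) = r * δ l * r⁻¹ := by
    intro r hr l
    have hrx : Commute r x :=
      mem_centralizer_singleton_iff.1 (centralizerPPrimeCore_le_centralizer x hr)
    let N : (Fin p → ↥L) →* (Fin p → ↥L) :=
      Pi.monoidHom fun i => ((L.normalizerMonoidHom ⟨r, hRn hr⟩).toMonoidHom).comp (Pi.evalMonoidHom _ i)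
    have h : (MulAut.conj r).toMonoidHom.comp F = F.comp N := by
      refine piHom_ext fun i y => ?_
      have e : N (Pi.mulSingle i y) = Pi.mulSingle i (L.normalizerMonoidHom ⟨r, hRn hr⟩ y) := by
        funext j
        show L.normalizerMonoidHom ⟨r, hRn hr⟩ ((Pi.mulSingle i y : Fin p → ↥L) j) = _
        rcases eq_or_ne j i with rfl | hji
        · simp
        · rw [Pi.mulSingle_eq_of_ne hji, Pi.mulSingle_eq_of_ne hji, map_one]
      rw [MonoidHom.comp_apply, MonoidHom.comp_apply, e, hF, MonoidHom.noncommPiCoprod_mulSingle,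
        MonoidHom.noncommPiCoprod_mulSingle]
      show r * (x ^ (i : ℕ) * (y : G) * (x ^ (i : ℕ))⁻¹) * r⁻¹ =
        x ^ (i : ℕ) * (r * (y : G) * r⁻¹) * (x ^ (i : ℕ))⁻¹
      have hc : r * x ^ (i : ℕ) = x ^ (i : ℕ) * r := (hrx.pow_right _).eq
      have hc' : r⁻¹ * x ^ (i : ℕ) = x ^ (i : ℕ) * r⁻¹ := ((hrx.pow_right _).inv_left).eq
      calc r * (x ^ (i : ℕ) * (y : G) * (x ^ (i : ℕ))⁻¹) * r⁻¹
          = (r * x ^ (i : ℕ)) * (y : G) * ((r * x ^ (i : ℕ))⁻¹) := by group
        _ = _ := by rw [hc]; group
    exact (DFunLike.congr_fun h (diag l)).symm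
  -- elements sent into the core
  set A := R.comap δ with hA
  haveI : A.Normal := ⟨fun a ha l => by
    rw [hA, mem_comap, map_mul, map_mul, map_inv]
    exact (mem_normalizer_iff.1 (centralizer_le_normalizer_centralizerPPrimeCore x (hδx l)) _).1 ha⟩
  have hker : δ.ker ≤ center ↥L := by
    intro l hl
    rw [mem_center_iff]
    intro y
    set rest : Fin p → ↥L := Function.update (diag l) 0 1 with hrest
    have hdec : diag l = Pi.mulSingle 0 l * rest := by
      funext j
      rcases eq_or_ne j 0 with rfl | hj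
      · rw [Pi.mul_apply, hrest, Function.update_self, Pi.mulSingle_eq_same, mul_one]; rfl
      · rw [Pi.mul_apply, hrest, Function.update_of_ne hj, Pi.mulSingle_eq_of_ne hj, one_mul]
    have hmem : rest ∈ (centralizer (L : Set G)).comap F := by
      refine pi_mem_of_mulSingle_mem rest fun j => ?_
      rw [mem_comap, hF, MonoidHom.noncommPiCoprod_mulSingle, mem_centralizer_iff]
      intro z hz
      rcases eq_or_ne j 0 with rfl | hj
      · rw [hrest, Function.update_self, map_one, mul_one, one_mul]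
      · have h := hcomm (Ne.symm hj) ⟨z, hz⟩ (rest j)
        rw [show φ 0 ⟨z, hz⟩ = z by simp [φ]] at h
        exact h.eq
    have h1 : (l : G) * F rest = 1 := by
      have h2 : F (diag l) = 1 := hl
      rw [hdec, map_mul, hF, MonoidHom.noncommPiCoprod_mulSingle] at h2
      rwa [show φ 0 l = (l : G) by simp [φ]] at h2
    have h3 : (l : G) = (F rest)⁻¹ := eq_inv_of_mul_eq_one_left h1
    refine Subtype.ext ?_
    show (y : G) * (l : G) = (l : G) * (y : G)
    rw [h3]
    exact mem_centralizer_iff.1 (inv_mem hmem : (F rest)⁻¹ ∈ centralizer (L : Set G)) y y.2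
  rcases qs_normal_le_center_or_eq_top hL.2 A with e | e
  · rw [commutator_eq_bot_iff_le_centralizer, le_centralizer_iff]
    intro r hr
    rw [mem_centralizer_iff]
    intro y hy
    have hφ := eq_self_of_mod_center (qs_top_commutator hL.2)
      (L.normalizerMonoidHom ⟨r, hRn hr⟩).toMonoidHom (fun z => e (by
        rw [hA, mem_comap, map_mul, map_inv]
        show δ (L.normalizerMonoidHom ⟨r, hRn hr⟩ z) * (δ z)⁻¹ ∈ R
        rw [hδr r hr z, show r * δ z * r⁻¹ * (δ z)⁻¹ = r * (δ z * r⁻¹ * (δ z)⁻¹) by group]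
        exact mul_mem hr ((mem_normalizer_iff.1
          (centralizer_le_normalizer_centralizerPPrimeCore x (hδx z)) _).1 (inv_mem hr)))) ⟨y, hy⟩
    have h3 : r * y * r⁻¹ = y := congrArg Subtype.val hφ
    exact (mul_inv_eq_iff_eq_mul.1 h3).symm
  · exfalso
    refine hp.out.coprime_iff_not_dvd.1 ((card_centralizerPPrimeCore_coprime x).coprime_dvd_left ?_).symm hidx
    refine (index_dvd_of_le hker).trans ?_
    rw [index_ker]
    refine card_dvd_of_le ?_
    rintro _ ⟨l, rfl⟩
    exact (e.ge (mem_top l) : l ∈ A)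

/-- The centre of a component, as a subgroup of `G`. -/
theorem center_component_le_pCore (hO : pPrimeCore p G = ⊥) {L : Subgroup G} (hL : IsComponent L) :
    (center ↥L).map L.subtype ≤ pCore p G := by
  rw [← Solv.fittingSubgroup_eq_pCore hO]
  have hcomm := commutative_center_map L
  exact Solv.le_fittingSubgroup_of_isSubnormal
    ((inferInstance : (center ↥L).Normal).isSubnormal.trans' hL.1)
    (Subgroup.isNilpotent_of_ker_le_center
      (1 : ↥((center ↥L).map L.subtype) →* Unit)
      fun y _ => mem_center_iff.2 fun g => hcomm.is_comm.comm g y)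

/-- The automizer of a component has trivial `p'`-core. -/
theorem automizer_core_eq_bot (hO : pPrimeCore p G = ⊥) {L : Subgroup G} (hL : IsComponent L)
    {H : Subgroup G} (hLH : L ≤ H) [hLn : (L.subgroupOf H).Normal]
    [((centralizer (L : Set G)).subgroupOf H).Normal] :
    pPrimeCore p (↥H ⧸ (centralizer (L : Set G)).subgroupOf H) = ⊥ := by
  set π := QuotientGroup.mk' ((centralizer (L : Set G)).subgroupOf H) with hπ
  rw [eq_bot_iff]
  intro q hq
  obtain ⟨h, rfl⟩ := QuotientGroup.mk'_surjective _ q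
  let g : ↥L →* ↥H ⧸ (centralizer (L : Set G)).subgroupOf H := π.comp (inclusion hLH)
  set A := (pPrimeCore p (↥H ⧸ (centralizer (L : Set G)).subgroupOf H)).comap g with hA
  haveI : A.Normal := Subgroup.Normal.comap inferInstance g
  rcases qs_normal_le_center_or_eq_top hL.2 A with e | e
  · have hhn : (h : G) ∈ normalizer (L : Set G) :=
      ((normal_subgroupOf_iff_le_normalizer hLH).1 hLn) h.2
    have hfix : ∀ y : ↥L, (h : G) * y * (h : G)⁻¹ = y := by
      intro y
      have hφ := eq_self_of_mod_center (qs_top_commutator hL.2)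
        (L.normalizerMonoidHom ⟨(h : G), hhn⟩).toMonoidHom (fun z => e (by
          rw [hA, mem_comap]
          have hle : π h * π (inclusion hLH z) * (π h)⁻¹ * (π (inclusion hLH z))⁻¹ ∈
              pPrimeCore p (↥H ⧸ (centralizer (L : Set G)).subgroupOf H) := by
            rw [show π h * π (inclusion hLH z) * (π h)⁻¹ * (π (inclusion hLH z))⁻¹ =
              π h * (π (inclusion hLH z) * (π h)⁻¹ * (π (inclusion hLH z))⁻¹) by group]
            exact mul_mem hq (Normal.conj_mem inferInstance _ (inv_mem hq) _)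
          rw [← map_inv, ← map_mul, ← map_inv, ← map_mul, ← map_mul] at hle
          exact hle)) y
      exact congrArg Subtype.val hφ
    rw [mem_bot]
    refine (QuotientGroup.eq_one_iff _).2 ?_
    rw [mem_subgroupOf, mem_centralizer_iff]
    intro y hy
    exact (mul_inv_eq_iff_eq_mul.1 (hfix ⟨y, hy⟩)).symm
  · exfalso
    refine hp.out.coprime_iff_not_dvd.1
      ((Solv.card_pPrimeCore_coprime p
        (↥H ⧸ (centralizer (L : Set G)).subgroupOf H)).coprime_dvd_left ?_).symm
      (component_index_center_not_coprime hO hL)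
    have hk : g.ker ≤ center ↥L := by
      intro y hy
      rw [mem_center_iff]
      intro z
      exact Subtype.ext (mem_centralizer_iff.1
        ((QuotientGroup.eq_one_iff (N := (centralizer (L : Set G)).subgroupOf H) (inclusion hLH y)).1
          hy) z z.2)
    refine (index_dvd_of_le hk).trans ?_
    rw [index_ker]
    refine card_dvd_of_le ?_
    rintro _ ⟨l, rfl⟩
    exact (e.ge (mem_top l) : l ∈ A)

/-- In the automizer of a component, the image of the core of `C(⟨x⟩ Z(L))` lies in the core of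
the centralizer of the image of `x`. -/
theorem automizer_map_core_le (hO : pPrimeCore p G = ⊥) {L : Subgroup G} (hL : IsComponent L)
    {x : G} (hx : orderOf x = p) {M : Subgroup G} (hxM : x ∈ M)
    (hMx : M ≤ centralizer ({x} : Set G)) (hMn : M ≤ normalizer (L : Set G))
    [((centralizer (L : Set G)).subgroupOf (L ⊔ M)).Normal] {D : Subgroup G}
    (hD : D ≤ centralizerPPrimeCore p x) (hDM : D ≤ M) :
    (D.subgroupOf (L ⊔ M)).map (QuotientGroup.mk' ((centralizer (L : Set G)).subgroupOf (L ⊔ M))) ≤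
      centralizerPPrimeCore p
        (QuotientGroup.mk' ((centralizer (L : Set G)).subgroupOf (L ⊔ M)) ⟨x, mem_sup_right hxM⟩) := by
  set π := QuotientGroup.mk' ((centralizer (L : Set G)).subgroupOf (L ⊔ M)) with hπ
  set Z := (center ↥L).map L.subtype with hZ
  have hZQ : Z ≤ pCore p G := center_component_le_pCore hO hL
  have hPp : IsPGroup p (Z ⊔ zpowers x : Subgroup G) :=
    ((Solv.isPGroup_pCore p G).to_le hZQ).to_sup_of_normal_left' (isPGroup_zpowers hx)
      (zpowers_le.2 (Inv.normalizer_map_char (center ↥L) (hMn hxM)))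
  set C := centralizer ((Z ⊔ zpowers x : Subgroup G) : Set G) with hC
  set R'' := (pPrimeCore p ↥C).map C.subtype with hR''
  -- `D` lies in `R''`
  have hCx : C ≤ centralizer ({x} : Set G) := fun c hc =>
    mem_centralizer_singleton_iff.2 (mem_centralizer_iff.1 hc x (mem_sup_right (mem_zpowers x))).symm
  have hDR : D ≤ R'' := by
    refine hD.trans (le_core_map ?_ ?_ (card_centralizerPPrimeCore_coprime x))
    · refine le_centralizer_sup
        ((centralizerPPrimeCore_le_centralizer_pCore hx).trans (centralizer_le hZQ)) ?_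
      rw [zpowers_eq_closure, centralizer_closure]
      exact centralizerPPrimeCore_le_centralizer x
    · exact hCx.trans (centralizer_le_normalizer_centralizerPPrimeCore x)
  set D' := R'' ⊓ (L ⊔ M) with hD'
  refine (map_mono (show D.subgroupOf (L ⊔ M) ≤ D'.subgroupOf (L ⊔ M) from
    fun y hy => ⟨hDR hy, y.2⟩)).trans ?_
  have hR''c : R'' ≤ centralizer ({x} : Set G) := (map_subtype_le _).trans hCx
  refine le_core_map ?_ ?_ ?_
  · rintro _ ⟨y, hy, rfl⟩
    refine mem_centralizer_singleton_iff.2 ?_
    rw [← map_mul, ← map_mul]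
    exact congrArg π (Subtype.ext (mem_centralizer_singleton_iff.1 (hR''c hy.1)))
  · intro q hq
    obtain ⟨h, rfl⟩ := QuotientGroup.mk'_surjective _ q
    obtain ⟨l, hl, m, hm, hlm⟩ : ∃ l ∈ L, ∃ m ∈ M, (h : G) = l * m := by
      have h2 : (h : G) ∈ ((L ⊔ M : Subgroup G) : Set G) := h.2
      rw [coe_mul_of_right_le_normalizer_left L M hMn] at h2
      obtain ⟨l, hl, m, hm, e⟩ := h2
      exact ⟨l, hl, m, hm, e.symm⟩
    -- `[l, x]` is central in `L`
    have h1 : (h : G) * x * (h : G)⁻¹ * x⁻¹ ∈ centralizer (L : Set G) := by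
      have h2 : π (h * ⟨x, mem_sup_right hxM⟩ * h⁻¹ * ⟨x, mem_sup_right hxM⟩⁻¹) = 1 := by
        rw [map_mul, map_mul, map_mul, map_inv, map_inv, mul_inv_eq_one, mul_inv_eq_iff_eq_mul]
        exact mem_centralizer_singleton_iff.1 hq
      exact ((QuotientGroup.eq_one_iff _).1 h2 :
        h * ⟨x, mem_sup_right hxM⟩ * h⁻¹ * ⟨x, mem_sup_right hxM⟩⁻¹ ∈ _)
    have hmx : m * x = x * m := mem_centralizer_singleton_iff.1 (hMx hm)
    have h3 : l * x * l⁻¹ * x⁻¹ ∈ centralizer (L : Set G) := by
      have e : (h : G) * x * (h : G)⁻¹ * x⁻¹ = l * x * l⁻¹ * x⁻¹ := by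
        rw [hlm, show l * m * x * (l * m)⁻¹ = l * (m * x) * m⁻¹ * l⁻¹ by group, hmx]
        group
      rwa [e] at h1
    have h4 : l * x * l⁻¹ * x⁻¹ ∈ Z := by
      have hl' : l * x * l⁻¹ * x⁻¹ ∈ L := by
        rw [show l * x * l⁻¹ * x⁻¹ = l * (x * l⁻¹ * x⁻¹) by group]
        exact mul_mem hl ((mem_normalizer_iff.1 (hMn hxM) _).1 (inv_mem hl))
      exact ⟨⟨_, hl'⟩, mem_center_iff.2 fun y => Subtype.ext (mem_centralizer_iff.1 h3 y y.2), rfl⟩
    have hkey : ∀ g : G, g ∈ normalizer (Z : Set G) → g * x * g⁻¹ ∈ Z ⊔ zpowers x →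
        g ∈ normalizer (R'' : Set G) := by
      intro g hgZ hgx
      have hgP : g ∈ normalizer ((Z ⊔ zpowers x : Subgroup G) : Set G) := by
        refine mem_normalizer_iff_map_conj_eq.2 (eq_of_le_of_card_ge ?_
          (Fusion.card_map_conj g _).ge)
        show (Z ⊔ zpowers x).map (MulAut.conj g).toMonoidHom ≤ Z ⊔ zpowers x
        rw [Subgroup.map_sup, sup_le_iff, MonoidHom.map_zpowers, zpowers_le]
        refine ⟨?_, hgx⟩
        rintro _ ⟨z, hz, rfl⟩
        exact mem_sup_left ((mem_normalizer_iff.1 hgZ z).1 hz)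
      refine le_normalizer_core_map C ?_
      have key : ∀ s ∈ normalizer ((Z ⊔ zpowers x : Subgroup G) : Set G), ∀ c ∈ C,
          s * c * s⁻¹ ∈ C := by
        intro s hs c hc
        rw [hC, mem_centralizer_iff]
        intro y hy
        have h2 := mem_centralizer_iff.1 hc _ ((mem_normalizer_iff''.1 hs y).1 hy)
        calc y * (s * c * s⁻¹) = s * ((s⁻¹ * y * s) * c) * s⁻¹ := by group
          _ = s * (c * (s⁻¹ * y * s)) * s⁻¹ := by rw [h2]
          _ = s * c * s⁻¹ * y := by group
      rw [mem_normalizer_iff]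
      intro c
      exact ⟨key g hgP c, fun hc => by simpa [mul_assoc] using key _ (inv_mem hgP) _ hc⟩
    have hlR : l ∈ normalizer (R'' : Set G) := by
      refine hkey l (Inv.normalizer_map_char (center ↥L) (le_normalizer hl)) ?_
      have := mul_mem (mem_sup_left h4 : _ ∈ Z ⊔ zpowers x) (mem_sup_right (mem_zpowers x))
      rwa [inv_mul_cancel_right] at this
    have hmR : m ∈ normalizer (R'' : Set G) := by
      refine hkey m (Inv.normalizer_map_char (center ↥L) (hMn hm)) ?_
      rw [hmx, mul_inv_cancel_right]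
      exact mem_sup_right (mem_zpowers x)
    have hhD : h ∈ normalizer (D'.subgroupOf (L ⊔ M) : Set ↥(L ⊔ M : Subgroup G)) := by
      rw [mem_normalizer_iff]
      intro y
      have h5 : (h : G) ∈ normalizer (R'' : Set G) := hlm ▸ mul_mem hlR hmR
      exact ⟨fun hy => ⟨(mem_normalizer_iff.1 h5 _).1 hy.1, (h * y * h⁻¹).2⟩,
        fun hy => ⟨(mem_normalizer_iff.1 h5 _).2 hy.1, y.2⟩⟩
    exact le_normalizer_map π ⟨h, hhD, rfl⟩
  · refine (Nat.Coprime.coprime_dvd_left (card_map_dvd _ _) ?_)
    rw [Solv.card_subgroupOf inf_le_right]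
    refine Nat.Coprime.coprime_dvd_left (card_dvd_of_le inf_le_left) ?_
    rw [hR'', Solv.card_map_subtype]
    exact Solv.card_pPrimeCore_coprime p ↥C

end Cfsg.Agent.Local
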