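import Cfsg.Agent.Lib.Solv.Coprime
import Cfsg.Agent.Lib.Solv.NormalPComplement
import Cfsg.Agent.Lib.Local.PComponent
import Cfsg.Prelude.Def_PLocal

/-!
Elementary facts about groups of characteristic `p` and coprime operators on series.
-/

set_option autoImplicit false
set_option linter.style.haveILetI false

namespace Cfsg.Agent.Local.CharPB

open Subgroup

variable {G : Type*} [Group G] [Finite G] {p : ℕ} [hp : Fact p.Prime]

theorem isPGroup_of_forall_eq_one {L : Subgroup G}
    (h : ∀ l ∈ L, (orderOf l).Coprime p → l = 1) : IsPGroup p L := by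
  intro g
  obtain ⟨a, m, hm, he⟩ := Nat.exists_eq_pow_mul_and_not_dvd (orderOf_pos (g : G)).ne' p
    hp.out.one_lt.ne'
  refine ⟨a, Subtype.ext (h _ (pow_mem g.2 _) ?_)⟩
  refine Nat.Coprime.coprime_dvd_left (orderOf_dvd_of_pow_eq_one ?_)
    (hp.out.coprime_iff_not_dvd.2 hm).symm
  rw [SubmonoidClass.coe_pow, ← pow_mul, ← he, pow_orderOf_eq_one]

theorem coprime_card_zpowers {R : Subgroup G} (hR : IsPGroup p R) {l : G}
    (hl : (orderOf l).Coprime p) : (Nat.card (zpowers l)).Coprime (Nat.card R) := by
  obtain ⟨k, hk⟩ := IsPGroup.iff_card.1 hR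
  rw [Nat.card_zpowers, hk]
  exact hl.pow_right k

/-- A `p'`-element killed by an iterated commutator centralizes the `p`-group. -/
theorem centralizes_of_iterCommutator {R : Subgroup G} (hR : IsPGroup p R) {l : G}
    (hl : (orderOf l).Coprime p) (hlR : zpowers l ≤ normalizer (R : Set G)) {n : ℕ}
    (h : iterCommutator R (zpowers l) n = ⊥) : l ∈ centralizer (R : Set G) := by
  have key : ∀ m : ℕ, iterCommutator R (zpowers l) (m + 1) = ⁅R, zpowers l⁆ := by
    intro m
    induction m with
    | zero => rfl
    | succ m ih =>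
      show ⁅iterCommutator R (zpowers l) (m + 1), zpowers l⁆ = _
      rw [ih]
      exact Solv.commutator_commutator_eq _ R hlR (coprime_card_zpowers hR hl) (Or.inl inferInstance)
  have h0 : ⁅R, zpowers l⁆ = ⊥ := by
    rcases n with _ | m
    · have : R = ⊥ := h
      rw [this, commutator_bot_left]
    · rw [← key m]; exact h
  exact (commutator_eq_bot_iff_le_centralizer.1 (by rw [commutator_comm]; exact h0)) (mem_zpowers l)

/-- A `p'`-element acting trivially on the factors of a series centralizes the top, a `p`-group. -/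
theorem centralizes_of_series {n : ℕ} (A : Fin (n + 1) → Subgroup G) (h0 : A 0 = ⊥)
    (hp' : IsPGroup p (A (Fin.last n))) {l : G} (hl : (orderOf l).Coprime p)
    (hlR : zpowers l ≤ normalizer (A (Fin.last n) : Set G))
    (hcent : ∀ i : Fin n, ⁅A i.succ, zpowers l⁆ ≤ A i.castSucc) :
    l ∈ centralizer (A (Fin.last n) : Set G) := by
  refine centralizes_of_iterCommutator hp' hl hlR (n := n) (le_bot_iff.1 ?_)
  have key : ∀ j : ℕ, ∀ hj : j ≤ n, iterCommutator (A (Fin.last n)) (zpowers l) j ≤
      A ⟨n - j, by omega⟩ := by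
    intro j
    induction j with
    | zero => intro _; exact le_of_eq (congrArg A (Fin.ext (by simp)))
    | succ j ih =>
      intro hj
      refine (commutator_mono (ih (by omega)) le_rfl).trans ?_
      refine le_trans (le_of_eq ?_) (hcent ⟨n - (j + 1), by omega⟩)
      congr 2
      exact Fin.ext (by simp; omega)
  refine (key n le_rfl).trans ?_
  rw [← h0]
  exact le_of_eq (congrArg A (Fin.ext (by simp)))

/-- Characteristic `p` passes to subgroups normalized by the `p`-core. -/
theorem centralizer_pCore_le_of_normalized (hG : centralizer (pCore p G : Set G) ≤ pCore p G)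
    (H : Subgroup G) (hH : pCore p G ≤ normalizer (H : Set G)) :
    centralizer (pCore p H : Set H) ≤ pCore p H := by
  haveI : (centralizer (pCore p H : Set H)).Normal := normal_centralizer
  refine Solv.le_pCore (isPGroup_of_forall_eq_one fun c hc hco => Subtype.ext ?_)
  have hp' : IsPGroup p (pCore p G) := Solv.isPGroup_pCore p G
  have hco' : (orderOf (c : G)).Coprime p := by rwa [Subgroup.orderOf_coe]
  have hn : zpowers (c : G) ≤ normalizer (pCore p G : Set G) :=
    (normalizer_eq_top (pCore p G)) ▸ le_top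
  have h1 : ⁅pCore p G, zpowers (c : G)⁆ ≤ pCore p G ⊓ H :=
    le_inf (le_normalizer_iff_commutator_le_left.1 hn)
      ((commutator_mono le_rfl (zpowers_le.2 c.2)).trans
        (by rw [commutator_comm]; exact le_normalizer_iff_commutator_le_left.1 hH))
  have h2 : pCore p G ⊓ H ≤ (pCore p H).map H.subtype := by
    intro x hx
    haveI : ((pCore p G).comap H.subtype).Normal := Normal.comap inferInstance _
    have h3 : (pCore p G).comap H.subtype ≤ pCore p H :=
      Solv.le_pCore (hp'.comap_of_injective _ H.subtype_injective)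
    exact ⟨⟨x, hx.2⟩, h3 hx.1, rfl⟩
  have h4 : ⁅(pCore p H).map H.subtype, zpowers (c : G)⁆ = ⊥ := by
    rw [commutator_comm, commutator_eq_bot_iff_le_centralizer, zpowers_le, mem_centralizer_iff]
    rintro _ ⟨x, hx, rfl⟩
    exact congrArg Subtype.val (mem_centralizer_iff.1 hc x hx)
  have h5 : (c : G) ∈ pCore p G := by
    refine hG (centralizes_of_iterCommutator hp' hco' hn (n := 2) (le_bot_iff.1 ?_))
    show ⁅⁅pCore p G, zpowers (c : G)⁆, zpowers (c : G)⁆ ≤ ⊥
    exact ((commutator_mono (h1.trans h2) le_rfl).trans h4.le)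
  obtain ⟨k, hk⟩ := IsPGroup.iff_card.1 hp'
  exact orderOf_eq_one_iff.1 (Nat.eq_one_of_dvd_coprimes (hco'.pow_right k) dvd_rfl
    (hk ▸ Subgroup.orderOf_dvd_natCard _ h5))

/-- Characteristic `p` passes to normal subgroups. -/
theorem centralizer_pCore_le_of_normal (hG : centralizer (pCore p G : Set G) ≤ pCore p G)
    (H : Subgroup G) [H.Normal] : centralizer (pCore p H : Set H) ≤ pCore p H :=
  centralizer_pCore_le_of_normalized hG H (normalizer_eq_top H ▸ le_top)

/-- An element of order prime to `p` of `M ⊔ B`, `M` a normal `p`-group and `B` subnormal, lies in `B`. -/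
theorem mem_of_coprime_of_subnormal {B M : Subgroup G} (hB : B.IsSubnormal) [M.Normal]
    (hM : IsPGroup p M) {g : G} (hg : g ∈ M ⊔ B) (hco : (orderOf g).Coprime p) : g ∈ B := by
  set K := M ⊔ B
  have h1 := relIndex_dvd_index_of_isSubnormal (hB.subgroupOf (K := K)) ((zpowers g).subgroupOf K)
  rw [relIndex_subgroupOf (zpowers_le.2 hg)] at h1
  have h2 : B.relIndex K ∣ Nat.card M := by
    have e1 := (B.subgroupOf K).card_mul_index
    rw [Solv.card_subgroupOf le_sup_right] at e1
    have e2 : Nat.card K ∣ Nat.card M * Nat.card B := Solv.card_sup_dvd_of_normal M B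
    rw [← e1, mul_comm (Nat.card M)] at e2
    exact (Nat.mul_dvd_mul_iff_left Nat.card_pos).1 e2
  obtain ⟨k, hk⟩ := IsPGroup.iff_card.1 hM
  have h3 : B.relIndex (zpowers g) ∣ orderOf g := Nat.card_zpowers g ▸ relIndex_dvd_card B (zpowers g)
  have h4 : B.relIndex (zpowers g) = 1 :=
    Nat.eq_one_of_dvd_coprimes (hco.pow_right k) h3 (hk ▸ h1.trans h2)
  exact relIndex_eq_one.1 h4 (mem_zpowers g)

end Cfsg.Agent.Local.CharPB
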