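import Cfsg.Agent.Lib.Local.AmalgamBasics
import Cfsg.Agent.Lib.Local.CharPBasics
import Cfsg.Agent.Lib.Solv.Misc

/-!
`C_L(Ω₁Z(T)) = C_L(Ω₁Z(T ∩ L))` for `L` subnormal in a group of characteristic `p`.
-/

set_option autoImplicit false
set_option linter.style.haveILetI false

namespace Cfsg.Agent.Local.OmegaCenter

open Subgroup

variable {G : Type*} [Group G] [Finite G] {p : ℕ}

/-- Averaging over the cosets of `S` in `D`. -/
theorem exists_norm (D S W : Subgroup G) [IsMulCommutative W]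
    (hDW : D ≤ normalizer (W : Set G)) :
    ∃ τ : W →* W,
      (∀ w : W, (∀ s ∈ S, s * (w : G) = w * s) → ∀ d ∈ D, d * (τ w : G) = (τ w : G) * d) ∧
      (∀ w : W, (∀ d ∈ D, d * (w : G) = w * d) → τ w = w ^ (S.subgroupOf D).index) ∧
      (∀ (M : Subgroup G) (w : W), (∀ d ∈ D, (w : G) * (d * (w : G) * d⁻¹)⁻¹ ∈ M) →
        (w : G) ^ (S.subgroupOf D).index * ((τ w : G))⁻¹ ∈ M) ∧
      (∀ t : G, t ∈ normalizer (D : Set G) → t ∈ normalizer (S : Set G) →
        ∀ w w' : W, (∀ s ∈ S, s * (w : G) = w * s) → (w' : G) = t * w * t⁻¹ →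
          (τ w' : G) = t * (τ w) * t⁻¹) := by
  classical
  letI : CommGroup W := { (inferInstance : Group W) with mul_comm := fun a b => mul_comm' a b }
  haveI : Fintype (D ⧸ S.subgroupOf D) := Fintype.ofFinite _
  let c : D → W →* W := fun d =>
    { toFun := fun w => ⟨(d : G) * w * (d : G)⁻¹, (mem_normalizer_iff.1 (hDW d.2) _).1 w.2⟩
      map_one' := Subtype.ext (by simp)
      map_mul' := fun a b => Subtype.ext (by
        show (d : G) * ((a : G) * b) * (d : G)⁻¹ = ((d : G) * a * (d : G)⁻¹) * ((d : G) * b * (d : G)⁻¹)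
        group) }
  let τ : W →* W := ∏ q : D ⧸ S.subgroupOf D, c q.out
  have hτ : ∀ w, τ w = ∏ q : D ⧸ S.subgroupOf D, c q.out w := fun w => by
    simp [τ, MonoidHom.finsetProd_apply]
  have hkey : ∀ w : W, (∀ s ∈ S, s * (w : G) = w * s) → ∀ d : D,
      c (QuotientGroup.mk (s := S.subgroupOf D) d).out w = c d w := by
    intro w hw d
    obtain ⟨⟨s, hs⟩, he⟩ := QuotientGroup.mk_out_eq_mul (S.subgroupOf D) d
    refine Subtype.ext ?_
    show ((QuotientGroup.mk (s := S.subgroupOf D) d).out : G) * (w : G) *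
      ((QuotientGroup.mk (s := S.subgroupOf D) d).out : G)⁻¹ = (d : G) * w * (d : G)⁻¹
    rw [he]
    push_cast
    calc (d : G) * (s : G) * w * ((d : G) * (s : G))⁻¹ = (d : G) * ((s : G) * w) * (s : G)⁻¹ * (d : G)⁻¹ := by group
      _ = (d : G) * ((w : G) * s) * (s : G)⁻¹ * (d : G)⁻¹ := by rw [hw (s : G) hs]
      _ = _ := by group
  refine ⟨τ, ?_, ?_, ?_, ?_⟩
  · intro w hw d hd
    have h1 : c ⟨d, hd⟩ (τ w) = τ w := by
      rw [hτ, map_prod]
      refine Fintype.prod_equiv (MulAction.toPerm (⟨d, hd⟩ : D)) _ _ fun q => ?_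
      obtain ⟨b, rfl⟩ := QuotientGroup.mk_surjective q
      rw [hkey w hw b, MulAction.toPerm_apply, show (⟨d, hd⟩ : D) • (QuotientGroup.mk b : D ⧸ S.subgroupOf D) =
        QuotientGroup.mk (⟨d, hd⟩ * b) from rfl, hkey w hw]
      refine Subtype.ext ?_
      show d * ((b : G) * w * (b : G)⁻¹) * d⁻¹ = (d * (b : G)) * w * (d * (b : G))⁻¹
      group
    have h2 : d * (τ w : G) * d⁻¹ = τ w := congrArg Subtype.val h1
    exact mul_inv_eq_iff_eq_mul.1 h2
  · intro w hw
    rw [hτ, Finset.prod_congr rfl (g := fun _ => w) (fun q _ => Subtype.ext (by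
      show (q.out : G) * w * (q.out : G)⁻¹ = w
      rw [hw _ q.out.2, mul_inv_cancel_right]))]
    rw [Finset.prod_const, Finset.card_univ, Subgroup.index, Nat.card_eq_fintype_card]
  · intro M w hw
    have h1 : (w ^ (S.subgroupOf D).index * (τ w)⁻¹ : W) ∈ M.comap W.subtype := by
      have e : w ^ (S.subgroupOf D).index = ∏ _q : D ⧸ S.subgroupOf D, w := by
        rw [Finset.prod_const, Finset.card_univ, Subgroup.index, Nat.card_eq_fintype_card]
      rw [e, hτ, ← Finset.prod_inv_distrib, ← Finset.prod_mul_distrib]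
      exact prod_mem fun q _ => hw _ q.out.2
    exact h1
  · intro t htD htS w w' hw hw'
    have hw'S : ∀ s ∈ S, s * (w' : G) = w' * s := by
      intro s hs
      have h1 := hw _ ((mem_normalizer_iff''.1 htS s).1 hs)
      rw [hw']
      calc s * (t * w * t⁻¹) = t * ((t⁻¹ * s * t) * w) * t⁻¹ := by group
        _ = t * ((w : G) * (t⁻¹ * s * t)) * t⁻¹ := by rw [h1]
        _ = _ := by group
    let σ : D ⧸ S.subgroupOf D → D ⧸ S.subgroupOf D := fun q =>
      QuotientGroup.mk ⟨t * q.out * t⁻¹, (mem_normalizer_iff.1 htD _).1 q.out.2⟩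
    have hinj : Function.Injective σ := by
      intro q r h
      rw [QuotientGroup.eq, mem_subgroupOf] at h
      rw [← q.out_eq', ← r.out_eq', QuotientGroup.eq, mem_subgroupOf]
      refine (mem_normalizer_iff.1 htS _).2 ?_
      convert h using 1
      push_cast
      group
    have h1 : (τ w' : W) = (∏ q : D ⧸ S.subgroupOf D, c (σ q).out w') := by
      rw [hτ]
      exact (Fintype.prod_bijective σ (Finite.injective_iff_bijective.1 hinj) _ _ fun _ => rfl).symm
    have hmem : ∀ v : W, v = v := fun _ => rfl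
    rw [h1, hτ]
    have h2 : ∀ q : D ⧸ S.subgroupOf D, ((c (σ q).out w' : W) : G) = t * ((c q.out w : W) : G) * t⁻¹ := by
      intro q
      rw [hkey w' hw'S]
      show t * q.out * t⁻¹ * (w' : G) * (t * q.out * t⁻¹)⁻¹ = t * ((q.out : G) * w * (q.out : G)⁻¹) * t⁻¹
      rw [hw']
      group
    induction (Finset.univ : Finset (D ⧸ S.subgroupOf D)) using Finset.induction with
    | empty => simp
    | insert a s ha ih =>
      rw [Finset.prod_insert ha, Finset.prod_insert ha, Subgroup.coe_mul, Subgroup.coe_mul, ih, h2]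
      group

variable [hp : Fact p.Prime]

theorem omegaOneCenter_gen {A : Subgroup G} {x : G} (hx : x ∈ A) (hc : ∀ a ∈ A, a * x = x * a)
    (hxp : x ^ p = 1) : x ∈ omegaOne p (A ⊓ centralizer (A : Set G)) :=
  subset_closure ⟨mem_inf.2 ⟨hx, mem_centralizer_iff.2 hc⟩, hxp⟩

/-- The normal case. -/
theorem inf_centralizer_eq_of_normal (hG : centralizer (pCore p G : Set G) ≤ pCore p G)
    (T : Sylow p G) (L : Subgroup G) [L.Normal] :
    L ⊓ centralizer (omegaOne p ((T : Subgroup G) ⊓ centralizer ((T : Subgroup G) : Set G)) : Set G) =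
      L ⊓ centralizer (omegaOne p (((T : Subgroup G) ⊓ L) ⊓
        centralizer (((T : Subgroup G) ⊓ L : Subgroup G) : Set G)) : Set G) := by
  haveI : (pCore p G).Normal := by haveI := Solv.pCore_characteristic p G; infer_instance
  set Q := pCore p G with hQ
  set ZT := omegaOne p ((T : Subgroup G) ⊓ centralizer ((T : Subgroup G) : Set G))
  set S := (T : Subgroup G) ⊓ L with hS
  set ZS := omegaOne p (S ⊓ centralizer (S : Set G))
  have hQT : Q ≤ (T : Subgroup G) := Solv.pCore_le_sylow T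
  have hidx : ∀ D : Subgroup G, S ≤ D → D ≤ L → ¬ p ∣ (S.subgroupOf D).index := by
    intro D hSD hDL hd
    refine Solv.index_sylow_inf_subnormal L (Normal.isSubnormal inferInstance) T ?_
    have e : (T : Subgroup G).subgroupOf L = S.subgroupOf L := by rw [hS, inf_subgroupOf_right]
    rw [e]
    exact hd.trans (Dvd.intro (D.relIndex L) (relIndex_mul_relIndex S D L hSD hDL))
  have hcomm : ∀ A : Subgroup G, IsMulCommutative ↥(A ⊓ centralizer (A : Set G)) := fun A =>
    ⟨⟨fun a b => Subtype.ext (mem_centralizer_iff.1 (mem_inf.1 b.2).2 a (mem_inf.1 a.2).1)⟩⟩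
  have hroot : ∀ (x : G) (m : ℕ) (K : Subgroup G), x ^ p = 1 → ¬ p ∣ m → x ^ m ∈ K → x ∈ K := by
    intro x m K hx hm hK
    obtain ⟨i, hi⟩ := exists_pow_eq_self_of_coprime (n := m) (x := x)
      (((hp.out.coprime_iff_not_dvd.2 hm).symm).coprime_dvd_right (orderOf_dvd_of_pow_eq_one hx))
    rw [← hi]; exact pow_mem hK i
  apply le_antisymm
  · refine le_inf inf_le_left ?_
    set D := L ⊓ centralizer (ZT : Set G) with hD
    rw [le_centralizer_iff]
    refine (closure_le _).2 ?_
    rintro w ⟨hw, hwp⟩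
    obtain ⟨hwS, hwC⟩ := mem_inf.1 hw
    set QL := Q ⊓ L with hQL
    set W := QL ⊓ centralizer (QL : Set G) with hW
    haveI : QL.Normal := Subgroup.normal_inf_normal Q L
    haveI : (centralizer (QL : Set G)).Normal := normal_centralizer
    haveI : W.Normal := Subgroup.normal_inf_normal _ _
    haveI := hcomm QL
    have hSD : S ≤ D := le_inf inf_le_right (inf_le_left.trans (le_centralizer_iff.1
      ((closure_le _).2 fun y hy => (mem_inf.1 hy.1).2)))
    have hwW : w ∈ W := by
      have hwL : w ∈ L := (mem_inf.1 hwS).2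
      have hLc := CharPB.centralizer_pCore_le_of_normal hG L
      have e := Solv.pCore_map_subtype p L
      have h1 : (⟨w, hwL⟩ : L) ∈ centralizer (pCore p L : Set L) := mem_centralizer_iff.2 fun y hy => by
        have h2 : (y : G) ∈ QL := e.le (mem_map_of_mem L.subtype hy)
        exact Subtype.ext (mem_centralizer_iff.1 hwC _ (mem_inf.2 ⟨hQT (mem_inf.1 h2).1, (mem_inf.1 h2).2⟩))
      refine mem_inf.2 ⟨e.le (mem_map_of_mem L.subtype (hLc h1)), mem_centralizer_iff.2 fun y hy => ?_⟩
      exact mem_centralizer_iff.1 hwC y (mem_inf.2 ⟨hQT (mem_inf.1 hy).1, (mem_inf.1 hy).2⟩)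
    obtain ⟨τ, h1, h2, -, h4⟩ := exists_norm D S W (normalizer_eq_top W ▸ le_top)
    set m := (S.subgroupOf D).index with hm
    have hm' : ¬ p ∣ m := hidx D hSD inf_le_left
    let K : Subgroup W :=
      { carrier := {u : W | (∀ s ∈ S, s * (u : G) = u * s) ∧ τ u = 1 ∧ u ^ p = 1}
        one_mem' := ⟨fun s _ => by simp, map_one τ, one_pow p⟩
        mul_mem' := by
          rintro a b ⟨a1, a2, a3⟩ ⟨b1, b2, b3⟩
          refine ⟨fun s hs => ?_, by rw [map_mul, a2, b2, one_mul], ?_⟩
          · rw [Subgroup.coe_mul, ← mul_assoc, a1 s hs, mul_assoc, b1 s hs, mul_assoc]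
          · rw [(show Commute a b from mul_comm' a b).mul_pow, a3, b3, one_mul]
        inv_mem' := by
          rintro a ⟨a1, a2, a3⟩
          refine ⟨fun s hs => ?_, by rw [map_inv, a2, inv_one], by rw [inv_pow, a3, inv_one]⟩
          exact (show Commute s (a : G) from a1 s hs).inv_right.eq }
    set K' := K.map W.subtype with hK'
    have hK'T : K' ≤ (T : Subgroup G) :=
      (map_subtype_le _).trans (inf_le_left.trans (inf_le_left.trans hQT))
    have hTD : (T : Subgroup G) ≤ normalizer (D : Set G) := by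
      intro t ht
      have htZ : t ∈ centralizer (ZT : Set G) :=
        le_centralizer_iff.1 ((closure_le _).2 fun y hy => (mem_inf.1 hy.1).2 : ZT ≤ _) ht
      rw [mem_normalizer_iff]
      intro x
      constructor
      · intro hx
        obtain ⟨hxL, hxC⟩ := mem_inf.1 hx
        exact mem_inf.2 ⟨(inferInstance : L.Normal).conj_mem x hxL t, mul_mem (mul_mem htZ hxC) (inv_mem htZ)⟩
      · intro hx
        obtain ⟨hxL, hxC⟩ := mem_inf.1 hx
        refine mem_inf.2 ⟨?_, ?_⟩
        · simpa [mul_assoc] using (inferInstance : L.Normal).conj_mem _ hxL t⁻¹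
        · simpa [mul_assoc] using mul_mem (mul_mem (inv_mem htZ) hxC) htZ
    have hTS : (T : Subgroup G) ≤ normalizer (S : Set G) := by
      intro t ht
      rw [mem_normalizer_iff]
      intro x
      constructor
      · intro hx
        obtain ⟨hxT, hxL⟩ := mem_inf.1 hx
        exact mem_inf.2 ⟨mul_mem (mul_mem ht hxT) (inv_mem ht), (inferInstance : L.Normal).conj_mem x hxL t⟩
      · intro hx
        obtain ⟨hxT, hxL⟩ := mem_inf.1 hx
        refine mem_inf.2 ⟨?_, ?_⟩
        · simpa [mul_assoc] using mul_mem (mul_mem (inv_mem ht) hxT) ht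
        · simpa [mul_assoc] using (inferInstance : L.Normal).conj_mem _ hxL t⁻¹
    have hKbot : ∀ u ∈ K, u = 1 := by
      by_contra hne
      simp only [not_forall] at hne
      obtain ⟨u, hu, hu1⟩ := hne
      haveI : (K'.subgroupOf (T : Subgroup G)).Normal := by
        constructor
        rintro x ⟨v, ⟨v1, v2, v3⟩, hv⟩ t
        have hv' : (v : G) = (x : G) := hv
        refine ⟨⟨(t : G) * v * (t : G)⁻¹, (inferInstance : W.Normal).conj_mem _ v.2 _⟩, ⟨?_, ?_, ?_⟩, ?_⟩
        · intro s hs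
          have h5 := v1 _ ((mem_normalizer_iff''.1 (hTS t.2) s).1 hs)
          calc s * ((t : G) * v * (t : G)⁻¹) = t * (((t : G)⁻¹ * s * t) * v) * (t : G)⁻¹ := by group
            _ = t * ((v : G) * ((t : G)⁻¹ * s * t)) * (t : G)⁻¹ := by rw [h5]
            _ = _ := by group
        · refine Subtype.ext ?_
          rw [h4 t (hTD t.2) (hTS t.2) v _ v1 rfl, v2]
          simp
        · refine Subtype.ext ?_
          show ((t : G) * v * (t : G)⁻¹) ^ p = 1
          rw [conj_pow, ← Subgroup.coe_pow, v3]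
          simp
        · show (t : G) * v * (t : G)⁻¹ = ((t * x * t⁻¹ : (T : Subgroup G)) : G)
          rw [hv']; rfl
      haveI := T.isPGroup'.isNilpotent
      have hne' : K'.subgroupOf (T : Subgroup G) ≠ ⊥ := fun e => hu1 (Subtype.ext (congrArg (fun a : (T : Subgroup G) => (a : G))
        (Subgroup.mem_bot.1 (e.le (show (⟨(u : G), hK'T ⟨u, hu, rfl⟩⟩ : (T : Subgroup G)) ∈ K'.subgroupOf _ from ⟨u, hu, rfl⟩)))))
      obtain ⟨x, hx, hx1⟩ := (Subgroup.bot_or_exists_ne_one _).resolve_left (Solv.inf_center_ne_bot _ hne')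
      obtain ⟨hxK, hxZ⟩ := mem_inf.1 hx
      obtain ⟨v, ⟨v1, v2, v3⟩, hv⟩ := mem_subgroupOf.1 hxK
      have hv' : (v : G) = (x : G) := hv
      have hvZ : (v : G) ∈ ZT := omegaOneCenter_gen (by rw [hv']; exact x.2)
        (fun a ha => by rw [hv']; exact congrArg Subtype.val (mem_center_iff.1 hxZ ⟨a, ha⟩))
        (by rw [← Subgroup.coe_pow, v3]; rfl)
      have h5 := h2 v fun d hd => (mem_centralizer_iff.1 (mem_inf.1 hd).2 _ hvZ).symm
      rw [v2] at h5
      have h6 : (v : G) ∈ (⊥ : Subgroup G) := hroot _ m ⊥ (by rw [← Subgroup.coe_pow, v3]; rfl) hm'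
        (by rw [← Subgroup.coe_pow, ← h5]; rfl)
      refine hx1 (Subtype.ext ?_)
      rw [← hv']
      exact h6
    set w₀ : W := ⟨w, hwW⟩
    have hwS' : ∀ s ∈ S, s * (w₀ : G) = w₀ * s := mem_centralizer_iff.1 hwC
    have hfix := h1 w₀ hwS'
    have hu : w₀ ^ m * (τ w₀)⁻¹ ∈ K := by
      refine ⟨fun s hs => ?_, ?_, ?_⟩
      · exact (((show Commute s (w₀ : G) from hwS' s hs).pow_right m).mul_right
          (show Commute s (τ w₀ : G) from hfix s (hSD hs)).inv_right).eq
      · rw [map_mul, map_inv, map_pow, h2 (τ w₀) hfix, mul_inv_cancel]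
      · have hw₀p : w₀ ^ p = 1 := Subtype.ext hwp
        rw [(show Commute (w₀ ^ m) (τ w₀)⁻¹ from mul_comm' _ _).mul_pow, ← pow_mul, mul_comm m, pow_mul,
          hw₀p, one_pow, inv_pow, ← map_pow, hw₀p, map_one, inv_one, one_mul]
    have h6 : w₀ ^ m = τ w₀ := mul_inv_eq_one.1 (hKbot _ hu)
    refine hroot w m (centralizer (D : Set G)) hwp hm' (mem_centralizer_iff.2 fun d hd => ?_)
    have := hfix d hd
    rw [← h6] at this
    exact this
  · refine le_inf inf_le_left ?_
    set D := L ⊓ centralizer (ZS : Set G) with hD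
    rw [le_centralizer_iff]
    refine (closure_le _).2 ?_
    rintro z ⟨hz, hzp⟩
    obtain ⟨hzT, hzC⟩ := mem_inf.1 hz
    set W := Q ⊓ centralizer (Q : Set G) with hW
    haveI := hcomm Q
    haveI : (centralizer (Q : Set G)).Normal := normal_centralizer
    haveI : W.Normal := Subgroup.normal_inf_normal _ _
    have hSD : S ≤ D := le_inf inf_le_right
      (le_centralizer_iff.1 ((closure_le _).2 fun y hy => (mem_inf.1 hy.1).2))
    have hzQ : z ∈ centralizer (Q : Set G) :=
      mem_centralizer_iff.2 fun y hy => mem_centralizer_iff.1 hzC y (hQT hy)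
    obtain ⟨τ, h1, -, h3, -⟩ := exists_norm D S W (normalizer_eq_top W ▸ le_top)
    set z₀ : W := ⟨z, mem_inf.2 ⟨hG hzQ, hzQ⟩⟩
    have hzS : ∀ s ∈ S, s * (z₀ : G) = z₀ * s := fun s hs => mem_centralizer_iff.1 hzC s (mem_inf.1 hs).1
    have hfix := h1 z₀ hzS
    set m := (S.subgroupOf D).index with hm
    have hL : z ^ m * (τ z₀ : G)⁻¹ ∈ L := h3 L z₀ fun d hd => by
      have hdL : d ∈ L := (mem_inf.1 hd).1
      rw [show z * (d * z * d⁻¹)⁻¹ = (z * d * z⁻¹) * d⁻¹ by group]
      exact mul_mem ((inferInstance : L.Normal).conj_mem d hdL z) (inv_mem hdL)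
    have hu : z ^ m * (τ z₀ : G)⁻¹ ∈ ZS := by
      refine omegaOneCenter_gen (mem_inf.2 ⟨mul_mem (pow_mem hzT m) (inv_mem (hQT (mem_inf.1 (τ z₀).2).1)), hL⟩)
        (fun s hs => (((show Commute s z from hzS s hs).pow_right m).mul_right
          (show Commute s (τ z₀ : G) from hfix s (hSD hs)).inv_right).eq) ?_
      have hz₀p : z₀ ^ p = 1 := Subtype.ext hzp
      have : (z₀ ^ m * (τ z₀)⁻¹) ^ p = 1 := by
        rw [(show Commute (z₀ ^ m) (τ z₀)⁻¹ from mul_comm' _ _).mul_pow, ← pow_mul, mul_comm m, pow_mul,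
          hz₀p, one_pow, inv_pow, ← map_pow, hz₀p, map_one, inv_one, one_mul]
      exact congrArg Subtype.val this
    refine hroot z m (centralizer (D : Set G)) hzp (hidx D hSD inf_le_left) (mem_centralizer_iff.2 fun d hd => ?_)
    have h5 := (show Commute d (z ^ m * (τ z₀ : G)⁻¹) from
      (mem_centralizer_iff.1 (mem_inf.1 hd).2 _ hu).symm).mul_right (show Commute d (τ z₀ : G) from hfix d hd)
    rw [inv_mul_cancel_right] at h5
    exact h5.eq

theorem map_omegaOneCenter (K : Subgroup G) (A : Subgroup K) :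
    (omegaOne p (A ⊓ centralizer (A : Set K))).map K.subtype =
      omegaOne p ((A.map K.subtype) ⊓ centralizer ((A.map K.subtype : Subgroup G) : Set G)) := by
  rw [Amalgam.omegaOne_map K.subtype K.subtype_injective]
  congr 1
  ext x
  constructor
  · rintro ⟨y, hy, rfl⟩
    obtain ⟨h1, h2⟩ := mem_inf.1 hy
    refine mem_inf.2 ⟨mem_map_of_mem _ h1, mem_centralizer_iff.2 ?_⟩
    rintro _ ⟨a, ha, rfl⟩
    exact congrArg Subtype.val (mem_centralizer_iff.1 h2 a ha)
  · intro hx
    obtain ⟨⟨y, hy, rfl⟩, h2⟩ := mem_inf.1 hx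
    exact ⟨y, mem_inf.2 ⟨hy, mem_centralizer_iff.2 fun a ha =>
      Subtype.ext (mem_centralizer_iff.1 h2 _ (mem_map_of_mem K.subtype ha))⟩, rfl⟩

theorem inf_centralizer_eq (hG : centralizer (pCore p G : Set G) ≤ pCore p G)
    (T : Sylow p G) (L : Subgroup G) (hL : L.IsSubnormal) :
    centralizer (pCore p L : Set L) ≤ pCore p L ∧
    L ⊓ centralizer (omegaOne p ((T : Subgroup G) ⊓ centralizer ((T : Subgroup G) : Set G)) : Set G) =
      L ⊓ centralizer (omegaOne p (((T : Subgroup G) ⊓ L) ⊓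
        centralizer (((T : Subgroup G) ⊓ L : Subgroup G) : Set G)) : Set G) := by
  induction hL with
  | top =>
    refine ⟨CharPB.centralizer_pCore_le_of_normal hG ⊤, ?_⟩
    rw [inf_top_eq]
  | step H K hle hK hN ih =>
    haveI := hN
    obtain ⟨hKc, hKe⟩ := ih
    haveI hHc := CharPB.centralizer_pCore_le_of_normal hKc (H.subgroupOf K)
    refine ⟨fun x hx => ?_, ?_⟩
    · have e := Solv.pCore_map_equiv p (subgroupOfEquivOfLe hle)
      set f := subgroupOfEquivOfLe hle
      have h1 : f.symm x ∈ centralizer (pCore p (H.subgroupOf K) : Set (H.subgroupOf K)) :=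
        mem_centralizer_iff.2 fun a ha => f.injective (by
          have h2 : f a ∈ pCore p H := e ▸ mem_map_of_mem _ ha
          simpa using mem_centralizer_iff.1 hx (f a) h2)
      have h3 : f (f.symm x) ∈ pCore p H := e ▸ mem_map_of_mem _ (hHc h1)
      simpa using h3
    let TK : Sylow p K := (T.isPGroup'.comap_of_injective K.subtype K.subtype_injective).toSylow
      (Solv.index_sylow_inf_subnormal K hK T)
    have h0 := inf_centralizer_eq_of_normal hKc TK (H.subgroupOf K)
    have hmapT : (TK : Subgroup K).map K.subtype = (T : Subgroup G) ⊓ K := subgroupOf_map_subtype _ _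
    have hmapTH : ((TK : Subgroup K) ⊓ H.subgroupOf K).map K.subtype = (T : Subgroup G) ⊓ H := by
      rw [map_inf _ _ _ K.subtype_injective, hmapT, map_subgroupOf_eq_of_le hle, inf_assoc, inf_eq_right.2 hle]
    have hgen : ∀ (A : Subgroup K) (B : Subgroup G), A.map K.subtype = B → ∀ y : K,
        (y ∈ centralizer (omegaOne p (A ⊓ centralizer (A : Set K)) : Set K) ↔
          (y : G) ∈ centralizer (omegaOne p (B ⊓ centralizer (B : Set G)) : Set G)) := by
      rintro A B rfl y
      rw [← map_omegaOneCenter]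
      constructor
      · intro hy
        refine mem_centralizer_iff.2 ?_
        rintro _ ⟨a, ha, rfl⟩
        exact congrArg Subtype.val (mem_centralizer_iff.1 hy a ha)
      · intro hy
        exact mem_centralizer_iff.2 fun a ha =>
          Subtype.ext (mem_centralizer_iff.1 hy _ (mem_map_of_mem K.subtype ha))
    ext y
    constructor
    · intro hy
      obtain ⟨hyH, hyC⟩ := mem_inf.1 hy
      have h1 := (mem_inf.1 (hKe.le (mem_inf.2 ⟨hle hyH, hyC⟩))).2
      have h2 := h0.le (mem_inf.2 ⟨(show (⟨y, hle hyH⟩ : K) ∈ H.subgroupOf K from hyH),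
        (hgen _ _ hmapT _).2 h1⟩)
      exact mem_inf.2 ⟨hyH, (hgen _ _ hmapTH _).1 (mem_inf.1 h2).2⟩
    · intro hy
      obtain ⟨hyH, hyC⟩ := mem_inf.1 hy
      have h2 := h0.ge (mem_inf.2 ⟨(show (⟨y, hle hyH⟩ : K) ∈ H.subgroupOf K from hyH),
        (hgen _ _ hmapTH _).2 hyC⟩)
      have h3 := hKe.ge (mem_inf.2 ⟨hle hyH, (hgen _ _ hmapT _).1 (mem_inf.1 h2).2⟩)
      exact mem_inf.2 ⟨hyH, (mem_inf.1 h3).2⟩

end Cfsg.Agent.Local.OmegaCenter
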