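import Cfsg.Agent.Lib.Local.ChermakDelgado
import Cfsg.Prelude.Def_BaumannBlocks
import Cfsg.Prelude.Def_PLocal

/-!
Centralizer large and centrally large subgroups.
-/

set_option autoImplicit false

namespace Cfsg.Agent.Local.CLarge

open Subgroup CDMeasure
open scoped Pointwise

variable {S : Type*} [Group S] [Finite S]

theorem mu_le_max (R : Subgroup S) : mu R ≤ maxCentralizerProduct S := by
  refine le_csSup ⟨Nat.card S * Nat.card S, ?_⟩ ⟨R, rfl⟩
  rintro k ⟨T, rfl⟩
  exact Nat.mul_le_mul (Subgroup.card_le_card_group T) (Subgroup.card_le_card_group _)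

theorem exists_cl : ∃ R : Subgroup S, IsCentralizerLarge R := by
  obtain ⟨X, hX⟩ := Finite.exists_max (mu (G := S))
  refine ⟨X, le_antisymm (mu_le_max X) ?_⟩
  refine csSup_le ⟨_, X, rfl⟩ ?_
  rintro k ⟨T, rfl⟩
  exact hX T

theorem sup_inf {Q R : Subgroup S} (hQ : IsCentralizerLarge Q) (hR : IsCentralizerLarge R) :
    IsCentralizerLarge (Q ⊔ R) ∧ IsCentralizerLarge (Q ⊓ R) ∧
      ((Q ⊔ R : Subgroup S) : Set S) = (Q : Set S) * (R : Set S) := by
  obtain ⟨h1, h2⟩ := mu_mul_le Q R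
  have hQ' : mu Q = maxCentralizerProduct S := hQ
  have hR' : mu R = maxCentralizerProduct S := hR
  rw [hQ', hR'] at h1 h2
  have hb := mu_le_max (Q ⊔ R)
  have hc := mu_le_max (Q ⊓ R)
  have hpos : 0 < maxCentralizerProduct S := hQ' ▸ Nat.mul_pos Nat.card_pos Nat.card_pos
  have e1 : mu (Q ⊔ R) = maxCentralizerProduct S := le_antisymm hb
    (Nat.le_of_mul_le_mul_right (h1.trans (Nat.mul_le_mul_left _ hc)) hpos)
  have e2 : mu (Q ⊓ R) = maxCentralizerProduct S := le_antisymm hc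
    (Nat.le_of_mul_le_mul_left (h1.trans (Nat.mul_le_mul_right _ hb)) hpos)
  refine ⟨e1, e2, ?_⟩
  ext x
  refine ⟨fun hx => ?_, ?_⟩
  · obtain ⟨a, ha, b, hb', rfl⟩ := h2 (by rw [e1, e2]) x hx
    exact Set.mul_mem_mul ha hb'
  · rintro ⟨a, ha, b, hb', rfl⟩
    exact mul_mem (mem_sup_left ha) (mem_sup_right hb')

omit [Finite S] in
theorem le_centralizer_centralizer (Q : Subgroup S) :
    Q ≤ centralizer ((centralizer (Q : Set S) : Subgroup S) : Set S) :=
  le_centralizer_iff.1 le_rfl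

theorem bicentral {Q : Subgroup S} (hQ : IsCentralizerLarge Q) :
    IsCentralizerLarge (centralizer (Q : Set S)) ∧
      Q = centralizer ((centralizer (Q : Set S) : Subgroup S) : Set S) := by
  set C := centralizer (Q : Set S)
  have hQ' : mu Q = maxCentralizerProduct S := hQ
  have h1 := mu_le_max C
  have hle := card_dvd_of_le (le_centralizer_centralizer Q)
  have hle' : Nat.card Q ≤ Nat.card (centralizer (C : Set S)) := Nat.le_of_dvd Nat.card_pos hle
  have h2 : mu Q ≤ mu C := by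
    unfold mu
    rw [mul_comm]
    exact Nat.mul_le_mul_left _ hle'
  have h3 : mu C = mu Q := le_antisymm (hQ' ▸ h1) h2
  refine ⟨h3.trans hQ', eq_of_le_of_card_ge (le_centralizer_centralizer Q) ?_⟩
  refine le_of_eq (Nat.eq_of_mul_eq_mul_left (Nat.card_pos (α := C)) ?_)
  rw [mul_comm (Nat.card C) (Nat.card Q)]
  exact h3

omit [Finite S] in
theorem card_center (R : Subgroup S) :
    Nat.card (center R) = Nat.card ↥(R ⊓ centralizer (R : Set S)) := by
  rw [← card_map_of_injective (f := R.subtype) R.subtype_injective]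
  have e : (center R).map R.subtype = R ⊓ centralizer (R : Set S) := by
    ext x
    constructor
    · rintro ⟨y, hy, rfl⟩
      exact mem_inf.2 ⟨y.2, mem_centralizer_iff.2 fun z hz =>
        congrArg Subtype.val (mem_center_iff.1 hy ⟨z, hz⟩)⟩
    · intro hx
      exact ⟨⟨x, (mem_inf.1 hx).1⟩, mem_center_iff.2 fun z =>
        Subtype.ext (mem_centralizer_iff.1 (mem_inf.1 hx).2 z z.2), rfl⟩
  rw [e]

theorem central_product_le (R : Subgroup S) :
    Nat.card R * Nat.card (center R) ≤ maxCentralizerProduct S := by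
  refine le_trans (Nat.mul_le_mul_left _ ?_) (mu_le_max R)
  rw [card_center]
  exact Nat.le_of_dvd Nat.card_pos (card_dvd_of_le inf_le_right)

/-- The two maxima agree. -/
theorem max_eq : maxCentralProduct S = maxCentralizerProduct S := by
  obtain ⟨Q, hQ⟩ := exists_cl (S := S)
  obtain ⟨hC, hbi⟩ := bicentral hQ
  set C := centralizer (Q : Set S) with hCdef
  refine le_antisymm (csSup_le ⟨_, Q, rfl⟩ ?_) ?_
  · rintro k ⟨R, rfl⟩
    exact central_product_le R
  · refine le_csSup_of_le ⟨maxCentralizerProduct S, ?_⟩ ⟨Q ⊔ C, rfl⟩ ?_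
    · rintro k ⟨R, rfl⟩
      exact central_product_le R
    · have hcl := (sup_inf hQ hC).1
      refine le_of_eq ?_
      rw [card_center, show (Q ⊔ C) ⊓ centralizer ((Q ⊔ C : Subgroup S) : Set S) =
        centralizer ((Q ⊔ C : Subgroup S) : Set S) from inf_eq_right.2 ?_]
      · exact hcl.symm
      · exact (centralizer_le (SetLike.coe_subset_coe.2 le_sup_left)).trans le_sup_right

theorem centrally_iff (Q : Subgroup S) :
    IsCentrallyLarge Q ↔ IsCentralizerLarge Q ∧ centralizer (Q : Set S) ≤ Q := by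
  constructor
  · intro h
    have h' : Nat.card Q * Nat.card (center Q) = maxCentralizerProduct S := by rw [← max_eq]; exact h
    rw [card_center] at h'
    have hge : Nat.card (centralizer (Q : Set S)) ≤ Nat.card ↥(Q ⊓ centralizer (Q : Set S)) :=
      Nat.le_of_mul_le_mul_left (h' ▸ mu_le_max Q) Nat.card_pos
    have e := eq_of_le_of_card_ge inf_le_right hge
    refine ⟨?_, ?_⟩
    · rw [e] at h'
      exact h'
    · rw [← e]
      exact inf_le_left
  · rintro ⟨h1, h2⟩
    show Nat.card Q * Nat.card (center Q) = maxCentralProduct S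
    rw [max_eq, card_center, inf_eq_right.2 h2]
    exact h1

theorem exists_centrally : ∃ R : Subgroup S, IsCentrallyLarge R := by
  obtain ⟨Q, hQ⟩ := exists_cl (S := S)
  obtain ⟨hC, -⟩ := bicentral hQ
  exact ⟨Q ⊔ centralizer (Q : Set S), (centrally_iff _).2 ⟨(sup_inf hQ hC).1,
    (centralizer_le (SetLike.coe_subset_coe.2 le_sup_left)).trans le_sup_right⟩⟩

theorem centrally_sup {Q R : Subgroup S} (hQ : IsCentrallyLarge Q) (hR : IsCentrallyLarge R) :
    IsCentrallyLarge (Q ⊔ R) ∧ ((Q ⊔ R : Subgroup S) : Set S) = (Q : Set S) * (R : Set S) := by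
  obtain ⟨h1, h2⟩ := (centrally_iff Q).1 hQ
  obtain ⟨h3, -⟩ := (centrally_iff R).1 hR
  obtain ⟨k1, -, k3⟩ := sup_inf h1 h3
  exact ⟨(centrally_iff _).2 ⟨k1,
    (centralizer_le (SetLike.coe_subset_coe.2 le_sup_left)).trans (h2.trans le_sup_left)⟩, k3⟩

theorem centrally_sSup {s : Set (Subgroup S)} (hs : ∀ R ∈ s, IsCentrallyLarge R) (hne : s.Nonempty) :
    IsCentrallyLarge (sSup s) := by
  induction s, s.toFinite using Set.Finite.induction_on with
  | empty => exact absurd hne Set.not_nonempty_empty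
  | @insert a t _ _ ih =>
    rw [sSup_insert]
    rcases t.eq_empty_or_nonempty with rfl | ht
    · rw [sSup_empty, sup_bot_eq]
      exact hs a (Set.mem_insert _ _)
    · exact (centrally_sup (hs a (Set.mem_insert _ _)) (ih (fun R hR => hs R (Set.mem_insert_of_mem _ hR)) ht)).1

theorem exists_minimal : ∃ R : Subgroup S, IsMinimalCentrallyLarge R := by
  obtain ⟨R, hR⟩ := (Set.toFinite {R : Subgroup S | IsCentrallyLarge R}).exists_minimal exists_centrally
  exact ⟨R, hR.1, fun R' h h' => le_antisymm h (hR.2 h' h)⟩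

theorem isMulCommutative_sup {A B : Subgroup S} (hA : IsMulCommutative A) (hB : IsMulCommutative B)
    (h : A ≤ centralizer (B : Set S)) : IsMulCommutative ↥(A ⊔ B) := by
  rw [← le_centralizer_iff_isMulCommutative] at hA hB ⊢
  rw [CDMeasure.centralizer_sup]
  exact sup_le (le_inf hA h) (le_inf (le_centralizer_iff.1 h) hB)

theorem centralizer_maxAbelian {A : Subgroup S} (hA : A ∈ maxAbelianSubgroups S) :
    centralizer (A : Set S) = A := by
  refine le_antisymm (fun x hx => ?_) (le_centralizer_iff_isMulCommutative.2 hA.1)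
  have hc : IsMulCommutative (zpowers x) := inferInstance
  have h := isMulCommutative_sup hA.1 hc (le_centralizer_iff.1 (zpowers_le.2 hx))
  have e := eq_of_le_of_card_ge (le_sup_left : A ≤ A ⊔ zpowers x) (hA.2 _ h)
  rw [e]
  exact mem_sup_right (mem_zpowers x)

/-- A centrally large subgroup and a maximal abelian subgroup. -/
theorem centrally_sup_maxAbelian {Q A : Subgroup S} (hQ : IsCentrallyLarge Q)
    (hA : A ∈ maxAbelianSubgroups S) :
    IsCentrallyLarge (Q ⊔ A) ∧ ((Q ⊔ A : Subgroup S) : Set S) = (Q : Set S) * (A : Set S) ∧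
      Q ⊓ centralizer ((Q ⊓ A : Subgroup S) : Set S) = centralizer (Q : Set S) ⊔ (Q ⊓ A) := by
  obtain ⟨h1, h2⟩ := (centrally_iff Q).1 hQ
  have hCA := centralizer_maxAbelian hA
  set Z := centralizer (Q : Set S) with hZ
  set R := Q ⊓ A with hR
  have hZc : IsMulCommutative Z :=
    le_centralizer_iff_isMulCommutative.1 (centralizer_le (SetLike.coe_subset_coe.2 h2))
  have hRc : IsMulCommutative R := by
    haveI := hA.1
    exact le_centralizer_iff_isMulCommutative.1
      (inf_le_right.trans ((le_centralizer_iff_isMulCommutative.2 hA.1).trans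
        (centralizer_le (SetLike.coe_subset_coe.2 inf_le_right))))
  set B := Z ⊔ R with hB
  have hBc : IsMulCommutative B := isMulCommutative_sup hZc hRc
    (centralizer_le (SetLike.coe_subset_coe.2 inf_le_left))
  have hBA := hA.2 B hBc
  obtain ⟨c1, c1'⟩ := card_mul_le_card_sup Q A
  obtain ⟨c2, -⟩ := card_mul_le_card_sup Z R
  have eZR : Z ⊓ R = Z ⊓ A := by rw [hR, ← inf_assoc, inf_eq_left.2 h2]
  rw [eZR] at c2
  have hCQA : centralizer ((Q ⊔ A : Subgroup S) : Set S) = Z ⊓ A := by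
    rw [CDMeasure.centralizer_sup, hCA]
  have hQ' : Nat.card Q * Nat.card Z = maxCentralizerProduct S := h1
  have hmu := mu_le_max (Q ⊔ A)
  have hmu' : mu (Q ⊔ A) = Nat.card ↥(Q ⊔ A) * Nat.card ↥(Z ⊓ A) := by rw [mu, hCQA]
  rw [hmu', ← hQ'] at hmu
  have k1 : Nat.card Q * Nat.card Z * Nat.card R ≤
      Nat.card Q * (Nat.card B * Nat.card ↥(Z ⊓ A)) := by
    rw [mul_assoc]; exact Nat.mul_le_mul_left _ c2
  have k2 : Nat.card Q * (Nat.card B * Nat.card ↥(Z ⊓ A)) ≤
      Nat.card Q * Nat.card A * Nat.card ↥(Z ⊓ A) := by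
    rw [← mul_assoc]; exact Nat.mul_le_mul_right _ (Nat.mul_le_mul_left _ hBA)
  have k3 : Nat.card Q * Nat.card A * Nat.card ↥(Z ⊓ A) ≤
      Nat.card ↥(Q ⊔ A) * Nat.card R * Nat.card ↥(Z ⊓ A) := Nat.mul_le_mul_right _ c1
  have k4 : Nat.card ↥(Q ⊔ A) * Nat.card R * Nat.card ↥(Z ⊓ A) ≤
      Nat.card Q * Nat.card Z * Nat.card R := by
    calc Nat.card ↥(Q ⊔ A) * Nat.card R * Nat.card ↥(Z ⊓ A)
        = Nat.card ↥(Q ⊔ A) * Nat.card ↥(Z ⊓ A) * Nat.card R := by ring
      _ ≤ _ := Nat.mul_le_mul_right _ hmu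
  have hposR : 0 < Nat.card R := Nat.card_pos
  have hposI : 0 < Nat.card ↥(Z ⊓ A) := Nat.card_pos
  have hposQ : 0 < Nat.card Q := Nat.card_pos
  have eQA : Nat.card Q * Nat.card A = Nat.card ↥(Q ⊔ A) * Nat.card R :=
    le_antisymm c1 (Nat.le_of_mul_le_mul_right (k4.trans (k1.trans k2)) hposI)
  have eB : Nat.card B = Nat.card A :=
    le_antisymm hBA (Nat.le_of_mul_le_mul_left
      (Nat.le_of_mul_le_mul_right (by
        calc Nat.card Q * Nat.card A * Nat.card ↥(Z ⊓ A) ≤ Nat.card Q * Nat.card Z * Nat.card R := k3.trans k4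
          _ ≤ Nat.card Q * Nat.card B * Nat.card ↥(Z ⊓ A) := by rw [mul_assoc (Nat.card Q) (Nat.card B)]; exact k1)
        hposI) hposQ)
  have hf : Nat.card ↥(Q ⊔ A) * Nat.card ↥(Z ⊓ A) = maxCentralizerProduct S := by
    rw [← hQ']
    refine le_antisymm hmu (Nat.le_of_mul_le_mul_right ?_ hposR)
    calc Nat.card Q * Nat.card Z * Nat.card R ≤ Nat.card Q * Nat.card A * Nat.card ↥(Z ⊓ A) := k1.trans k2
      _ = Nat.card ↥(Q ⊔ A) * Nat.card R * Nat.card ↥(Z ⊓ A) := by rw [eQA]
      _ = _ := by ring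
  have hBm : B ∈ maxAbelianSubgroups S := ⟨hBc, fun C hC => eB.symm ▸ hA.2 C hC⟩
  refine ⟨(centrally_iff _).2 ⟨hmu'.trans hf, ?_⟩, ?_, ?_⟩
  · rw [hCQA]
    exact inf_le_right.trans le_sup_right
  · ext x
    refine ⟨fun hx => ?_, ?_⟩
    · obtain ⟨a, ha, b, hb, rfl⟩ := c1' eQA x hx
      exact Set.mul_mem_mul ha hb
    · rintro ⟨a, ha, b, hb, rfl⟩
      exact mul_mem (mem_sup_left ha) (mem_sup_right hb)
  · refine le_antisymm ?_ (sup_le (le_inf h2 (centralizer_le (SetLike.coe_subset_coe.2 inf_le_left)))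
      (le_inf inf_le_left (le_centralizer_iff_isMulCommutative.2 hRc)))
    refine le_of_le_of_eq ?_ (centralizer_maxAbelian hBm)
    rw [hB, CDMeasure.centralizer_sup]
    exact inf_le_inf_right _ (le_centralizer_centralizer Q)

/-- The join of a centrally large subgroup with the Thompson subgroup is centrally large. -/
theorem centrally_sup_thompsonA {Q : Subgroup S} (hQ : IsCentrallyLarge Q) :
    IsCentrallyLarge (Q ⊔ thompsonSubgroupA S) := by
  have h : ∀ s : Set (Subgroup S), (∀ A ∈ s, A ∈ maxAbelianSubgroups S) → IsCentrallyLarge (Q ⊔ sSup s) := by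
    intro s
    induction s, s.toFinite using Set.Finite.induction_on with
    | empty => intro _; rw [sSup_empty, sup_bot_eq]; exact hQ
    | @insert a t _ _ ih =>
      intro hs
      rw [sSup_insert, sup_comm a, ← sup_assoc]
      exact (centrally_sup_maxAbelian (ih fun A hA => hs A (Set.mem_insert_of_mem _ hA))
        (hs a (Set.mem_insert _ _))).1
  exact h _ fun A hA => hA

theorem exists_maxAbelian : ∃ A : Subgroup S, A ∈ maxAbelianSubgroups S := by
  haveI : Nonempty {A : Subgroup S // IsMulCommutative A} :=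
    ⟨⟨⊥, le_centralizer_iff_isMulCommutative.1 bot_le⟩⟩
  obtain ⟨⟨A, hA⟩, hmax⟩ := Finite.exists_max (fun A : {A : Subgroup S // IsMulCommutative A} => Nat.card (A : Subgroup S))
  exact ⟨A, hA, fun B hB => hmax ⟨B, hB⟩⟩

theorem centralizer_center_thompsonA :
    thompsonSubgroupA S ⊓ centralizer (thompsonSubgroupA S : Set S) = centralizer (thompsonSubgroupA S : Set S) := by
  obtain ⟨A, hA⟩ := exists_maxAbelian (S := S)
  have hle : A ≤ thompsonSubgroupA S := le_sSup hA
  exact inf_eq_right.2 ((centralizer_le (SetLike.coe_subset_coe.2 hle)).trans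
    ((centralizer_maxAbelian hA).le.trans hle))

/-- `C(Z(J)) ≤ Q J` for a centrally large `Q`. -/
theorem centralizer_ZJ_le {Q : Subgroup S} (hQ : IsCentrallyLarge Q) :
    centralizer ((thompsonSubgroupA S ⊓ centralizer (thompsonSubgroupA S : Set S) : Subgroup S) : Set S) ≤
      Q ⊔ thompsonSubgroupA S := by
  rw [centralizer_center_thompsonA]
  refine (centralizer_le (SetLike.coe_subset_coe.2
    (centralizer_le (SetLike.coe_subset_coe.2 (le_sup_right : thompsonSubgroupA S ≤ Q ⊔ thompsonSubgroupA S))))).trans ?_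
  exact (bicentral ((centrally_iff _).1 (centrally_sup_thompsonA hQ)).1).2.ge

/-- Two minimal centrally large subgroups. -/
theorem minimal_pair {Q R : Subgroup S} (hQ : IsMinimalCentrallyLarge Q)
    (hR : IsMinimalCentrallyLarge R) :
    (Q ⊓ R) ⊔ centralizer (Q : Set S) = Q ∧ Nat.card Q = Nat.card R ∧
      Nat.card (centralizer (Q : Set S)) = Nat.card (centralizer (R : Set S)) := by
  have key : ∀ {Q R : Subgroup S}, IsMinimalCentrallyLarge Q → IsMinimalCentrallyLarge R →
      (Q ⊓ R) ⊔ centralizer (Q : Set S) = Q ∧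
        ((Q : Set S) = ((Q ⊓ R : Subgroup S) : Set S) * (centralizer (Q : Set S) : Set S)) ∧
        centralizer (Q : Set S) ⊓ R ≤ centralizer (Q : Set S) ⊓ centralizer (R : Set S) := by
    intro Q R hQ hR
    obtain ⟨h1, h2⟩ := (centrally_iff Q).1 hQ.1
    obtain ⟨h3, h4⟩ := (centrally_iff R).1 hR.1
    obtain ⟨hCQ, hQQ⟩ := bicentral h1
    obtain ⟨hCR, hRR⟩ := bicentral h3
    obtain ⟨k1, -, k3⟩ := sup_inf (sup_inf h1 h3).2.1 hCQ
    obtain ⟨j1, -, j3⟩ := sup_inf hCQ hCR
    have e : centralizer ((Q ⊓ R : Subgroup S) : Set S) = centralizer (Q : Set S) ⊔ centralizer (R : Set S) := by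
      have : Q ⊓ R = centralizer ((centralizer (Q : Set S) ⊔ centralizer (R : Set S) : Subgroup S) : Set S) := by
        rw [CDMeasure.centralizer_sup, ← hQQ, ← hRR]
      rw [this]
      exact (bicentral j1).2.symm
    have hmin : (Q ⊓ R) ⊔ centralizer (Q : Set S) = Q := by
      refine hQ.2 _ (sup_le inf_le_left h2) ((centrally_iff _).2 ⟨k1, ?_⟩)
      rw [CDMeasure.centralizer_sup, ← hQQ, e]
      intro x hx
      obtain ⟨a, ha, b, hb, rfl⟩ : x ∈ (centralizer (Q : Set S) : Set S) * (centralizer (R : Set S) : Set S) := by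
        rw [← j3]; exact (mem_inf.1 hx).1
      have hbQ : b ∈ Q := by
        have := mul_mem (inv_mem (h2 ha)) (mem_inf.1 hx).2
        rwa [inv_mul_cancel_left] at this
      exact mul_mem (mem_sup_right ha) (mem_sup_left (mem_inf.2 ⟨hbQ, h4 hb⟩))
    refine ⟨hmin, by rw [← k3, hmin], fun x hx => mem_inf.2 ⟨(mem_inf.1 hx).1, ?_⟩⟩
    have hR' : (R : Set S) = ((R ⊓ Q : Subgroup S) : Set S) * (centralizer (R : Set S) : Set S) := by
      obtain ⟨k1', -, k3'⟩ := sup_inf (sup_inf h3 h1).2.1 hCR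
      rw [← k3']
      refine congrArg SetLike.coe (hR.2 _ (sup_le inf_le_left h4) ((centrally_iff _).2 ⟨k1', ?_⟩)).symm
      rw [CDMeasure.centralizer_sup, ← hRR, inf_comm R Q, e]
      intro y hy
      obtain ⟨a, ha, b, hb, rfl⟩ : y ∈ (centralizer (Q : Set S) : Set S) * (centralizer (R : Set S) : Set S) := by
        rw [← j3]; exact (mem_inf.1 hy).1
      have haR : a ∈ R := by
        have := mul_mem (mem_inf.1 hy).2 (inv_mem (h4 hb))
        rwa [mul_inv_cancel_right] at this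
      exact mul_mem (mem_sup_left (mem_inf.2 ⟨h2 ha, haR⟩)) (mem_sup_right hb)
    rw [mem_centralizer_iff]
    intro r hr
    obtain ⟨a, ha, b, hb, rfl⟩ : r ∈ ((R ⊓ Q : Subgroup S) : Set S) * (centralizer (R : Set S) : Set S) := by
      rw [← hR']; exact hr
    have ca : a * x = x * a := mem_centralizer_iff.1 (mem_inf.1 hx).1 a (mem_inf.1 ha).2
    have cb : x * b = b * x := mem_centralizer_iff.1 hb x (mem_inf.1 hx).2
    show a * b * x = x * (a * b)
    rw [mul_assoc, ← cb, ← mul_assoc, ca, mul_assoc]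
  obtain ⟨q1, q2, q3⟩ := key hQ hR
  obtain ⟨r1, r2, r3⟩ := key hR hQ
  obtain ⟨h1, h2⟩ := (centrally_iff Q).1 hQ.1
  obtain ⟨h3, h4⟩ := (centrally_iff R).1 hR.1
  refine ⟨q1, ?_⟩
  -- the two central intersections agree
  have hE : centralizer (Q : Set S) ⊓ (Q ⊓ R) = centralizer (R : Set S) ⊓ (R ⊓ Q) := by
    refine le_antisymm (fun x hx => ?_) (fun x hx => ?_)
    · have := q3 (mem_inf.2 ⟨(mem_inf.1 hx).1, (mem_inf.1 (mem_inf.1 hx).2).2⟩)
      exact mem_inf.2 ⟨(mem_inf.1 this).2, by rw [inf_comm]; exact (mem_inf.1 hx).2⟩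
    · have := r3 (mem_inf.2 ⟨(mem_inf.1 hx).1, (mem_inf.1 (mem_inf.1 hx).2).2⟩)
      exact mem_inf.2 ⟨(mem_inf.1 this).2, by rw [inf_comm]; exact (mem_inf.1 hx).2⟩
  have cnt : ∀ {Q R : Subgroup S}, (Q ⊓ R) ⊔ centralizer (Q : Set S) = Q →
      (Q : Set S) = ((Q ⊓ R : Subgroup S) : Set S) * (centralizer (Q : Set S) : Set S) →
      Nat.card Q * Nat.card ↥(centralizer (Q : Set S) ⊓ (Q ⊓ R)) =
        Nat.card ↥(Q ⊓ R) * Nat.card (centralizer (Q : Set S)) := by
    intro Q R e e'
    obtain ⟨c, -⟩ := card_mul_le_card_sup (Q ⊓ R) (centralizer (Q : Set S))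
    rw [e, inf_comm (Q ⊓ R) (centralizer (Q : Set S))] at c
    refine le_antisymm ?_ c
    have hc := card_relIndex_mul (Q ⊓ R) (centralizer (Q : Set S))
    have hq := card_relIndex_mul Q (centralizer (Q : Set S))
    have hle : (centralizer (Q : Set S)).relIndex Q ≤ (centralizer (Q : Set S)).relIndex (Q ⊓ R) := by
      refine Nat.card_le_card_of_surjective
        (quotientSubgroupOfEmbeddingOfLE (centralizer (Q : Set S)) (inf_le_left : Q ⊓ R ≤ Q)) ?_
      intro z
      obtain ⟨⟨q, hq'⟩, rfl⟩ := QuotientGroup.mk_surjective z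
      have hq'' : q ∈ ((Q ⊓ R : Subgroup S) : Set S) * (centralizer (Q : Set S) : Set S) := by
        rw [← e']; exact hq'
      obtain ⟨a, ha, b, hb, hab⟩ := hq''
      refine ⟨QuotientGroup.mk ⟨a, ha⟩, ?_⟩
      rw [quotientSubgroupOfEmbeddingOfLE_apply_mk, QuotientGroup.eq]
      show a⁻¹ * q ∈ centralizer (Q : Set S)
      rw [← hab, inv_mul_cancel_left]
      exact hb
    have hcq : Nat.card ↥(Q ⊓ centralizer (Q : Set S)) ≤ Nat.card (centralizer (Q : Set S)) :=
      Nat.le_of_dvd Nat.card_pos (card_dvd_of_le inf_le_right)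
    rw [← hq, ← hc, inf_comm (centralizer (Q : Set S)) (Q ⊓ R)]
    calc Nat.card ↥(Q ⊓ centralizer (Q : Set S)) * (centralizer (Q : Set S)).relIndex Q *
          Nat.card ↥(Q ⊓ R ⊓ centralizer (Q : Set S))
        ≤ Nat.card (centralizer (Q : Set S)) * (centralizer (Q : Set S)).relIndex (Q ⊓ R) *
          Nat.card ↥(Q ⊓ R ⊓ centralizer (Q : Set S)) :=
            Nat.mul_le_mul_right _ (Nat.mul_le_mul hcq hle)
      _ = _ := by ring
  have a1 := cnt q1 q2
  have a2 := cnt r1 r2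
  rw [← hE, inf_comm R Q] at a2
  have hpos : 0 < Nat.card ↥(centralizer (Q : Set S) ⊓ (Q ⊓ R)) := Nat.card_pos
  have hIpos : 0 < Nat.card ↥(Q ⊓ R) := Nat.card_pos
  have f1 : Nat.card Q * Nat.card (centralizer (Q : Set S)) =
      Nat.card R * Nat.card (centralizer (R : Set S)) := h1.trans h3.symm
  have hx : Nat.card Q * Nat.card Q = Nat.card R * Nat.card R := by
    refine Nat.eq_of_mul_eq_mul_left hpos ?_
    calc Nat.card ↥(centralizer (Q : Set S) ⊓ (Q ⊓ R)) * (Nat.card Q * Nat.card Q)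
        = Nat.card Q * (Nat.card Q * Nat.card ↥(centralizer (Q : Set S) ⊓ (Q ⊓ R))) := by ring
      _ = Nat.card ↥(Q ⊓ R) * (Nat.card Q * Nat.card (centralizer (Q : Set S))) := by rw [a1]; ring
      _ = Nat.card R * (Nat.card ↥(Q ⊓ R) * Nat.card (centralizer (R : Set S))) := by rw [f1]; ring
      _ = _ := by rw [← a2]; ring
  have hQR : Nat.card Q = Nat.card R := Nat.mul_self_inj.1 hx
  refine ⟨hQR, ?_⟩
  rw [hQR] at f1
  exact Nat.eq_of_mul_eq_mul_left Nat.card_pos f1

end Cfsg.Agent.Local.CLarge
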