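import Cfsg.Agent.Lib.Local.CharPBasics
import Cfsg.Agent.Lib.Local.QuotientLocal

/-!
Equivalent forms of characteristic `p`.
-/

set_option autoImplicit false

namespace Cfsg.Agent.Local.CharPB

open Subgroup

variable {G : Type*} [Group G] [Finite G] {p : ℕ} [hp : Fact p.Prime]

theorem fstar_eq_pCore_iff :
    generalizedFittingSubgroup G = pCore p G ↔
      centralizer (pCore p G : Set G) ≤ pCore p G := by
  constructor
  · intro h
    have h3 := centralizer_generalizedFitting_le (G := G)
    rwa [h] at h3
  · intro h
    refine generalizedFitting_eq_pCore_iff.2 ⟨?_, ?_⟩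
    · rw [eq_bot_iff]
      refine sSup_le fun K hK => ?_
      exfalso
      have h1 : K ≤ centralizer (pCore p G : Set G) :=
        (le_sSup hK).trans (layer_le_centralizer_fitting.trans
          (centralizer_le (Solv.pCore_le_fittingSubgroup p)))
      exact component_ne_isPGroup hK ((Solv.isPGroup_pCore p G).to_le (h1.trans h))
    · have h1 : pPrimeCore p G ≤ pCore p G := by
        have h2 := pPrimeCore_le_centralizer_of_isPGroup (R := pCore p G) (Solv.isPGroup_pCore p G)
        exact h2.trans h
      exact (inf_eq_left.2 h1).symm.trans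
        (by rw [inf_comm]; exact Solv.inf_eq_bot_of_isPGroup (Solv.isPGroup_pCore p G) (Solv.card_pPrimeCore_coprime p G))

omit hp in
theorem centralizer_pCore_le_of_mulEquiv {A B : Type*} [Group A] [Group B] (e : A ≃* B)
    (h : centralizer (pCore p A : Set A) ≤ pCore p A) :
    centralizer (pCore p B : Set B) ≤ pCore p B := by
  intro b hb
  have he := Solv.pCore_map_equiv p e
  have h1 : e.symm b ∈ centralizer (pCore p A : Set A) := by
    refine mem_centralizer_iff.2 fun a ha => e.injective ?_
    have h2 : e a ∈ pCore p B := he ▸ mem_map_of_mem _ ha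
    simpa using mem_centralizer_iff.1 hb (e a) h2
  have h3 : e (e.symm b) ∈ pCore p B := he ▸ mem_map_of_mem _ (h h1)
  simpa using h3

end Cfsg.Agent.Local.CharPB

namespace Cfsg.Agent.Local.CharPB

open Subgroup

variable {G : Type*} [Group G] [Finite G] {p : ℕ} [hp : Fact p.Prime]

/-- If the centralizer of a `p`-subgroup has characteristic `p`, so does its normalizer. -/
theorem normalizer_charP_of_centralizer {B : Subgroup G} (hB : IsPGroup p B)
    (h : centralizer (pCore p (centralizer (B : Set G)) : Set (centralizer (B : Set G))) ≤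
      pCore p (centralizer (B : Set G))) :
    centralizer (pCore p (normalizer (B : Set G)) : Set (normalizer (B : Set G))) ≤
      pCore p (normalizer (B : Set G)) := by
  set Y := normalizer (B : Set G) with hY
  set M := (centralizer (B : Set G)).subgroupOf Y with hM
  have hMc : centralizer (pCore p M : Set M) ≤ pCore p M :=
    centralizer_pCore_le_of_mulEquiv (subgroupOfEquivOfLe (centralizer_le_normalizer _)).symm h
  haveI : (pCore p Y).Normal := by haveI := Solv.pCore_characteristic p Y; infer_instance
  haveI hCn' : (centralizer (pCore p Y : Set Y)).Normal := normal_centralizer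
  refine Solv.le_pCore (isPGroup_of_forall_eq_one fun c hc hco => ?_)
  haveI : (B.subgroupOf Y).Normal := normal_in_normalizer
  have hBY : B.subgroupOf Y ≤ pCore p Y := Solv.le_pCore (hB.comap_of_injective _ Y.subtype_injective)
  have hcM : c ∈ M := by
    show (c : G) ∈ centralizer (B : Set G)
    exact mem_centralizer_iff.2 fun b hb => congrArg Subtype.val
      (mem_centralizer_iff.1 hc ⟨b, le_normalizer hb⟩ (hBY (mem_subgroupOf.2 hb)))
  haveI : M.Normal := inferInstance
  haveI := Solv.pCore_characteristic p M
  have hle : (pCore p M).map M.subtype ≤ pCore p Y :=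
    Solv.le_pCore ((Solv.isPGroup_pCore p M).map _)
  have h2 : (⟨c, hcM⟩ : M) ∈ pCore p M := hMc (mem_centralizer_iff.2 fun a ha =>
    Subtype.ext (mem_centralizer_iff.1 hc _ (hle (mem_map_of_mem _ ha))))
  have h3 : c ∈ pCore p Y := hle ⟨_, h2, rfl⟩
  obtain ⟨k, hk⟩ := IsPGroup.iff_card.1 (Solv.isPGroup_pCore p Y)
  exact orderOf_eq_one_iff.1 (Nat.eq_one_of_dvd_coprimes (hco.pow_right k) dvd_rfl
    (hk ▸ Subgroup.orderOf_dvd_natCard _ h3))

/-- The normalizer of a `p`-subgroup has characteristic `p` when the centralizer of one of its central elements has. -/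
theorem normalizer_charP_of_central {X : Subgroup G} (hX : IsPGroup p X) {z : G} (hzX : z ∈ X)
    (hzc : ∀ x ∈ X, x * z = z * x)
    (h : centralizer (pCore p (centralizer ({z} : Set G)) : Set (centralizer ({z} : Set G))) ≤
      pCore p (centralizer ({z} : Set G))) :
    centralizer (pCore p (normalizer (X : Set G)) : Set (normalizer (X : Set G))) ≤
      pCore p (normalizer (X : Set G)) := by
  set C := centralizer ({z} : Set G)
  have hXC : X ≤ C := fun x hx => mem_centralizer_singleton_iff.2 (hzc x hx)
  have h1 := fstar_eq_pCore_iff.1 (fstar_normalizer_eq_pCore (fstar_eq_pCore_iff.2 h)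
    (hX.comap_of_injective C.subtype C.subtype_injective))
  set H := normalizer (X : Set G) ⊓ C with hH
  have hmap : (normalizer ((X.subgroupOf C : Subgroup C) : Set C)).map C.subtype = H := by
    rw [← subgroupOf_normalizer_eq hXC, subgroupOf_map_subtype]
  have hHc : centralizer (pCore p H : Set H) ≤ pCore p H :=
    centralizer_pCore_le_of_mulEquiv
      ((equivMapOfInjective _ _ C.subtype_injective).trans (MulEquiv.subgroupCongr hmap)) h1
  have hle : centralizer (X : Set G) ≤ H := le_inf (centralizer_le_normalizer _) fun c hc =>
    mem_centralizer_singleton_iff.2 (mem_centralizer_iff.1 hc z hzX).symm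
  haveI : ((centralizer (X : Set G)).subgroupOf H).Normal :=
    (normal_subgroupOf_iff_le_normalizer hle).2 (inf_le_left.trans
      ((normal_subgroupOf_iff_le_normalizer (centralizer_le_normalizer _)).1 inferInstance))
  exact normalizer_charP_of_centralizer hX (centralizer_pCore_le_of_mulEquiv (subgroupOfEquivOfLe hle)
    (centralizer_pCore_le_of_normal hHc _))

end Cfsg.Agent.Local.CharPB
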