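import Cfsg.Agent.Lib.Local.AmalgamBasics

/-!
The Chermak-Delgado measure and simple groups.
-/

set_option autoImplicit false

namespace Cfsg.Agent.Local.CDMeasure

open Subgroup

variable {G : Type*} [Group G] [Finite G]

/-- The Chermak-Delgado measure. -/
noncomputable def mu (H : Subgroup G) : ℕ :=
  Nat.card H * Nat.card (centralizer (H : Set G))

theorem card_relIndex_mul (H K : Subgroup G) :
    Nat.card ↥(H ⊓ K) * K.relIndex H = Nat.card H := by
  have := (K.subgroupOf H).card_mul_index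
  rwa [← inf_subgroupOf_left, Nat.card_congr (subgroupOfEquivOfLe
    (inf_le_left : H ⊓ K ≤ H)).toEquiv, inf_subgroupOf_left] at this

theorem card_mul_le_card_sup (H K : Subgroup G) :
    Nat.card H * Nat.card K ≤ Nat.card ↥(H ⊔ K) * Nat.card ↥(H ⊓ K) ∧
      (Nat.card H * Nat.card K = Nat.card ↥(H ⊔ K) * Nat.card ↥(H ⊓ K) →
        ∀ x ∈ H ⊔ K, ∃ a ∈ H, ∃ b ∈ K, x = a * b) := by
  have hle : K.relIndex H ≤ K.relIndex (H ⊔ K) :=
    Finite.card_le_of_embedding (quotientSubgroupOfEmbeddingOfLE K (le_sup_left : H ≤ H ⊔ K))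
  have e1 := card_relIndex_mul H K
  have e2 := card_relIndex_mul (H ⊔ K) K
  have eK : Nat.card ↥((H ⊔ K) ⊓ K) = Nat.card K := by
    rw [inf_eq_right.2 (le_sup_right : K ≤ H ⊔ K)]
  rw [eK] at e2
  refine ⟨?_, fun heq x hx => ?_⟩
  · rw [← e1, ← e2, show Nat.card ↥(H ⊓ K) * K.relIndex H * Nat.card K =
      Nat.card K * Nat.card ↥(H ⊓ K) * K.relIndex H by ring,
      show Nat.card K * K.relIndex (H ⊔ K) * Nat.card ↥(H ⊓ K) =
      Nat.card K * Nat.card ↥(H ⊓ K) * K.relIndex (H ⊔ K) by ring]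
    exact Nat.mul_le_mul_left _ hle
  · have hpos : 0 < Nat.card K * Nat.card ↥(H ⊓ K) := Nat.mul_pos Nat.card_pos Nat.card_pos
    have hidx : K.relIndex H = K.relIndex (H ⊔ K) := by
      refine Nat.eq_of_mul_eq_mul_left hpos ?_
      rw [← e1, ← e2] at heq
      calc Nat.card K * Nat.card ↥(H ⊓ K) * K.relIndex H
          = Nat.card ↥(H ⊓ K) * K.relIndex H * Nat.card K := by ring
        _ = Nat.card K * K.relIndex (H ⊔ K) * Nat.card ↥(H ⊓ K) := heq
        _ = _ := by ring
    have hbij := ((quotientSubgroupOfEmbeddingOfLE K (le_sup_left : H ≤ H ⊔ K)).injective).bijective_of_nat_card_le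
      hidx.ge
    obtain ⟨q, hq⟩ := hbij.2 (QuotientGroup.mk ⟨x, hx⟩)
    obtain ⟨a, rfl⟩ := QuotientGroup.mk_surjective q
    rw [quotientSubgroupOfEmbeddingOfLE_apply_mk, QuotientGroup.eq] at hq
    exact ⟨a, a.2, (a : G)⁻¹ * x, hq, by group⟩

theorem centralizer_sup (H K : Subgroup G) :
    centralizer ((H ⊔ K : Subgroup G) : Set G) =
      centralizer (H : Set G) ⊓ centralizer (K : Set G) :=
  le_antisymm (le_inf (centralizer_le (le_sup_left : H ≤ H ⊔ K))
    (centralizer_le (le_sup_right : K ≤ H ⊔ K))) (by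
    rw [le_centralizer_iff]
    exact sup_le (le_centralizer_iff.1 inf_le_left) (le_centralizer_iff.1 inf_le_right))

theorem mu_mul_le (H K : Subgroup G) :
    mu H * mu K ≤ mu (H ⊔ K) * mu (H ⊓ K) ∧
      (mu H * mu K = mu (H ⊔ K) * mu (H ⊓ K) → ∀ x ∈ H ⊔ K, ∃ a ∈ H, ∃ b ∈ K, x = a * b) := by
  obtain ⟨h1, h1'⟩ := card_mul_le_card_sup H K
  obtain ⟨h2, -⟩ := card_mul_le_card_sup (centralizer (H : Set G)) (centralizer (K : Set G))
  have h3 : Nat.card ↥(centralizer (H : Set G) ⊔ centralizer (K : Set G)) ≤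
      Nat.card (centralizer ((H ⊓ K : Subgroup G) : Set G)) := by
    refine Finite.card_le_of_embedding ⟨Subgroup.inclusion ?_, Subgroup.inclusion_injective _⟩
    exact sup_le (centralizer_le (inf_le_left : H ⊓ K ≤ H)) (centralizer_le (inf_le_right : H ⊓ K ≤ K))
  have h4 : Nat.card (centralizer (H : Set G)) * Nat.card (centralizer (K : Set G)) ≤
      Nat.card (centralizer ((H ⊔ K : Subgroup G) : Set G)) *
        Nat.card (centralizer ((H ⊓ K : Subgroup G) : Set G)) := by
    rw [centralizer_sup]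
    calc _ ≤ _ := h2
      _ ≤ _ := by rw [mul_comm]; exact Nat.mul_le_mul_left _ h3
  have eL : mu H * mu K = (Nat.card H * Nat.card K) *
      (Nat.card (centralizer (H : Set G)) * Nat.card (centralizer (K : Set G))) := by
    unfold mu; ring
  have eR : mu (H ⊔ K) * mu (H ⊓ K) = (Nat.card ↥(H ⊔ K) * Nat.card ↥(H ⊓ K)) *
      (Nat.card (centralizer ((H ⊔ K : Subgroup G) : Set G)) *
        Nat.card (centralizer ((H ⊓ K : Subgroup G) : Set G))) := by
    unfold mu; ring
  rw [eL, eR]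
  refine ⟨Nat.mul_le_mul h1 h4, fun heq => h1' (le_antisymm h1 ?_)⟩
  by_contra hlt
  exact (Nat.mul_lt_mul_of_lt_of_le (not_le.1 hlt) h4 (Nat.mul_pos Nat.card_pos Nat.card_pos)).ne heq

theorem mu_map (e : MulAut G) (H : Subgroup G) : mu (H.map e.toMonoidHom) = mu H := by
  unfold mu
  rw [← Cfsg.Agent.Local.Amalgam.map_centralizer, card_map_of_injective e.injective,
    card_map_of_injective e.injective]

/-- In a nonabelian finite simple group the measure of a proper nontrivial subgroup is below `|G|`. -/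
theorem mu_lt_card [IsSimpleGroup G] (hG : ¬ IsMulCommutative G) (A : Subgroup G) (hA1 : A ≠ ⊥)
    (hA2 : A ≠ ⊤) : mu A < Nat.card G := by
  classical
  obtain ⟨X, hX⟩ := Finite.exists_max (mu (G := G))
  set S : Finset (Subgroup G) := by
    haveI := Fintype.ofFinite (Subgroup G)
    exact Finset.univ.filter fun H => mu H = mu X
  have hS : ∀ H : Subgroup G, H ∈ S ↔ mu H = mu X := fun H => by simp [S]
  have hlat : ∀ H K : Subgroup G, mu H = mu X → mu K = mu X → mu (H ⊔ K) = mu X ∧ mu (H ⊓ K) = mu X ∧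
      ∀ x ∈ H ⊔ K, ∃ a ∈ H, ∃ b ∈ K, x = a * b := by
    intro H K hH hK
    obtain ⟨h1, h2⟩ := mu_mul_le H K
    rw [hH, hK] at h1 h2
    have hb := hX (H ⊔ K)
    have hc := hX (H ⊓ K)
    have hpos : 0 < mu X := Nat.mul_pos Nat.card_pos Nat.card_pos
    have e1 : mu (H ⊔ K) = mu X := le_antisymm hb
      (Nat.le_of_mul_le_mul_right (h1.trans (Nat.mul_le_mul_left _ hc)) hpos)
    have e2 : mu (H ⊓ K) = mu X := le_antisymm hc
      (Nat.le_of_mul_le_mul_left (h1.trans (Nat.mul_le_mul_right _ hb)) hpos)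
    exact ⟨e1, e2, h2 (by rw [e1, e2])⟩
  have hconj : ∀ (g : G) (H : Subgroup G), mu H = mu X → mu (H.map (MulAut.conj g).toMonoidHom) = mu X :=
    fun g H hH => (mu_map _ H).trans hH
  have hbotv : mu (⊥ : Subgroup G) = Nat.card G := by
    unfold mu
    rw [card_bot, one_mul, centralizer_eq_top_iff_subset.2 (by simp), card_top]
  have hZ : center G = ⊥ := by
    refine (IsSimpleGroup.eq_bot_or_eq_top_of_normal _ inferInstance).resolve_right fun h => hG ?_
    exact ⟨⟨fun a b => (mem_center_iff.1 (h ▸ mem_top b) a)⟩⟩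
  have htopv : mu (⊤ : Subgroup G) = Nat.card G := by
    unfold mu
    rw [coe_top, centralizer_univ, hZ, card_bot, mul_one, card_top]
  have hmax : mu X = Nat.card G := by
    obtain ⟨M, hM, hmin⟩ := Finset.exists_min_image S (fun H => Nat.card H) ⟨X, (hS X).2 rfl⟩
    have hMle : ∀ K : Subgroup G, mu K = mu X → M ≤ K := fun K hK => by
      have h1 := (hlat M K ((hS M).1 hM) hK).2.1
      have h2 := hmin _ ((hS _).2 h1)
      exact inf_eq_left.1 (eq_of_le_of_card_ge inf_le_left h2)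
    haveI : M.Normal := ⟨fun n hn g => by
      obtain ⟨m, hm, hme⟩ := hMle _ (hconj g⁻¹ M ((hS M).1 hM)) hn
      have : g * n * g⁻¹ = m := by rw [← hme]; simp [mul_assoc]
      rw [this]; exact hm⟩
    rcases IsSimpleGroup.eq_bot_or_eq_top_of_normal M inferInstance with h | h
    · rw [← (hS M).1 hM, h, hbotv]
    · rw [← (hS M).1 hM, h, htopv]
  refine lt_of_le_of_ne (hmax ▸ hX A) fun hAe => ?_
  set T : Finset (Subgroup G) := by
    haveI := Fintype.ofFinite (Subgroup G)
    exact Finset.univ.filter fun H => mu H = mu X ∧ H ≠ ⊤ ∧ A ≤ H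
  have hT : ∀ H : Subgroup G, H ∈ T ↔ mu H = mu X ∧ H ≠ ⊤ ∧ A ≤ H := fun H => by simp [T]
  obtain ⟨M, hM, hmx⟩ := Finset.exists_max_image T (fun H => Nat.card H)
    ⟨A, (hT A).2 ⟨hAe.trans hmax.symm, hA2, le_rfl⟩⟩
  obtain ⟨hMmu, hMtop, hAM⟩ := (hT M).1 hM
  have hfix : ∀ g : G, M.map (MulAut.conj g).toMonoidHom = M := by
    intro g
    set M' := M.map (MulAut.conj g).toMonoidHom
    obtain ⟨e1, -, e3⟩ := hlat M M' hMmu (hconj g M hMmu)
    by_contra hne
    have htop : M ⊔ M' = ⊤ := by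
      by_contra h
      have h2 := hmx _ ((hT _).2 ⟨e1, h, hAM.trans le_sup_left⟩)
      have h3 : M = M ⊔ M' := eq_of_le_of_card_ge le_sup_left h2
      have h4 : M' ≤ M := h3.symm ▸ le_sup_right
      exact hne (eq_of_le_of_card_ge h4 (card_map_of_injective (MulAut.conj g).injective).ge)
    obtain ⟨a, ha, b, hb, hab⟩ := e3 g⁻¹ (htop ▸ mem_top _)
    obtain ⟨c, hc, rfl⟩ := hb
    have hg : g = a⁻¹ * c⁻¹ := by
      have h5 : g⁻¹ = a * (g * c * g⁻¹) := hab
      have h6 : a * g * c = 1 := by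
        calc a * g * c = (a * (g * c * g⁻¹)) * g := by group
          _ = 1 := by rw [← h5, inv_mul_cancel]
      calc g = a⁻¹ * (a * g * c) * c⁻¹ := by group
        _ = a⁻¹ * c⁻¹ := by rw [h6, mul_one]
    apply hne
    have hgM : g ∈ M := hg ▸ mul_mem (inv_mem ha) (inv_mem hc)
    refine eq_of_le_of_card_ge ?_ (card_map_of_injective (MulAut.conj g).injective).ge
    rintro _ ⟨x, hx, rfl⟩
    exact mul_mem (mul_mem hgM hx) (inv_mem hgM)
  haveI : M.Normal := ⟨fun n hn g => by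
    have := mem_map_of_mem (MulAut.conj g).toMonoidHom hn
    rw [hfix g] at this
    simpa using this⟩
  rcases IsSimpleGroup.eq_bot_or_eq_top_of_normal M inferInstance with h | h
  · exact hA1 (le_bot_iff.1 (h ▸ hAM))
  · exact hMtop h

end Cfsg.Agent.Local.CDMeasure
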