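import Cfsg.Agent.Lib.Local.Standard
import Cfsg.Agent.Lib.Local.ComponentBalance
import Cfsg.Agent.Lib.Inv.ZStarCor
import Cfsg.Agent.Lib.Inv.CyclicSylow
import Cfsg.Agent.Lib.Struct.UniqueOrderP

/-!
# Components of 2-rank one give classical involutions
-/

set_option autoImplicit false
set_option linter.style.haveILetI false

namespace Cfsg.Agent.Local

open Subgroup Cfsg.Agent

variable {X : Type*} [Group X] [Finite X]

theorem twoRankOne_of_pRankLE {Y : Type*} [Group Y] (h : PRankLE 2 1 Y) : Inv.TwoRankOne Y := by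
  intro s t hs ht hc
  by_contra hne
  obtain ⟨E, hE, -⟩ := Inv.exists_klein hs ht hc hne
  haveI := hE
  have h1 := h E ⟨⟨fun a b => mul_comm_of_exponent_two IsKleinFour.exponent_two a b⟩⟩
    fun a ha => by
      have := congrArg Subtype.val (Monoid.pow_exponent_eq_one (⟨a, ha⟩ : E))
      rwa [IsKleinFour.exponent_two] at this
  rw [IsKleinFour.card_four, pow_one] at h1
  omega

/-- In a quasisimple group of even order and 2-rank one the involution is central. -/
theorem qs_involution_central (hX : IsQuasisimple X) (heven : Even (Nat.card X))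
    (h1 : Inv.TwoRankOne X) {t : X} (ht : orderOf t = 2) : t ∈ center X := by
  haveI : (oddCore X).Normal := (inferInstance : (pPrimeCore 2 X).Normal)
  have hcz : oddCore X ≤ center X := by
    refine (qs_normal_le_center_or_eq_top hX _).resolve_right fun e => ?_
    have hc := Solv.card_pPrimeCore_coprime 2 X
    rw [show pPrimeCore 2 X = oddCore X from rfl, e, card_top] at hc
    exact Nat.not_even_iff_odd.2 (Nat.coprime_two_right.1 hc) heven
  refine mem_center_iff.2 fun y => ?_
  have h := eq_self_of_mod_center (qs_top_commutator hX) (MulAut.conj t).toMonoidHom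
    (fun z => hcz (Inv.glauberman (h1.isolated ht) z)) y
  exact (mul_inv_eq_iff_eq_mul.1 (h : t * y * t⁻¹ = y)).symm

theorem qs_quaternion_sylow (hX : IsQuasisimple X) (heven : Even (Nat.card X))
    (h1 : Inv.TwoRankOne X) (S : Sylow 2 X) :
    ∃ n : ℕ, Nonempty (↥(S : Subgroup X) ≃* QuaternionGroup (2 ^ (n + 1))) := by
  haveI : Fact (Nat.Prime 2) := ⟨Nat.prime_two⟩
  have huniq : ∀ x y : (S : Subgroup X), orderOf x = 2 → y ^ 2 = 1 → y ∈ zpowers x := by
    intro x y hx hy
    rcases eq_or_ne y 1 with rfl | hy1
    · exact one_mem _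
    have hyo : orderOf y = 2 := orderOf_eq_prime hy hy1
    have e : y = x := Subtype.ext (h1 (y : X) (x : X) ((orderOf_coe y).trans hyo)
      ((orderOf_coe x).trans hx)
      (mem_center_iff.1 (qs_involution_central hX heven h1 ((orderOf_coe x).trans hx)) y))
    exact e ▸ mem_zpowers x
  rcases Struct.cyclic_or_quaternion S.isPGroup' huniq with hc | ⟨-, n, hn, he⟩
  · exfalso
    obtain ⟨H, hH⟩ := Inv.exists_index_two_of_cyclic_sylow heven S hc
    haveI := normal_of_index_eq_two hH
    rcases qs_normal_le_center_or_eq_top hX H with e | e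
    · haveI : (center X).Normal := inferInstance
      have hdvd := index_dvd_of_le e
      rw [hH] at hdvd
      haveI : IsCyclic (X ⧸ center X) := by
        rcases (Nat.dvd_prime Nat.prime_two).1 hdvd with h | h
        · exact absurd (index_eq_one.1 h) (qs_center_ne_top hX)
        · exact isCyclic_of_prime_card (p := 2) (by rw [← index_eq_card, h])
      exact qs_not_isMulCommutative_quotient hX IsCyclic.isMulCommutative
    · rw [e, index_top] at hH
      omega
  · obtain ⟨n, rfl⟩ : ∃ m, n = m + 1 := ⟨n - 1, by omega⟩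
    exact ⟨n, he⟩

theorem exists_classicalInvolution {G : Type*} [Group G] [Finite G] (x : G) (L : Subgroup G)
    (hLx : L ≤ centralizer ({x} : Set G))
    (hL : IsComponent (L.subgroupOf (centralizer ({x} : Set G))))
    (heven : Even (Nat.card L)) (hrk : PRankLE 2 1 L)
    (hne : ∀ y : G, orderOf y = 2 → y ∈ centralizer (L : Set G) →
      L ≤ centralizer ({y} : Set G) ∧ IsComponent (L.subgroupOf (centralizer ({y} : Set G)))) :
    ∃ t ∈ L, IsClassicalInvolution t := by
  haveI : Fact (Nat.Prime 2) := ⟨Nat.prime_two⟩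
  have hqs : IsQuasisimple L := qs_congr (subgroupOfEquivOfLe hLx) (h := hL.2)
  have h1 := twoRankOne_of_pRankLE hrk
  obtain ⟨t, ht⟩ := exists_prime_orderOf_dvd_card' (G := L) 2 (even_iff_two_dvd.1 heven)
  have htc := mem_center_iff.1 (qs_involution_central hqs heven h1 ht)
  have hto : orderOf (t : G) = 2 := (orderOf_coe t).trans ht
  obtain ⟨hle, hcomp⟩ := hne (t : G) hto fun l hl => congrArg Subtype.val (htc ⟨l, hl⟩)
  exact ⟨t, t.2, hto, L, hle, t.2, hcomp.1, default, qs_quaternion_sylow hqs heven h1 default⟩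

end Cfsg.Agent.Local
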