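import Cfsg.Prelude.Def_ConjugacyFunctors
import Cfsg.Prelude.Def_Transfer
import Cfsg.Agent.Lib.Solv.NormalPComplement
import Mathlib.GroupTheory.Sylow

/-!
Chains of conjugations, fully normalized subgroups, conjugation families, well-placed subgroups.
-/

set_option autoImplicit false
set_option linter.style.haveILetI false

namespace Cfsg.Agent.Local

open Subgroup

variable {G : Type*} [Group G]

/-- `g` is a product of elements normalizing members of `𝓕`, moving `A` through those members
(right conjugation). -/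
inductive Chain (𝓕 : Set (Subgroup G)) : Set G → G → Prop
  | nil (A : Set G) : Chain 𝓕 A 1
  | cons {A : Set G} {T : Subgroup G} {x g : G} (hT : T ∈ 𝓕)
      (hx : x ∈ Subgroup.normalizer (T : Set G)) (hA : A ⊆ T)
      (h : Chain 𝓕 ((fun a => x⁻¹ * a * x) '' A) g) : Chain 𝓕 A (x * g)

variable {𝓕 : Set (Subgroup G)}

theorem image_conj_one (A : Set G) : (fun a => (1 : G)⁻¹ * a * 1) '' A = A := by simp

theorem image_conj_mul (A : Set G) (x y : G) :
    (fun a => y⁻¹ * a * y) '' ((fun a => x⁻¹ * a * x) '' A) =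
      (fun a => (x * y)⁻¹ * a * (x * y)) '' A := by
  rw [Set.image_image]
  congr 1
  funext a
  group

theorem Chain.mono {A B : Set G} {g : G} (h : Chain 𝓕 A g) : B ⊆ A → Chain 𝓕 B g := by
  induction h generalizing B with
  | nil A => intro _; exact .nil B
  | cons hT hx hA _ ih => intro hBA; exact .cons hT hx (hBA.trans hA) (ih (Set.image_mono hBA))

theorem Chain.single {A : Set G} {T : Subgroup G} {x : G} (hT : T ∈ 𝓕)
    (hx : x ∈ Subgroup.normalizer (T : Set G)) (hA : A ⊆ T) : Chain 𝓕 A x := by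
  simpa using Chain.cons hT hx hA (Chain.nil _)

theorem Chain.trans {A : Set G} {g h : G} (h1 : Chain 𝓕 A g) :
    Chain 𝓕 ((fun a => g⁻¹ * a * g) '' A) h → Chain 𝓕 A (g * h) := by
  induction h1 with
  | nil A => intro h2; rw [image_conj_one] at h2; simpa using h2
  | @cons A T x g hT hx hA _ ih =>
    intro h2
    rw [mul_assoc]
    exact .cons hT hx hA (ih (by rwa [image_conj_mul]))

theorem Chain.symm {A : Set G} {g : G} (h1 : Chain 𝓕 A g) :
    Chain 𝓕 ((fun a => g⁻¹ * a * g) '' A) g⁻¹ := by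
  induction h1 with
  | nil A => simpa using Chain.nil (𝓕 := 𝓕) A
  | @cons A T x g hT hx hA _ ih =>
    rw [image_conj_mul] at ih
    refine (mul_inv_rev x g).symm ▸ (ih.trans (Chain.single hT (inv_mem hx) ?_))
    rw [image_conj_mul, mul_inv_cancel_right]
    rintro _ ⟨a, ha, rfl⟩
    exact (Subgroup.mem_normalizer_iff''.1 hx a).1 (hA ha)

theorem Chain.exists_list {A : Set G} {g : G} (h1 : Chain 𝓕 A g) :
    ∃ (n : ℕ) (T : Fin n → Subgroup G) (x : Fin n → G), (List.ofFn x).prod = g ∧
      (∀ i, T i ∈ 𝓕) ∧ (∀ i, x i ∈ Subgroup.normalizer ((T i : Subgroup G) : Set G)) ∧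
      (∀ h : 0 < n, A ⊆ T ⟨0, h⟩) ∧
      ∀ (i : Fin n) (h : i.val + 1 < n),
        (fun a => (((List.ofFn x).take (i.val + 1)).prod)⁻¹ * a *
          ((List.ofFn x).take (i.val + 1)).prod) '' A ⊆ T ⟨i.val + 1, h⟩ := by
  induction h1 with
  | nil A => exact ⟨0, Fin.elim0, Fin.elim0, by simp, Fin.rec0, Fin.rec0, fun h => absurd h (by omega), Fin.rec0⟩
  | @cons A T x g hT hx hA _ ih =>
    obtain ⟨n, Ts, xs, hprod, h1, h2, h3, h4⟩ := ih
    refine ⟨n + 1, Fin.cons T Ts, Fin.cons x xs, ?_, ?_, ?_, fun _ => hA, ?_⟩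
    · rw [List.ofFn_cons, List.prod_cons, hprod]
    · intro i; induction i using Fin.cases with
      | zero => exact hT
      | succ j => simpa using h1 j
    · intro i; induction i using Fin.cases with
      | zero => exact hx
      | succ j => simpa using h2 j
    · intro i hi
      rw [List.ofFn_cons]
      simp only [List.take_succ_cons, List.prod_cons]
      rw [show (⟨i.val + 1, hi⟩ : Fin (n + 1)) = Fin.succ ⟨i.val, by omega⟩ from rfl, Fin.cons_succ,
        ← image_conj_mul]
      rcases Nat.eq_zero_or_pos i.val with h0 | h0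
      · simp only [h0, List.take_zero, List.prod_nil]
        rw [image_conj_one]
        exact h3 (by omega)
      · obtain ⟨j, hj⟩ := Nat.exists_eq_succ_of_ne_zero h0.ne'
        have := h4 ⟨j, by omega⟩ (by simp only; omega)
        simpa [hj] using this

section Sylow

variable [Finite G] {p : ℕ} [Fact p.Prime]

theorem exists_conj_le_of_not_dvd_relIndex {R H U : Subgroup G} (hR : R ≤ H) (hRp : IsPGroup p R)
    (hidx : ¬ p ∣ R.relIndex H) (hU : U ≤ H) (hUp : IsPGroup p U) :
    ∃ n ∈ H, ∀ u ∈ U, n * u * n⁻¹ ∈ R := by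
  set P : Sylow p H := (hRp.of_equiv (subgroupOfEquivOfLe hR).symm).toSylow hidx with hPdef
  obtain ⟨T, hT⟩ := (hUp.of_equiv (subgroupOfEquivOfLe hU).symm).exists_le_sylow
  obtain ⟨n, hn⟩ := MulAction.exists_smul_eq H T P
  refine ⟨n, n.2, fun u hu => ?_⟩
  have h2 : n * ⟨u, hU hu⟩ * n⁻¹ ∈ (P : Subgroup H) := by
    rw [← hn, Sylow.coe_subgroup_smul]
    exact smul_mem_pointwise_smul _ (MulAut.conj n) _ (hT (show (⟨u, hU hu⟩ : H) ∈ U.subgroupOf H from hu))
  exact h2

theorem not_dvd_relIndex_of_le {R R' H : Subgroup G} (h : R ≤ R') (h' : R' ≤ H)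
    (hidx : ¬ p ∣ R.relIndex H) : ¬ p ∣ R'.relIndex H := fun hd =>
  hidx (hd.trans ⟨R.relIndex R', by rw [← relIndex_mul_relIndex R R' H h h']; ring⟩)

theorem eq_of_isPGroup_of_le {R R' H : Subgroup G} (h : R ≤ R') (h' : R' ≤ H)
    (hp' : IsPGroup p R') (hidx : ¬ p ∣ R.relIndex H) : R = R' := by
  refine le_antisymm h (relIndex_eq_one.1 ?_)
  obtain ⟨k, hk⟩ := IsPGroup.iff_card.1 hp'
  have hd : R.relIndex R' ∣ p ^ k := hk ▸ relIndex_dvd_card R R'
  obtain ⟨j, -, hj⟩ := (Nat.dvd_prime_pow (Fact.out : p.Prime)).1 hd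
  rcases j with _ | j
  · rwa [pow_zero] at hj
  · exfalso
    refine hidx (Dvd.dvd.trans ?_ ⟨R'.relIndex H, (relIndex_mul_relIndex R R' H h h').symm⟩)
    rw [hj]; exact dvd_pow_self p j.succ_ne_zero

/-- A `p`-subgroup of `H` is conjugate into `S`, so that the image is part of a Sylow of the image of `H`. -/
theorem exists_conj_sylow_of (S : Sylow p G) {H U : Subgroup G} (hU : U ≤ H) (hUp : IsPGroup p U) :
    ∃ g : G, (∀ u ∈ U, g * u * g⁻¹ ∈ (S : Subgroup G)) ∧
      ¬ p ∣ ((S : Subgroup G) ⊓ H.map (MulAut.conj g).toMonoidHom).relIndex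
        (H.map (MulAut.conj g).toMonoidHom) := by
  obtain ⟨P, hP⟩ := (hUp.of_equiv (subgroupOfEquivOfLe hU).symm).exists_le_sylow
  obtain ⟨T, hT⟩ := (P.isPGroup'.map H.subtype).exists_le_sylow
  obtain ⟨g, hg⟩ := MulAction.exists_smul_eq G T S
  have hmem : ∀ t ∈ (T : Subgroup G), g * t * g⁻¹ ∈ (S : Subgroup G) := fun t ht => by
    rw [← hg]; exact smul_mem_pointwise_smul t (MulAut.conj g) (T : Subgroup G) ht
  refine ⟨g, fun u hu => hmem u (hT ⟨⟨u, hU hu⟩, hP hu, rfl⟩), ?_⟩
  refine not_dvd_relIndex_of_le (R := ((P : Subgroup H).map H.subtype).map (MulAut.conj g).toMonoidHom)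
    (le_inf ?_ (map_mono (map_subtype_le _))) inf_le_right ?_
  · rintro _ ⟨u, hu, rfl⟩
    exact hmem u (hT hu)
  · rw [relIndex_map_map_of_injective _ _ (MulAut.conj g).injective]
    show ¬ p ∣ ((P : Subgroup H).map H.subtype).relIndex H
    have : ((P : Subgroup H).map H.subtype).relIndex H = (P : Subgroup H).index := by
      rw [relIndex, subgroupOf, comap_map_eq_self_of_injective H.subtype_injective]
    rw [this]
    exact P.not_dvd_index

theorem map_conj_normalizer (g : G) (T : Subgroup G) :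
    (Subgroup.normalizer (T : Set G)).map (MulAut.conj g).toMonoidHom =
      Subgroup.normalizer ((T.map (MulAut.conj g).toMonoidHom : Subgroup G) : Set G) :=
  map_equiv_normalizer_eq T (MulAut.conj g)

theorem exists_fullyNormalized (S : Sylow p G) (T : Subgroup G) (hT : T ≤ (S : Subgroup G)) :
    ∃ g : G, T.map (MulAut.conj g).toMonoidHom ≤ (S : Subgroup G) ∧
      ¬ p ∣ ((S : Subgroup G) ⊓ Subgroup.normalizer ((T.map (MulAut.conj g).toMonoidHom : Subgroup G) : Set G)).relIndex
        (Subgroup.normalizer ((T.map (MulAut.conj g).toMonoidHom : Subgroup G) : Set G)) := by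
  obtain ⟨g, h1, h2⟩ := exists_conj_sylow_of S (U := T) (H := Subgroup.normalizer (T : Set G))
    le_normalizer (S.isPGroup'.to_le hT)
  rw [map_conj_normalizer] at h2
  exact ⟨g, by rintro _ ⟨u, hu, rfl⟩; exact h1 u hu, h2⟩

theorem lt_sylow_inf_normalizer (S : Sylow p G) {T : Subgroup G} (hT : T < (S : Subgroup G)) :
    T < (S : Subgroup G) ⊓ Subgroup.normalizer (T : Set G) := by
  haveI := S.isPGroup'.isNilpotent
  have hlt : T.subgroupOf (S : Subgroup G) < ⊤ := lt_top_iff_ne_top.2 fun h =>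
    hT.not_ge (subgroupOf_eq_top.1 h)
  obtain ⟨w, hw, hwn⟩ := SetLike.exists_of_lt (Group.normalizerCondition_of_isNilpotent _ hlt)
  refine lt_of_le_of_ne (le_inf hT.le le_normalizer) fun e => hwn ?_
  show (w : G) ∈ T
  rw [e]
  refine ⟨w.2, ?_⟩
  rw [← subgroupOf_normalizer_eq hT.le] at hw
  exact hw

/-- Alperin-type theorem: a set of subgroups meeting every conjugacy class in a fully normalized
member is a conjugation family. -/
theorem chain_of_conjugates (S : Sylow p G) (𝓕 : Set (Subgroup G))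
    (h : ∀ T : Subgroup G, T ≤ (S : Subgroup G) → ∃ U ∈ 𝓕, U ≤ (S : Subgroup G) ∧
      (∃ g : G, T.map (MulAut.conj g).toMonoidHom = U) ∧
      ¬ p ∣ ((S : Subgroup G) ⊓ Subgroup.normalizer (U : Set G)).relIndex (Subgroup.normalizer (U : Set G)))
    (T : Subgroup G) : T ≤ (S : Subgroup G) → ∀ g : G, (∀ t ∈ T, g⁻¹ * t * g ∈ (S : Subgroup G)) →
      Chain 𝓕 (T : Set G) g := by
  suffices ∀ (k : ℕ) (T : Subgroup G), Nat.card (S : Subgroup G) ≤ k + Nat.card T →
      T ≤ (S : Subgroup G) → ∀ g : G, (∀ t ∈ T, g⁻¹ * t * g ∈ (S : Subgroup G)) →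
      Chain 𝓕 (T : Set G) g from this (Nat.card (S : Subgroup G)) T (Nat.le_add_right _ _)
  intro k
  induction k using Nat.strong_induction_on with
  | _ k ih =>
    intro T hk hTS g hg
    obtain ⟨U, hU, hUS, ⟨c, hc⟩, hidx⟩ := h T hTS
    have hcT : ∀ t : G, t ∈ T ↔ c * t * c⁻¹ ∈ U := by
      intro t
      rw [← hc]
      constructor
      · intro ht; exact ⟨t, ht, rfl⟩
      · rintro ⟨s, hs, he⟩
        have : s = t := (MulAut.conj c).injective he
        exact this ▸ hs
    rcases hTS.eq_or_lt with hTeq | hlt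
    · have hUeq : U = (S : Subgroup G) := eq_of_le_of_card_ge hUS (by
        rw [← hc, ← hTeq]
        exact (Nat.card_congr (T.equivMapOfInjective _ (MulAut.conj c).injective).toEquiv).le)
      refine Chain.single hU ?_ (by rw [hUeq, ← hTeq])
      rw [hUeq, mem_normalizer_iff'']
      have hfin : ∀ x, x ∈ (S : Subgroup G) → g⁻¹ * x * g ∈ (S : Subgroup G) := fun x hx => hg x (hTeq ▸ hx)
      intro x
      refine ⟨hfin x, fun hx => ?_⟩
      have hmap : (S : Subgroup G).map (MulAut.conj g⁻¹).toMonoidHom = (S : Subgroup G) := by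
        refine eq_of_le_of_card_ge ?_ (Nat.card_congr
          ((S : Subgroup G).equivMapOfInjective _ (MulAut.conj g⁻¹).injective).toEquiv).le
        rintro _ ⟨y, hy, rfl⟩
        simpa using hfin y hy
      rw [← hmap] at hx
      obtain ⟨y, hy, he⟩ := hx
      have : y = x := by
        simpa [mul_assoc] using he
      exact this ▸ hy
    -- a subgroup `T'` conjugate to `T` can be moved onto `U` by a chain
    have key : ∀ (T' : Subgroup G), T' < (S : Subgroup G) → ∀ d : G,
        (∀ t : G, t ∈ T' ↔ d⁻¹ * t * d ∈ U) → Nat.card T' = Nat.card T →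
        ∃ b : G, Chain 𝓕 (T' : Set G) b ∧ ∀ t : G, t ∈ T' ↔ b⁻¹ * t * b ∈ U := by
      intro T' hT' d hd hcard
      set N := Subgroup.normalizer (U : Set G)
      set M := (S : Subgroup G) ⊓ Subgroup.normalizer (T' : Set G) with hM
      have hMN : M.map (MulAut.conj d⁻¹).toMonoidHom ≤ N := by
        rintro _ ⟨m, hm, rfl⟩
        rw [mem_normalizer_iff]
        intro y
        have h1 := mem_normalizer_iff.1 hm.2 (d * y * d⁻¹)
        rw [hd, hd] at h1
        simpa [mul_assoc] using h1
      obtain ⟨n, hn, hn'⟩ := exists_conj_le_of_not_dvd_relIndex inf_le_right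
        (S.isPGroup'.to_le inf_le_left) hidx hMN
        ((S.isPGroup'.to_le inf_le_left).map _)
      refine ⟨d * n⁻¹, ?_, fun t => ?_⟩
      · have hlt' : T' < M := lt_sylow_inf_normalizer S hT'
        have h1 : Nat.card T' < Nat.card M := lt_of_le_of_ne (card_le_of_le hlt'.le)
          fun e => hlt'.ne (eq_of_le_of_card_ge hlt'.le e.ge)
        have hMS : Nat.card M ≤ Nat.card (S : Subgroup G) := card_le_of_le inf_le_left
        exact (ih (k - 1) (by omega) M (by omega) inf_le_left (d * n⁻¹) fun m hm => by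
          have h5 := (hn' _ ⟨m, hm, rfl⟩).1
          rw [show (d * n⁻¹)⁻¹ * m * (d * n⁻¹) = n * ((MulAut.conj d⁻¹).toMonoidHom m) * n⁻¹ by
            simp [mul_assoc]]
          exact h5).mono hlt'.le
      · rw [hd, mem_normalizer_iff.1 hn (d⁻¹ * t * d)]
        simp [mul_assoc]
    set T' := T.map (MulAut.conj g⁻¹).toMonoidHom with hT'def
    have hT'mem : ∀ t : G, t ∈ T' ↔ g * t * g⁻¹ ∈ T := by
      intro t
      constructor
      · rintro ⟨s, hs, rfl⟩; simpa [mul_assoc] using hs
      · intro ht; exact ⟨_, ht, by simp [mul_assoc]⟩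
    have hcard : Nat.card T' = Nat.card T :=
      (Nat.card_congr (T.equivMapOfInjective _ (MulAut.conj g⁻¹).injective).toEquiv).symm
    have hT'S : T' ≤ (S : Subgroup G) := fun t ht => by
      simpa [mul_assoc] using hg _ ((hT'mem t).1 ht)
    have hT'lt : T' < (S : Subgroup G) := lt_of_le_of_ne hT'S fun e => hlt.ne
      (eq_of_le_of_card_ge hTS (by rw [← hcard, e]))
    obtain ⟨b, hb, hbT⟩ := key T hlt c⁻¹ (fun t => by rw [hcT, inv_inv]) rfl
    obtain ⟨b', hb', hbT'⟩ := key T' hT'lt (g⁻¹ * c⁻¹)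
      (fun t => by rw [hT'mem, hcT]; simp [mul_assoc]) hcard
    have himg : (fun a => b⁻¹ * a * b) '' (T : Set G) = (U : Set G) := by
      ext y
      refine ⟨?_, fun hy => ⟨b * y * b⁻¹, (hbT _).2 (by simpa [mul_assoc] using hy), by group⟩⟩
      rintro ⟨a, ha, rfl⟩
      exact (hbT a).1 ha
    have himg' : (fun a => b'⁻¹ * a * b') '' (T' : Set G) = (U : Set G) := by
      ext y
      refine ⟨?_, fun hy => ⟨b' * y * b'⁻¹, (hbT' _).2 (by simpa [mul_assoc] using hy), by group⟩⟩
      rintro ⟨a, ha, rfl⟩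
      exact (hbT' a).1 ha
    set m := b⁻¹ * g * b' with hm
    have hmN : m ∈ Subgroup.normalizer (U : Set G) := by
      rw [mem_normalizer_iff]
      intro y
      have h1 : y ∈ U ↔ b' * y * b'⁻¹ ∈ T' := by rw [hbT']; simp [mul_assoc]
      rw [h1, hT'mem, hbT, hm]
      simp [mul_assoc]
    have hstep : (fun a => m⁻¹ * a * m) '' (U : Set G) = (U : Set G) := by
      ext y
      refine ⟨?_, fun hy => ⟨m * y * m⁻¹, (mem_normalizer_iff.1 hmN y).1 hy, by group⟩⟩
      rintro ⟨a, ha, rfl⟩
      exact (mem_normalizer_iff''.1 hmN a).1 ha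
    have h3 : Chain 𝓕 (U : Set G) b'⁻¹ := himg' ▸ hb'.symm
    have h2 : Chain 𝓕 (U : Set G) (m * b'⁻¹) :=
      (Chain.single hU hmN subset_rfl).trans (by rw [hstep]; exact h3)
    have h4 := hb.trans (h := m * b'⁻¹) (by rw [himg]; exact h2)
    rw [hm, show b * (b⁻¹ * g * b' * b'⁻¹) = g by group] at h4
    exact h4

/-- A set of subgroups of `S` containing a fully normalized member of each class is a conjugation family. -/
theorem isConjugationFamily_of_fullyNormalized (S : Sylow p G) (𝓕 : Set (Subgroup G))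
    (h𝓕 : ∀ U ∈ 𝓕, U ≤ (S : Subgroup G))
    (h : ∀ T : Subgroup G, T ≤ (S : Subgroup G) → ∃ U ∈ 𝓕,
      (∃ g : G, T.map (MulAut.conj g).toMonoidHom = U) ∧
      ¬ p ∣ ((S : Subgroup G) ⊓ Subgroup.normalizer (U : Set G)).relIndex (Subgroup.normalizer (U : Set G))) :
    IsConjugationFamily 𝓕 (S : Subgroup G) := by
  refine ⟨h𝓕, fun A g _ hA hAg => ?_⟩
  have hT : Subgroup.closure A ≤ (S : Subgroup G) := (closure_le _).2 hA
  have hg : ∀ t ∈ Subgroup.closure A, g⁻¹ * t * g ∈ (S : Subgroup G) := fun t ht => by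
    have : Subgroup.closure A ≤ (S : Subgroup G).comap (MulAut.conj g⁻¹).toMonoidHom :=
      (closure_le _).2 fun a ha => by simpa using hAg ⟨a, ha, rfl⟩
    simpa using this ht
  have hc := chain_of_conjugates S 𝓕 (fun T hT => by
    obtain ⟨U, hU, h1, h2⟩ := h T hT
    exact ⟨U, hU, h𝓕 U hU, h1, h2⟩) _ hT g hg
  exact (hc.mono subset_closure).exists_list

/-- Some conjugate is well placed. -/
theorem exists_isWellPlaced (S : Sylow p G) (W : Subgroup G → Subgroup G)
    (hW : IsConjugacyFunctor p W) (T : Subgroup G) (hT : T ≤ (S : Subgroup G)) :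
    ∃ g : G, IsWellPlaced p W (S : Subgroup G) (T.map (MulAut.conj g).toMonoidHom) ∧
      ∀ u ∈ (S : Subgroup G) ⊓ Subgroup.normalizer (T : Set G), g * u * g⁻¹ ∈ (S : Subgroup G) := by
  let N : Subgroup G → ℕ → Subgroup G := fun T i =>
    (S : Subgroup G) ⊓ Subgroup.normalizer ((functorTower W (S : Subgroup G) T i : Subgroup G) : Set G)
  have hNp : ∀ T i, IsPGroup p (N T i) := fun T i => S.isPGroup'.to_le inf_le_left
  have hsucc : ∀ T i, functorTower W (S : Subgroup G) T (i + 1) = W (N T i) := fun T i => rfl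
  have hUS : ∀ T, T ≤ (S : Subgroup G) → ∀ i, functorTower W (S : Subgroup G) T i ≤ (S : Subgroup G) := by
    intro T hT i
    cases i with
    | zero => exact hT
    | succ i => exact ((hW _ (hNp T i)).1).trans inf_le_left
  have hmono : ∀ T i, N T i ≤ N T (i + 1) := by
    intro T i x hx
    refine ⟨hx.1, ?_⟩
    show x ∈ Subgroup.normalizer ((W (N T i) : Subgroup G) : Set G)
    have h1 : (N T i).map (MulAut.conj x).toMonoidHom = N T i := by
      refine eq_of_le_of_card_ge ?_ (Nat.card_congr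
        ((N T i).equivMapOfInjective _ (MulAut.conj x).injective).toEquiv).le
      rintro _ ⟨y, hy, rfl⟩
      exact mul_mem (mul_mem hx hy) (inv_mem hx)
    have h2 := (hW _ (hNp T i)).2.2 x
    rw [h1] at h2
    rw [mem_normalizer_iff]
    intro y
    conv_rhs => rw [h2]
    constructor
    · exact fun hy => ⟨y, hy, rfl⟩
    · rintro ⟨z, hz, he⟩
      have : z = y := (MulAut.conj x).injective he
      exact this ▸ hz
  have hmono' : ∀ T, Monotone (N T) := fun T => monotone_nat_of_le_succ (hmono T)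
  suffices ∀ m : ℕ, ∃ g : G, T.map (MulAut.conj g).toMonoidHom ≤ (S : Subgroup G) ∧
      (∀ u ∈ (S : Subgroup G) ⊓ Subgroup.normalizer (T : Set G), g * u * g⁻¹ ∈ (S : Subgroup G)) ∧
      ∀ i < m, ¬ p ∣ (N (T.map (MulAut.conj g).toMonoidHom) i).relIndex
        (Subgroup.normalizer ((functorTower W (S : Subgroup G) (T.map (MulAut.conj g).toMonoidHom) i : Subgroup G) : Set G)) by
    obtain ⟨g, hg, hgN, hlev⟩ := this (Nat.card G + 2)
    refine ⟨g, ⟨hg, fun i => ?_⟩, hgN⟩
    set T' := T.map (MulAut.conj g).toMonoidHom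
    -- the chain of normalizers stabilizes
    obtain ⟨j, hj, hje⟩ : ∃ j ≤ Nat.card G, N T' j = N T' (j + 1) := by
      by_contra hne
      push Not at hne
      have : ∀ j ≤ Nat.card G + 1, j < Nat.card (N T' j) := by
        intro j hj
        induction j with
        | zero => exact Nat.card_pos
        | succ j ih =>
          have h1 := card_le_of_le (hmono T' j)
          have h2 : Nat.card (N T' j) ≠ Nat.card (N T' (j + 1)) := fun e =>
            hne j (by omega) (eq_of_le_of_card_ge (hmono T' j) e.ge)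
          have := ih (by omega)
          omega
      exact absurd (this (Nat.card G + 1) le_rfl) (by have := (N T' (Nat.card G + 1)).card_le_card_group; omega)
    have hconst : ∀ l, N T' (j + l) = N T' j ∧
        functorTower W (S : Subgroup G) T' (j + 1 + l) = functorTower W (S : Subgroup G) T' (j + 1) := by
      intro l
      induction l with
      | zero => exact ⟨rfl, rfl⟩
      | succ l ih =>
        have h1 : N T' (j + (l + 1)) = N T' j := by
          rw [hje, show j + (l + 1) = j + 1 + l by omega]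
          exact congrArg (fun U : Subgroup G => (S : Subgroup G) ⊓ Subgroup.normalizer (U : Set G)) ih.2
        refine ⟨h1, ?_⟩
        rw [show j + 1 + (l + 1) = (j + (l + 1)) + 1 by omega, hsucc, hsucc, h1]
    by_cases hi : i < Nat.card G + 2
    · exact hlev i hi
    · obtain ⟨l, rfl⟩ : ∃ l, i = j + 1 + l := ⟨i - (j + 1), by omega⟩
      show ¬ p ∣ ((S : Subgroup G) ⊓ Subgroup.normalizer
        ((functorTower W (S : Subgroup G) T' (j + 1 + l) : Subgroup G) : Set G)).relIndex _
      rw [(hconst l).2]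
      exact hlev (j + 1) (by omega)
  intro m
  induction m with
  | zero =>
    refine ⟨1, ?_, fun u hu => by rw [one_mul, inv_one, mul_one]; exact hu.1, fun i hi => absurd hi (by omega)⟩
    rintro _ ⟨t, ht, rfl⟩
    simpa using hT ht
  | succ m ih =>
    obtain ⟨g, hg, hgN, hlev⟩ := ih
    set T₁ := T.map (MulAut.conj g).toMonoidHom
    obtain ⟨x, hx1, hx2⟩ := exists_conj_sylow_of S
      (U := N T₁ m) (H := Subgroup.normalizer ((functorTower W (S : Subgroup G) T₁ m : Subgroup G) : Set G))
      inf_le_right (hNp T₁ m)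
    rw [map_conj_normalizer] at hx2
    have hT₁N : T₁ ≤ N T₁ m := (le_inf hg le_normalizer : T₁ ≤ N T₁ 0).trans (hmono' T₁ (Nat.zero_le m))
    have hT₂S : T₁.map (MulAut.conj x).toMonoidHom ≤ (S : Subgroup G) := by
      rintro _ ⟨t, ht, rfl⟩; exact hx1 t (hT₁N ht)
    have key : ∀ i ≤ m, functorTower W (S : Subgroup G) (T₁.map (MulAut.conj x).toMonoidHom) i =
        (functorTower W (S : Subgroup G) T₁ i).map (MulAut.conj x).toMonoidHom ∧
        (i < m → N (T₁.map (MulAut.conj x).toMonoidHom) i = (N T₁ i).map (MulAut.conj x).toMonoidHom) := by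
      intro i hi
      induction i with
      | zero =>
        refine ⟨rfl, fun h0 => ?_⟩
        refine (eq_of_isPGroup_of_le (H := Subgroup.normalizer ((T₁.map (MulAut.conj x).toMonoidHom : Subgroup G) : Set G))
          ?_ inf_le_right (hNp _ 0) ?_).symm
        · refine le_inf ?_ ((map_mono inf_le_right).trans (map_conj_normalizer x T₁).le)
          rintro _ ⟨t, ht, rfl⟩; exact hx1 t (hmono' T₁ (Nat.zero_le m) ht)
        · rw [← map_conj_normalizer, relIndex_map_map_of_injective _ _ (MulAut.conj x).injective]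
          exact hlev 0 h0
      | succ i ih =>
        have hU : functorTower W (S : Subgroup G) (T₁.map (MulAut.conj x).toMonoidHom) (i + 1) =
            (functorTower W (S : Subgroup G) T₁ (i + 1)).map (MulAut.conj x).toMonoidHom := by
          rw [hsucc, hsucc, (ih (by omega)).2 (by omega)]
          exact (hW _ (hNp T₁ i)).2.2 x
        refine ⟨hU, fun h1 => ?_⟩
        have hH : Subgroup.normalizer ((functorTower W (S : Subgroup G) (T₁.map (MulAut.conj x).toMonoidHom) (i + 1) : Subgroup G) : Set G) =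
            (Subgroup.normalizer ((functorTower W (S : Subgroup G) T₁ (i + 1) : Subgroup G) : Set G)).map (MulAut.conj x).toMonoidHom := by
          rw [hU, map_conj_normalizer]
        refine (eq_of_isPGroup_of_le (H := Subgroup.normalizer ((functorTower W (S : Subgroup G) (T₁.map (MulAut.conj x).toMonoidHom) (i + 1) : Subgroup G) : Set G))
          ?_ inf_le_right (hNp _ (i + 1)) ?_).symm
        · refine le_inf ?_ ((map_mono inf_le_right).trans hH.ge)
          rintro _ ⟨t, ht, rfl⟩; exact hx1 t (hmono' T₁ (by omega : i + 1 ≤ m) ht)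
        · rw [hH, relIndex_map_map_of_injective _ _ (MulAut.conj x).injective]
          exact hlev (i + 1) h1
    refine ⟨x * g, ?_⟩
    have hmap : T.map (MulAut.conj (x * g)).toMonoidHom = T₁.map (MulAut.conj x).toMonoidHom := by
      rw [map_map]; congr 1; ext y; simp [mul_assoc]
    rw [hmap]
    refine ⟨hT₂S, fun u hu => ?_, fun i hi => ?_⟩
    · have h1 : g * u * g⁻¹ ∈ N T₁ 0 :=
        ⟨hgN u hu, (map_conj_normalizer g T).le ⟨u, hu.2, rfl⟩⟩
      rw [show x * g * u * (x * g)⁻¹ = x * (g * u * g⁻¹) * x⁻¹ by group]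
      exact hx1 _ (hmono' T₁ (Nat.zero_le m) h1)
    rcases Nat.lt_succ_iff_lt_or_eq.1 hi with h | h
    · obtain ⟨h1, h2⟩ := key i h.le
      rw [h2 h, h1, ← map_conj_normalizer, relIndex_map_map_of_injective _ _ (MulAut.conj x).injective]
      exact hlev i h
    · subst h
      show ¬ p ∣ ((S : Subgroup G) ⊓ _).relIndex _
      rw [(key i le_rfl).1]
      exact hx2

end Sylow

end Cfsg.Agent.Local
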