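import Cfsg.Agent.Lib.Local.PComponent
import Cfsg.Agent.Lib.Solv.Coprime
import Cfsg.Agent.Lib.Solv.NormalPComplement
import Cfsg.Agent.Lib.Solv.Misc

/-!
Coprime operators commuting with a `p`-group normalize the components.
-/

set_option autoImplicit false
set_option linter.style.haveILetI false

namespace Cfsg.Agent.Local.LayerNorm

open Subgroup
open scoped commutatorElement

variable {G : Type*} [Group G] [Finite G] {p : ℕ} [hp : Fact p.Prime]

theorem mem_of_pow_prime_pow_mem {H : Subgroup G} {d : G} (hd : (orderOf d).Coprime p) {k : ℕ}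
    (h : d ^ p ^ k ∈ H) : d ∈ H := by
  have hc : (p ^ k).Coprime (orderOf d) := Nat.Coprime.pow_left k hd.symm
  obtain ⟨m, hm⟩ := exists_pow_eq_self_of_coprime hc
  rw [← hm]
  exact pow_mem h m

/-- The centre of a group generated by components lies in the `p`-core when the `p'`-core is trivial. -/
theorem inf_centralizer_le_pCore (hG : pPrimeCore p G = ⊥) (O : Set (Subgroup G))
    (hO : ∀ L ∈ O, IsComponent L) : sSup O ⊓ centralizer ((sSup O : Subgroup G) : Set G) ≤ pCore p G := by
  haveI : (layer G).Normal := layer_normal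
  set ZL := layer G ⊓ centralizer ((layer G : Subgroup G) : Set G) with hZL
  have h1 : sSup O ⊓ centralizer ((sSup O : Subgroup G) : Set G) ≤ ZL := by
    have hle : sSup O ≤ layer G := sSup_le_sSup hO
    refine le_inf (inf_le_left.trans hle) (le_centralizer_iff.1 (sSup_le fun L hL => ?_))
    by_cases hLO : L ∈ O
    · exact (le_sSup hLO).trans (le_centralizer_iff.1 inf_le_right)
    · refine le_centralizer_iff.1 (inf_le_left.trans (sSup_le fun L' hL' => ?_))
      exact commutator_eq_bot_iff_le_centralizer.1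
        (components_commute (hO L' hL') hL fun e => hLO (e ▸ hL'))
  refine h1.trans (Solv.le_pCore fun x => ?_)
  -- elements of order prime to `p` are trivial
  have hkill : ∀ y ∈ ZL, (orderOf y).Coprime p → y = 1 := by
    intro y hy hc
    have hn : ((zpowers y).subgroupOf ZL).Normal := ⟨fun a ha g => by
      have h2 : (g : G) * a * (g : G)⁻¹ = a := by
        rw [← (mem_centralizer_iff.1 g.2.2 (a : G) a.2.1), mul_inv_cancel_right]
      show (((g * a * g⁻¹ : ZL) : G)) ∈ zpowers y
      rw [coe_mul, coe_mul, coe_inv, h2]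
      exact ha⟩
    have hsn : (((zpowers y).subgroupOf ZL).map ZL.subtype).IsSubnormal :=
      hn.isSubnormal.trans' (Normal.isSubnormal inferInstance)
    rw [map_subgroupOf_eq_of_le (zpowers_le.2 hy)] at hsn
    have hle := le_pPrimeCore_of_isSubnormal (p := p) hsn (by rwa [Nat.card_zpowers])
    rw [hG, le_bot_iff, zpowers_eq_bot] at hle
    exact hle
  obtain ⟨v, m, hm, he⟩ := Nat.exists_eq_pow_mul_and_not_dvd (orderOf_pos (x : G)).ne' p hp.out.ne_one
  refine ⟨v, Subtype.ext ?_⟩
  refine hkill _ (pow_mem x.2 _) ?_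
  rw [SubmonoidClass.coe_pow, orderOf_pow, he, Nat.gcd_eq_right (dvd_mul_right _ _), Nat.mul_div_cancel_left _ (pow_pos hp.out.pos v)]
  exact (hp.out.coprime_iff_not_dvd.2 hm).symm

/-- A coprime group normal in the centralizer of a `p`-group normalizes every component. -/
theorem normalizes_component (hG : pPrimeCore p G = ⊥) (R D : Subgroup G) (hR : IsPGroup p R)
    (hDR : D ≤ centralizer (R : Set G)) (hDn : centralizer (R : Set G) ≤ normalizer (D : Set G))
    (hDc : (Nat.card D).Coprime p) (hDP : D ≤ centralizer ((pCore p G : Subgroup G) : Set G))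
    {K : Subgroup G} (hK : IsComponent K) {d : G} (hd : d ∈ D) : d ∈ normalizer (K : Set G) := by
  classical
  let cj : G → Subgroup G → Subgroup G := fun g L => L.map (MulAut.conj g).toMonoidHom
  have hcc : ∀ a b L, cj a (cj b L) = cj (a * b) L := fun a b L => by
    simp only [cj, map_map]; congr 1; ext y; simp [mul_assoc]
  have hc1 : ∀ L, cj 1 L = L := fun L => by
    simp only [cj]
    convert map_id L
    ext; simp
  have hnorm : ∀ g, cj g K = K → g ∈ normalizer (K : Set G) := by
    intro g hg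
    rw [mem_normalizer_iff]
    intro w
    conv_rhs => rw [← hg]
    constructor
    · exact fun hw => ⟨w, hw, rfl⟩
    · rintro ⟨w', hw', he⟩
      exact (MulAut.conj g).injective he ▸ hw'
  have hdR : ∀ r ∈ R, r * d = d * r := fun r hr => mem_centralizer_iff.1 (hDR hd) r hr
  by_cases hcase : ∃ r ∈ R, cj d K = cj r K
  · obtain ⟨r, hr, he⟩ := hcase
    have h1 : r⁻¹ * d ∈ normalizer (K : Set G) :=
      hnorm _ (by rw [← hcc, he, hcc, inv_mul_cancel, hc1])
    obtain ⟨k, hk⟩ := hR ⟨r, hr⟩
    have hk' : r ^ p ^ k = 1 := congrArg Subtype.val hk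
    have h2 := pow_mem h1 (p ^ k)
    rw [(show Commute r⁻¹ d from (show Commute r d from hdR r hr).inv_left).mul_pow, inv_pow, hk', inv_one,
      one_mul] at h2
    exact mem_of_pow_prime_pow_mem (hDc.coprime_dvd_left (Subgroup.orderOf_dvd_natCard D hd)) h2
  exfalso
  push Not at hcase
  set O : Set (Subgroup G) := (fun r => cj r K) '' (R : Set G) with hOdef
  set E := sSup O with hE
  have hOc : ∀ L ∈ O, IsComponent L := by rintro _ ⟨r, -, rfl⟩; exact isComponent_conj hK r
  have hKE : K ≤ E := le_sSup ⟨1, R.one_mem, hc1 K⟩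
  have hRE : R ≤ normalizer (E : Set G) := by
    refine Solv.le_normalizer_of_conj_mem fun r hr x hx => ?_
    have h : E.map (MulAut.conj r).toMonoidHom ≤ E := by
      rw [map_le_iff_le_comap]
      refine sSup_le ?_
      rintro _ ⟨s, hs, rfl⟩
      rw [← map_le_iff_le_comap]
      exact le_sSup ⟨r * s, mul_mem hr hs, (hcc r s K).symm⟩
    exact h ⟨x, hx, rfl⟩
  -- the translated orbit centralizes the orbit
  have hEd : cj d E ≤ centralizer (E : Set G) := by
    simp only [cj]
    rw [map_le_iff_le_comap]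
    refine sSup_le ?_
    rintro _ ⟨s, hs, rfl⟩
    rw [← map_le_iff_le_comap, le_centralizer_iff]
    refine sSup_le ?_
    rintro _ ⟨r, hr, rfl⟩
    refine commutator_eq_bot_iff_le_centralizer.1
      (components_commute (isComponent_conj hK r) (isComponent_conj (isComponent_conj hK s) d) fun e => ?_)
    have e' : cj r K = cj d (cj s K) := e
    rw [hcc, ← hdR s hs, ← hcc] at e'
    refine hcase (s⁻¹ * r) (mul_mem (inv_mem hs) hr) ?_
    rw [← hcc, e', hcc, inv_mul_cancel, hc1]
  -- a Sylow subgroup of the orbit group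
  set H := E ⊔ R with hH
  obtain ⟨P₀, hP₀⟩ := (hR.comap_subtype (K := H)).exists_le_sylow
  set SE := (P₀ : Subgroup H).map H.subtype ⊓ E with hSE
  have hP₀p : IsPGroup p ((P₀ : Subgroup H).map H.subtype) := P₀.isPGroup'.map _
  have hRP₀ : R ≤ (P₀ : Subgroup H).map H.subtype := fun r hr =>
    ⟨⟨r, mem_sup_right hr⟩, hP₀ hr, rfl⟩
  have hRS : R ≤ normalizer (SE : Set G) := Solv.le_normalizer_inf (hRP₀.trans le_normalizer) hRE
  have hSEp : IsPGroup p SE := hP₀p.to_le inf_le_left
  set L₀ := SE ⊓ centralizer (E : Set G) with hL₀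
  have hSL : ¬ SE ≤ L₀ := by
    intro hle
    haveI hEn : (E.subgroupOf H).Normal :=
      normal_subgroupOf_of_le_normalizer (sup_le le_normalizer hRE)
    have hidx : ¬ p ∣ (SE.subgroupOf E).index := by
      intro hd'
      have h0 := Solv.index_sylow_inf_subnormal (E.subgroupOf H) (Normal.isSubnormal inferInstance) P₀
      refine h0 (hd'.trans (dvd_of_eq ?_))
      show SE.relIndex E = (P₀ : Subgroup H).relIndex (E.subgroupOf H)
      rw [hSE, inf_relIndex_right]
      conv_lhs => rw [show E = (E.subgroupOf H).map H.subtype from (map_subgroupOf_eq_of_le le_sup_left).symm]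
      exact relIndex_map_map_of_injective _ _ H.subtype_injective
    have hTp : IsPGroup p (SE.subgroupOf E) := hSEp.comap_subtype
    let T : Sylow p E := hTp.toSylow hidx
    have hcen : ∀ t ∈ (T : Subgroup E), ∀ x : E, t * x = x * t := fun t ht x =>
      Subtype.ext (mem_centralizer_iff.1 (hle ht).2 x x.2).symm
    have hN : normalizer ((T : Subgroup E) : Set E) ≤ centralizer ((T : Subgroup E) : Set E) :=
      fun x _ t ht => hcen t ht x
    letI : CommGroup (T : Subgroup E) :=
      { (inferInstance : Group (T : Subgroup E)) with mul_comm := fun a b => Subtype.ext (hcen a a.2 b) }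
    have hker := MonoidHom.ker_transferSylow_isComplement' T hN
    have hperf : _root_.commutator E = ⊤ := by
      apply map_injective E.subtype_injective
      rw [← MonoidHom.range_eq_map, range_subtype, map_subtype_commutator]
      refine le_antisymm (commutator_le_self E) (sSup_le fun L hL => ?_)
      exact (component_eq_commutator (hOc L hL)).ge.trans (commutator_mono (le_sSup hL) (le_sSup hL))
    have hktop : (MonoidHom.transferSylow T hN).ker = ⊤ :=
      top_le_iff.1 (hperf.ge.trans (Abelianization.commutator_subset_ker _))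
    rw [hktop, isComplement'_top_left] at hker
    have hEc : (Nat.card E).Coprime p := by
      refine (hp.out.coprime_iff_not_dvd.2 fun hd' => ?_).symm
      exact (T.ne_bot_of_dvd_card hd') hker
    have := le_pPrimeCore_of_isSubnormal (p := p) hK.1 (hEc.coprime_dvd_left (card_dvd_of_le hKE))
    rw [hG, le_bot_iff] at this
    exact component_ne_bot hK this
  -- an element centralized by `R` modulo the centre
  obtain ⟨e, heS, heL, hec⟩ : ∃ e ∈ SE, e ∉ L₀ ∧ ∀ r ∈ R, ⁅e, r⁆ ∈ L₀ := by
    set P₁ := SE ⊔ R with hP₁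
    have hP₁p : IsPGroup p P₁ := hSEp.to_sup_of_normal_left' hR hRS
    have hP₁S : P₁ ≤ normalizer (SE : Set G) := sup_le le_normalizer hRS
    obtain ⟨U, hU, hmin⟩ := (Set.toFinite {U : Subgroup G | U ≤ SE ∧ P₁ ≤ normalizer (U : Set G) ∧ ¬ U ≤ L₀}).exists_minimal
      ⟨SE, le_rfl, hP₁S, hSL⟩
    obtain ⟨hUS, hUP, hUL⟩ := hU
    have hU0 : U ≠ ⊥ := fun h => hUL (h ▸ bot_le)
    have hlt := Solv.commutator_lt_of_nilpotent hP₁p.isNilpotent (hUS.trans le_sup_left) hUP hU0
    have hle : ⁅U, P₁⁆ ≤ L₀ := by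
      by_contra hne
      exact hlt.not_ge (hmin ⟨hlt.le.trans hUS, Subgroup.normalizer_commutator_ge_right U P₁, hne⟩ hlt.le)
    obtain ⟨e, heU, heL⟩ := SetLike.not_le_iff_exists.1 hUL
    exact ⟨e, hUS heU, heL, fun r hr => hle (commutator_mem_commutator heU (mem_sup_right hr))⟩
  -- transport by `d`
  set R₁ := R ⊔ (E ⊓ centralizer (E : Set G)) with hR₁
  have hZP : E ⊓ centralizer (E : Set G) ≤ pCore p G := inf_centralizer_le_pCore hG O hOc
  have hDR₁ : D ≤ centralizer (R₁ : Set G) := by
    rw [le_centralizer_iff, hR₁]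
    exact sup_le (le_centralizer_iff.1 hDR) (hZP.trans (le_centralizer_iff.1 hDP))
  set C₁ := centralizer (R₁ : Set G) with hC₁
  have hDnorm : C₁ ≤ normalizer (D : Set G) := (centralizer_le (le_sup_left : R ≤ R₁)).trans hDn
  set D₁ := (pPrimeCore p C₁).map C₁.subtype with hD₁
  have hDD₁ : D ≤ D₁ := by
    haveI : (D.subgroupOf C₁).Normal := normal_subgroupOf_of_le_normalizer hDnorm
    have h1 : D.subgroupOf C₁ ≤ pPrimeCore p C₁ :=
      Solv.le_pPrimeCore (by rw [Solv.card_subgroupOf hDR₁]; exact hDc)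
    exact (map_subgroupOf_eq_of_le hDR₁).ge.trans (map_mono h1)
  have heE : e ∈ E := heS.2
  have heR₁ : e ∈ normalizer (R₁ : Set G) := by
    have h : R₁.map (MulAut.conj e).toMonoidHom ≤ R₁ := by
      rw [hR₁, Subgroup.map_sup]
      refine sup_le ?_ ?_
      · rintro _ ⟨r, hr, rfl⟩
        show e * r * e⁻¹ ∈ R ⊔ (E ⊓ centralizer (E : Set G))
        rw [show e * r * e⁻¹ = ⁅e, r⁆ * r by rw [commutatorElement_def]; group]
        exact mul_mem (mem_sup_right ⟨(hec r hr).1.2, (hec r hr).2⟩) (mem_sup_left hr)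
      · rintro _ ⟨z, hz, rfl⟩
        show e * z * e⁻¹ ∈ R ⊔ (E ⊓ centralizer (E : Set G))
        rw [mem_centralizer_iff.1 hz.2 e heE, mul_inv_cancel_right]
        exact mem_sup_right hz
    have hm : R₁.map (MulAut.conj e).toMonoidHom = R₁ := eq_of_le_of_card_ge h
      (Nat.card_congr (R₁.equivMapOfInjective _ (MulAut.conj e).injective).toEquiv).le
    rw [mem_normalizer_iff]
    intro w
    conv_rhs => rw [← hm]
    constructor
    · exact fun hw => ⟨w, hw, rfl⟩
    · rintro ⟨w', hw', he⟩
      exact (MulAut.conj e).injective he ▸ hw'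
  have heD₁ : ∀ x ∈ D₁, e * x * e⁻¹ ∈ D₁ := by
    rintro _ ⟨x, hx, rfl⟩
    have hC : ∀ g ∈ normalizer (R₁ : Set G), ∀ c ∈ C₁, g * c * g⁻¹ ∈ C₁ := fun g hg c hc => by
      rw [hC₁, mem_centralizer_iff]
      intro z hz
      have h2 := mem_centralizer_iff.1 hc _ ((mem_normalizer_iff''.1 hg z).1 hz)
      calc z * (g * c * g⁻¹) = g * ((g⁻¹ * z * g) * c) * g⁻¹ := by group
        _ = g * c * g⁻¹ * z := by rw [h2]; group
    let φ : C₁ ≃* C₁ :=
      { toFun := fun c => ⟨e * c * e⁻¹, hC e heR₁ c c.2⟩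
        invFun := fun c => ⟨e⁻¹ * c * e, by simpa using hC e⁻¹ (inv_mem heR₁) c c.2⟩
        left_inv := fun c => Subtype.ext (by simp [mul_assoc])
        right_inv := fun c => Subtype.ext (by simp [mul_assoc])
        map_mul' := fun a b => Subtype.ext (by simp [mul_assoc]) }
    exact ⟨φ x, (Solv.pPrimeCore_map_equiv p φ).le ⟨x, hx, rfl⟩, rfl⟩
  set e' := d * e * d⁻¹ with he'
  have hcomm : Commute e' e := (mem_centralizer_iff.1 (hEd ⟨e, heE, rfl⟩) e heE).symm
  have hmem : e' * e⁻¹ ∈ D₁ := by
    rw [he', show d * e * d⁻¹ * e⁻¹ = d * (e * d⁻¹ * e⁻¹) by group]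
    exact mul_mem (hDD₁ hd) (heD₁ _ (inv_mem (hDD₁ hd)))
  have hee : e' = e := by
    obtain ⟨k, hk⟩ := hSEp ⟨e, heS⟩
    have hk' : e ^ p ^ k = 1 := congrArg Subtype.val hk
    have h1 : (e' * e⁻¹) ^ p ^ k = 1 := by
      rw [hcomm.inv_right.mul_pow, inv_pow, hk', he', conj_pow, hk']; group
    have h2 : (Nat.card D₁).Coprime p := by
      rw [hD₁, card_map_of_injective C₁.subtype_injective]; exact Solv.card_pPrimeCore_coprime p C₁
    exact mul_inv_eq_one.1 (orderOf_eq_one_iff.1 (Nat.eq_one_of_dvd_coprimes (h2.pow_right k)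
      (Subgroup.orderOf_dvd_natCard D₁ hmem) (orderOf_dvd_of_pow_eq_one h1)))
  refine heL ⟨heS, ?_⟩
  rw [← hee]
  exact hEd ⟨e, heE, rfl⟩

end Cfsg.Agent.Local.LayerNorm
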