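import Cfsg.Agent.Lib.Local.QuotientLocal
import Cfsg.Agent.Lib.Local.PGroup
import Cfsg.Agent.Lib.Local.LayerNormalize
import Cfsg.Agent.Lib.Inv.SylowCentralizer

/-!
# L-balance
-/

set_option autoImplicit false
set_option linter.style.haveILetI false

namespace Cfsg.Agent.Local

open Subgroup
open scoped commutatorElement

variable {G : Type*} [Group G] [Finite G] {p : ℕ} [hp : Fact p.Prime]

/-- The intersection of the normalizers of the components. -/
def compNormalizer (G : Type*) [Group G] : Subgroup G :=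
  ⨅ L : {L : Subgroup G // IsComponent L}, normalizer ((L : Subgroup G) : Set G)

omit [Finite G] in
theorem le_compNormalizer_iff {W : Subgroup G} :
    W ≤ compNormalizer G ↔
      ∀ L : Subgroup G, IsComponent L → W ≤ normalizer (L : Set G) := by
  rw [compNormalizer, le_iInf_iff]
  exact ⟨fun h L hL => h ⟨L, hL⟩, fun h L => h L L.2⟩

/-- The invariant carried through the induction in the proof of L-balance. -/
def LBalInv (p : ℕ) (T R W : Subgroup G) : Prop :=
  W ≤ centralizer ((T ⊔ R : Subgroup G) : Set G) ∧ ⁅W, W⁆ = W ∧ W ≠ ⊥ ∧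
    (∀ M : Subgroup G, M ≤ W → (M.subgroupOf W).Normal → (M.relIndex W).Coprime p → M = W) ∧
    ⁅W, centralizer ((T ⊔ R : Subgroup G) : Set G) ⊓ layer G⁆ ≤
      (pPrimeCore p ↥(centralizer ((T ⊔ R : Subgroup G) : Set G))).map
        (centralizer ((T ⊔ R : Subgroup G) : Set G)).subtype ∧
    W ≤ centralizer (pCore p G : Set G)

theorem oddCore_layer_eq_bot (hO : oddCore G = ⊥) : oddCore ↥(layer G) = ⊥ := by
  haveI := layer_normal (G := G)
  rw [← Subgroup.map_eq_bot_iff_of_injective _ (layer G).subtype_injective (f := (layer G).subtype)]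
  show (pPrimeCore 2 ↥(layer G)).map (layer G).subtype = ⊥
  rw [Solv.pPrimeCore_map_subtype]
  exact le_bot_iff.1 (inf_le_left.trans hO.le)

/-- The centralizer of the layer is the whole centralizer of its image modulo that centralizer. -/
theorem centralizer_image_layer :
    centralizer ((layer G).map (QuotientGroup.mk' ((centralizer (layer G : Set G)).normalCore)) :
      Set (G ⧸ (centralizer (layer G : Set G)).normalCore)) = ⊥ := by
  haveI := layer_normal (G := G)
  set E := layer G with hE
  set C := (centralizer (E : Set G)).normalCore with hC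
  have hCeq : C = centralizer (E : Set G) := by
    rw [hC]
    exact le_antisymm (normalCore_le _) ((normal_le_normalCore).2 le_rfl)
  set f := QuotientGroup.mk' C with hf
  rw [eq_bot_iff]
  intro x hx
  obtain ⟨g, rfl⟩ := QuotientGroup.mk'_surjective C x
  have h1 : ⁅⁅zpowers g, E⁆, E⁆ = ⊥ := by
    rw [commutator_eq_bot_iff_le_centralizer, commutator_le]
    intro y hy e he
    obtain ⟨i, rfl⟩ := mem_zpowers_iff.1 hy
    rw [← hCeq, ← QuotientGroup.ker_mk' C, MonoidHom.mem_ker, map_commutatorElement,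
      commutatorElement_eq_one_iff_mul_comm]
    have hcm := mem_centralizer_iff.1 (zpow_mem hx i) (f e) ⟨e, he, rfl⟩
    rw [map_zpow]
    exact hcm.symm
  have h2 : ⁅⁅E, zpowers g⁆, E⁆ = ⊥ := by rwa [commutator_comm E (zpowers g)]
  have h3 := commutator_commutator_eq_bot_of_rotate h2 h1
  rw [layer_commutator, commutator_comm, commutator_eq_bot_iff_le_centralizer] at h3
  rw [mem_bot, QuotientGroup.mk'_apply, QuotientGroup.eq_one_iff, hCeq]
  exact h3 (mem_zpowers g)

/-- The centre of the layer is a 2-group when the core is trivial. -/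
theorem center_layer_isPGroup (hO : oddCore G = ⊥) :
    IsPGroup 2 ↥(center ↥(layer G)) := by
  haveI : Fact (Nat.Prime 2) := ⟨Nat.prime_two⟩
  haveI := layer_normal (G := G)
  have hle : (center ↥(layer G)).map (layer G).subtype ≤ pCore 2 G := by
    rw [← Solv.fittingSubgroup_eq_pCore hO]
    haveI : ((center ↥(layer G)).map (layer G).subtype).Normal := inferInstance
    have hcomm := commutative_center_map (layer G)
    exact Solv.le_fittingSubgroup (Subgroup.isNilpotent_of_ker_le_center
      (1 : ↥((center ↥(layer G)).map (layer G).subtype) →* Unit)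
      fun x _ => mem_center_iff.2 fun g => hcomm.is_comm.comm g x)
  exact ((Solv.isPGroup_pCore 2 G).to_le hle).of_equiv
    ((center ↥(layer G)).equivMapOfInjective _ (layer G).subtype_injective).symm

theorem oddCore_quotient_center {E : Type*} [Group E] [Finite E] (hE : oddCore E = ⊥)
    (Z : Subgroup E) [Z.Normal] (hZ : Z ≤ center E) (hZp : IsPGroup 2 Z) :
    oddCore (E ⧸ Z) = ⊥ := by
  haveI : Fact (Nat.Prime 2) := ⟨Nat.prime_two⟩
  set N := (oddCore (E ⧸ Z)).comap (QuotientGroup.mk' Z) with hN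
  haveI : N.Normal := (inferInstance : (oddCore (E ⧸ Z)).Normal).comap _
  have hZN : Z ≤ N := by
    rw [hN]
    exact (QuotientGroup.ker_mk' Z).ge.trans (ker_le_comap _ _)
  have hcard : Nat.card N = Nat.card Z * Nat.card (oddCore (E ⧸ Z)) :=
    Solv.card_comap_mk' Z _
  have hodd : (Nat.card (oddCore (E ⧸ Z))).Coprime 2 := Solv.card_pPrimeCore_coprime 2 _
  have hidx : ¬ 2 ∣ (Z.subgroupOf N).index := by
    have h := (Z.subgroupOf N).card_mul_index
    rw [Solv.card_subgroupOf hZN, hcard] at h
    rw [Nat.eq_of_mul_eq_mul_left Nat.card_pos h]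
    exact Nat.prime_two.coprime_iff_not_dvd.1 hodd.symm
  let P : Sylow 2 N := (hZp.comap_of_injective N.subtype N.subtype_injective).toSylow hidx
  have hnpc : HasNormalPComplement 2 N := Solv.hasNormalPComplement_of_burnside P fun c _ => by
    rw [mem_centralizer_iff]
    intro z hz
    exact Subtype.ext (mem_center_iff.1 (hZ hz) (c : E)).symm
  have h0 : pPrimeCore 2 N = ⊥ := by
    rw [← Subgroup.map_eq_bot_iff_of_injective _ N.subtype_injective (f := N.subtype),
      Solv.pPrimeCore_map_subtype]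
    exact le_bot_iff.1 (inf_le_left.trans hE.le)
  have hc := Solv.isComplement'_pPrimeCore hnpc P
  have htop : (P : Subgroup N) = ⊤ := by
    rw [← hc.sup_eq_top, h0, bot_sup_eq]
  rw [eq_bot_iff]
  intro x hx
  obtain ⟨y, rfl⟩ := QuotientGroup.mk'_surjective Z x
  have : (⟨y, hx⟩ : N) ∈ (P : Subgroup N) := htop ▸ mem_top _
  rw [mem_bot, QuotientGroup.mk'_apply, QuotientGroup.eq_one_iff]
  exact this

omit [Finite G] in
theorem le_centralizer_sup {W A B : Subgroup G} (hA : W ≤ centralizer (A : Set G))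
    (hB : W ≤ centralizer (B : Set G)) : W ≤ centralizer ((A ⊔ B : Subgroup G) : Set G) :=
  le_centralizer_iff.2 (sup_le (le_centralizer_iff.1 hA) (le_centralizer_iff.1 hB))

omit hp in
/-- The invariant is inconsistent with centralizing the layer. -/
theorem lBalInv_false_of_centralizes [Fact p.Prime] (hO : pPrimeCore p G = ⊥) {T R W : Subgroup G}
    (h : LBalInv p T R W) (hWE : W ≤ centralizer ((layer G) : Set G)) : False := by
  obtain ⟨-, hWp, hW1, -, -, hWQ⟩ := h
  have hF : generalizedFittingSubgroup G = (layer G) ⊔ pCore p G := by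
    rw [generalizedFittingSubgroup, Solv.fittingSubgroup_eq_pCore hO]
  have hcent : W ≤ centralizer (generalizedFittingSubgroup G : Set G) := by
    rw [hF]
    exact le_centralizer_sup hWE hWQ
  have hWF := hcent.trans centralizer_generalizedFitting_le
  apply hW1
  rw [← hWp, commutator_eq_bot_iff_le_centralizer]
  exact hcent.trans (centralizer_le hWF)

/-- End of the induction: no perfect group of the required kind centralises a Sylow subgroup of
the layer. -/
theorem lBalInv_sylow_false (hO : oddCore G = ⊥) {T W : Subgroup G} (S : Sylow 2 ↥(layer G))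
    (h : LBalInv 2 T ((S : Subgroup ↥(layer G)).map (layer G).subtype) W) : False := by
  haveI : Fact (Nat.Prime 2) := ⟨Nat.prime_two⟩
  haveI := layer_normal (G := G)
  obtain ⟨hWc, hWp, -, hWodd, -, -⟩ := id h
  set C := (centralizer ((layer G) : Set G)).normalCore with hC
  have hCeq : C = centralizer ((layer G) : Set G) := by
    rw [hC]
    exact le_antisymm (normalCore_le _) ((normal_le_normalCore).2 le_rfl)
  set f := QuotientGroup.mk' C with hf
  set E' := (layer G).map f with hE'
  haveI : E'.Normal := Subgroup.Normal.map inferInstance f (QuotientGroup.mk'_surjective C)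
  set g : ↥(layer G) →* ↥E' := f.subgroupMap (layer G) with hg
  have hgs : Function.Surjective g := f.subgroupMap_surjective (layer G)
  have hgker : g.ker = center ↥(layer G) := by
    ext x
    rw [MonoidHom.mem_ker, mem_center_iff]
    constructor
    · intro hx y
      have : (x : G) ∈ C := (QuotientGroup.eq_one_iff _).1 (congrArg Subtype.val hx)
      rw [hCeq] at this
      exact Subtype.ext (mem_centralizer_iff.1 this y y.2)
    · intro hx
      refine Subtype.ext ((QuotientGroup.eq_one_iff _).2 ?_)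
      rw [hCeq, mem_centralizer_iff]
      intro y hy
      exact congrArg Subtype.val (hx ⟨y, hy⟩)
  have hE'0 : oddCore ↥E' = ⊥ := by
    have h0 : oddCore (↥(layer G) ⧸ g.ker) = ⊥ := oddCore_quotient_center (oddCore_layer_eq_bot hO) g.ker
      hgker.le (by rw [hgker]; exact center_layer_isPGroup hO)
    show pPrimeCore 2 ↥E' = ⊥
    rw [← Solv.pPrimeCore_map_equiv 2 (QuotientGroup.quotientKerEquivOfSurjective g hgs)]
    change (oddCore (↥(layer G) ⧸ g.ker)).map _ = ⊥
    rw [h0, Subgroup.map_bot]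
  have hnpc := Inv.centralizer_sylow_npc E' hE'0 centralizer_image_layer (S.mapSurjective hgs)
  set A := centralizer ((((S.mapSurjective hgs : Sylow 2 ↥E') : Subgroup ↥E').map E'.subtype :
    Subgroup (G ⧸ C)) : Set (G ⧸ C)) with hA
  have hWA : ∀ w ∈ W, f w ∈ A := by
    intro w hw
    rw [hA, mem_centralizer_iff]
    rintro _ ⟨y, ⟨s, hs, rfl⟩, rfl⟩
    show f (s : G) * f w = f w * f (s : G)
    rw [← map_mul, ← map_mul, mem_centralizer_iff.1 (hWc hw) (s : G)
      (mem_sup_right ⟨s, hs, rfl⟩)]
  let φ : ↥W →* ↥A := (f.comp W.subtype).codRestrict A fun w => hWA w w.2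
  have hWtop : ⁅(⊤ : Subgroup ↥W), (⊤ : Subgroup ↥W)⁆ = ⊤ := by
    refine map_injective W.subtype_injective ?_
    rw [map_commutator, ← MonoidHom.range_eq_map, range_subtype]
    exact hWp
  have hWcore : ∀ w, φ w ∈ pPrimeCore 2 ↥A := by
    obtain ⟨k, hk⟩ := Solv.hasNormalPComplement_iff_index.1 hnpc
    have hq : IsPGroup 2 (↥A ⧸ pPrimeCore 2 ↥A) := IsPGroup.of_card hk
    haveI := hq.isNilpotent
    set ψ := (QuotientGroup.mk' (pPrimeCore 2 ↥A)).comp φ with hψ
    have hsol : Group.IsSolvable ↥ψ.range := inferInstance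
    have hperf : ⁅ψ.range, ψ.range⁆ = ψ.range := by
      rw [MonoidHom.range_eq_map, ← map_commutator, hWtop]
    have hbot : ψ.range = ⊥ := by
      by_contra hne
      haveI := (nontrivial_iff_ne_bot _).2 hne
      apply (Group.IsSolvable.commutator_lt_top_of_nontrivial ↥ψ.range).ne
      refine map_injective ψ.range.subtype_injective ?_
      rw [map_subtype_commutator, ← MonoidHom.range_eq_map, range_subtype]
      exact hperf
    intro w
    have : ψ w ∈ (⊥ : Subgroup (↥A ⧸ pPrimeCore 2 ↥A)) := hbot ▸ ⟨w, rfl⟩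
    exact (QuotientGroup.eq_one_iff _).1 this
  have hodd : φ.ker.index.Coprime 2 := by
    rw [index_ker]
    exact (Solv.card_pPrimeCore_coprime 2 ↥A).coprime_dvd_left
      (card_dvd_of_le (by rintro _ ⟨w, rfl⟩; exact hWcore w))
  have hker : φ.ker.map W.subtype = W := by
    refine hWodd _ (map_subtype_le _) ?_ ?_
    · rw [subgroupOf, comap_map_eq_self_of_injective W.subtype_injective]
      infer_instance
    · rw [relIndex, subgroupOf, comap_map_eq_self_of_injective W.subtype_injective]
      exact hodd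
  have hWE : W ≤ centralizer ((layer G) : Set G) := by
    rw [← hCeq, ← hker]
    rintro _ ⟨w, hw, rfl⟩
    exact (QuotientGroup.eq_one_iff _).1 (congrArg Subtype.val hw)
  exact lBalInv_false_of_centralizes hO h hWE

/-- The step of the induction. -/
theorem lBalInv_step (hO : pPrimeCore p G = ⊥) {T R W : Subgroup G} (hT : IsPGroup p T)
    (hR : IsPGroup p R) (hRE : R ≤ layer G) (hTR : T ≤ normalizer (R : Set G))
    (hns : ¬ ∃ S : Sylow p ↥(layer G), (S : Subgroup ↥(layer G)).map (layer G).subtype = R)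
    (h : LBalInv p T R W) :
    ∃ R₁ W₁ : Subgroup G, R < R₁ ∧ IsPGroup p R₁ ∧ R₁ ≤ layer G ∧
      T ≤ normalizer (R₁ : Set G) ∧ LBalInv p T R₁ W₁ ∧
      (W₁ ≤ compNormalizer G → W ≤ compNormalizer G) := by
  haveI := layer_normal (G := G)
  obtain ⟨hWc, hWp, hW1, hWodd, hWD, hWQ⟩ := h
  set E := layer G with hE
  -- a `T`-invariant 2-subgroup of the layer properly containing `R`
  have hTRp : IsPGroup p (R ⊔ T : Subgroup G) := hR.to_sup_of_normal_left' hT hTR
  obtain ⟨P₀, hP₀⟩ := (hTRp.comap_of_injective (E ⊔ T : Subgroup G).subtype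
    (E ⊔ T : Subgroup G).subtype_injective).exists_le_sylow
  set P := (P₀ : Subgroup ↥(E ⊔ T : Subgroup G)).map (E ⊔ T : Subgroup G).subtype with hP
  have hPp : IsPGroup p P := P₀.isPGroup'.map _
  have hRTP : R ⊔ T ≤ P := by
    rw [← map_subgroupOf_eq_of_le (sup_le_sup hRE le_rfl : R ⊔ T ≤ E ⊔ T)]
    exact map_mono hP₀
  set S := P ⊓ E with hS
  have hRS : R < S := by
    refine lt_of_le_of_ne (le_inf (le_sup_left.trans hRTP) hRE) fun e => hns ?_
    obtain ⟨Q, hQ⟩ := (hR.comap_of_injective E.subtype E.subtype_injective).exists_le_sylow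
    refine ⟨Q, le_antisymm ?_ ?_⟩
    · obtain ⟨T₁, hT₁⟩ := ((Q.isPGroup'.map E.subtype).comap_of_injective
        (E ⊔ T : Subgroup G).subtype (E ⊔ T : Subgroup G).subtype_injective).exists_le_sylow
      obtain ⟨n, hn⟩ := MulAction.exists_smul_eq ↥(E ⊔ T : Subgroup G) T₁ P₀
      refine (eq_of_le_of_card_ge ?_ ?_).ge
      · rw [← map_subgroupOf_eq_of_le hRE]; exact map_mono hQ
      · rw [e]
        refine Nat.card_le_card_of_injective
          (fun y : ↥((Q : Subgroup ↥E).map E.subtype) =>
            (⟨(n : G) * y * (n : G)⁻¹, ⟨⟨n * ⟨y, mem_sup_left (map_subtype_le _ y.2)⟩ * n⁻¹, ?_,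
              rfl⟩, (inferInstance : E.Normal).conj_mem _ (map_subtype_le _ y.2) _⟩⟩ : S))
          fun a b e' => Subtype.ext (by simpa using congrArg Subtype.val e')
        rw [← hn, Sylow.coe_subgroup_smul]
        exact smul_mem_pointwise_smul _ (MulAut.conj n) _ (hT₁ (y.2 : (y : G) ∈ _))
    · rw [← map_subgroupOf_eq_of_le hRE]; exact map_mono hQ
  -- `Y = N_S(R) T`
  set N₁ := S ⊓ normalizer (R : Set G) with hN₁
  have hRN₁ : R < N₁ := by
    haveI := (hPp.to_le (inf_le_left : S ≤ P)).isNilpotent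
    have h1 : R.subgroupOf S < ⊤ := lt_top_iff_ne_top.2 fun e =>
      hRS.not_ge (subgroupOf_eq_top.1 e)
    obtain ⟨w, hw, hwn⟩ := SetLike.exists_of_lt (Group.normalizerCondition_of_isNilpotent _ h1)
    refine lt_of_le_of_ne (le_inf hRS.le le_normalizer) fun e => hwn ?_
    show (w : G) ∈ R
    rw [e]
    refine ⟨w.2, ?_⟩
    rw [← subgroupOf_normalizer_eq hRS.le] at hw
    exact hw
  have hTN₁ : T ≤ normalizer (N₁ : Set G) := by
    refine Solv.le_normalizer_inf (Solv.le_normalizer_inf ((le_sup_right.trans hRTP).trans le_normalizer) ?_)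
      (hTR.trans le_normalizer)
    rw [normalizer_eq_top_iff.2 (inferInstance : E.Normal)]; exact le_top
  set Y := N₁ ⊔ T with hY
  have hYP : Y ≤ P := sup_le (inf_le_left.trans inf_le_left) (le_sup_right.trans hRTP)
  have hYR : Y ≤ normalizer (R : Set G) := sup_le inf_le_right hTR
  haveI : (R.subgroupOf Y).Normal := normal_subgroupOf_of_le_normalizer hYR
  haveI : (N₁.subgroupOf Y).Normal :=
    normal_subgroupOf_of_le_normalizer (sup_le le_normalizer hTN₁)
  set π₁ := QuotientGroup.mk' (R.subgroupOf Y) with hπ₁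
  haveI := Subgroup.Normal.map (inferInstance : (N₁.subgroupOf Y).Normal) π₁
    (QuotientGroup.mk'_surjective _)
  have hne : (N₁.subgroupOf Y).map π₁ ≠ ⊥ := by
    rw [Ne, Subgroup.map_eq_bot_iff, hπ₁, QuotientGroup.ker_mk']
    intro hle
    refine hRN₁.not_ge fun x hx => ?_
    exact hle (show (⟨x, mem_sup_left hx⟩ : Y) ∈ N₁.subgroupOf Y from hx)
  have hq : IsPGroup p (↥Y ⧸ R.subgroupOf Y) :=
    (hPp.to_le hYP).to_quotient _
  have hz := inf_center_ne_bot hq _ hne
  obtain ⟨z, hzmem, hz1⟩ := (Subgroup.ne_bot_iff_exists_ne_one).1 hz |>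
    fun ⟨⟨z, hzm⟩, hz'⟩ => (⟨z, hzm, fun e => hz' (Subtype.ext e)⟩ :
      ∃ z, z ∈ (N₁.subgroupOf Y).map π₁ ⊓ center (↥Y ⧸ R.subgroupOf Y) ∧ z ≠ 1)
  obtain ⟨⟨r, hrY⟩, hrN, rfl⟩ := hzmem.1
  have hrR : r ∉ R := fun hr => hz1 ((QuotientGroup.eq_one_iff _).2 hr)
  have hrcomm : ∀ t ∈ T, t * r * t⁻¹ * r⁻¹ ∈ R := by
    intro t ht
    have h1 := mem_center_iff.1 hzmem.2 (π₁ ⟨t, mem_sup_right ht⟩)
    rw [hπ₁] at h1
    have h2 : (⟨t, mem_sup_right ht⟩ * ⟨r, hrY⟩ * ⟨t, mem_sup_right ht⟩⁻¹ *
        ⟨r, hrY⟩⁻¹ : Y) ∈ R.subgroupOf Y := by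
      rw [← QuotientGroup.eq_one_iff, ← QuotientGroup.mk'_apply]
      simp only [map_mul, map_inv]
      rw [h1]
      group
    exact h2
  have hrE : r ∈ E := (show r ∈ N₁ from hrN).1.2
  have hrNR : r ∈ normalizer (R : Set G) := (show r ∈ N₁ from hrN).2
  set R₁ := R ⊔ zpowers r with hR₁
  have hR₁P : R₁ ≤ P := sup_le (le_sup_left.trans hRTP) (zpowers_le.2 (hYP hrY))
  have hR₁E : R₁ ≤ E := sup_le hRE (zpowers_le.2 hrE)
  have hTR₁ : T ≤ normalizer (R₁ : Set G) := by
    refine Solv.le_normalizer_of_conj_mem fun t ht x hx => ?_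
    suffices R₁.map (MulAut.conj t).toMonoidHom ≤ R₁ from this ⟨x, hx, rfl⟩
    rw [hR₁, Subgroup.map_sup, sup_le_iff, MonoidHom.map_zpowers, zpowers_le]
    refine ⟨?_, ?_⟩
    · rintro _ ⟨y, hy, rfl⟩
      exact mem_sup_left ((mem_normalizer_iff.1 (hTR ht) y).1 hy)
    · have h1 := mul_mem (mem_sup_left (hrcomm t ht) : _ ∈ R ⊔ zpowers r)
        (mem_sup_right (mem_zpowers r))
      rwa [inv_mul_cancel_right] at h1
  -- the centralizer of `T R` and its core
  set CR := centralizer ((T ⊔ R : Subgroup G) : Set G) with hCR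
  set O₁ := (pPrimeCore p ↥CR).map CR.subtype with hO₁
  have hrTR : r ∈ normalizer ((T ⊔ R : Subgroup G) : Set G) := by
    refine mem_normalizer_iff_map_conj_eq.2 (eq_of_le_of_card_ge ?_
      (Fusion.card_map_conj r _).ge)
    show (T ⊔ R).map (MulAut.conj r).toMonoidHom ≤ T ⊔ R
    rw [Subgroup.map_sup, sup_le_iff]
    refine ⟨?_, ?_⟩
    · rintro _ ⟨t, ht, rfl⟩
      show r * t * r⁻¹ ∈ T ⊔ R
      rw [show r * t * r⁻¹ = (t * r * t⁻¹ * r⁻¹)⁻¹ * t by group]
      exact mul_mem (inv_mem (mem_sup_right (hrcomm t ht))) (mem_sup_left ht)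
    · rintro _ ⟨y, hy, rfl⟩
      exact mem_sup_right ((mem_normalizer_iff.1 hrNR y).1 hy)
  have hrCR : r ∈ normalizer (CR : Set G) := by
    have key : ∀ s ∈ normalizer ((T ⊔ R : Subgroup G) : Set G), ∀ c ∈ CR, s * c * s⁻¹ ∈ CR := by
      intro s hs c hc
      rw [hCR, mem_centralizer_iff]
      intro y hy
      have h2 := mem_centralizer_iff.1 hc _ ((mem_normalizer_iff''.1 hs y).1 hy)
      calc y * (s * c * s⁻¹) = s * ((s⁻¹ * y * s) * c) * s⁻¹ := by group
        _ = s * (c * (s⁻¹ * y * s)) * s⁻¹ := by rw [h2]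
        _ = s * c * s⁻¹ * y := by group
    rw [mem_normalizer_iff]
    intro c
    exact ⟨key r hrTR c, fun hc => by simpa [mul_assoc] using key _ (inv_mem hrTR) _ hc⟩
  haveI := Solv.pPrimeCore_characteristic p ↥CR
  set M := normalizer (O₁ : Set G) with hM
  have hCRM : CR ≤ M := fun c hc => Inv.normalizer_map_char (pPrimeCore p ↥CR) (le_normalizer hc)
  have hrM : r ∈ M := Inv.normalizer_map_char (pPrimeCore p ↥CR) hrCR
  have hRM : R ≤ M := by
    refine le_trans ?_ (show normalizer (CR : Set G) ≤ M from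
      fun c hc => Inv.normalizer_map_char (pPrimeCore p ↥CR) hc)
    exact (le_sup_right : R ≤ T ⊔ R).trans
      (le_centralizer_iff.1 le_rfl |>.trans (centralizer_le_normalizer _))
  set O := O₁.subgroupOf M with hOdef
  haveI : O.Normal := normal_in_normalizer
  have hO₁le : O₁ ≤ CR := map_subtype_le _
  have hOcop : (Nat.card O).Coprime p := by
    rw [hOdef, Solv.card_subgroupOf le_normalizer, hO₁, Solv.card_map_subtype]
    exact Solv.card_pPrimeCore_coprime p ↥CR
  set π := QuotientGroup.mk' O with hπ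
  set Wm := W.subgroupOf M with hWm
  have hWM : W ≤ M := hWc.trans hCRM
  have hWmp : ⁅Wm, Wm⁆ = Wm := by
    refine map_injective M.subtype_injective ?_
    rw [map_commutator, hWm, map_subgroupOf_eq_of_le hWM]
    exact hWp
  set rM : M := ⟨r, hrM⟩ with hrMdef
  have hcomm1 : ∀ w ∈ Wm, ∀ d : M, (d : G) ∈ CR ⊓ E → π w * π d = π d * π w := by
    intro w hw d hd
    rw [← commutatorElement_eq_one_iff_mul_comm, ← map_commutatorElement]
    exact (QuotientGroup.eq_one_iff _).2 (hWD (commutator_mem_commutator hw hd))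
  have hrW : ∀ w ∈ Wm, π rM * π w = π w * π rM := by
    have hD : ⁅Wm.map π, zpowers (π rM)⁆ ≤ centralizer (Wm.map π : Set (M ⧸ O)) := by
      rw [← MonoidHom.map_zpowers, ← map_commutator]
      rintro _ ⟨d, hd, rfl⟩
      rw [mem_centralizer_iff]
      rintro _ ⟨w, hw, rfl⟩
      refine hcomm1 w hw d ?_
      have hle : ⁅Wm, zpowers rM⁆ ≤ (CR ⊓ E).subgroupOf M := by
        rw [commutator_le]
        intro a ha b hb
        obtain ⟨i, rfl⟩ := mem_zpowers_iff.1 hb
        show ((⁅a, rM ^ i⁆ : M) : G) ∈ CR ⊓ E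
        have e : ((⁅a, rM ^ i⁆ : M) : G) = (a : G) * (r ^ i * (a : G)⁻¹ * (r ^ i)⁻¹) := by
          rw [commutatorElement_def]; push_cast; simp [rM, mul_assoc]
        refine ⟨?_, ?_⟩
        · rw [e]
          exact mul_mem (hWc ha) ((mem_normalizer_iff.1 (zpow_mem hrCR i) _).1 (inv_mem (hWc ha)))
        · have e' : ((⁅a, rM ^ i⁆ : M) : G) = (a : G) * r ^ i * (a : G)⁻¹ * (r ^ i)⁻¹ := by
            rw [commutatorElement_def]; push_cast; simp [rM]
          rw [e']
          exact E.mul_mem ((inferInstance : E.Normal).conj_mem _ (E.zpow_mem hrE i) _)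
            (E.inv_mem (E.zpow_mem hrE i))
      exact hle hd
    have h1 : ⁅⁅Wm.map π, zpowers (π rM)⁆, Wm.map π⁆ = ⊥ :=
      commutator_eq_bot_iff_le_centralizer.2 hD
    have h2 : ⁅⁅zpowers (π rM), Wm.map π⁆, Wm.map π⁆ = ⊥ := by
      rwa [commutator_comm (zpowers (π rM))]
    have h3 := commutator_commutator_eq_bot_of_rotate h1 h2
    rw [← map_commutator, hWmp, commutator_eq_bot_iff_le_centralizer] at h3
    intro w hw
    exact (mem_centralizer_iff.1 (h3 (mem_map_of_mem π hw)) _ (mem_zpowers _))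
  -- pass to the centralizer of `R₁`
  set Rm := R₁.subgroupOf M with hRm
  have hR₁M : R₁ ≤ M := sup_le hRM (zpowers_le.2 hrM)
  have hWcent : ∀ w ∈ Wm, π w ∈ centralizer (Rm.map π : Set (M ⧸ O)) := by
    intro w hw
    have hle : Rm.map π ≤ centralizer ({π w} : Set (M ⧸ O)) := by
      rw [map_le_iff_le_comap, hRm, hR₁, subgroupOf_sup hRM (zpowers_le.2 hrM)]
      refine sup_le ?_ ?_
      · intro y hy
        rw [mem_comap, mem_centralizer_singleton_iff, ← map_mul, ← map_mul]
        exact congrArg π (Subtype.ext (mem_centralizer_iff.1 (hWc hw) (y : G) (mem_sup_right hy)))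
      · rintro y hy
        obtain ⟨i, hi⟩ := mem_zpowers_iff.1 (show (y : G) ∈ zpowers r from hy)
        rw [show y = rM ^ i from Subtype.ext (by simp [rM, hi]), mem_comap,
          mem_centralizer_singleton_iff, map_zpow]
        exact ((show Commute (π rM) (π w) from hrW w hw).zpow_left i).eq
    exact mem_centralizer_iff.2 fun y hy => mem_centralizer_singleton_iff.1 (hle hy)
  have hRmp : IsPGroup p Rm := (hPp.to_le hR₁P).comap_of_injective M.subtype M.subtype_injective
  have hcover : W ≤ O₁ ⊔ ((W ⊔ O₁) ⊓ centralizer (R₁ : Set G)) := by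
    intro w hw
    obtain ⟨c, hc, hce⟩ := (map_centralizer_eq hRmp O hOcop).ge
      (hWcent ⟨w, hWM hw⟩ hw)
    have ho : (c : G) * w⁻¹ ∈ O₁ := by
      have : π (c * ⟨w, hWM hw⟩⁻¹) = 1 := by rw [map_mul, map_inv, hce, mul_inv_cancel]
      exact ((QuotientGroup.eq_one_iff _).1 this : c * ⟨w, hWM hw⟩⁻¹ ∈ O)
    rw [show w = ((c : G) * w⁻¹)⁻¹ * (c : G) by group]
    refine mul_mem_sup (inv_mem ho) ⟨?_, mem_centralizer_iff.2 fun y hy => ?_⟩
    · rw [show (c : G) = (c : G) * w⁻¹ * w by group]
      exact mul_mem (mem_sup_right ho) (mem_sup_left hw)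
    · exact congrArg Subtype.val
        (mem_centralizer_iff.1 hc ⟨y, hR₁M hy⟩ (show (y : G) ∈ R₁ from hy))
  have hO₁Q : O₁ ≤ centralizer (pCore p G : Set G) := by
    refine Solv.thompson_pq p (T ⊔ R) O₁ (pCore p G) ?_ ?_ (Solv.isPGroup_pCore p G) ?_
      (le_normalizer_pCore _) (le_normalizer_pCore _) ?_
    · rwa [sup_comm]
    · rw [hO₁, Solv.card_map_subtype]; exact Solv.card_pPrimeCore_coprime p ↥CR
    · rw [le_centralizer_iff]; exact hO₁le
    · haveI : (pCore p G).Normal := by haveI := Solv.pCore_characteristic p G; infer_instance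
      intro x hx
      rw [mem_centralizer_iff]
      intro o ho
      replace ho : o ∈ O₁ := ho
      have hp : IsPGroup p ↥(pCore p G ⊓ CR : Subgroup G) :=
        (Solv.isPGroup_pCore p G).to_le inf_le_left
      have hxCR : x ∈ CR := hx.2
      have h2 : o * x * o⁻¹ * x⁻¹ ∈ ((pCore p G ⊓ CR) ⊓ O₁ : Subgroup G) := by
        refine ⟨⟨(pCore p G).mul_mem ((inferInstance : (pCore p G).Normal).conj_mem x hx.1 o)
          ((pCore p G).inv_mem hx.1),
          ?_⟩, ?_⟩
        · exact CR.mul_mem (CR.mul_mem (CR.mul_mem (hO₁le ho) hxCR) (CR.inv_mem (hO₁le ho)))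
            (CR.inv_mem hxCR)
        · rw [show o * x * o⁻¹ * x⁻¹ = o * (x * o⁻¹ * x⁻¹) by group]
          exact O₁.mul_mem ho ((mem_normalizer_iff.1 (hCRM hxCR) _).1 (O₁.inv_mem ho))
      rw [Solv.inf_eq_bot_of_isPGroup hp (by
        rw [hO₁, Solv.card_map_subtype]; exact Solv.card_pPrimeCore_coprime p ↥CR), mem_bot,
        mul_inv_eq_one, mul_inv_eq_iff_eq_mul] at h2
      exact h2
  obtain ⟨W₁, hW₁⟩ := exists_minimal_of_wellFoundedLT
    (fun V : Subgroup G => V ≤ (W ⊔ O₁) ⊓ centralizer (R₁ : Set G) ∧ W ≤ O₁ ⊔ V) ⟨_, le_rfl, hcover⟩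
  have hW₁le : W₁ ≤ (W ⊔ O₁) ⊓ centralizer (R₁ : Set G) := hW₁.1.1
  have hW₁cov : W ≤ O₁ ⊔ W₁ := hW₁.1.2
  have hmin : ∀ V : Subgroup G, V ≤ W₁ → W ≤ O₁ ⊔ V → V = W₁ := fun V hV hV' =>
    le_antisymm hV (hW₁.2 ⟨hV.trans hW₁le, hV'⟩ hV)
  have hWCR : W ⊔ O₁ ≤ CR := sup_le hWc hO₁le
  have hW₁CR : W₁ ≤ CR := hW₁le.trans (inf_le_left.trans hWCR)
  -- images modulo `O₁`
  have hmapW : (W₁.subgroupOf M).map π = Wm.map π := by
    apply le_antisymm
    · have : W₁.subgroupOf M ≤ Wm ⊔ O := by
        rw [hWm, hOdef, ← subgroupOf_sup hWM le_normalizer]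
        exact fun y hy => (hW₁le hy).1
      refine (map_mono this).trans (le_of_eq ?_)
      rw [Subgroup.map_sup, hπ, (Subgroup.map_eq_bot_iff O).2 (QuotientGroup.ker_mk' O).ge,
        sup_bot_eq]
    · have : Wm ≤ O ⊔ W₁.subgroupOf M := by
        rw [hWm, hOdef, ← subgroupOf_sup le_normalizer (hW₁CR.trans hCRM)]
        exact fun y hy => hW₁cov hy
      refine (map_mono this).trans (le_of_eq ?_)
      rw [Subgroup.map_sup, hπ, (Subgroup.map_eq_bot_iff O).2 (QuotientGroup.ker_mk' O).ge,
        bot_sup_eq]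
  have hcov_of_map : ∀ V : Subgroup G, V ≤ W₁ → Wm.map π ≤ (V.subgroupOf M).map π →
      W ≤ O₁ ⊔ V := by
    intro V hV hle w hw
    obtain ⟨v, hv, e⟩ := hle (mem_map_of_mem π (show (⟨w, hWM hw⟩ : M) ∈ Wm from hw))
    have ho : (w : G) * (v : G)⁻¹ ∈ O₁ := by
      have : π (⟨w, hWM hw⟩ * v⁻¹) = 1 := by rw [map_mul, map_inv, e, mul_inv_cancel]
      exact ((QuotientGroup.eq_one_iff _).1 this : ⟨w, hWM hw⟩ * v⁻¹ ∈ O)
    rw [show w = w * (v : G)⁻¹ * (v : G) by group]
    exact mul_mem_sup ho hv
  have hW₁M : W₁ ≤ M := hW₁CR.trans hCRM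
  refine ⟨R₁, W₁, lt_of_le_of_ne le_sup_left fun e => hrR (e ▸ mem_sup_right (mem_zpowers r)),
    hPp.to_le hR₁P, hR₁E, hTR₁, ⟨?_, ?_, ?_, ?_, ?_, ?_⟩, ?_⟩
  · exact le_centralizer_sup (hW₁CR.trans (centralizer_le (le_sup_left : T ≤ T ⊔ R)))
      fun y hy => (hW₁le hy).2
  · refine hmin _ (commutator_le_self W₁) (hcov_of_map _ (commutator_le_self W₁) ?_)
    have e : (⁅W₁, W₁⁆).subgroupOf M = ⁅W₁.subgroupOf M, W₁.subgroupOf M⁆ := by
      refine map_injective M.subtype_injective ?_
      rw [map_commutator, map_subgroupOf_eq_of_le hW₁M,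
        map_subgroupOf_eq_of_le ((commutator_le_self W₁).trans hW₁M)]
    rw [e, map_commutator, hmapW, ← map_commutator, hWmp]
  · intro hbot
    rw [hbot, sup_bot_eq] at hW₁cov
    apply hW1
    refine (hWodd ⊥ bot_le (by rw [bot_subgroupOf]; infer_instance) ?_).symm
    rw [relIndex_bot_left]
    refine Nat.Coprime.coprime_dvd_left (card_dvd_of_le hW₁cov) ?_
    rw [hO₁, Solv.card_map_subtype]
    exact Solv.card_pPrimeCore_coprime p ↥CR
  · intro M₀ hM₀ hM₀n hodd
    refine hmin M₀ hM₀ (hcov_of_map M₀ hM₀ ?_)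
    set M₂ := ((M₀.subgroupOf M).map π).comap π ⊓ Wm with hM₂
    have hM₂eq : M₂.map M.subtype = W := by
      refine hWodd _ ((map_mono inf_le_right).trans (map_subgroupOf_eq_of_le hWM).le) ?_ ?_
      · refine normal_subgroupOf_of_le_normalizer ?_
        have hn : W₁.subgroupOf M ≤ normalizer (M₀.subgroupOf M : Set M) := by
          intro y hy
          rw [mem_normalizer_iff]
          intro z
          exact mem_normalizer_iff.1 (((normal_subgroupOf_iff_le_normalizer hM₀).1 hM₀n) hy) (z : G)
        have hn2 : Wm ≤ normalizer (M₂ : Set M) := by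
          refine Solv.le_normalizer_inf ?_ le_normalizer
          intro y hy
          have h2 : π y ∈ normalizer ((M₀.subgroupOf M).map π : Set (M ⧸ O)) := by
            have := mem_map_of_mem π hy
            rw [← hmapW] at this
            obtain ⟨y', hy', e⟩ := this
            rw [← e]
            exact le_normalizer_map π (mem_map_of_mem π (hn hy'))
          rw [mem_normalizer_iff]
          intro z
          rw [mem_comap, mem_comap, map_mul, map_mul, map_inv]
          exact mem_normalizer_iff.1 h2 (π z)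
        rw [← map_subgroupOf_eq_of_le hWM]
        exact (map_mono hn2).trans (le_normalizer_map _)
      · refine hodd.coprime_dvd_left ?_
        have e1 : (M₂.map M.subtype).relIndex W = M₂.relIndex Wm := by
          rw [← map_subgroupOf_eq_of_le hWM, relIndex_map_map_of_injective _ _ M.subtype_injective]
        rw [e1, hM₂, inf_relIndex_right, relIndex_comap, ← hmapW]
        have e2 : ((M₀.subgroupOf M).map π).relIndex ((W₁.subgroupOf M).map π) ∣
            (M₀.subgroupOf M).relIndex (W₁.subgroupOf M) := by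
          have hAB : M₀.subgroupOf M ≤ W₁.subgroupOf M := fun y hy => hM₀ hy
          have e3 : ((M₀.subgroupOf M).map π).subgroupOf ((W₁.subgroupOf M).map π) =
              ((M₀.subgroupOf M).subgroupOf (W₁.subgroupOf M)).map
                (π.subgroupMap (W₁.subgroupOf M)) := by
            ext z
            constructor
            · intro hz
              obtain ⟨v, hv, e⟩ := hz
              exact ⟨⟨v, hAB hv⟩, hv, Subtype.ext e⟩
            · rintro ⟨v, hv, rfl⟩
              exact ⟨(v : M), hv, rfl⟩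
          show (((M₀.subgroupOf M).map π).subgroupOf ((W₁.subgroupOf M).map π)).index ∣
            ((M₀.subgroupOf M).subgroupOf (W₁.subgroupOf M)).index
          rw [e3]
          exact index_map_dvd _ (π.subgroupMap_surjective _)
        exact e2.trans (by rw [relIndex_subgroupOf hW₁M])
    intro y hy
    obtain ⟨y', hy', rfl⟩ := hy
    have : (y' : G) ∈ M₂.map M.subtype := by rw [hM₂eq]; exact hy'
    obtain ⟨z, hz, e⟩ := this
    rw [← show z = y' from Subtype.ext e]
    exact hz.1
  · set CR₁ := centralizer ((T ⊔ R₁ : Subgroup G) : Set G) with hCR₁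
    have hle : CR₁ ≤ CR := centralizer_le (sup_le_sup le_rfl le_sup_left : T ⊔ R ≤ T ⊔ R₁)
    have hW₁CR₁ : W₁ ≤ CR₁ :=
      le_centralizer_sup (hW₁CR.trans (centralizer_le (le_sup_left : T ≤ T ⊔ R)))
        fun y hy => (hW₁le hy).2
    have h1 : ⁅W₁, CR₁ ⊓ E⁆ ≤ O₁ := by
      rw [commutator_le]
      intro a ha d hd
      have haM : a ∈ M := hW₁M ha
      have hdM : d ∈ M := hCRM (hle hd.1)
      have h2 : π ⟨a, haM⟩ ∈ Wm.map π := hmapW ▸ mem_map_of_mem π (show (⟨a, haM⟩ : M) ∈ _ from ha)
      obtain ⟨w, hw, e⟩ := h2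
      have h3 := hcomm1 w hw ⟨d, hdM⟩ ⟨hle hd.1, hd.2⟩
      rw [e, ← commutatorElement_eq_one_iff_mul_comm, ← map_commutatorElement] at h3
      exact ((QuotientGroup.eq_one_iff _).1 h3 : ⁅(⟨a, haM⟩ : M), ⟨d, hdM⟩⁆ ∈ O)
    refine (le_inf h1 ((commutator_mono hW₁CR₁ inf_le_left).trans
      (commutator_le_self CR₁))).trans ?_
    have hn : ((O₁ ⊓ CR₁).subgroupOf CR₁).Normal := by
      rw [inf_subgroupOf_right]
      exact normal_subgroupOf_of_le_normalizer (hle.trans hCRM)
    rw [← map_subgroupOf_eq_of_le (inf_le_right : O₁ ⊓ CR₁ ≤ CR₁)]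
    refine map_mono (Solv.le_pPrimeCore (Nat.Coprime.coprime_dvd_left ?_
      (Solv.card_pPrimeCore_coprime p ↥CR)))
    refine (card_comap_dvd_of_injective _ _ CR₁.subtype_injective).trans ?_
    refine (card_dvd_of_le inf_le_left).trans ?_
    rw [hO₁, Solv.card_map_subtype]
  · exact hW₁le.trans (inf_le_left.trans (sup_le hWQ hO₁Q))
  · intro hW₁N
    have hO₁N : O₁ ≤ compNormalizer G := by
      refine le_compNormalizer_iff.2 fun L hL o ho => ?_
      refine LayerNorm.normalizes_component hO (T ⊔ R) O₁ (by rwa [sup_comm]) ?_ ?_ ?_ hO₁Q hL ho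
      · exact hO₁le
      · exact hCRM
      · rw [hO₁, Solv.card_map_subtype]; exact Solv.card_pPrimeCore_coprime p ↥CR
    exact hW₁cov.trans (sup_le hO₁N hW₁N)

/-- Start of the induction: a `p`-component of a `p`-local subgroup and the layer. -/
theorem pComponent_local_start (hO : pPrimeCore p G = ⊥) {T : Subgroup G} (hT : IsPGroup p T)
    {K : Subgroup ↥(normalizer (T : Set G))} (hK : IsPComponent p K)
    (hKE : ¬ K.map (normalizer (T : Set G)).subtype ≤ layer G) :
    LBalInv p T ⊥ (K.map (normalizer (T : Set G)).subtype) := by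
  haveI := layer_normal (G := G)
  set f := QuotientGroup.mk' (pPrimeCore p ↥(normalizer (T : Set G))) with hf
  have hOc := Solv.card_pPrimeCore_coprime p ↥(normalizer (T : Set G))
  -- normal `p`-subgroups are centralized
  have hKR : ∀ R : Subgroup ↥(normalizer (T : Set G)), R.Normal → IsPGroup p R →
      ⁅K, R⁆ = ⊥ := by
    intro R hRn hRp
    haveI := hRn
    haveI := Subgroup.Normal.map hRn f (QuotientGroup.mk'_surjective _)
    have h1 : ⁅K.map f, R.map f⁆ = ⊥ := le_bot_iff.1
      ((commutator_mono le_rfl (Solv.le_pCore (hRp.map f))).trans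
        (component_commutator_pCore hK.2.1 p).le)
    rw [← map_commutator, Subgroup.map_eq_bot_iff, QuotientGroup.ker_mk'] at h1
    exact le_bot_iff.1 ((le_inf (commutator_le_right K R) h1).trans
      (Solv.inf_eq_bot_of_isPGroup hRp hOc).le)
  have hkill : ∀ A : Subgroup ↥(normalizer (T : Set G)),
      ⁅A, T.subgroupOf (normalizer (T : Set G))⁆ = ⊥ →
      A.map (normalizer (T : Set G)).subtype ≤ centralizer (T : Set G) := by
    intro A hA
    have h := congrArg (Subgroup.map (normalizer (T : Set G)).subtype) hA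
    rw [map_commutator, Subgroup.map_bot, map_subgroupOf_eq_of_le (le_normalizer (H := T))] at h
    exact commutator_eq_bot_iff_le_centralizer.1 h
  have hTp : IsPGroup p ↥(T.subgroupOf (normalizer (T : Set G))) :=
    hT.comap_of_injective _ (normalizer (T : Set G)).subtype_injective
  haveI : (T.subgroupOf (normalizer (T : Set G))).Normal := normal_in_normalizer
  have hKT := hkill K (hKR _ normal_in_normalizer hTp)
  have hOT := hkill _ (commutator_eq_bot_iff_le_centralizer.2
    (pPrimeCore_le_centralizer_of_isPGroup hTp))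
  haveI hCn : ((centralizer (T : Set G)).subgroupOf (normalizer (T : Set G))).Normal := by
    refine normal_subgroupOf_of_le_normalizer fun s hs => ?_
    have key : ∀ s ∈ normalizer (T : Set G), ∀ c ∈ centralizer (T : Set G),
        s * c * s⁻¹ ∈ centralizer (T : Set G) := by
      intro s hs c hc
      rw [mem_centralizer_iff]
      intro y hy
      have h2 := mem_centralizer_iff.1 hc _ ((mem_normalizer_iff''.1 hs y).1 hy)
      calc y * (s * c * s⁻¹) = s * ((s⁻¹ * y * s) * c) * s⁻¹ := by group
        _ = s * (c * (s⁻¹ * y * s)) * s⁻¹ := by rw [h2]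
        _ = s * c * s⁻¹ * y := by group
    rw [mem_normalizer_iff]
    intro c
    exact ⟨key s hs c, fun hc => by simpa [mul_assoc] using key _ (inv_mem hs) _ hc⟩
  set D := (centralizer (T : Set G) ⊓ layer G).subgroupOf (normalizer (T : Set G)) with hD
  haveI : D.Normal := by
    rw [hD, subgroupOf, comap_inf]
    haveI : ((layer G).comap (normalizer (T : Set G)).subtype).Normal := normal_subgroupOf
    haveI : ((centralizer (T : Set G)).comap (normalizer (T : Set G)).subtype).Normal := hCn
    exact Subgroup.normal_inf_normal _ _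
  -- `[K, D]` is small
  have hKD : ⁅K, D⁆ ≤ pPrimeCore p ↥(normalizer (T : Set G)) := by
    haveI : (D.map f).Normal := Subgroup.Normal.map inferInstance f (QuotientGroup.mk'_surjective _)
    rcases component_le_or_commutator_eq_bot hK.2.1
      ((inferInstance : (D.map f).Normal).isSubnormal) with e | e
    · exfalso
      refine hKE (map_le_iff_le_comap.2 ?_)
      refine (pComponent_le_of_relIndex hK D (relIndex_coprime_of_le_sup hOc ?_)).trans
        fun y hy => hy.2
      rw [← QuotientGroup.ker_mk' (pPrimeCore p ↥(normalizer (T : Set G))), ← comap_map_eq]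
      exact map_le_iff_le_comap.1 e
    · rwa [← map_commutator, Subgroup.map_eq_bot_iff, QuotientGroup.ker_mk'] at e
  have hcommQ : K.map (normalizer (T : Set G)).subtype ≤ centralizer (pCore p G : Set G) :=
    le_centralizer_pCore_of_commute hT (O := ⊥) (by rw [pComponent_commutator_self hK, sup_bot_eq])
      bot_le (by simp) hKR
  unfold LBalInv
  refine ⟨hKT.trans (by rw [sup_bot_eq]), ?_, ?_, ?_, ?_, hcommQ⟩
  · rw [← map_commutator, pComponent_commutator_self hK]
  · rw [Ne, Subgroup.map_eq_bot_iff_of_injective _ (normalizer (T : Set G)).subtype_injective]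
    intro e
    exact component_ne_bot hK.2.1 (by rw [e, Subgroup.map_bot])
  · intro M hM hMn hodd
    have hMC : M ≤ normalizer (T : Set G) := hM.trans (map_subtype_le _)
    refine le_antisymm hM ?_
    rw [← map_subgroupOf_eq_of_le hMC]
    refine map_mono ?_
    set M' := M.subgroupOf (normalizer (T : Set G)) with hM'
    have hM'K : M' ≤ K := by
      intro y hy
      obtain ⟨z, hz, e⟩ := hM hy
      rwa [← show z = y from Subtype.ext e]
    haveI : (M'.subgroupOf K).Normal := by
      refine normal_subgroupOf_of_le_normalizer fun y hy => ?_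
      rw [mem_normalizer_iff]
      intro z
      exact mem_normalizer_iff.1 ((normal_subgroupOf_iff_le_normalizer hM).1 hMn
        (mem_map_of_mem (normalizer (T : Set G)).subtype hy)) (z : G)
    have hM'idx : (M'.subgroupOf K).index.Coprime p := by
      show (M'.relIndex K).Coprime p
      rw [← relIndex_map_map_of_injective _ _ (normalizer (T : Set G)).subtype_injective, hM',
        map_subgroupOf_eq_of_le hMC]
      exact hodd
    by_contra hne'
    apply hne'
    have := hK.2.2 M' ((inferInstance : (M'.subgroupOf K).Normal).isSubnormal.trans' hK.1 |>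
      fun h => by rwa [map_subgroupOf_eq_of_le hM'K] at h) hM'K ?_
    · rw [this]
    · refine le_antisymm (map_mono hM'K) ?_
      set g := f.subgroupMap K with hg
      have hgs : Function.Surjective g := f.subgroupMap_surjective K
      haveI := Subgroup.Normal.map (inferInstance : (M'.subgroupOf K).Normal) g hgs
      rcases qs_normal_le_center_or_eq_top hK.2.1.2 ((M'.subgroupOf K).map g) with e | e
      · exact absurd ((component_index_center_not_coprime
          (Solv.pPrimeCore_quotient_pPrimeCore p) hK.2.1).trans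
          ((index_dvd_of_le e).trans (index_map_dvd _ hgs)))
          (hp.out.coprime_iff_not_dvd.1 hM'idx.symm)
      · intro y hy
        obtain ⟨z, hz, e'⟩ := (e.ge (mem_top (⟨y, hy⟩ : K.map f)))
        exact ⟨_, hz, congrArg Subtype.val e'⟩
  · rw [sup_bot_eq, commutator_le]
    rintro _ ⟨k, hk, rfl⟩ d hd
    have hdN : d ∈ normalizer (T : Set G) := centralizer_le_normalizer _ hd.1
    have h1 := hKD (commutator_mem_commutator hk
      (show (⟨d, hdN⟩ : normalizer (T : Set G)) ∈ D from hd))
    rw [← pPrimeCore_subtype_map_of_le (centralizer_le_normalizer _) hOT]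
    exact ⟨_, h1, rfl⟩

/-- The induction: either the `p`-component lies in the layer, or a perfect subgroup of the
invariant centralizes a Sylow `p`-subgroup of the layer. -/
theorem pComponent_local_reduce (hO : pPrimeCore p G = ⊥) {T : Subgroup G} (hT : IsPGroup p T)
    {K : Subgroup ↥(normalizer (T : Set G))} (hK : IsPComponent p K)
    (hKE : ¬ K.map (normalizer (T : Set G)).subtype ≤ layer G) :
    ∃ (S : Sylow p ↥(layer G)) (W : Subgroup G),
      LBalInv p T ((S : Subgroup ↥(layer G)).map (layer G).subtype) W ∧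
      (W ≤ compNormalizer G →
        K.map (normalizer (T : Set G)).subtype ≤ compNormalizer G) := by
  obtain ⟨R, hR⟩ := exists_maximal_of_wellFoundedGT
    (fun R : Subgroup G => IsPGroup p R ∧ R ≤ layer G ∧ T ≤ normalizer (R : Set G) ∧
      ∃ W, LBalInv p T R W ∧ (W ≤ compNormalizer G →
        K.map (normalizer (T : Set G)).subtype ≤ compNormalizer G))
    ⟨⊥, IsPGroup.of_bot, bot_le, by rw [normalizer_eq_top_iff.2 inferInstance]; exact le_top,
      _, pComponent_local_start hO hT hK hKE, id⟩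
  obtain ⟨hRp, hRE, hTR, W, hW, hWn⟩ := hR.1
  by_cases hs : ∃ S : Sylow p ↥(layer G), (S : Subgroup ↥(layer G)).map (layer G).subtype = R
  · obtain ⟨S, hS⟩ := hs
    exact ⟨S, W, hS ▸ hW, hWn⟩
  · obtain ⟨R₁, W₁, hlt, h1, h2, h3, h4, h5⟩ := lBalInv_step hO hT hRp hRE hTR hs hW
    exact absurd (hR.2 ⟨h1, h2, h3, W₁, h4, fun h => hWn (h5 h)⟩ hlt.le) hlt.not_ge

/-- L-balance for a prime, given that the induction cannot end in the quotient by `O_{p'}`. -/
theorem pLayer_normalizer_le_of
    (hend : ∀ (T : Subgroup (G ⧸ pPrimeCore p G)) (S : Sylow p ↥(layer (G ⧸ pPrimeCore p G)))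
      (W : Subgroup (G ⧸ pPrimeCore p G)),
      LBalInv p T ((S : Subgroup ↥(layer (G ⧸ pPrimeCore p G))).map
        (layer (G ⧸ pPrimeCore p G)).subtype) W → False)
    {T : Subgroup G} (hT : IsPGroup p T) :
    (pLayer p ↥(normalizer (T : Set G))).map (normalizer (T : Set G)).subtype ≤ pLayer p G := by
  rw [map_le_iff_le_comap]
  refine sSup_le fun K hK => ?_
  set O := pPrimeCore p G with hOdef
  set π := QuotientGroup.mk' O with hπ
  have hOcop := Solv.card_pPrimeCore_coprime p G
  have hmap := map_normalizer_eq hT O hOcop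
  let φ : ↥(normalizer (T : Set G)) →* ↥(normalizer (T.map π : Set (G ⧸ O))) :=
    (π.comp (normalizer (T : Set G)).subtype).codRestrict _
      fun x => hmap.le (mem_map_of_mem π x.2)
  have hφ : Function.Surjective φ := by
    rintro ⟨y, hy⟩
    obtain ⟨x, hx, e⟩ := hmap.ge hy
    exact ⟨⟨x, hx⟩, Subtype.ext e⟩
  have hker : (Nat.card φ.ker).Coprime p := by
    refine hOcop.coprime_dvd_left ?_
    rw [← Solv.card_map_subtype _ φ.ker]
    refine card_dvd_of_le ?_
    rintro _ ⟨y, hy, rfl⟩
    exact (QuotientGroup.eq_one_iff _).1 (congrArg Subtype.val hy)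
  have h1 : (K.map φ).map (normalizer (T.map π : Set (G ⧸ O))).subtype ≤ layer (G ⧸ O) := by
    by_contra hne
    obtain ⟨S, W, hW, -⟩ := pComponent_local_reduce (Solv.pPrimeCore_quotient_pPrimeCore p)
      (hT.map π) (isPComponent_map φ hφ hker hK) hne
    exact hend _ S W hW
  haveI := pLayer_normal (p := p) (G := G)
  haveI : ((pLayer p G).comap (normalizer (T : Set G)).subtype).Normal := normal_subgroupOf
  refine pComponent_le_of_relIndex hK _ ?_
  show ((pLayer p G).subgroupOf _).relIndex K |>.Coprime p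
  have h2 : K.map (normalizer (T : Set G)).subtype ≤ pLayer p G ⊔ O := by
    rw [← QuotientGroup.ker_mk' O, ← comap_map_eq, pLayer_map_eq_layer, ← map_le_iff_le_comap,
      ← hπ]
    refine le_trans (le_of_eq ?_) h1
    rw [map_map, map_map]
    rfl
  have h3 := relIndex_coprime_of_le_sup hOcop h2
  rw [show K = (K.map (normalizer (T : Set G)).subtype).subgroupOf (normalizer (T : Set G)) from
    (comap_map_eq_self_of_injective (normalizer (T : Set G)).subtype_injective K).symm,
    relIndex_subgroupOf (map_subtype_le _)]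
  exact h3

/-- The `p`-layer of the centralizer of a `p`-subgroup lies in that of the normalizer. -/
theorem pLayer_centralizer_le_normalizer (T : Subgroup G) :
    (pLayer p ↥(centralizer (T : Set G))).map (centralizer (T : Set G)).subtype ≤
      (pLayer p ↥(normalizer (T : Set G))).map (normalizer (T : Set G)).subtype := by
  set N := normalizer (T : Set G) with hN
  set C' := (centralizer (T : Set G)).subgroupOf N with hC'
  haveI : C'.Normal := by
    rw [hC', hN, ← normalizerMonoidHom_ker]
    exact MonoidHom.normal_ker _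
  set e := (subgroupOfEquivOfLe (centralizer_le_normalizer (T : Set G))).symm
  rw [map_le_iff_le_comap]
  refine sSup_le fun K hK => ?_
  rw [← map_le_iff_le_comap]
  have h1 : IsPComponent p (K.map e.toMonoidHom) :=
    isPComponent_map e.toMonoidHom e.surjective
      (by rw [(MonoidHom.ker_eq_bot_iff e.toMonoidHom).2 e.injective, card_bot]; exact Nat.coprime_one_left p)
      hK
  have h2 := le_sSup (show (K.map e.toMonoidHom).map C'.subtype ∈
    {L | IsPComponent p L} from isPComponent_map_subtype h1)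
  refine le_trans (le_of_eq ?_) (map_mono h2)
  rw [map_map, map_map]
  rfl

theorem lBalance_normalizer {T : Subgroup G} (hT : IsPGroup 2 T) :
    (pLayer 2 ↥(normalizer (T : Set G))).map (normalizer (T : Set G)).subtype ≤ pLayer 2 G :=
  haveI : Fact (Nat.Prime 2) := ⟨Nat.prime_two⟩
  pLayer_normalizer_le_of
    (fun _ S _ h => lBalInv_sylow_false (Solv.pPrimeCore_quotient_pPrimeCore 2) S h) hT

/-- L-balance: the 2-layer of the centralizer of a 2-subgroup lies in the 2-layer. -/
theorem lBalance {T : Subgroup G} (hT : IsPGroup 2 T) :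
    (pLayer 2 ↥(centralizer (T : Set G))).map (centralizer (T : Set G)).subtype ≤ pLayer 2 G :=
  haveI : Fact (Nat.Prime 2) := ⟨Nat.prime_two⟩
  (pLayer_centralizer_le_normalizer T).trans (lBalance_normalizer hT)

end Cfsg.Agent.Local
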