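import Cfsg.Agent.Lib.Local.QuotientLocal
import Cfsg.Agent.Lib.Local.LBalance
import Cfsg.Agent.Lib.Local.ClassTwoFactorization
import Cfsg.Agent.Lib.Local.FusionReduction
import Mathlib

/-!
`p`-constrained `p`-local subgroups.
-/

set_option autoImplicit false
set_option linter.style.haveILetI false

namespace Cfsg.Agent.Local

open Subgroup

universe u
variable {G : Type u} [Group G] [Finite G] {p : ℕ} [hp : Fact p.Prime]

theorem isPConstrained_of_centralizer_le
    (h : centralizer (pCore p (G ⧸ pPrimeCore p G) : Set (G ⧸ pPrimeCore p G)) ≤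
      pCore p (G ⧸ pPrimeCore p G)) : IsPConstrained p G := by
  rw [pLayer_eq_bot_iff_isPConstrained, pLayer_eq_bot_iff, eq_bot_iff]
  refine sSup_le fun K hK => ?_
  exfalso
  have h1 : layer (G ⧸ pPrimeCore p G) ≤ centralizer (pCore p (G ⧸ pPrimeCore p G) : Set _) :=
    layer_le_centralizer_fitting.trans (centralizer_le (Solv.pCore_le_fittingSubgroup p))
  exact component_ne_isPGroup hK ((Solv.isPGroup_pCore p _).to_le ((le_sSup hK).trans (h1.trans h)))

theorem isPConstrained_of_mulEquiv {H : Type u} [Group H] [Finite H] (e : G ≃* H)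
    (h : IsPConstrained p G) : IsPConstrained p H := by
  have h1 : (pPrimeCore p G).map (e : G →* H) = pPrimeCore p H := Solv.pPrimeCore_map_equiv p e
  exact isPConstrained_of_centralizer_le (FusionRed.centralizer_pCore_le_of_equiv
    (QuotientGroup.congr _ _ e h1) (ClassTwo.centralizer_pCore_le_of_isPConstrained h))

/-- Local subgroups of constrained groups are constrained. -/
theorem isPConstrained_normalizer {P : Subgroup G} (h : IsPConstrained p G) (hP : IsPGroup p P) :
    IsPConstrained p ↥(normalizer (P : Set G)) :=
  pLayer_eq_bot_iff_isPConstrained.2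
    (pLocal_of_pLayer_eq_bot (pLayer_eq_bot_iff_isPConstrained.1 h) hP).1

theorem isPConstrained_normalizer_of_le {M P : Subgroup G} (h : IsPConstrained p M)
    (hP : IsPGroup p P) (hPM : normalizer (P : Set G) ≤ M) :
    IsPConstrained p ↥(normalizer (P : Set G)) := by
  have hle : P ≤ M := le_trans le_normalizer hPM
  have h1 := isPConstrained_normalizer h (hP.of_equiv (subgroupOfEquivOfLe hle).symm)
  refine isPConstrained_of_mulEquiv ?_ h1
  exact (MulEquiv.subgroupCongr (subgroupOf_normalizer_eq hle).symm).trans
    (subgroupOfEquivOfLe hPM)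

/-- A normal subgroup containing the centralizer of a normal `p`-subgroup decides constrainedness. -/
theorem isPConstrained_of_centralizer (T : Subgroup G) [T.Normal] (hT : IsPGroup p T)
    (h : IsPConstrained p ↥(centralizer (T : Set G))) : IsPConstrained p G := by
  refine isPConstrained_of_centralizer_le ?_
  set O := pPrimeCore p G with hO
  set π := QuotientGroup.mk' O with hπ
  have hπs : Function.Surjective π := QuotientGroup.mk'_surjective _
  have hOc := Solv.card_pPrimeCore_coprime p G
  set C := centralizer (T : Set G) with hC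
  haveI : C.Normal := by
    have := MonoidHom.normal_ker (MulAut.conjNormal (H := T) : G →* MulAut T)
    convert this using 1
    ext g
    rw [hC, mem_centralizer_iff, MonoidHom.mem_ker]
    constructor
    · intro hg
      ext t
      have := hg t t.2
      simp [← this]
    · intro hg t ht
      have h2 := congrArg (fun x : MulAut T => ((x ⟨t, ht⟩ : T) : G)) hg
      simp only [MulAut.one_apply, MulAut.conjNormal_apply] at h2
      exact (mul_inv_eq_iff_eq_mul.1 h2).symm
  set Cb := C.map π with hCb
  haveI : Cb.Normal := Normal.map inferInstance _ hπs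
  let φ : C →* Cb := π.subgroupMap C
  have hφ : Function.Surjective φ := π.subgroupMap_surjective C
  have hker : φ.ker = pPrimeCore p C := by
    refine le_antisymm (Solv.le_pPrimeCore ?_) ?_
    · refine hOc.coprime_dvd_left ?_
      rw [← Solv.card_map_subtype _ φ.ker]
      refine card_dvd_of_le ?_
      rintro _ ⟨y, hy, rfl⟩
      exact (QuotientGroup.eq_one_iff _).1 (congrArg Subtype.val hy)
    · intro y hy
      haveI := Solv.pPrimeCore_characteristic p C
      have h2 : (pPrimeCore p C).map C.subtype ≤ O := by
        refine Solv.le_pPrimeCore ?_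
        rw [Solv.card_map_subtype]
        exact Solv.card_pPrimeCore_coprime p C
      exact Subtype.ext ((QuotientGroup.eq_one_iff _).2 (h2 ⟨y, hy, rfl⟩))
  have hCC : centralizer (pCore p Cb : Set Cb) ≤ pCore p Cb :=
    FusionRed.centralizer_pCore_le_of_equiv
      ((QuotientGroup.quotientMulEquivOfEq hker.symm).trans
        (QuotientGroup.quotientKerEquivOfSurjective φ hφ))
      (ClassTwo.centralizer_pCore_le_of_isPConstrained h)
  have hR : (pCore p Cb).map Cb.subtype ≤ pCore p (G ⧸ O) := by
    haveI := Solv.pCore_characteristic p Cb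
    exact Solv.le_pCore ((Solv.isPGroup_pCore p _).map _)
  intro x hx
  have hTR : T.map π ≤ pCore p (G ⧸ O) := by
    haveI : (T.map π).Normal := Normal.map inferInstance _ hπs
    exact Solv.le_pCore (hT.map _)
  have hxC : x ∈ Cb := by
    rw [hCb, hC, hπ, map_centralizer_eq hT O hOc]
    exact centralizer_le hTR hx
  have h3 : (⟨x, hxC⟩ : Cb) ∈ centralizer (pCore p Cb : Set Cb) :=
    mem_centralizer_iff.2 fun y hy => Subtype.ext
      (mem_centralizer_iff.1 hx (y : G ⧸ O) (hR ⟨y, hy, rfl⟩))
  exact hR ⟨_, hCC h3, rfl⟩

end Cfsg.Agent.Local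

namespace Cfsg.Agent.Local

open Subgroup

universe v
variable {G : Type v} [Group G] [Finite G] {p : ℕ} [hp : Fact p.Prime]

theorem isPConstrained_centralizer {T : Subgroup G} (hT : IsPGroup p T) (h : IsPConstrained p G) :
    IsPConstrained p ↥(centralizer (T : Set G)) := by
  have h1 := pLayer_eq_bot_iff_isPConstrained.1 (isPConstrained_normalizer h hT)
  have h2 := pLayer_centralizer_le_normalizer (p := p) T
  rw [h1, Subgroup.map_bot, le_bot_iff, map_eq_bot_iff_of_injective _ (subtype_injective _)] at h2
  exact pLayer_eq_bot_iff_isPConstrained.2 h2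

/-- Constrained centralizers of elements of order `p` give constrained `p`-locals. -/
theorem isPConstrained_of_elements (h : ∀ x : G, orderOf x = p →
    IsPConstrained p ↥(centralizer ({x} : Set G))) {T : Subgroup G} (hT : IsPGroup p T)
    (hT1 : T ≠ ⊥) : IsPConstrained p ↥(normalizer (T : Set G)) := by
  haveI : Nontrivial T := (Subgroup.nontrivial_iff_ne_bot _).2 hT1
  haveI := hT.center_nontrivial
  obtain ⟨x, hx⟩ := exists_prime_orderOf_dvd_card' (G := center T) p
    (by
      obtain ⟨n, hn⟩ := IsPGroup.iff_card.1 (hT.to_subgroup (center T))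
      have h1 : 1 < Nat.card (center T) := Finite.one_lt_card
      rcases n with _ | n
      · simp [hn] at h1
      · exact hn ▸ dvd_pow_self p (Nat.succ_ne_zero n))
  set y : G := ((x : T) : G) with hy
  have hxo : orderOf y = p := by rw [hy, orderOf_coe, orderOf_coe, hx]
  set C := centralizer ({y} : Set G) with hC
  have hTC : T ≤ C := fun t ht => by
    rw [hC, mem_centralizer_singleton_iff]
    exact congrArg Subtype.val (mem_center_iff.1 x.2 ⟨t, ht⟩)
  have hle : centralizer (T : Set G) ≤ C := by
    rw [hC]; exact centralizer_le (Set.singleton_subset_iff.2 (x : T).2)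
  have h1 := isPConstrained_centralizer (hT.of_equiv (subgroupOfEquivOfLe hTC).symm) (h y hxo)
  have e1 : centralizer ((T.subgroupOf C : Subgroup C) : Set C) =
      (centralizer (T : Set G)).subgroupOf C := by
    ext z
    simp only [mem_centralizer_iff, mem_subgroupOf, SetLike.mem_coe]
    constructor
    · intro hz t ht
      exact congrArg Subtype.val (hz ⟨t, hTC ht⟩ ht)
    · intro hz t ht
      exact Subtype.ext (hz t ht)
  have h2 : IsPConstrained p ↥(centralizer (T : Set G)) :=
    isPConstrained_of_mulEquiv ((MulEquiv.subgroupCongr e1).trans (subgroupOfEquivOfLe hle)) h1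
  set N := normalizer (T : Set G) with hN
  have hTN : T ≤ N := le_normalizer
  haveI : (T.subgroupOf N).Normal := normal_in_normalizer
  refine isPConstrained_of_centralizer (T.subgroupOf N)
    (hT.of_equiv (subgroupOfEquivOfLe hTN).symm) ?_
  have e2 : (centralizer (T : Set G)).subgroupOf N =
      centralizer ((T.subgroupOf N : Subgroup N) : Set N) := by
    ext z
    simp only [mem_centralizer_iff, mem_subgroupOf, SetLike.mem_coe]
    constructor
    · intro hz t ht
      exact Subtype.ext (hz t ht)
    · intro hz t ht
      exact congrArg Subtype.val (hz ⟨t, hTN ht⟩ ht)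
  exact isPConstrained_of_mulEquiv
    ((subgroupOfEquivOfLe (centralizer_le_normalizer (T : Set G))).symm.trans
      (MulEquiv.subgroupCongr e2)) h2

end Cfsg.Agent.Local
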