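import Cfsg.Agent.S1324
import Cfsg.Agent.Lib.Solv.Coprime
import Cfsg.Agent.Lib.Solv.AbelianAction
import Mathlib.GroupTheory.Abelianization.Defs

/-!
# Completeness of `k`-signalizer families inside a solvable group
-/

set_option autoImplicit false
set_option linter.style.haveILetI false

namespace Cfsg.Agent.Local.KSig

open Subgroup Cfsg.Agent.Solv
open scoped commutatorElement

variable {G : Type*} [Group G]

/-- The subgroups of order `p ^ k` of `A`. -/
abbrev Sub (p k : ℕ) (A : Subgroup G) : Type _ :=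
  {F : Subgroup G // F ≤ A ∧ Nat.card F = p ^ k}

variable [Finite G] {p : ℕ} [hp : Fact p.Prime]

theorem exists_sub_le {A E : Subgroup G} (k : ℕ) (hA : IsElementaryAbelian p A) (hEA : E ≤ A)
    (hk : p ^ k ∣ Nat.card E) : ∃ F : Sub p k A, (F : Subgroup G) ≤ E := by
  obtain ⟨F, hF⟩ := Sylow.exists_subgroup_card_pow_prime (G := E) p hk
  refine ⟨⟨F.map E.subtype, (map_subtype_le F).trans hEA, ?_⟩, map_subtype_le F⟩
  rw [← hF]
  exact (Nat.card_congr (equivMapOfInjective F _ E.subtype_injective).toEquiv).symm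

theorem isPGroup_of_elementary {A : Subgroup G} (hA : IsElementaryAbelian p A) : IsPGroup p A :=
  fun a => ⟨1, by rw [pow_one]; exact Subtype.ext (hA.2 a a.2)⟩

theorem pow_dvd_card_of_relIndex_le {A E : Subgroup G} (hA : IsElementaryAbelian p A) (hEA : E ≤ A)
    {n j : ℕ} (hn : p ^ (n + j) ≤ Nat.card A) (hi : E.relIndex A ≤ p ^ j) :
    p ^ n ∣ Nat.card E := by
  obtain ⟨e, he⟩ := ((isPGroup_of_elementary hA).to_le hEA).exists_card_eq
  refine he ▸ pow_dvd_pow p ?_
  have h1 : Nat.card E * E.relIndex A = Nat.card A := by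
    rw [← Nat.card_congr (subgroupOfEquivOfLe hEA).toEquiv]
    exact (E.subgroupOf A).card_mul_index
  have h2 : p ^ (n + j) ≤ p ^ (e + j) := by
    rw [pow_add p e, ← he]
    exact hn.trans (h1 ▸ Nat.mul_le_mul le_rfl hi)
  have := (Nat.pow_le_pow_iff_right hp.out.one_lt).1 h2
  omega

theorem exists_sub_le_inf {A E E' : Subgroup G} {k : ℕ} (hA : IsElementaryAbelian p A)
    (hk : p ^ (k + 2) ≤ Nat.card A) (hE : E ≤ A) (hE' : E' ≤ A) (hi : E.relIndex A ≤ p)
    (hi' : E'.relIndex A ≤ p) : ∃ F : Sub p k A, (F : Subgroup G) ≤ E ⊓ E' :=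
  exists_sub_le k hA (inf_le_left.trans hE) (pow_dvd_card_of_relIndex_le hA (inf_le_left.trans hE) hk
    (Subgroup.relIndex_inf_le.trans ((Nat.mul_le_mul hi hi').trans (sq p).symm.le)))

theorem two_le_of {A : Subgroup G} {k : ℕ} (hk : p ^ (k + 2) ≤ Nat.card A) :
    p ^ 2 ≤ Nat.card A :=
  (Nat.pow_le_pow_right hp.out.pos (by omega)).trans hk

/-- A `k`-signalizer family with values in a solvable `p'`-group is complete. -/
theorem iSup_inf_centralizer_le {A : Subgroup G} {k : ℕ} (hA : IsElementaryAbelian p A)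
    (hk : p ^ (k + 2) ≤ Nat.card A) :
    ∀ R : Subgroup G, Group.IsSolvable R → ¬ p ∣ Nat.card R → ∀ φ : Sub p k A → Subgroup G,
      (∀ F, φ F ≤ R) → (∀ F : Sub p k A, φ F ≤ centralizer ((F : Subgroup G) : Set G)) →
      (∀ F, A ≤ normalizer (φ F : Set G)) →
      (∀ D F : Sub p k A, φ D ⊓ centralizer ((F : Subgroup G) : Set G) ≤ φ F) →
      ∀ F : Sub p k A, (⨆ D, φ D) ⊓ centralizer ((F : Subgroup G) : Set G) ≤ φ F := by
  intro R
  induction R using WellFoundedLT.induction with
  | _ R ih => ?_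
  intro hRs hRp φ hφR hφC hφA hbal F
  set X := ⨆ D, φ D with hX
  have hXR : X ≤ R := iSup_le hφR
  rcases eq_or_ne X ⊥ with e | e
  · rw [e, bot_inf_eq]; exact bot_le
  haveI hXs : Group.IsSolvable X := Solv.isSolvable_of_le hXR hRs
  haveI : Nontrivial X := (nontrivial_iff_ne_bot _).2 e
  set Y := (commutator X).map X.subtype with hY
  have hYX : Y ≤ X := map_subtype_le _
  have hYlt : Y < X := by
    refine lt_of_le_of_ne hYX fun h => (Group.IsSolvable.commutator_lt_top_of_nontrivial X).ne ?_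
    exact map_injective X.subtype_injective
      (by rw [← MonoidHom.range_eq_map, range_subtype]; exact h)
  have hAX : A ≤ normalizer (X : Set G) := by
    refine le_normalizer_of_conj_mem fun a ha x hx => ?_
    have h : X ≤ X.comap (MulAut.conj a).toMonoidHom := iSup_le fun D y hy =>
      show a * y * a⁻¹ ∈ X from le_iSup φ D ((mem_normalizer_iff.1 (hφA D ha) y).1 hy)
    exact h hx
  have hAY : A ≤ normalizer (Y : Set G) :=
    Struct.CoprimeMinimal.le_normalizer_map_char A X hAX _
  have hXY : X ≤ normalizer (Y : Set G) :=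
    Struct.CoprimeMinimal.le_normalizer_map_char X X le_normalizer _
  let ψ : Sub p k A → Subgroup G := fun D => φ D ⊓ Y
  have hψbal : ∀ D E : Sub p k A, ψ D ⊓ centralizer ((E : Subgroup G) : Set G) ≤ ψ E :=
    fun D E => le_inf ((inf_le_inf_right _ inf_le_left).trans (hbal D E))
      (inf_le_left.trans inf_le_right)
  have hψ := ih Y (hYlt.trans_le hXR) (Solv.isSolvable_of_le hYX hXs)
    (fun h => hRp (h.trans (card_dvd_of_le (hYX.trans hXR)))) ψ (fun D => inf_le_right)
    (fun D => inf_le_left.trans (hφC D)) (fun D => le_normalizer_inf (hφA D) hAY) hψbal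
  set X1 := ⨆ D, ψ D with hX1
  -- generation by the fixed points of hyperplanes
  have hgen : ∀ χ : Sub p k A → Subgroup G, (∀ D, χ D ≤ R) → (∀ D, A ≤ normalizer (χ D : Set G)) →
      ∀ D, χ D = ⨆ E : {E : Subgroup G // E ≤ A ∧ E.relIndex A ≤ p},
        χ D ⊓ centralizer ((E : Subgroup G) : Set G) := fun χ hχR hχA D =>
    S1324.result p A (χ D) hA (two_le_of hk)
      (fun h => hRp (h.trans (card_dvd_of_le (hχR D)))) (hχA D)
  -- a commutator of two such fixed points lies in some `φ F'`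
  have hcom : ∀ (D D' : Sub p k A) (E E' : {E : Subgroup G // E ≤ A ∧ E.relIndex A ≤ p}),
      ∀ u ∈ φ D ⊓ centralizer ((E : Subgroup G) : Set G),
      ∀ w ∈ φ D' ⊓ centralizer ((E' : Subgroup G) : Set G), ⁅u, w⁆ ∈ Y → ⁅u, w⁆ ∈ X1 := by
    intro D D' E E' u hu w hw hY'
    obtain ⟨F', hF'⟩ := exists_sub_le_inf hA hk E.2.1 E'.2.1 E.2.2 E'.2.2
    have h1 : u ∈ φ F' := hbal D F' ⟨hu.1, centralizer_le (hF'.trans inf_le_left) hu.2⟩
    have h2 : w ∈ φ F' := hbal D' F' ⟨hw.1, centralizer_le (hF'.trans inf_le_right) hw.2⟩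
    refine le_iSup ψ F' ⟨?_, hY'⟩
    rw [commutatorElement_def]
    exact (φ F').mul_mem ((φ F').mul_mem ((φ F').mul_mem h1 h2) ((φ F').inv_mem h1))
      ((φ F').inv_mem h2)
  have hX1Y : X1 ≤ Y := iSup_le fun D => inf_le_right
  have hX1n : X ≤ normalizer (X1 : Set G) := by
    refine iSup_le fun D => ?_
    rw [hgen φ hφR hφA D]
    refine iSup_le fun E u hu => ?_
    have key : ∀ u ∈ φ D ⊓ centralizer ((E : Subgroup G) : Set G), ∀ x ∈ X1,
        u * x * u⁻¹ ∈ X1 := by
      intro u hu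
      have h : X1 ≤ X1.comap (MulAut.conj u).toMonoidHom := by
        refine iSup_le fun D' => ?_
        rw [hgen ψ (fun D => inf_le_left.trans (hφR D)) (fun D => le_normalizer_inf (hφA D) hAY) D']
        refine iSup_le fun E' w hw => ?_
        show u * w * u⁻¹ ∈ X1
        have hwY : w ∈ Y := hw.1.2
        have hc : ⁅u, w⁆ ∈ Y := by
          rw [commutatorElement_def]
          exact mul_mem ((mem_normalizer_iff.1 (hXY (le_iSup φ D hu.1)) w).1 hwY) (inv_mem hwY)
        have h3 := hcom D D' E E' u hu w ⟨hw.1.1, hw.2⟩ hc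
        have : u * w * u⁻¹ = ⁅u, w⁆ * w := by rw [commutatorElement_def]; group
        rw [this]
        exact mul_mem h3 (le_iSup ψ D' hw.1)
      exact fun x hx => h hx
    rw [mem_normalizer_iff]
    refine fun x => ⟨key u hu x, fun hx => ?_⟩
    have := key u⁻¹ (inv_mem hu) _ hx
    simpa [mul_assoc] using this
  have hYX1 : Y ≤ X1 := by
    haveI : (X1.subgroupOf X).Normal := normal_subgroupOf_of_le_normalizer hX1n
    rw [hY, map_le_iff_le_comap]
    show commutator X ≤ X1.subgroupOf X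
    refine (Subgroup.Normal.quotient_commutative_iff_commutator_le).1 ⟨⟨?_⟩⟩
    set q := QuotientGroup.mk' (X1.subgroupOf X)
    -- generators commute modulo `X1`
    let Z : {u : G // u ∈ X} → Subgroup X := fun u => (centralizer {q ⟨u, u.2⟩}).comap q
    have hgencomm : ∀ (D : Sub p k A) (E : {E : Subgroup G // E ≤ A ∧ E.relIndex A ≤ p})
        (u : G) (hu : u ∈ φ D ⊓ centralizer ((E : Subgroup G) : Set G)) (x : X),
        Commute (q ⟨u, le_iSup φ D hu.1⟩) (q x) := by
      intro D E u hu x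
      have h : X ≤ (Z ⟨u, le_iSup φ D hu.1⟩).map X.subtype := by
        refine iSup_le fun D' => ?_
        rw [hgen φ hφR hφA D']
        refine iSup_le fun E' w hw => ?_
        refine ⟨⟨w, le_iSup φ D' hw.1⟩, ?_, rfl⟩
        show q ⟨w, _⟩ ∈ centralizer {q ⟨u, _⟩}
        rw [mem_centralizer_singleton_iff, ← commutatorElement_eq_one_iff_mul_comm,
          ← map_commutatorElement, QuotientGroup.mk'_apply, QuotientGroup.eq_one_iff, mem_subgroupOf]
        refine hcom D' D E' E w hw u hu ?_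
        exact mem_map_of_mem X.subtype (commutator_mem_commutator (mem_top (⟨w, le_iSup φ D' hw.1⟩ : X))
          (mem_top (⟨u, le_iSup φ D hu.1⟩ : X)))
      obtain ⟨y, hy, hyx⟩ := h x.2
      rw [Subtype.ext hyx] at hy
      exact (mem_centralizer_singleton_iff.1 hy).symm
    intro a b
    obtain ⟨x, rfl⟩ := QuotientGroup.mk'_surjective _ a
    obtain ⟨y, rfl⟩ := QuotientGroup.mk'_surjective _ b
    have h : X ≤ ((centralizer {q y}).comap q).map X.subtype := by
      refine iSup_le fun D => ?_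
      rw [hgen φ hφR hφA D]
      exact iSup_le fun E u hu => ⟨⟨u, le_iSup φ D hu.1⟩,
        mem_centralizer_singleton_iff.2 (hgencomm D E u hu y).eq, rfl⟩
    obtain ⟨z, hz, hzx⟩ := h x.2
    rw [Subtype.ext hzx] at hz
    exact mem_centralizer_singleton_iff.1 hz
  -- fixed points of `F` in `Y`
  have hYF : Y ⊓ centralizer ((F : Subgroup G) : Set G) ≤ φ F :=
    ((inf_le_inf_right _ hYX1).trans (hψ F)).trans inf_le_left
  -- averaging over `F` in the abelianization
  have hFX : (F : Subgroup G) ≤ normalizer (X : Set G) := F.2.1.trans hAX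
  haveI := Fintype.ofFinite (F : Subgroup G)
  let act : ↥(F : Subgroup G) → (Abelianization X →* Abelianization X) := fun f =>
    Abelianization.map (conjHom (F : Subgroup G) X hFX f).toMonoidHom
  let N : X →* Abelianization X :=
    { toFun := fun x => ∏ f : (F : Subgroup G), act f (Abelianization.of x)
      map_one' := Finset.prod_eq_one fun f _ => by rw [map_one, map_one]
      map_mul' := fun x y => by simp only [map_mul, Finset.prod_mul_distrib] }
  have hNfix : ∀ x : X, (x : G) ∈ centralizer ((F : Subgroup G) : Set G) →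
      N x = Abelianization.of x ^ Nat.card (F : Subgroup G) := by
    intro x hx
    show ∏ f : (F : Subgroup G), act f (Abelianization.of x) = _
    rw [Finset.prod_congr rfl fun f _ => show act f (Abelianization.of x) = Abelianization.of x from ?_,
      Finset.prod_const, Finset.card_univ, Nat.card_eq_fintype_card]
    exact congrArg Abelianization.of (Subtype.ext (mul_inv_eq_iff_eq_mul.2 (hx f f.2)))
  have hNinv : ∀ (f₀ : (F : Subgroup G)) (x : X), N (conjHom (F : Subgroup G) X hFX f₀ x) = N x := by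
    intro f₀ x
    refine (Finset.prod_congr rfl fun f _ => ?_).trans
      (Equiv.prod_comp (Equiv.mulRight f₀) (fun f => act f (Abelianization.of x)))
    show Abelianization.of (conjHom (F : Subgroup G) X hFX f (conjHom _ X hFX f₀ x)) =
      Abelianization.of (conjHom (F : Subgroup G) X hFX (f * f₀) x)
    rw [map_mul, MulAut.mul_apply]
  set Z := ((φ F).subgroupOf X).map Abelianization.of with hZ
  have hFp : IsPGroup p (F : Subgroup G) := (isPGroup_of_elementary hA).to_le F.2.1
  have hNZ : X ≤ (Z.comap N).map X.subtype := by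
    refine iSup_le fun D => ?_
    have hφX : φ D ≤ X := le_iSup φ D
    have hFD : (F : Subgroup G) ≤ normalizer (φ D : Set G) := F.2.1.trans (hφA D)
    have hsol : Group.IsSolvable (φ D) := Solv.isSolvable_of_le (hφR D) hRs
    rw [← commutator_sup_centralizer (F : Subgroup G) (φ D) hFD (coprime_card_of_isPGroup hFp
      ((hp.out.coprime_iff_not_dvd.2 fun h => hRp (h.trans (card_dvd_of_le (hφR D)))).symm))
      (Or.inr hsol)]
    refine sup_le (commutator_le.2 fun x hx f hf => ?_) fun x hx => ?_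
    · have hc : f * x⁻¹ * f⁻¹ ∈ φ D := (mem_normalizer_iff.1 (hFD hf) _).1 (inv_mem hx)
      refine ⟨⟨x, hφX hx⟩ * conjHom _ X hFX ⟨f, hf⟩ ⟨x, hφX hx⟩⁻¹, ?_, ?_⟩
      · show N _ ∈ Z
        rw [map_mul, hNinv, map_inv, mul_inv_cancel]
        exact one_mem Z
      · show x * (f * x⁻¹ * f⁻¹) = ⁅x, f⁆
        rw [commutatorElement_def]; group
    · refine ⟨⟨x, hφX hx.1⟩, ?_, rfl⟩
      show N _ ∈ Z
      rw [hNfix _ hx.2]
      exact pow_mem (mem_map_of_mem _ (show (⟨x, hφX hx.1⟩ : X) ∈ (φ F).subgroupOf X from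
        hbal D F hx)) _
  intro c hc
  obtain ⟨c', hc', hcc⟩ := hNZ hc.1
  rw [show c' = (⟨c, hc.1⟩ : X) from Subtype.ext hcc] at hc'
  change N _ ∈ Z at hc'
  rw [hNfix _ hc.2] at hc'
  have hcop : (Nat.card (F : Subgroup G)).Coprime (orderOf (Abelianization.of (⟨c, hc.1⟩ : X))) := by
    refine Nat.Coprime.coprime_dvd_right ((orderOf_map_dvd _ _).trans (orderOf_dvd_natCard _)) ?_
    rw [F.2.2]
    exact Nat.Coprime.pow_left _
      (hp.out.coprime_iff_not_dvd.2 fun h => hRp (h.trans (card_dvd_of_le hXR)))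
  obtain ⟨j, hj⟩ := exists_pow_eq_self_of_coprime hcop
  obtain ⟨u, hu, hue⟩ := hj ▸ pow_mem hc' j
  have huY : (u⁻¹ * (⟨c, hc.1⟩ : X) : X) ∈ commutator X := by
    rw [← Abelianization.ker_of, MonoidHom.mem_ker, map_mul, map_inv, hue, inv_mul_cancel]
  have h1 : (u : G)⁻¹ * c ∈ φ F := hYF ⟨mem_map_of_mem X.subtype huY,
    Subgroup.mul_mem _ (Subgroup.inv_mem _ (hφC F hu)) hc.2⟩
  exact mul_inv_cancel_left (u : G) c ▸ mul_mem (hu : (u : G) ∈ φ F) h1

end Cfsg.Agent.Local.KSig
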