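import Cfsg.Agent.S1324
import Cfsg.Agent.Lib.Solv.Coprime
import Cfsg.Agent.Lib.Local.KSignalizer
import Mathlib.Data.Nat.Factorization.Basic

/-!
# A factorization read off the centralizers of a coprime abelian operator group
-/

set_option autoImplicit false
set_option linter.style.haveILetI false

namespace Cfsg.Agent.Local.CopFact

open Subgroup Cfsg.Agent.Solv
open scoped Pointwise commutatorElement

variable {G : Type*} [Group G] [Finite G]

theorem card_set_mul (X Y : Subgroup G) :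
    Nat.card ↥((X : Set G) * (Y : Set G)) * Nat.card ↥(X ⊓ Y : Subgroup G) =
      Nat.card X * Nat.card Y := by
  classical
  rw [← Nat.card_prod, ← Nat.card_prod]
  refine Nat.card_congr ?_
  have h : ∀ s : ↥((X : Set G) * (Y : Set G)), ∃ z : X × Y, (z.1 : G) * z.2 = s := fun s => by
    obtain ⟨x, hx, y, hy, e⟩ := s.2
    exact ⟨(⟨x, hx⟩, ⟨y, hy⟩), e⟩
  choose z hz using h
  refine Equiv.ofBijective (fun sd => (⟨(z sd.1).1 * sd.2, X.mul_mem (z sd.1).1.2 sd.2.2.1⟩,
    ⟨(sd.2 : G)⁻¹ * (z sd.1).2, Y.mul_mem (Y.inv_mem sd.2.2.2) (z sd.1).2.2⟩)) ⟨?_, ?_⟩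
  · rintro ⟨s, d⟩ ⟨s', d'⟩ e
    have e1 : ((z s).1 : G) * d = (z s').1 * d' := congrArg (fun w : X × Y => (w.1 : G)) e
    have e2 : (d : G)⁻¹ * (z s).2 = (d' : G)⁻¹ * (z s').2 := congrArg (fun w : X × Y => (w.2 : G)) e
    have hs : s = s' := by
      apply Subtype.ext
      rw [← hz s, ← hz s']
      calc ((z s).1 : G) * (z s).2 = (z s).1 * d * ((d : G)⁻¹ * (z s).2) := by group
        _ = (z s').1 * (z s').2 := by rw [e1, e2]; group
    subst hs
    exact Prod.ext rfl (Subtype.ext (mul_left_cancel e1))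
  · rintro ⟨x, y⟩
    let s : ↥((X : Set G) * (Y : Set G)) := ⟨(x : G) * y, Set.mul_mem_mul x.2 y.2⟩
    have hs : ((z s).1 : G) * (z s).2 = x * y := hz s
    have hd : ((z s).1 : G)⁻¹ * x = (z s).2 * (y : G)⁻¹ := by
      rw [inv_mul_eq_iff_eq_mul, ← mul_assoc, hs, mul_inv_cancel_right]
    refine ⟨(s, ⟨((z s).1 : G)⁻¹ * x, ⟨X.mul_mem (X.inv_mem (z s).1.2) x.2,
      hd ▸ Y.mul_mem (z s).2.2 (Y.inv_mem y.2)⟩⟩), Prod.ext (Subtype.ext ?_) (Subtype.ext ?_)⟩
    · exact mul_inv_cancel_left ((z s).1 : G) (x : G)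
    · show (((z s).1 : G)⁻¹ * x)⁻¹ * (z s).2 = y
      rw [hd, mul_inv_rev, inv_inv, inv_mul_cancel_right]

variable {p : ℕ} [Fact p.Prime] {A : Subgroup G}

theorem le_of_fixed_le (hA : IsElementaryAbelian p A) (hA2 : p ^ 2 ≤ Nat.card A) {W Y : Subgroup G}
    (hW : ¬ p ∣ Nat.card W) (hAW : A ≤ normalizer (W : Set G))
    (h : ∀ a ∈ A, a ≠ 1 → W ⊓ centralizer {a} ≤ Y) : W ≤ Y := by
  rw [S1324.result p A W hA hA2 hW hAW]
  refine iSup_le fun B => ?_
  have hp : p ^ 1 ∣ Nat.card (B : Subgroup G) := KSig.pow_dvd_card_of_relIndex_le (n := 1) (j := 1)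
    hA B.2.1 hA2 (by rw [pow_one]; exact B.2.2)
  rw [pow_one] at hp
  obtain ⟨b, hb⟩ := exists_prime_orderOf_dvd_card' p hp
  refine le_trans (inf_le_inf_left _ (centralizer_le (Set.singleton_subset_iff.2 b.2)))
    (h b (B.2.1 b.2) fun e => (Fact.out : p.Prime).ne_one ?_)
  rw [← hb, orderOf_eq_one_iff]
  exact Subtype.ext e

/-- The nilpotent case of the factorization. -/
theorem subset_mul_of_nilpotent (hA : IsElementaryAbelian p A) (hA2 : p ^ 2 ≤ Nat.card A)
    {Q X Y : Subgroup G} (hQn : Group.IsNilpotent Q) (hQp : ¬ p ∣ Nat.card Q)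
    (hAQ : A ≤ normalizer (Q : Set G)) (hXQ : X ≤ Q) (hYQ : Y ≤ Q)
    (h : ∀ a ∈ A, a ≠ 1 → ((Q ⊓ centralizer {a} : Subgroup G) : Set G) ⊆
      ((X ⊓ centralizer {a} : Subgroup G) : Set G) * ((Y ⊓ centralizer {a} : Subgroup G) : Set G)) :
    (Q : Set G) ⊆ (X : Set G) * (Y : Set G) := by
  classical
  set Γ := Q.lowerCentralSeries with hΓ
  have hΓQ : ∀ i, Γ i ≤ Q := fun i => Subgroup.lowerCentralSeries_antitone Q (Nat.zero_le i)
  have hcom : ∀ i, ∀ g ∈ Γ i, ∀ q ∈ Q, ⁅g, q⁆ ∈ Γ (i + 1) := fun i g hg q hq => by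
    rw [hΓ, Subgroup.lowerCentralSeries_succ]
    exact commutator_mem_commutator hg hq
  have hΓn : ∀ i, A ≤ normalizer (Γ i : Set G) ∧ Q ≤ normalizer (Γ i : Set G) := by
    intro i
    induction i with
    | zero => exact ⟨hAQ, le_normalizer⟩
    | succ i ih =>
      rw [hΓ, Subgroup.lowerCentralSeries_succ]
      exact ⟨(le_inf ih.1 hAQ).trans (normalizer_le_normalizer_commutator _ _),
        normalizer_commutator_ge_right _ _⟩
  -- `S i`: products `x y g` with `g` in the `i`th term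
  let S : ℕ → Set G := fun i => (X : Set G) * (Y : Set G) * (Γ i : Set G)
  have hmove : ∀ i, ∀ x ∈ X, ∀ y ∈ Y, ∀ x' ∈ X, ∀ y' ∈ Y, ∀ g ∈ Γ (i + 1), ∀ g' ∈ Γ (i + 1),
      x' * y' * g' ∈ Γ i → x * y * g * (x' * y' * g') ∈ S (i + 1) := by
    intro i x hx y hy x' hx' y' hy' g hg g' hg' hu
    set u := x' * y' * g'
    have hyg : y * g ∈ Q := Q.mul_mem (hYQ hy) (hΓQ _ hg)
    set c := ⁅y * g, u⁆
    have hc : c ∈ Γ (i + 1) := by
      rw [show c = ⁅u, y * g⁆⁻¹ from (commutatorElement_inv u (y * g)).symm]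
      exact (Γ (i + 1)).inv_mem (hcom i u hu _ hyg)
    have e : x * y * g * u = x * c * u * (y * g) := by
      simp [c, commutatorElement_def, mul_assoc]
    have hn : ∀ q ∈ Q, ∀ z ∈ Γ (i + 1), q * z * q⁻¹ ∈ Γ (i + 1) := fun q hq z hz =>
      (mem_normalizer_iff.1 ((hΓn (i + 1)).2 hq) z).1 hz
    refine ⟨x * x' * (y' * y), ⟨x * x', X.mul_mem hx hx', y' * y, Y.mul_mem hy' hy, rfl⟩,
      (x * x' * (y' * y))⁻¹ * (x * y * g * u), ?_, mul_inv_cancel_left _ _⟩
    rw [e]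
    have e2 : (x * x' * (y' * y))⁻¹ * (x * c * u * (y * g)) =
        ((x' * y' * y)⁻¹ * c * (x' * y' * y)) * (y⁻¹ * g' * y) * g := by
      simp [u, mul_assoc]
    rw [e2]
    refine (Γ (i + 1)).mul_mem ((Γ (i + 1)).mul_mem ?_ ?_) hg
    · have := hn (x' * y' * y)⁻¹ (Q.inv_mem (Q.mul_mem (Q.mul_mem (hXQ hx') (hYQ hy')) (hYQ hy))) c hc
      rwa [inv_inv] at this
    · have := hn y⁻¹ (Q.inv_mem (hYQ hy)) g' hg'
      rwa [inv_inv] at this
  have hlayer : ∀ i, (Γ i : Set G) ⊆ S (i + 1) := by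
    intro i
    let T : Submonoid G :=
      { carrier := {g | g ∈ Γ i ∧ g ∈ S (i + 1)}
        one_mem' := ⟨one_mem _, 1, ⟨1, X.one_mem, 1, Y.one_mem, mul_one 1⟩, 1, (Γ (i + 1)).one_mem,
          mul_one 1⟩
        mul_mem' := fun {a b} ha hb => by
          refine ⟨(Γ i).mul_mem ha.1 hb.1, ?_⟩
          obtain ⟨-, _, ⟨x, hx, y, hy, rfl⟩, g, hg, rfl⟩ := ha
          obtain ⟨hb1, _, ⟨x', hx', y', hy', rfl⟩, g', hg', rfl⟩ := hb
          exact hmove i x hx y hy x' hx' y' hy' g hg g' hg' hb1 }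
    let T' : Subgroup G :=
      { T with
        inv_mem' := fun {a} ha => by
          have hmem := T.pow_mem ha (orderOf a - 1)
          rwa [show a ^ (orderOf a - 1) = a⁻¹ from eq_inv_of_mul_eq_one_left (by
            rw [← pow_succ, Nat.sub_add_cancel (orderOf_pos a), pow_orderOf_eq_one])] at hmem }
    intro g hg
    refine (le_of_fixed_le hA hA2 (fun hd => hQp (hd.trans (card_dvd_of_le (hΓQ i)))) (hΓn i).1
      (Y := T') (fun a ha ha1 z hz => ⟨hz.1, ?_⟩) hg).2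
    obtain ⟨x, hx, y, hy, e⟩ := h a ha ha1 ⟨hΓQ i hz.1, hz.2⟩
    exact ⟨z, ⟨x, hx.1, y, hy.1, e⟩, 1, (Γ (i + 1)).one_mem, mul_one z⟩
  have hall : ∀ i, (Q : Set G) ⊆ S i := by
    intro i
    induction i with
    | zero => exact fun q hq => ⟨1, ⟨1, X.one_mem, 1, Y.one_mem, mul_one 1⟩, q, hq, one_mul q⟩
    | succ i ih =>
      intro q hq
      obtain ⟨_, ⟨x, hx, y, hy, rfl⟩, g, hg, rfl⟩ := ih hq
      obtain ⟨_, ⟨x', hx', y', hy', rfl⟩, g', hg', rfl⟩ := hlayer i hg
      have := hmove i x hx y hy x' hx' y' hy' 1 (one_mem _) g' hg' hg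
      rwa [mul_one] at this
  obtain ⟨n, hn⟩ := (isNilpotent_iff_lowerCentralSeries Q).1 hQn
  intro q hq
  obtain ⟨w, hw, g, hg, e⟩ := hall n hq
  rw [SetLike.mem_coe, show Γ n = ⊥ from hn, mem_bot] at hg
  simp only [hg, mul_one] at e
  exact e ▸ hw

variable {q : ℕ} [hqf : Fact q.Prime]

/-- Fixed points in an invariant Sylow subgroup form a Sylow subgroup of the fixed points. -/
theorem card_sylow_fixed (hA : IsElementaryAbelian p A) {K : Subgroup G} (hK : ¬ p ∣ Nat.card K)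
    (hAK : A ≤ normalizer (K : Set G)) {a : G} (ha : a ∈ A) (Q : Sylow q K)
    (hQ : A ≤ normalizer (((Q : Subgroup K).map K.subtype : Subgroup G) : Set G)) :
    Nat.card ↥((Q : Subgroup K).map K.subtype ⊓ centralizer {a} : Subgroup G) =
      q ^ (Nat.card ↥(K ⊓ centralizer {a} : Subgroup G)).factorization q := by
  haveI := hA.1
  haveI : Group.IsSolvable A := Group.isSolvable_of_comm fun a b => mul_comm' a b
  obtain ⟨k, hk⟩ := (KSig.isPGroup_of_elementary hA).exists_card_eq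
  have hcop : ∀ W : Subgroup G, W ≤ K → (Nat.card A).Coprime (Nat.card W) := fun W hW => by
    rw [hk]
    exact Nat.Coprime.pow_left _
      ((Fact.out : p.Prime).coprime_iff_not_dvd.2 fun h => hK (h.trans (card_dvd_of_le hW)))
  set Q' := (Q : Subgroup K).map K.subtype
  set C := K ⊓ centralizer {a} with hC
  have hAa : A ≤ centralizer {a} := fun b hb => mem_centralizer_singleton_iff.2
    (congrArg Subtype.val (mul_comm' (⟨b, hb⟩ : A) ⟨a, ha⟩))
  have hAC : A ≤ normalizer (C : Set G) := le_normalizer_inf hAK (hAa.trans le_normalizer)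
  refine le_antisymm ?_ ?_
  · obtain ⟨j, hj⟩ := ((Q.isPGroup'.map K.subtype).to_le
      (inf_le_left : Q' ⊓ centralizer {a} ≤ Q')).exists_card_eq
    rw [hj]
    refine Nat.pow_le_pow_right hqf.out.pos ((hqf.out.pow_dvd_iff_le_factorization Nat.card_pos.ne').1 ?_)
    rw [← hj]
    exact card_dvd_of_le (inf_le_inf_right _ (map_subtype_le _))
  · obtain ⟨R, hR⟩ := exists_invariant_sylow A C hAC (hcop C inf_le_left) (Or.inl inferInstance) q
    obtain ⟨Q2, hQ2, hQ2A⟩ := exists_invariant_sylow_ge A K hAK (hcop K le_rfl) (Or.inl inferInstance)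
      q ((R : Subgroup C).map C.subtype) ((map_subtype_le _).trans inf_le_left) (R.isPGroup'.map _) hR
    obtain ⟨c, hc, hcc⟩ := invariant_sylow_conj A K hAK (hcop K le_rfl) (Or.inl inferInstance) q
      Q2 Q hQ2A hQ
    have hca : (c : G) * a = a * c := (hc a ha).symm
    rw [← R.card_eq_multiplicity, ← Solv.card_map_subtype C (R : Subgroup C)]
    refine le_trans (le_of_eq
      (Nat.card_congr (equivMapOfInjective _ (MulAut.conj (c : G)).toMonoidHom
        (MulAut.conj (c : G)).injective).toEquiv)) (card_le_of_le ?_)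
    rintro _ ⟨r, hr, rfl⟩
    refine ⟨?_, ?_⟩
    · obtain ⟨r', hr', e⟩ := hQ2 hr
      refine ⟨c * r' * c⁻¹, ?_, ?_⟩
      · show _ ∈ (Q : Sylow q K)
        rw [← hcc]
        exact ⟨r', hr', rfl⟩
      · show (c : G) * r' * (c : G)⁻¹ = (c : G) * r * (c : G)⁻¹
        rw [← e]; rfl
    · have hra : r * a = a * r := mem_centralizer_singleton_iff.1 ((map_subtype_le _ hr : r ∈ C)).2
      show (c : G) * r * (c : G)⁻¹ ∈ centralizer {a}
      exact Subgroup.mul_mem _ (Subgroup.mul_mem _ (mem_centralizer_singleton_iff.2 hca)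
        (mem_centralizer_singleton_iff.2 hra)) (Subgroup.inv_mem _ (mem_centralizer_singleton_iff.2 hca))

theorem factorization_sylow {K : Subgroup G} (Q : Sylow q K) :
    Nat.card ((Q : Subgroup K).map K.subtype : Subgroup G) = q ^ (Nat.card K).factorization q := by
  rw [Solv.card_map_subtype, Q.card_eq_multiplicity]

theorem factorization_mul {a b : ℕ} (ha : 0 < a) (hb : 0 < b) (r : ℕ) :
    (a * b).factorization r = a.factorization r + b.factorization r := by
  rw [Nat.factorization_mul ha.ne' hb.ne', Finsupp.add_apply]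

/-- The prime-by-prime comparison of orders. -/
theorem factorization_eq (hA : IsElementaryAbelian p A) (hA2 : p ^ 2 ≤ Nat.card A)
    {K X Y : Subgroup G} (hK : ¬ p ∣ Nat.card K) (hAK : A ≤ normalizer (K : Set G)) (hX : X ≤ K)
    (hY : Y ≤ K) (hAX : A ≤ normalizer (X : Set G)) (hAY : A ≤ normalizer (Y : Set G))
    (hCX : K ⊓ centralizer (A : Set G) ≤ normalizer (X : Set G))
    (hfac : ∀ a ∈ A, a ≠ 1 → ((K ⊓ centralizer {a} : Subgroup G) : Set G) =
      ((X ⊓ centralizer {a} : Subgroup G) : Set G) * ((Y ⊓ centralizer {a} : Subgroup G) : Set G)) :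
    (Nat.card K).factorization q + (Nat.card ↥(X ⊓ Y : Subgroup G)).factorization q =
      (Nat.card X).factorization q + (Nat.card Y).factorization q := by
  haveI := hA.1
  haveI : Group.IsSolvable A := Group.isSolvable_of_comm fun a b => mul_comm' a b
  obtain ⟨k, hk⟩ := (KSig.isPGroup_of_elementary hA).exists_card_eq
  have hcop : ∀ W : Subgroup G, W ≤ K → (Nat.card A).Coprime (Nat.card W) := fun W hW => by
    rw [hk]
    exact Nat.Coprime.pow_left _
      ((Fact.out : p.Prime).coprime_iff_not_dvd.2 fun h => hK (h.trans (card_dvd_of_le hW)))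
  have hs : Group.IsSolvable A ∨ Group.IsSolvable K := Or.inl inferInstance
  obtain ⟨SX, hSX⟩ := exists_invariant_sylow A X hAX (hcop X hX) (Or.inl inferInstance) q
  obtain ⟨SY, hSY⟩ := exists_invariant_sylow A Y hAY (hcop Y hY) (Or.inl inferInstance) q
  obtain ⟨Q1, hQ1, hQ1A⟩ := exists_invariant_sylow_ge A K hAK (hcop K le_rfl) hs q
    ((SX : Subgroup X).map X.subtype) ((map_subtype_le _).trans hX) (SX.isPGroup'.map _) hSX
  obtain ⟨Q, hQ, hQA⟩ := exists_invariant_sylow_ge A K hAK (hcop K le_rfl) hs q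
    ((SY : Subgroup Y).map Y.subtype) ((map_subtype_le _).trans hY) (SY.isPGroup'.map _) hSY
  obtain ⟨c, hc, hcc⟩ := invariant_sylow_conj A K hAK (hcop K le_rfl) hs q Q1 Q hQ1A hQA
  have hcX : ∀ x ∈ X, (c : G) * x * (c : G)⁻¹ ∈ X := fun x hx =>
    (mem_normalizer_iff.1 (hCX ⟨c.2, hc⟩) x).1 hx
  -- the conjugate of `SX` inside `Q`
  let c' : MulAut X :=
    MulEquiv.trans ((MulAut.conj (c : G)).subgroupMap X)
      (MulEquiv.subgroupCongr (mem_normalizer_iff_map_conj_eq.1 (hCX ⟨c.2, hc⟩)))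
  let SX' : Sylow q X := SX.mapSurjective (f := c'.toMonoidHom) c'.surjective
  set Qg := (Q : Subgroup K).map K.subtype
  set Xg := (SX' : Subgroup X).map X.subtype
  set Yg := (SY : Subgroup Y).map Y.subtype
  have hXgQ : Xg ≤ Qg := by
    rintro _ ⟨_, ⟨x, hx, rfl⟩, rfl⟩
    obtain ⟨x', hx', e⟩ := hQ1 (mem_map_of_mem X.subtype hx)
    refine ⟨c * x' * c⁻¹, ?_, ?_⟩
    · show _ ∈ (Q : Sylow q K)
      rw [← hcc]
      exact ⟨x', hx', rfl⟩
    · show (c : G) * x' * (c : G)⁻¹ = (c : G) * x * (c : G)⁻¹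
      rw [show (x' : G) = (x : G) from e]
  have hXgA : A ≤ normalizer (Xg : Set G) := by
    refine le_normalizer_of_conj_mem ?_
    rintro b hb _ ⟨_, ⟨x, hx, rfl⟩, rfl⟩
    obtain ⟨y, hy, e⟩ := (mem_normalizer_iff.1 (hSX hb) (x : G)).1 (mem_map_of_mem X.subtype hx)
    refine ⟨c' y, mem_map_of_mem _ hy, ?_⟩
    show (c : G) * y * (c : G)⁻¹ = b * ((c : G) * x * (c : G)⁻¹) * b⁻¹
    rw [show (y : G) = b * x * b⁻¹ from e]
    have hcb : b * (c : G) = c * b := hc b hb
    calc (c : G) * (b * x * b⁻¹) * (c : G)⁻¹ = (c : G) * b * x * ((c : G) * b)⁻¹ := by group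
      _ = b * c * x * (b * (c : G))⁻¹ := by rw [hcb]
      _ = _ := by group
  have hQn : Group.IsNilpotent Qg := (Q.isPGroup'.map K.subtype).isNilpotent
  have hQp : ¬ p ∣ Nat.card Qg := fun h => hK (h.trans (card_dvd_of_le (map_subtype_le _)))
  set P := Xg ⊓ Yg with hP
  set D := X ⊓ Y with hD
  have hAD : A ≤ normalizer (D : Set G) := le_normalizer_inf hAX hAY
  obtain ⟨SD, hSD, hSDA⟩ := exists_invariant_sylow_ge A D hAD (hcop D (inf_le_left.trans hX))
    (Or.inl inferInstance) q P (le_inf (inf_le_left.trans (map_subtype_le _))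
      (inf_le_right.trans (map_subtype_le _)))
    ((SX'.isPGroup'.map _).to_le inf_le_left) (le_normalizer_inf hXgA hSY)
  have hpD : ¬ p ∣ Nat.card D := fun h => hK (h.trans (card_dvd_of_le (inf_le_left.trans hX)))
  have key : ∀ a ∈ A, a ≠ 1 →
      ((Qg ⊓ centralizer {a} : Subgroup G) : Set G) ⊆
        ((Xg ⊓ centralizer {a} : Subgroup G) : Set G) * ((Yg ⊓ centralizer {a} : Subgroup G) : Set G) ∧
      (SD : Subgroup D).map D.subtype ⊓ centralizer {a} ≤ P := by
    intro a ha ha1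
    set Z := centralizer ({a} : Set G)
    have hKa := card_sylow_fixed (q := q) hA hK hAK ha Q hQA
    have hXa := card_sylow_fixed (q := q) hA (fun h => hK (h.trans (card_dvd_of_le hX))) hAX ha SX' hXgA
    have hYa := card_sylow_fixed (q := q) hA (fun h => hK (h.trans (card_dvd_of_le hY))) hAY ha SY hSY
    have hDa := card_sylow_fixed (q := q) hA hpD hAD ha SD hSDA
    have hcard := card_set_mul (X ⊓ Z) (Y ⊓ Z)
    rw [← hfac a ha ha1, show (X ⊓ Z) ⊓ (Y ⊓ Z) = D ⊓ Z by rw [← inf_inf_distrib_right]] at hcard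
    have hfa : (Nat.card ↥(K ⊓ Z : Subgroup G)).factorization q +
        (Nat.card ↥(D ⊓ Z : Subgroup G)).factorization q =
        (Nat.card ↥(X ⊓ Z : Subgroup G)).factorization q +
        (Nat.card ↥(Y ⊓ Z : Subgroup G)).factorization q := by
      rw [← factorization_mul Nat.card_pos Nat.card_pos, ← factorization_mul Nat.card_pos Nat.card_pos]
      exact congrArg (fun n => n.factorization q) hcard
    have hprod : Nat.card ↥((Xg ⊓ Z : Subgroup G) : Set G) = Nat.card ↥(Xg ⊓ Z : Subgroup G) := rfl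
    set s := ((Xg ⊓ Z : Subgroup G) : Set G) * ((Yg ⊓ Z : Subgroup G) : Set G) with hs'
    have hsub : s ⊆ ((Qg ⊓ Z : Subgroup G) : Set G) := by
      rintro _ ⟨x, hx, y, hy, rfl⟩
      exact (Qg ⊓ Z).mul_mem ⟨hXgQ hx.1, hx.2⟩ ⟨hQ hy.1, hy.2⟩
    have hcard' := card_set_mul (Xg ⊓ Z) (Yg ⊓ Z)
    rw [show (Xg ⊓ Z) ⊓ (Yg ⊓ Z) = P ⊓ Z by rw [← inf_inf_distrib_right], hXa, hYa, ← pow_add,
      ← hfa, pow_add, ← hKa, ← hDa] at hcard'
    have hle1 : Nat.card ↥s ≤ Nat.card ↥(Qg ⊓ Z : Subgroup G) := Nat.card_mono (Set.toFinite _) hsub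
    have hPD : P ⊓ Z ≤ (SD : Subgroup D).map D.subtype ⊓ Z := inf_le_inf_right _ hSD
    have hle2 := card_le_of_le hPD
    have hpos : 0 < Nat.card ↥(Qg ⊓ Z : Subgroup G) := Nat.card_pos
    have hpos2 : 0 < Nat.card ↥(P ⊓ Z : Subgroup G) := Nat.card_pos
    have he1 : Nat.card ↥s = Nat.card ↥(Qg ⊓ Z : Subgroup G) := by
      refine le_antisymm hle1 (Nat.le_of_mul_le_mul_right ?_ hpos2)
      exact (Nat.mul_le_mul_left _ hle2).trans hcard'.ge
    rw [he1] at hcard'
    have he2 := Nat.eq_of_mul_eq_mul_left hpos hcard'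
    refine ⟨(Set.eq_of_subset_of_ncard_le hsub ?_).ge, fun z hz =>
      ((eq_of_le_of_card_ge hPD he2.ge).ge hz).1⟩
    rw [← Nat.card_coe_set_eq, ← Nat.card_coe_set_eq]
    exact he1.ge
  have hQsub := subset_mul_of_nilpotent hA hA2 hQn hQp hQA hXgQ hQ fun a ha ha1 => (key a ha ha1).1
  have hPeq : P = (SD : Subgroup D).map D.subtype := le_antisymm hSD
    (le_of_fixed_le hA hA2 (fun h => hpD (h.trans (card_dvd_of_le (map_subtype_le _)))) hSDA
      fun a ha ha1 => (key a ha ha1).2)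
  have hQeq : (Xg : Set G) * (Yg : Set G) = (Qg : Set G) := by
    refine Set.Subset.antisymm ?_ hQsub
    rintro _ ⟨x, hx, y, hy, rfl⟩
    exact Qg.mul_mem (hXgQ hx) (hQ hy)
  have h1 := card_set_mul Xg Yg
  rw [hQeq, ← hP, hPeq, factorization_sylow SD, factorization_sylow SX', factorization_sylow SY,
    show Nat.card ↥(Qg : Set G) = Nat.card Qg from rfl, factorization_sylow Q, ← pow_add, ← pow_add] at h1
  exact Nat.pow_right_injective hqf.out.two_le h1

theorem eq_mul (hA : IsElementaryAbelian p A) (hA2 : p ^ 2 ≤ Nat.card A)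
    {K X Y : Subgroup G} (hK : ¬ p ∣ Nat.card K) (hAK : A ≤ normalizer (K : Set G)) (hX : X ≤ K)
    (hY : Y ≤ K) (hAX : A ≤ normalizer (X : Set G)) (hAY : A ≤ normalizer (Y : Set G))
    (hCX : K ⊓ centralizer (A : Set G) ≤ normalizer (X : Set G))
    (hfac : ∀ a ∈ A, a ≠ 1 → ((K ⊓ centralizer {a} : Subgroup G) : Set G) =
      ((X ⊓ centralizer {a} : Subgroup G) : Set G) * ((Y ⊓ centralizer {a} : Subgroup G) : Set G)) :
    (K : Set G) = (X : Set G) * (Y : Set G) := by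
  have hsub : (X : Set G) * (Y : Set G) ⊆ (K : Set G) := by
    rintro _ ⟨x, hx, y, hy, rfl⟩
    exact K.mul_mem (hX hx) (hY hy)
  have h : Nat.card K * Nat.card ↥(X ⊓ Y : Subgroup G) = Nat.card X * Nat.card Y := by
    refine Nat.eq_of_factorization_eq (Nat.mul_ne_zero Nat.card_pos.ne' Nat.card_pos.ne')
      (Nat.mul_ne_zero Nat.card_pos.ne' Nat.card_pos.ne') fun r => ?_
    rw [factorization_mul Nat.card_pos Nat.card_pos, factorization_mul Nat.card_pos Nat.card_pos]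
    by_cases hr : r.Prime
    · haveI : Fact r.Prime := ⟨hr⟩
      exact factorization_eq hA hA2 hK hAK hX hY hAX hAY hCX hfac
    · simp [Nat.factorization_eq_zero_of_not_prime _ hr]
  rw [← card_set_mul X Y] at h
  have h2 := Nat.eq_of_mul_eq_mul_right Nat.card_pos h
  refine (Set.eq_of_subset_of_ncard_le hsub ?_).symm
  rw [← Nat.card_coe_set_eq, ← Nat.card_coe_set_eq]
  exact h2.le

end Cfsg.Agent.Local.CopFact
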