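import Cfsg.Prelude.Def_Amalgam
import Mathlib

/-!
Elementary facts about coset graphs of two subgroups.
-/

set_option autoImplicit false

namespace Cfsg.Agent.Local.CosetGr

open Subgroup

variable {X : Type*} [Group X] {M₁ M₂ : Subgroup X}

theorem adj_iff (a b : CosetVertex M₁ M₂) : (cosetGraph M₁ M₂).Adj a b ↔
    ∃ x : X, (a = Sum.inl (x : X ⧸ M₁) ∧ b = Sum.inr (x : X ⧸ M₂)) ∨
      (b = Sum.inl (x : X ⧸ M₁) ∧ a = Sum.inr (x : X ⧸ M₂)) := by
  simp only [cosetGraph, SimpleGraph.fromRel_adj]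
  constructor
  · rintro ⟨-, ⟨x, h⟩ | ⟨x, h⟩⟩
    · exact ⟨x, Or.inl h⟩
    · exact ⟨x, Or.inr h⟩
  · rintro ⟨x, ⟨rfl, rfl⟩ | ⟨rfl, rfl⟩⟩
    · exact ⟨Sum.inl_ne_inr, Or.inl ⟨x, rfl, rfl⟩⟩
    · exact ⟨Sum.inr_ne_inl, Or.inr ⟨x, rfl, rfl⟩⟩

theorem adj_smul {a b : CosetVertex M₁ M₂} (h : (cosetGraph M₁ M₂).Adj a b) (g : X) :
    (cosetGraph M₁ M₂).Adj (g • a) (g • b) := by
  obtain ⟨x, ⟨rfl, rfl⟩ | ⟨rfl, rfl⟩⟩ := (adj_iff a b).1 h
  · exact (adj_iff _ _).2 ⟨g * x, Or.inl ⟨rfl, rfl⟩⟩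
  · exact (adj_iff _ _).2 ⟨g * x, Or.inr ⟨rfl, rfl⟩⟩

theorem connected (hgen : M₁ ⊔ M₂ = ⊤) : (cosetGraph M₁ M₂).Connected := by
  set G := cosetGraph M₁ M₂
  have hadj : ∀ x : X, G.Adj (Sum.inl (x : X ⧸ M₁)) (Sum.inr (x : X ⧸ M₂)) :=
    fun x => (adj_iff _ _).2 ⟨x, Or.inl ⟨rfl, rfl⟩⟩
  have h1 : ∀ x : X, G.Reachable (Sum.inl ((1 : X) : X ⧸ M₁)) (Sum.inl (x : X ⧸ M₁)) := by
    intro x
    have hx : x ∈ closure ((M₁ : Set X) ∪ M₂) := by
      rw [Subgroup.closure_union, closure_eq, closure_eq, hgen]; trivial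
    have step : ∀ y ∈ (M₁ : Set X) ∪ M₂, ∀ z : X,
        G.Reachable (Sum.inl (z : X ⧸ M₁)) (Sum.inl ((z * y : X) : X ⧸ M₁)) := by
      rintro y (hy | hy) z
      · rw [show ((z * y : X) : X ⧸ M₁) = z from QuotientGroup.eq.2 (by simpa using hy)]
      · refine (hadj z).reachable.trans ?_
        rw [show (z : X ⧸ M₂) = ((z * y : X) : X ⧸ M₂) from QuotientGroup.eq.2 (by simpa using hy)]
        exact (hadj (z * y)).symm.reachable
    induction hx using closure_induction_right with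
    | one => exact SimpleGraph.Reachable.refl _
    | mul_right z _ y hy ih => exact ih.trans (step y hy z)
    | mul_inv_cancel z _ y hy ih =>
        refine ih.trans ?_
        have := step y hy (z * y⁻¹)
        rw [inv_mul_cancel_right] at this
        exact this.symm
  refine SimpleGraph.connected_iff_exists_forall_reachable _ |>.2 ⟨Sum.inl ((1 : X) : X ⧸ M₁), ?_⟩
  rintro (v | v) <;> induction v using QuotientGroup.induction_on with
  | H x => first | exact h1 x | exact (h1 x).trans (hadj x).reachable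

theorem stabilizer_inl (x : X) :
    MulAction.stabilizer X (Sum.inl (x : X ⧸ M₁) : CosetVertex M₁ M₂) =
      M₁.map (MulAut.conj x).toMonoidHom := by
  ext g
  rw [MulAction.mem_stabilizer_iff, Sum.smul_inl, Sum.inl.injEq]
  show (((g * x : X) : X ⧸ M₁) = (x : X ⧸ M₁)) ↔ _
  rw [QuotientGroup.eq, mem_map_equiv, ← inv_mem_iff]
  simp [mul_assoc]

theorem stabilizer_inr (x : X) :
    MulAction.stabilizer X (Sum.inr (x : X ⧸ M₂) : CosetVertex M₁ M₂) =
      M₂.map (MulAut.conj x).toMonoidHom := by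
  ext g
  rw [MulAction.mem_stabilizer_iff, Sum.smul_inr, Sum.inr.injEq]
  show (((g * x : X) : X ⧸ M₂) = (x : X ⧸ M₂)) ↔ _
  rw [QuotientGroup.eq, mem_map_equiv, ← inv_mem_iff]
  simp [mul_assoc]

theorem faithful (h : ∀ N : Subgroup X, N ≤ M₁ ⊓ M₂ → N.Normal → N = ⊥) {t : X}
    (ht : ∀ v : CosetVertex M₁ M₂, t • v = v) : t = 1 := by
  let N : Subgroup X := (MulAction.toPermHom X (CosetVertex M₁ M₂)).ker
  have hle : N ≤ M₁ ⊓ M₂ := by
    intro g hg
    have h1 : ∀ v : CosetVertex M₁ M₂, g • v = v := fun v => Equiv.Perm.ext_iff.1 hg v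
    have a := MulAction.mem_stabilizer_iff.2 (h1 (Sum.inl ((1 : X) : X ⧸ M₁)))
    have b := MulAction.mem_stabilizer_iff.2 (h1 (Sum.inr ((1 : X) : X ⧸ M₂)))
    rw [stabilizer_inl] at a
    rw [stabilizer_inr] at b
    obtain ⟨w, hw, e⟩ := a
    obtain ⟨w', hw', e'⟩ := b
    refine mem_inf.2 ⟨?_, ?_⟩
    · rw [← e]; simpa using hw
    · rw [← e']; simpa using hw'
  have : t ∈ N := Equiv.Perm.ext ht
  rw [h N hle inferInstance] at this
  exact this

end Cfsg.Agent.Local.CosetGr
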