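import Mathlib.GroupTheory.Transfer
import Mathlib.GroupTheory.QuotientGroup.Basic
import Mathlib.GroupTheory.SpecificGroups.Cyclic

/-!
Transfer into a cyclic top factor of a subgroup whose conjugates meet it inside the kernel.
-/

set_option autoImplicit false
set_option linter.style.haveILetI false

namespace Cfsg.Agent.Local

open Subgroup MulAction

variable {G : Type*} [Group G] [Finite G]

/-- If every conjugate `M ^ g ≠ M` meets `M` inside the normal subgroup `H` with cyclic quotient, then some normal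
subgroup with abelian quotient meets `M` exactly in `H`. -/
theorem exists_normal_complement (H M : Subgroup G) (hHM : H ≤ M) (hn : M ≤ normalizer (H : Set G))
    {m₀ : G} (hm₀ : m₀ ∈ M) (hgen : M ≤ H ⊔ zpowers m₀)
    (hmeet : ∀ g : G, g ∉ M → M ⊓ M.map (MulAut.conj g).toMonoidHom ≤ H) :
    ∃ N : Subgroup G, N.Normal ∧ H ≤ N ∧ N ⊓ M ≤ H ∧ ∀ a b : G, a * b * a⁻¹ * b⁻¹ ∈ N := by
  classical
  haveI hHn : (H.subgroupOf M).Normal := (normal_subgroupOf_iff_le_normalizer hHM).2 hn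
  let π := QuotientGroup.mk' (H.subgroupOf M)
  have hπ : ∀ z : M, π z = 1 ↔ (z : G) ∈ H := fun z => (QuotientGroup.eq_one_iff z).trans mem_subgroupOf
  have hcyc : IsCyclic (M ⧸ H.subgroupOf M) := by
    refine ⟨⟨π ⟨m₀, hm₀⟩, fun q => ?_⟩⟩
    obtain ⟨z, rfl⟩ := QuotientGroup.mk'_surjective (H.subgroupOf M) q
    obtain ⟨h, hh, y, hy, e⟩ := mem_sup_of_normal_left.1
      (show z ∈ H.subgroupOf M ⊔ zpowers (⟨m₀, hm₀⟩ : M) by
        have h1 : M.subtype z ∈ (H.subgroupOf M ⊔ zpowers (⟨m₀, hm₀⟩ : M)).map M.subtype := by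
          rw [Subgroup.map_sup, map_subgroupOf_eq_of_le hHM, MonoidHom.map_zpowers]
          exact hgen z.2
        exact (Subgroup.mem_map_iff_mem M.subtype_injective).1 h1)
    obtain ⟨k, rfl⟩ := mem_zpowers_iff.1 hy
    exact ⟨k, by show π _ ^ k = π z; rw [← e, map_mul, map_zpow, (hπ h).2 hh, one_mul]⟩
  letI : CommGroup (M ⧸ H.subgroupOf M) :=
    { (inferInstance : Group (M ⧸ H.subgroupOf M)) with
      mul_comm := hcyc.isMulCommutative.is_comm.comm }
  let V : G →* M ⧸ H.subgroupOf M := MonoidHom.transfer π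
  have hout : ∀ (x t : G), x ∉ M → ∀ ht : x⁻¹ * t * x ∈ M, t ∈ M → π ⟨x⁻¹ * t * x, ht⟩ = 1 := by
    intro x t hx ht htM
    refine (hπ _).2 (hmeet x⁻¹ (fun h => hx (by simpa using inv_mem h)) ⟨ht, t, htM, ?_⟩)
    simp
  have hVH : ∀ h ∈ H, V h = 1 := by
    intro h hh
    letI := Fintype.ofFinite (Quotient (orbitRel (zpowers h) (G ⧸ M)))
    rw [MonoidHom.transfer_eq_prod_quotient_orbitRel_zpowers_quot]
    refine Finset.prod_eq_one fun q _ => ?_
    set x := (q.out).out
    set k := Function.minimalPeriod (h • ·) q.out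
    by_cases hx : x ∈ M
    · exact (hπ _).2 ((mem_normalizer_iff''.1 (hn hx) _).1 (pow_mem hh k))
    · exact hout x _ hx _ (hHM (pow_mem hh k))
  refine ⟨V.ker, inferInstance, fun h hh => hVH h hh, ?_, fun a b => ?_⟩
  swap
  · show V (a * b * a⁻¹ * b⁻¹) = 1
    rw [map_mul, map_mul, map_mul, map_inv, map_inv, mul_comm (V a), mul_inv_cancel_right, mul_inv_cancel]
  rintro m ⟨hmN, hmM⟩
  have hker : V m = 1 := hmN
  letI := Fintype.ofFinite (Quotient (orbitRel (zpowers m) (G ⧸ M)))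
  rw [MonoidHom.transfer_eq_prod_quotient_orbitRel_zpowers_quot] at hker
  let q₀ : Quotient (orbitRel (zpowers m) (G ⧸ M)) := Quotient.mk'' ((1 : G) : G ⧸ M)
  have hx₀ : (q₀.out).out ∈ M := by
    obtain ⟨⟨_, k, rfl⟩, hk⟩ : q₀.out ∈ orbit (zpowers m) ((1 : G) : G ⧸ M) :=
      orbitRel_apply.1 (Quotient.mk_out' (s₁ := orbitRel (zpowers m) (G ⧸ M)) _)
    have hk' : ((m ^ k * 1 : G) : G ⧸ M) = q₀.out := hk
    rw [mul_one] at hk'
    have h1 : ((m ^ k : G) : G ⧸ M) = ((q₀.out).out : G ⧸ M) := hk'.trans (QuotientGroup.out_eq' _).symm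
    rw [QuotientGroup.eq] at h1
    simpa using mul_mem (M.zpow_mem hmM k) h1
  rw [Finset.prod_eq_single q₀] at hker
  · have hper : Function.minimalPeriod (m • ·) q₀.out = 1 := by
      rw [Function.minimalPeriod_eq_one_iff_isFixedPt]
      show m • q₀.out = q₀.out
      conv_lhs => rw [← QuotientGroup.out_eq' q₀.out]
      conv_rhs => rw [← QuotientGroup.out_eq' q₀.out]
      show ((m * (q₀.out).out : G) : G ⧸ M) = ((q₀.out).out : G ⧸ M)
      rw [QuotientGroup.eq]
      exact mul_mem (inv_mem (mul_mem hmM hx₀)) hx₀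
    have h1 := (hπ _).1 hker
    change (q₀.out).out⁻¹ * m ^ Function.minimalPeriod (m • ·) q₀.out * (q₀.out).out ∈ H at h1
    rw [hper, pow_one] at h1
    exact (mem_normalizer_iff''.1 (hn hx₀) m).2 h1
  · intro q _ hq
    refine hout _ _ (fun hx => hq ?_) _ (pow_mem hmM _)
    rw [← Quotient.out_eq' q]
    refine congrArg Quotient.mk'' ?_
    rw [← QuotientGroup.out_eq' q.out, QuotientGroup.eq, mul_one]
    exact inv_mem hx
  · exact fun h => absurd (Finset.mem_univ q₀) h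

theorem normalClosure_inf_eq_of_cyclicTop (H M : Subgroup G) (hHM : H ≤ M) (hn : M ≤ normalizer (H : Set G))
    {m₀ : G} (hm₀ : m₀ ∈ M) (hgen : M ≤ H ⊔ zpowers m₀)
    (hmeet : ∀ g : G, g ∉ M → M ⊓ M.map (MulAut.conj g).toMonoidHom ≤ H) :
    normalClosure (H : Set G) ⊓ M = H := by
  obtain ⟨N, hN, hHN, hNM, -⟩ := exists_normal_complement H M hHM hn hm₀ hgen hmeet
  exact le_antisymm ((inf_le_inf_right _ (normalClosure_le_normal hHN)).trans hNM) (le_inf le_normalClosure hHM)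

end Cfsg.Agent.Local
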