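import Cfsg.Agent.Lib.Classical.DicksonShape

/-!
Points fixed by elements of order at least three in a finite `p'`-subgroup of `PGL₂`.
-/

set_option autoImplicit false
set_option linter.unusedSectionVars false

open scoped MatrixGroups Pointwise
open Matrix OnePoint

noncomputable section

namespace Cfsg.Agent.Local.DicksonPoints

open Cfsg.Agent.Classical.Dickson

variable {K : Type*} [Field K] [DecidableEq K] [IsAlgClosed K] (G : Subgroup (PGL(2, K))) [Finite G]
  {p : ℕ} [Fact p.Prime] [CharP K p]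

/-- A `p'`-group has no translations. -/
theorem qOf_eq_one (hG : ¬ p ∣ Nat.card G) (x : OnePoint K) : qOf G x = 1 := by
  rw [qOf, Subgroup.card_eq_one, Subgroup.eq_bot_iff_forall]
  intro g hg
  have h1 : orderOf g ∣ p := orderOf_dvd_of_pow_eq_one (pow_char_of_isTr hg.2)
  rcases (Nat.dvd_prime (Fact.out : p.Prime)).1 h1 with h | h
  · exact orderOf_eq_one_iff.1 h
  · exact absurd (h ▸ Subgroup.orderOf_dvd_natCard G hg.1) hG

/-- Orders divide the ramification index. -/
theorem orderOf_dvd (hG : ¬ p ∣ Nat.card G) {x : OnePoint K} {g : PGL(2, K)} (hg : g ∈ st G x) :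
    orderOf g ∣ eOf G x := by
  refine orderOf_dvd_of_pow_eq_one ?_
  have h := pow_eOf_mem_tr G hg
  have h1 : tr G x = ⊥ := Subgroup.card_eq_one.1 (qOf_eq_one G hG x)
  rw [h1] at h
  exact Subgroup.mem_bot.1 h

/-- At least three points, each fixed by an element of order at least three: all orders are at most five,
and points fixed by elements of order four are at most twelve. -/
theorem main (hG : ¬ p ∣ Nat.card G) (S : Finset (OnePoint K)) (hS : 3 ≤ S.card)
    (h : ∀ x ∈ S, ∃ g ∈ G, g • x = x ∧ 3 ≤ orderOf g) :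
    (∀ g ∈ G, orderOf g ≤ 5) ∧ ((∀ x ∈ S, ∃ g ∈ G, g • x = x ∧ orderOf g = 4) → S.card ≤ 12) := by
  classical
  have h1 : ∀ g : PGL(2, K), 3 ≤ orderOf g → g ≠ 1 := fun g hg e => by rw [e, orderOf_one] at hg; omega
  have hq := qOf_eq_one G hG (p := p)
  have htwo : ∀ a b : OnePoint K, ¬ (∀ x ∈ S, x = a ∨ x = b) := by
    intro a b hab
    have hle : S.card ≤ ({a, b} : Finset (OnePoint K)).card :=
      Finset.card_le_card fun x hx => by simpa using hab x hx
    have := Finset.card_le_two (a := a) (b := b)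
    omega
  obtain ⟨x₁, hx₁⟩ := Finset.card_pos.1 (show 0 < S.card by omega)
  obtain ⟨g₁, hg₁, -, ho₁⟩ := h x₁ hx₁
  have h2 : 2 ≤ Nat.card G := by
    haveI : Nontrivial G := ⟨⟨g₁, hg₁⟩, 1, fun e => h1 g₁ ho₁ (congrArg Subtype.val e)⟩
    exact Finite.one_lt_card
  rcases shape G h2 with ⟨x, hx⟩ | ⟨x, -, ho⟩ | ⟨hc, hn⟩ | ⟨hc, hn⟩ | ⟨hc, hn⟩ | ⟨x, hx, -, -⟩
  · exfalso
    haveI := isCyclic_st G (hq x)
    have hcomm : ∀ a ∈ G, ∀ b ∈ G, a * b = b * a := by
      rw [← hx]
      intro a ha b hb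
      letI := IsCyclic.commGroup (α := st G x)
      exact congrArg Subtype.val (mul_comm (⟨a, ha⟩ : st G x) ⟨b, hb⟩)
    have hfix : ∀ g ∈ G, g • x = x := fun g hg => by rw [← hx] at hg; exact hg.2
    by_cases hall : ∀ s ∈ S, s = x
    · exact htwo x x fun s hs => Or.inl (hall s hs)
    · push Not at hall
      obtain ⟨y, hy, hyx⟩ := hall
      refine htwo x y fun s hs => ?_
      by_contra hne
      push Not at hne
      obtain ⟨g, hg, hgy, hog⟩ := h y hy
      obtain ⟨k, hk, hks, hok⟩ := h s hs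
      have hky : g • (k • y) = k • y := by rw [← mul_smul, hcomm g hg k hk, mul_smul, hgy]
      have hky' : k • y = y := by
        by_contra hd
        refine h1 g hog (eq_one_of_fix_three (Ne.symm hyx) ?_ (Ne.symm hd) (hfix g hg) hgy hky)
        intro e
        exact hyx (MulAction.injective k (e.symm.trans (hfix k hk).symm))
      exact h1 k hok (eq_one_of_fix_three (Ne.symm hyx) (Ne.symm hne.1) (Ne.symm hne.2) (hfix k hk) hky' hks)
  · exfalso
    rw [Nat.card_coe_set_eq, Set.ncard_eq_two] at ho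
    obtain ⟨a, b, hab, hO⟩ := ho
    have hstab : ∀ g ∈ G, g • a = a ∨ g • a = b := by
      intro g hg
      have ha : a ∈ orb G x := by rw [hO]; exact Or.inl rfl
      obtain ⟨k, hk, hka⟩ := ha
      have hm : g • a ∈ orb G x := ⟨g * k, G.mul_mem hg hk, by show (g * k) • x = _; rw [mul_smul]; exact congrArg _ hka⟩
      rw [hO] at hm
      simpa using hm
    have hstab' : ∀ g ∈ G, g • b = a ∨ g • b = b := by
      intro g hg
      have hb : b ∈ orb G x := by rw [hO]; exact Or.inr rfl
      obtain ⟨k, hk, hkb⟩ := hb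
      have hm : g • b ∈ orb G x := ⟨g * k, G.mul_mem hg hk, by show (g * k) • x = _; rw [mul_smul]; exact congrArg _ hkb⟩
      rw [hO] at hm
      simpa using hm
    refine htwo a b fun s hs => ?_
    by_contra hne
    push Not at hne
    obtain ⟨g, hg, hgs, hog⟩ := h s hs
    have hsq : g * g ≠ 1 := fun e => by
      have := Nat.le_of_dvd (by norm_num) (orderOf_dvd_of_pow_eq_one (show g ^ 2 = 1 by rw [sq, e]))
      omega
    have hsa : (g * g) • a = a ∧ (g * g) • b = b := by
      rw [mul_smul, mul_smul]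
      rcases hstab g hg with e | e <;> rcases hstab' g hg with e' | e'
      · exact absurd (MulAction.injective g (e.trans e'.symm)) hab
      · exact ⟨by rw [e, e], by rw [e', e']⟩
      · exact ⟨by rw [e, e'], by rw [e', e]⟩
      · exact absurd (MulAction.injective g (e.trans e'.symm)) hab
    exact hsq (eq_one_of_fix_three hab (Ne.symm hne.1) (Ne.symm hne.2) hsa.1 hsa.2
      (by rw [mul_smul, hgs, hgs]))
  · have hb : ∀ g ∈ G, orderOf g ≤ 3 := fun g hg => by
      rcases eq_or_ne g 1 with rfl | hg1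
      · simp
      · obtain ⟨x, hgx, -, he⟩ := hc g hg hg1
        have := Nat.le_of_dvd (eOf_pos G x) (orderOf_dvd G hG (p := p) hgx)
        omega
    refine ⟨fun g hg => (hb g hg).trans (by norm_num), fun h4 => ?_⟩
    obtain ⟨g, hg, -, hog⟩ := h4 x₁ hx₁
    have := hb g hg
    omega
  · have hb : ∀ g ∈ G, orderOf g ≤ 5 := fun g hg => by
      rcases eq_or_ne g 1 with rfl | hg1
      · simp
      · obtain ⟨x, hgx, -, he⟩ := hc g hg hg1
        have := Nat.le_of_dvd (eOf_pos G x) (orderOf_dvd G hG (p := p) hgx)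
        omega
    refine ⟨hb, fun h4 => ?_⟩
    have hsp : ∀ s ∈ S, s ∈ (finite_special G).toFinset := fun s hs => by
      obtain ⟨g, hg, hgs, hog⟩ := h4 s hs
      exact (Set.Finite.mem_toFinset _).2 ⟨g, hg, h1 g (by omega), hgs⟩
    have horb : ∀ s ∈ S, Nat.card (orb G s) ≤ 6 := by
      intro s hs
      obtain ⟨g, hg, hgs, hog⟩ := h4 s hs
      have hd : 4 ≤ Nat.card (st G s) := hog ▸ Nat.le_of_dvd Nat.card_pos (Subgroup.orderOf_dvd_natCard _ ⟨hg, hgs⟩)
      have := card_orb_mul G s
      rw [hn] at this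
      nlinarith
    have hstable : ∀ y ∈ (finite_special G).toFinset, orb G y ⊆ ↑(finite_special G).toFinset := fun y hy z hz =>
      (Set.Finite.mem_toFinset _).2 (orb_subset_special G ((Set.Finite.mem_toFinset _).1 hy) hz)
    have hsum := sum_wt G
    obtain ⟨S₁, hsub₁, hst₁, hcov₁, hsum₁⟩ := sum_split G hstable (hsp x₁ hx₁)
    have ho1 := horb x₁ hx₁
    by_cases hA : ∀ s ∈ S, s ∈ orb G x₁
    · have hle := Finset.card_le_card (s := S) (t := (finite_orb G x₁).toFinset)
        fun s hs => (Set.Finite.mem_toFinset _).2 (hA s hs)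
      rw [← Set.ncard_eq_toFinset_card _ (finite_orb G x₁), ← Nat.card_coe_set_eq] at hle
      omega
    · push Not at hA
      obtain ⟨x₂, hx₂, hx₂'⟩ := hA
      have hm₂ : x₂ ∈ S₁ := (hcov₁ x₂ (hsp x₂ hx₂)).resolve_right hx₂'
      obtain ⟨S₂, hsub₂, hst₂, hcov₂, hsum₂⟩ := sum_split G hst₁ hm₂
      have ho2 := horb x₂ hx₂
      by_cases hB : ∀ s ∈ S, s ∈ orb G x₁ ∨ s ∈ orb G x₂
      · have hle := Finset.card_le_card (s := S) (t := (finite_orb G x₁).toFinset ∪ (finite_orb G x₂).toFinset)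
          fun s hs => by simpa using hB s hs
        have hu := Finset.card_union_le (finite_orb G x₁).toFinset (finite_orb G x₂).toFinset
        rw [← Set.ncard_eq_toFinset_card _ (finite_orb G x₁), ← Set.ncard_eq_toFinset_card _ (finite_orb G x₂),
          ← Nat.card_coe_set_eq, ← Nat.card_coe_set_eq] at hu
        omega
      · exfalso
        push Not at hB
        obtain ⟨x₃, hx₃, h31, h32⟩ := hB
        have hm₃ : x₃ ∈ S₂ := (hcov₂ x₃ ((hcov₁ x₃ (hsp x₃ hx₃)).resolve_right h31)).resolve_right h32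
        obtain ⟨S₃, hsub₃, -, -, hsum₃⟩ := sum_split G hst₂ hm₃
        have ho3 := horb x₃ hx₃
        have hr : 0 ≤ ∑ w ∈ S₃, wt G w := Finset.sum_nonneg fun w hw =>
          (wt_pos G ((Set.Finite.mem_toFinset _).1 (hsub₁ (hsub₂ (hsub₃ hw))))).le
        rw [hsum₁, hsum₂, hsum₃, hq x₁, hq x₂, hq x₃, hn] at hsum
        push_cast at hsum
        omega
  · have hb : ∀ g ∈ G, g ≠ 1 → orderOf g = 2 ∨ orderOf g = 3 ∨ orderOf g = 5 := fun g hg hg1 => by
      obtain ⟨x, hgx, he⟩ := hc g hg hg1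
      have hd := orderOf_dvd G hG (p := p) hgx
      have hne : orderOf g ≠ 1 := fun e => hg1 (orderOf_eq_one_iff.1 e)
      rcases he with ⟨-, he | he | he⟩ | ⟨he, -⟩
      · rw [he] at hd; exact Or.inl (((Nat.dvd_prime Nat.prime_two).1 hd).resolve_left hne)
      · rw [he] at hd; exact Or.inr (Or.inl (((Nat.dvd_prime Nat.prime_three).1 hd).resolve_left hne))
      · rw [he] at hd; exact Or.inr (Or.inr (((Nat.dvd_prime (by norm_num)).1 hd).resolve_left hne))
      · exact absurd (hq x) (by omega)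
    refine ⟨fun g hg => ?_, fun h4 => ?_⟩
    · rcases eq_or_ne g 1 with rfl | hg1
      · simp
      · have := hb g hg hg1; omega
    · obtain ⟨g, hg, -, hog⟩ := h4 x₁ hx₁
      have := hb g hg (h1 g (by omega))
      omega
  · exfalso
    have := hq x
    omega

/-- The point of a nonzero vector. -/
def pt (v : Fin 2 → K) : OnePoint K := if v 1 = 0 then ∞ else ((v 0 / v 1 : K) : OnePoint K)

/-- An eigenvector gives a fixed point. -/
theorem smul_pt (g : GL (Fin 2) K) (v : Fin 2 → K) (hv : v ≠ 0) {μ : K} (hμ : μ ≠ 0)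
    (h : (g : Matrix (Fin 2) (Fin 2) K) *ᵥ v = μ • v) : ProjGenLinGroup.mk g • pt v = pt v := by
  have e0 : g 0 0 * v 0 + g 0 1 * v 1 = μ * v 0 := by
    simpa [Matrix.mulVec, dotProduct, Fin.sum_univ_two] using congrFun h 0
  have e1 : g 1 0 * v 0 + g 1 1 * v 1 = μ * v 1 := by
    simpa [Matrix.mulVec, dotProduct, Fin.sum_univ_two] using congrFun h 1
  rw [mk_smul']
  unfold pt
  split_ifs with h0
  · rw [smul_infty_eq_self_iff]
    rw [h0, mul_zero, mul_zero, add_zero] at e1
    refine (mul_eq_zero.1 e1).resolve_right fun e => hv ?_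
    ext i
    fin_cases i <;> simp [e, h0]
  · have ha : g 1 0 * (v 0 / v 1) + g 1 1 = μ := by
      field_simp
      linear_combination e1
    have hb : g 0 0 * (v 0 / v 1) + g 0 1 = μ * (v 0 / v 1) := by
      field_simp
      linear_combination e0
    rw [smul_some_eq_ite, ha, if_neg hμ, hb, mul_div_cancel_left₀ _ hμ]

/-- Points determine vectors up to a scalar. -/
theorem eq_smul_of_pt_eq {v w : Fin 2 → K} (hw : w ≠ 0) (h : pt v = pt w) : ∃ c : K, v = c • w := by
  unfold pt at h
  by_cases h1 : v 1 = 0 <;> by_cases h2 : w 1 = 0 <;> simp only [h1, h2, if_true, if_false] at h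
  · have h0 : w 0 ≠ 0 := fun e => hw (by ext i; fin_cases i <;> simp [e, h2])
    exact ⟨v 0 / w 0, by ext i; fin_cases i <;> simp [h1, h2, h0]⟩
  · exact absurd h (infty_ne_coe _)
  · exact absurd h (coe_ne_infty _)
  · rw [coe_eq_coe, div_eq_div_iff h1 h2] at h
    refine ⟨v 1 / w 1, ?_⟩
    ext i
    fin_cases i
    · simp only [Fin.zero_eta, Fin.isValue, Pi.smul_apply, smul_eq_mul]
      field_simp
      linear_combination h
    · simp [h2]

end Cfsg.Agent.Local.DicksonPoints
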