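import Cfsg.Agent.Lib.Local.LBalanceSchreier
import Cfsg.Agent.Lib.Local.ComponentBalance
import Cfsg.Prelude.Def_Balance

/-!
# The extended 2-layer
-/

set_option autoImplicit false
set_option linter.style.haveILetI false

namespace Cfsg.Agent.Local.ExtLayer

open Subgroup
open scoped Pointwise

variable {X : Type*} [Group X] [Finite X]

/-- `L_{2'}(X) O_{2',2}(X)`. -/
abbrev M (X : Type*) [Group X] : Subgroup X := pLayer 2 X ⊔ pPrimePCore 2 X

/-- A Sylow subgroup of `M` as a subgroup of `X`. -/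
abbrev sylowImage (T : Sylow 2 ↥(M X)) : Subgroup X := (T : Subgroup ↥(M X)).map (M X).subtype

/-- `O(C_X(R))`. -/
abbrev cent (R : Subgroup X) : Subgroup X :=
  (oddCore ↥(centralizer (R : Set X))).map (centralizer (R : Set X)).subtype

/-- The candidate for the extended layer attached to one Sylow subgroup. -/
abbrev base (T : Sylow 2 ↥(M X)) : Subgroup X :=
  pLayer 2 X ⊔ oddCore X ⊔ cent (sylowImage T)

theorem M_normal : (M X).Normal := by
  haveI : (pLayer 2 X).Normal := pLayer_normal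
  haveI : (pPrimePCore 2 X).Normal :=
    inferInstanceAs ((pCore 2 (X ⧸ pPrimeCore 2 X)).comap (QuotientGroup.mk' _)).Normal
  exact sup_normal _ _

theorem oddCore_le_M : oddCore X ≤ M X :=
  le_trans (fun x hx => by
    show QuotientGroup.mk' (pPrimeCore 2 X) x ∈ pCore 2 (X ⧸ pPrimeCore 2 X)
    rw [show QuotientGroup.mk' (pPrimeCore 2 X) x = 1 from (QuotientGroup.eq_one_iff x).2 hx]
    exact one_mem _) le_sup_right

theorem M_le_sup (T : Sylow 2 ↥(M X)) : M X ≤ pLayer 2 X ⊔ oddCore X ⊔ sylowImage T := by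
  haveI : Fact (Nat.Prime 2) := ⟨Nat.prime_two⟩
  haveI : (pLayer 2 X).Normal := pLayer_normal
  haveI : (oddCore X).Normal := (inferInstance : (pPrimeCore 2 X).Normal)
  set K := pPrimePCore 2 X
  set W0 := pLayer 2 X ⊔ oddCore X with hW0
  set W := W0 ⊔ sylowImage T
  have hM : M X = K ⊔ W0 := by
    refine le_antisymm (sup_le (le_sup_left.trans le_sup_right) le_sup_left)
      (sup_le le_sup_right (sup_le le_sup_left oddCore_le_M))
  obtain ⟨j, hj⟩ := (Solv.isPGroup_pCore 2 (X ⧸ pPrimeCore 2 X)).exists_card_eq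
  have h1 : W0.relIndex (M X) ∣ 2 ^ j := by
    rw [hM, relIndex_sup_right, ← hj]
    refine (relIndex_dvd_of_le_left K (le_sup_right : oddCore X ≤ W0)).trans ?_
    set f := QuotientGroup.mk' (pPrimeCore 2 X) with hf
    have h2 : K.map f = pCore 2 (X ⧸ pPrimeCore 2 X) :=
      map_comap_eq_self_of_surjective (QuotientGroup.mk'_surjective _) _
    rw [← h2, show oddCore X = f.ker from (QuotientGroup.ker_mk' (pPrimeCore 2 X)).symm,
      relIndex_ker]
  have h3 : W.relIndex (M X) ∣ 2 ^ j := (relIndex_dvd_of_le_left _ le_sup_left).trans h1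
  obtain ⟨i, -, hi⟩ := (Nat.dvd_prime_pow Nat.prime_two).1 h3
  rcases Nat.eq_zero_or_pos i with rfl | hi0
  · rw [pow_zero, relIndex_eq_one] at hi
    exact hi
  · exfalso
    refine T.not_dvd_index ((dvd_pow_self 2 hi0.ne').trans (hi ▸ index_dvd_of_le ?_))
    intro y hy
    show (y : X) ∈ W
    exact mem_sup_right (mem_map_of_mem _ hy)

theorem normalizer_le_normalizer_centralizer' (R : Subgroup X) :
    normalizer (R : Set X) ≤ normalizer (centralizer (R : Set X) : Set X) := by
  refine Solv.le_normalizer_of_conj_mem fun g hg c hc l hl => ?_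
  have h := hc (g⁻¹ * l * g) (by simpa using (mem_normalizer_iff.1 (inv_mem hg) l).1 hl)
  calc l * (g * c * g⁻¹) = g * (g⁻¹ * l * g * c) * g⁻¹ := by group
    _ = g * (c * (g⁻¹ * l * g)) * g⁻¹ := by rw [h]
    _ = g * c * g⁻¹ * l := by group

theorem normalizer_le_normalizer_cent (R : Subgroup X) :
    normalizer (R : Set X) ≤ normalizer (cent R : Set X) :=
  (normalizer_le_normalizer_centralizer' R).trans
    (le_normalizer_core_map (p := 2) (centralizer (R : Set X)))

theorem M_le_normalizer_base (T : Sylow 2 ↥(M X)) : M X ≤ normalizer (base T : Set X) := by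
  haveI : (pLayer 2 X).Normal := pLayer_normal
  haveI : (oddCore X).Normal := (inferInstance : (pPrimeCore 2 X).Normal)
  refine (M_le_sup T).trans (sup_le (le_trans le_sup_left le_normalizer) ?_)
  refine Solv.le_normalizer_of_conj_mem fun t ht x hx => ?_
  obtain ⟨a, ha, b, hb, rfl⟩ := mem_sup_of_normal_left.1 hx
  rw [show t * (a * b) * t⁻¹ = t * a * t⁻¹ * (t * b * t⁻¹) by group]
  refine mul_mem (mem_sup_left ((sup_normal (pLayer 2 X) (oddCore X)).conj_mem a ha t))
    (mem_sup_right ?_)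
  exact (mem_normalizer_iff.1 (normalizer_le_normalizer_cent _ (le_normalizer ht)) b).1 hb

theorem base_normal (T : Sylow 2 ↥(M X)) : (base T).Normal := by
  haveI : Fact (Nat.Prime 2) := ⟨Nat.prime_two⟩
  haveI := M_normal (X := X)
  haveI : (pLayer 2 X).Normal := pLayer_normal
  haveI : (oddCore X).Normal := (inferInstance : (pPrimeCore 2 X).Normal)
  rw [← normalizer_eq_top_iff, eq_top_iff, ← Sylow.normalizer_sup_eq_top T]
  refine sup_le ?_ (M_le_normalizer_base T)
  refine Solv.le_normalizer_of_conj_mem fun n hn x hx => ?_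
  obtain ⟨a, ha, b, hb, rfl⟩ := mem_sup_of_normal_left.1 hx
  rw [show n * (a * b) * n⁻¹ = n * a * n⁻¹ * (n * b * n⁻¹) by group]
  exact mul_mem (mem_sup_left ((sup_normal (pLayer 2 X) (oddCore X)).conj_mem a ha n))
    (mem_sup_right ((mem_normalizer_iff.1 (normalizer_le_normalizer_cent _ hn) b).1 hb))

/-- The extended layer is given by any one Sylow subgroup of `M`. -/
theorem extendedTwoLayer_eq (T : Sylow 2 ↥(M X)) : extendedTwoLayer X = base T := by
  haveI : Fact (Nat.Prime 2) := ⟨Nat.prime_two⟩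
  refine le_antisymm (sup_le le_sup_left (iSup_le fun T' => ?_)) (sup_le le_sup_left ?_)
  · obtain ⟨m, rfl⟩ := MulAction.exists_smul_eq (↥(M X)) T T'
    set g : X := (m : X)
    set R := sylowImage T
    set R' := sylowImage (m • T)
    show cent R' ≤ base T
    haveI := base_normal T
    -- conjugation by `g` carries `cent R` onto `cent R'`
    have hR : R' = R.map (MulAut.conj g).toMonoidHom := by
      show ((m • T : Sylow 2 ↥(M X)) : Subgroup ↥(M X)).map _ = _
      rw [Sylow.coe_subgroup_smul]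
      ext z
      constructor
      · rintro ⟨_, ⟨t, ht, rfl⟩, rfl⟩
        exact ⟨(t : X), ⟨t, ht, rfl⟩, rfl⟩
      · rintro ⟨_, ⟨t, ht, rfl⟩, rfl⟩
        exact ⟨m * t * m⁻¹, ⟨t, ht, rfl⟩, rfl⟩
    set C := centralizer (R : Set X)
    set C' := centralizer (R' : Set X)
    have hC : C'.map (MulAut.conj g⁻¹).toMonoidHom = C := by
      ext z
      constructor
      · rintro ⟨c, hc, rfl⟩ r hr
        show r * (g⁻¹ * c * g⁻¹⁻¹) = g⁻¹ * c * g⁻¹⁻¹ * r
        have := hc (g * r * g⁻¹) (by rw [hR]; exact ⟨r, hr, rfl⟩)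
        calc r * (g⁻¹ * c * g⁻¹⁻¹) = g⁻¹ * (g * r * g⁻¹ * c) * g := by group
          _ = g⁻¹ * (c * (g * r * g⁻¹)) * g := by rw [this]
          _ = g⁻¹ * c * g⁻¹⁻¹ * r := by group
      · intro hz
        refine ⟨g * z * g⁻¹, fun r hr => ?_, by show g⁻¹ * (g * z * g⁻¹) * g⁻¹⁻¹ = z; group⟩
        rw [hR] at hr
        obtain ⟨r, hr, rfl⟩ := hr
        show g * r * g⁻¹ * (g * z * g⁻¹) = g * z * g⁻¹ * (g * r * g⁻¹)
        calc g * r * g⁻¹ * (g * z * g⁻¹) = g * (r * z) * g⁻¹ := by group
          _ = g * (z * r) * g⁻¹ := by rw [hz r hr]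
          _ = g * z * g⁻¹ * (g * r * g⁻¹) := by group
    have hle : (cent R').map (MulAut.conj g⁻¹).toMonoidHom ≤ cent R := by
      show ((oddCore C').map C'.subtype).map _ ≤ (pPrimeCore 2 C).map C.subtype
      refine le_core_map ?_ ?_ ?_
      · rw [← hC]
        exact map_mono (map_subtype_le _)
      · rw [← hC]
        refine Solv.le_normalizer_of_conj_mem ?_
        rintro _ ⟨c, hc, rfl⟩ _ ⟨x, hx, rfl⟩
        exact ⟨c * x * c⁻¹, (mem_normalizer_iff.1
          (le_normalizer_core_map (p := 2) C' (le_normalizer hc)) x).1 hx,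
          by simp [mul_assoc]⟩
      · refine Nat.Coprime.coprime_dvd_left (card_map_dvd _ _) ?_
        show (Nat.card ((pPrimeCore 2 C').map C'.subtype : Subgroup X)).Coprime 2
        rw [Solv.card_map_subtype]
        exact Solv.card_pPrimeCore_coprime 2 _
    intro y hy
    have h1 : g⁻¹ * y * g⁻¹⁻¹ ∈ base T := mem_sup_right (hle ⟨y, hy, rfl⟩)
    simpa [mul_assoc] using (inferInstance : (base T).Normal).conj_mem _ h1 g
  · exact le_sup_of_le_right (le_iSup_of_le T le_rfl)

theorem extendedTwoLayer_normal : (extendedTwoLayer X).Normal := by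
  obtain ⟨T⟩ := Sylow.nonempty (p := 2) (G := ↥(M X))
  rw [extendedTwoLayer_eq T]
  exact base_normal T

theorem odd_card_cent (R : Subgroup X) : Odd (Nat.card (cent R)) := by
  rw [← Nat.coprime_two_right]
  show (Nat.card ((pPrimeCore 2 _).map (centralizer (R : Set X)).subtype : Subgroup X)).Coprime 2
  rw [Solv.card_map_subtype]
  exact Solv.card_pPrimeCore_coprime 2 _

theorem exists_odd_complement : ∃ F : Subgroup X, Odd (Nat.card F) ∧
    (∃ S : Sylow 2 X, (S : Subgroup X) ≤ normalizer (F : Set X)) ∧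
      extendedTwoLayer X = pLayer 2 X ⊔ F := by
  haveI : Fact (Nat.Prime 2) := ⟨Nat.prime_two⟩
  haveI := M_normal (X := X)
  haveI hOn : (oddCore X).Normal := (inferInstance : (pPrimeCore 2 X).Normal)
  obtain ⟨S⟩ := Sylow.nonempty (p := 2) (G := X)
  let T : Sylow 2 ↥(M X) := (S.isPGroup'.comap_of_injective (M X).subtype (M X).subtype_injective).toSylow
    (Solv.index_sylow_inf_subnormal (M X) (Normal.isSubnormal inferInstance) S)
  refine ⟨oddCore X ⊔ cent (sylowImage T), ?_, ⟨S, ?_⟩, (extendedTwoLayer_eq T).trans (sup_assoc _ _ _)⟩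
  · refine (Odd.mul (Nat.coprime_two_right.1 (Solv.card_pPrimeCore_coprime 2 X))
      (odd_card_cent (sylowImage T))).of_dvd_nat ?_
    have h := (Subgroup.subgroupOf (oddCore X) (oddCore X ⊔ cent (sylowImage T))).card_mul_index
    rw [Nat.card_congr (subgroupOfEquivOfLe le_sup_left).toEquiv] at h
    rw [← h]
    refine mul_dvd_mul_left _ ?_
    show (oddCore X).relIndex (oddCore X ⊔ cent (sylowImage T)) ∣ _
    rw [sup_comm, relIndex_sup_right]
    exact relIndex_dvd_card _ _
  · have hST : (S : Subgroup X) ≤ normalizer (sylowImage T : Set X) := by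
      refine Solv.le_normalizer_of_conj_mem ?_
      rintro s hs _ ⟨t, ht, rfl⟩
      exact ⟨⟨s * t * s⁻¹, M_normal.conj_mem _ t.2 s⟩,
        mul_mem (mul_mem hs (show (t : X) ∈ (S : Subgroup X) from ht)) (inv_mem hs), rfl⟩
    refine Solv.le_normalizer_of_conj_mem fun s hs x hx => ?_
    obtain ⟨a, ha, b, hb, rfl⟩ := mem_sup_of_normal_left.1 hx
    rw [show s * (a * b) * s⁻¹ = s * a * s⁻¹ * (s * b * s⁻¹) by group]
    exact mul_mem (mem_sup_left (hOn.conj_mem a ha s))
      (mem_sup_right ((mem_normalizer_iff.1 (normalizer_le_normalizer_cent _ (hST hs)) b).1 hb))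

theorem cent_le_normalizer {K : Subgroup X} (hK : IsPComponent 2 K) (T : Sylow 2 ↥(M X)) :
    centralizer (sylowImage T : Set X) ≤ normalizer (K : Set X) := by
  haveI : Fact (Nat.Prime 2) := ⟨Nat.prime_two⟩
  set f := QuotientGroup.mk' (pPrimeCore 2 X) with hf
  set E := layer (X ⧸ pPrimeCore 2 X)
  set Mb := (M X).map f
  have hEM : E ≤ Mb := by
    rw [show E = (pLayer 2 X).map f from pLayer_map_eq_layer.symm]
    exact map_mono le_sup_left
  haveI : E.Normal := layer_normal
  let Tb : Sylow 2 Mb := T.mapSurjective (f.subgroupMap_surjective (M X))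
  have hTb : (Tb : Subgroup Mb).map Mb.subtype = (sylowImage T).map f := by
    show ((T : Subgroup ↥(M X)).map (f.subgroupMap (M X))).map Mb.subtype = _
    rw [map_map, map_map]
    rfl
  set R := (sylowImage T).map f with hR
  have hidx : ¬ 2 ∣ (R.subgroupOf E).index := by
    intro hd
    refine Solv.index_sylow_inf_subnormal (E.subgroupOf Mb)
      (Normal.isSubnormal Subgroup.normal_subgroupOf) Tb (hd.trans (dvd_of_eq ?_))
    show R.relIndex E = (Tb : Subgroup Mb).relIndex (E.subgroupOf Mb)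
    conv_lhs => rw [← hTb, ← map_subgroupOf_eq_of_le hEM]
    exact relIndex_map_map_of_injective _ _ Mb.subtype_injective
  let S : Sylow 2 E := (((T.isPGroup'.map (M X).subtype).map f).comap_of_injective E.subtype
    E.subtype_injective).toSylow hidx
  have hW : (centralizer (sylowImage T : Set X)).map f ≤
      compNormalizer (X ⧸ pPrimeCore 2 X) := by
    refine le_compNormalizer_of_centralizes_sylow (Solv.pPrimeCore_quotient_pPrimeCore 2) S ?_
    rintro _ ⟨c, hc, rfl⟩ _ ⟨s, hs, rfl⟩
    obtain ⟨r, hr, e⟩ := (show (s : X ⧸ pPrimeCore 2 X) ∈ R from hs)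
    show (s : X ⧸ pPrimeCore 2 X) * f c = f c * s
    rw [← e, ← map_mul, ← map_mul, hc r hr]
  intro c hc
  rw [mem_normalizer_iff_map_conj_eq]
  refine pComponent_eq_of_map_eq (isPComponent_conj hK c) hK ?_
  have h1 := le_compNormalizer_iff.1 hW (K.map f) hK.2.1 (mem_map_of_mem f hc)
  rw [mem_normalizer_iff_map_conj_eq] at h1
  refine Eq.trans ?_ h1
  rw [map_map, map_map]
  congr 1

theorem component_normal {K : Subgroup X} (hK : IsPComponent 2 K) :
    K ≤ extendedTwoLayer X ∧ (K.subgroupOf (extendedTwoLayer X)).Normal := by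
  haveI : Fact (Nat.Prime 2) := ⟨Nat.prime_two⟩
  obtain ⟨T⟩ := Sylow.nonempty (p := 2) (G := ↥(M X))
  refine ⟨(le_sSup hK : K ≤ pLayer 2 X).trans (le_trans le_sup_left le_sup_left),
    normal_subgroupOf_of_le_normalizer ?_⟩
  rw [extendedTwoLayer_eq T]
  refine sup_le (sup_le (pLayer_le_normalizer hK) ?_) ((map_subtype_le _).trans (cent_le_normalizer hK T))
  intro g hg
  rw [mem_normalizer_iff_map_conj_eq]
  refine pComponent_map_conj_eq hK fun k _ => ?_
  have hn : (pPrimeCore 2 X).Normal := inferInstance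
  rw [mul_assoc, mul_assoc, ← mul_assoc k]
  exact mul_mem hg (hn.conj_mem _ (inv_mem hg) k)

end Cfsg.Agent.Local.ExtLayer
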