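import Cfsg.Agent.Lib.Local.LayerLocal
import Cfsg.Agent.Lib.Local.QuotientLocal
import Cfsg.Agent.Lib.Local.FStar

/-!
# Groups whose generalized Fitting subgroup is a `p`-group
-/

set_option autoImplicit false
set_option linter.style.haveILetI false

namespace Cfsg.Agent.Local

open Subgroup

variable {X : Type*} [Group X] [Finite X] {p : ℕ} [Fact p.Prime]

theorem generalizedFitting_normal : (generalizedFittingSubgroup X).Normal := by
  haveI : (layer X).Normal := layer_normal
  haveI := Solv.fittingSubgroup_normal X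
  exact sup_normal _ _

theorem fstar_eq_pCore_iff_isPGroup :
    generalizedFittingSubgroup X = pCore p X ↔ IsPGroup p (generalizedFittingSubgroup X) := by
  refine ⟨fun h => h ▸ Solv.isPGroup_pCore p X, fun h => ?_⟩
  haveI := generalizedFitting_normal (X := X)
  exact le_antisymm (Solv.le_pCore h)
    ((Solv.pCore_le_fittingSubgroup p).trans le_sup_right)

theorem isPGroup_fstar_sub {B : Subgroup X} [B.Normal]
    (h : IsPGroup p (generalizedFittingSubgroup X)) :
    IsPGroup p (generalizedFittingSubgroup B) := by
  have h2 : IsPGroup p ((generalizedFittingSubgroup B).map B.subtype) :=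
    h.to_le ((generalizedFitting_inf (Normal.isSubnormal inferInstance)).ge.trans inf_le_left)
  exact h2.of_equiv (equivMapOfInjective _ _ B.subtype_injective).symm

theorem isPGroup_fstar_of_index {B : Subgroup X} [B.Normal]
    (h : IsPGroup p (generalizedFittingSubgroup B)) {k : ℕ} (hk : B.index = p ^ k) :
    IsPGroup p (generalizedFittingSubgroup X) := by
  set F := generalizedFittingSubgroup X
  obtain ⟨j, hj⟩ := (h.map B.subtype).exists_card_eq
  rw [← generalizedFitting_inf (Normal.isSubnormal inferInstance)] at hj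
  have h1 : B.relIndex F ∣ p ^ k := hk ▸ relIndex_dvd_index_of_normal B F
  obtain ⟨i, -, hi⟩ := (Nat.dvd_prime_pow (Fact.out : p.Prime)).1 h1
  refine IsPGroup.of_card (n := j + i) ?_
  have h2 := (B.subgroupOf F).card_mul_index
  rw [show (B.subgroupOf F).index = p ^ i from hi] at h2
  rw [← h2, pow_add, ← hj, ← Nat.card_congr (subgroupOfEquivOfLe (inf_le_left : F ⊓ B ≤ F)).toEquiv,
    inf_subgroupOf_left]

theorem isPGroup_fstar_congr {Y : Type*} [Group Y] [Finite Y] (e : X ≃* Y)
    (h : IsPGroup p (generalizedFittingSubgroup X)) : IsPGroup p (generalizedFittingSubgroup Y) := by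
  refine (h.map e.toMonoidHom).to_le ?_
  have hL : layer Y ≤ (layer X).map e.toMonoidHom := sSup_le fun K hK => by
    have h2 : IsComponent (K.map e.symm.toMonoidHom) := isComponent_map_equiv e.symm hK
    intro y hy
    exact ⟨e.symm y, (le_sSup h2 : _ ≤ layer X) ⟨y, hy, rfl⟩, e.apply_symm_apply y⟩
  refine sup_le (hL.trans (map_mono le_sup_left)) ?_
  rw [← Solv.fittingSubgroup_map_equiv e]
  exact map_mono le_sup_right

/-- One step: `V` normalized by `U`. -/
theorem isPGroup_fstar_centralizer_step {U V : Subgroup X} (hU : IsPGroup p U) (hVU : V ≤ U)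
    (hn : U ≤ normalizer (V : Set X))
    (h : IsPGroup p (generalizedFittingSubgroup (centralizer (V : Set X)))) :
    IsPGroup p (generalizedFittingSubgroup (centralizer (U : Set X))) := by
  set C := centralizer (V : Set X) with hC
  have hUC : U ≤ normalizer (C : Set X) := by
    refine Solv.le_normalizer_of_conj_mem fun u hu c hc v hv => ?_
    have hv' : u⁻¹ * v * u ∈ V := by
      simpa using (mem_normalizer_iff.1 (inv_mem (hn hu)) v).1 hv
    have := hc _ hv'
    calc v * (u * c * u⁻¹) = u * (u⁻¹ * v * u * c) * u⁻¹ := by group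
      _ = u * (c * (u⁻¹ * v * u)) * u⁻¹ := by rw [this]
      _ = u * c * u⁻¹ * v := by group
  set H := C ⊔ U with hH
  haveI : (C.subgroupOf H).Normal :=
    normal_subgroupOf_of_le_normalizer (sup_le le_normalizer hUC)
  have hi : ∃ k, (C.subgroupOf H).index = p ^ k := by
    have hk : (C.subgroupOf H).index = C.relIndex U := by
      rw [← relIndex_top_right,
        show (⊤ : Subgroup H) = U.subgroupOf H ⊔ C.subgroupOf H by
          rw [← subgroupOf_sup (le_sup_right : U ≤ H) (le_sup_left : C ≤ H), sup_comm, subgroupOf_self],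
        relIndex_sup_right, relIndex_subgroupOf le_sup_right]
    obtain ⟨n, hn⟩ := hU.exists_card_eq
    obtain ⟨i, -, hi⟩ := (Nat.dvd_prime_pow (Fact.out : p.Prime)).1
      (hn ▸ relIndex_dvd_card C U)
    exact ⟨i, hk.trans hi⟩
  obtain ⟨k, hk⟩ := hi
  have h1 : IsPGroup p (generalizedFittingSubgroup H) := isPGroup_fstar_of_index
    (isPGroup_fstar_congr (subgroupOfEquivOfLe (le_sup_left : C ≤ H)).symm h) hk
  have hUp : IsPGroup p (U.subgroupOf H) := hU.comap_subtype
  have h2 := fstar_eq_pCore_iff_isPGroup.1
    (fstar_normalizer_eq_pCore (fstar_eq_pCore_iff_isPGroup.2 h1) hUp)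
  set N := normalizer ((U.subgroupOf H : Subgroup H) : Set H) with hN
  set W := centralizer (U : Set X) with hW
  have hWC : W ≤ C := centralizer_le hVU
  have hWH : W ≤ H := hWC.trans le_sup_left
  have hWN : W.subgroupOf H ≤ N := by
    intro w hw
    rw [hN, mem_normalizer_iff]
    intro u
    have e : ∀ z ∈ U, (w : X) * z * (w : X)⁻¹ = z := fun z hz =>
      mul_inv_eq_iff_eq_mul.2 (hw z hz).symm
    constructor
    · intro hu
      show (w : X) * u * (w : X)⁻¹ ∈ U
      rw [e u hu]; exact hu
    · intro hu
      have hz : (w : X) * u * (w : X)⁻¹ ∈ U := hu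
      have := hw _ hz
      show (u : X) ∈ U
      convert hz using 1
      have h3 : (w : X) * u * (w : X)⁻¹ * w = (w : X) * ((w : X) * u * (w : X)⁻¹) := this
      rw [inv_mul_cancel_right] at h3
      exact mul_left_cancel h3
  haveI : ((W.subgroupOf H).subgroupOf N).Normal := ⟨fun w hw n u hu => by
    have hu' : (⟨u, le_sup_right (a := C) hu⟩ : H) ∈ U.subgroupOf H := hu
    have hn : ((n : H) : X)⁻¹ * u * ((n : H) : X) ∈ U := by
      have := (mem_normalizer_iff.1 (inv_mem n.2) _).1 hu'
      simpa [mem_subgroupOf] using this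
    have hw' : ((w : H) : X) ∈ W := hw
    have h3 := hw' _ hn
    show u * (((n : H) : X) * ((w : H) : X) * ((n : H) : X)⁻¹) =
      ((n : H) : X) * ((w : H) : X) * ((n : H) : X)⁻¹ * u
    calc u * (((n : H) : X) * ((w : H) : X) * ((n : H) : X)⁻¹)
        = ((n : H) : X) * (((n : H) : X)⁻¹ * u * ((n : H) : X) * ((w : H) : X)) *
            ((n : H) : X)⁻¹ := by group
      _ = _ := by rw [h3]; group⟩
  exact isPGroup_fstar_congr ((subgroupOfEquivOfLe hWN).trans (subgroupOfEquivOfLe hWH))
    (isPGroup_fstar_sub (B := (W.subgroupOf H).subgroupOf N) h2)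

theorem isPGroup_fstar_centralizer_mono {U : Subgroup X} (hU : IsPGroup p U) :
    ∀ V : Subgroup X, V ≤ U → IsPGroup p (generalizedFittingSubgroup (centralizer (V : Set X))) →
      IsPGroup p (generalizedFittingSubgroup (centralizer (U : Set X))) := by
  intro V
  induction V using WellFoundedGT.induction with
  | _ V ih =>
    intro hVU h
    rcases hVU.lt_or_eq with hlt | rfl
    · haveI := hU.isNilpotent
      set W := U ⊓ normalizer (V : Set X) with hW
      have hVW : V < W := by
        refine lt_of_le_of_ne (le_inf hVU le_normalizer) fun e => ?_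
        have hn := normalizerCondition_of_isNilpotent (V.subgroupOf U)
          (lt_top_iff_ne_top.2 fun e' => hlt.not_ge (subgroupOf_eq_top.1 e'))
        refine hn.not_ge fun y hy => ?_
        have h4 : (y : X) ∈ W := by
          refine ⟨y.2, mem_normalizer_iff.2 fun z => ⟨fun hz => ?_, fun hz => ?_⟩⟩
          · exact (mem_normalizer_iff.1 hy ⟨z, hVU hz⟩).1 hz
          · have hzU : z ∈ U := by
              have := U.mul_mem (U.mul_mem (U.inv_mem y.2) (hVU hz)) y.2
              simpa [mul_assoc] using this
            exact (mem_normalizer_iff.1 hy ⟨z, hzU⟩).2 hz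
        rw [← e] at h4
        exact h4
      exact ih W hVW inf_le_left
        (isPGroup_fstar_centralizer_step (hU.to_le inf_le_left) hVW.le inf_le_right h)
    · exact h

end Cfsg.Agent.Local
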