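import Cfsg.Agent.Lib.Local.FrakMAsym
import Cfsg.Agent.Lib.Local.CharPBasics
import Cfsg.Agent.Lib.Solv.Coprime
import Cfsg.Agent.Lib.Solv.StructMisc
import Cfsg.Agent.Lib.Solv.NormalPComplement

/-!
Subgroups of characteristic `p` over `O_p(M)`.
-/

set_option autoImplicit false
set_option linter.style.haveILetI false

namespace Cfsg.Agent.Local.FrakH

open Subgroup
open scoped commutatorElement

variable {G : Type*} [Group G] [Finite G] {p : ℕ} [Fact p.Prime]

theorem rotate_le {A B C D : Subgroup G} (hA : A ≤ normalizer (D : Set G))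
    (hB : B ≤ normalizer (D : Set G)) (hC : C ≤ normalizer (D : Set G))
    (h1 : ⁅⁅B, C⁆, A⁆ ≤ D) (h2 : ⁅⁅C, A⁆, B⁆ ≤ D) : ⁅⁅A, B⁆, C⁆ ≤ D := by
  set T := normalizer (D : Set G) with hT
  haveI : (D.subgroupOf T).Normal := normal_subgroupOf_of_le_normalizer le_rfl
  set f := QuotientGroup.mk' (D.subgroupOf T) with hf
  have key : ∀ U V W : Subgroup G, U ≤ T → V ≤ T → W ≤ T →
      (⁅⁅(U.subgroupOf T).map f, (V.subgroupOf T).map f⁆, (W.subgroupOf T).map f⁆ = ⊥ ↔
        ⁅⁅U, V⁆, W⁆ ≤ D) := by
    intro U V W hU hV hW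
    rw [← map_commutator, ← map_commutator, Subgroup.map_eq_bot_iff, hf, QuotientGroup.ker_mk',
      ← map_le_map_iff_of_injective T.subtype_injective, map_commutator, map_commutator,
      map_subgroupOf_eq_of_le hU, map_subgroupOf_eq_of_le hV, map_subgroupOf_eq_of_le hW,
      map_subgroupOf_eq_of_le (le_normalizer : D ≤ T)]
  exact (key A B C hA hB hC).1 (commutator_commutator_eq_bot_of_rotate
    ((key B C A hB hC hA).2 h1) ((key C A B hC hA hB).2 h2))

theorem mem_normalizer_of_le {K : Type*} [Group K] [Finite K] {A : Subgroup K} {g : K}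
    (h : A ≤ A.comap (MulAut.conj g).toMonoidHom) : g ∈ normalizer (A : Set K) :=
  Solv.mem_normalizer_of_conj_le (map_le_iff_le_comap.2 h)

theorem pCoreOf_le_sylow_map {H : Subgroup G} (P : Sylow p ↥H) :
    pCoreOf p H ≤ (P : Subgroup ↥H).map H.subtype :=
  map_mono (Solv.pCore_le_sylow P)

/-- A normal `p`-subgroup of `P` lies in `O_p(P)`. -/
theorem le_pCoreOf {P V : Subgroup G} (hV : IsPGroup p ↥V) (hVP : V ≤ P)
    (hn : P ≤ normalizer (V : Set G)) : V ≤ pCoreOf p P := by
  haveI : (V.subgroupOf P).Normal := normal_subgroupOf_of_le_normalizer hn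
  have hle : V.subgroupOf P ≤ pCore p ↥P :=
    Solv.le_pCore (N := V.subgroupOf P) (hV.comap_subtype (K := P))
  exact fun x hx => ⟨⟨x, hVP hx⟩, hle (show (⟨x, hVP hx⟩ : P) ∈ V.subgroupOf P from hx), rfl⟩

theorem le_normalizer_pCoreOf (P : Subgroup G) : P ≤ normalizer (pCoreOf p P : Set G) :=
  haveI := Solv.pCore_characteristic p ↥P
  Struct.CoprimeMinimal.le_normalizer_map_char P P le_normalizer _

theorem isPGroup_pCoreOf (P : Subgroup G) : IsPGroup p ↥(pCoreOf p P) :=
  (Solv.isPGroup_pCore p ↥P).map _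

theorem pCoreOf_inf_le {P D : Subgroup G} (hD : D ≤ P) : pCoreOf p P ⊓ D ≤ pCoreOf p D :=
  le_pCoreOf ((isPGroup_pCoreOf P).to_le inf_le_left) inf_le_right
    (Solv.le_normalizer_inf (hD.trans (le_normalizer_pCoreOf P)) le_normalizer)

theorem pCoreOf_le_of_normal {P D : Subgroup G} (hD : D ≤ P) (hn : P ≤ normalizer (D : Set G)) :
    pCoreOf p D ≤ pCoreOf p P :=
  le_pCoreOf (isPGroup_pCoreOf D) ((map_subtype_le _).trans hD)
    (haveI := Solv.pCore_characteristic p ↥D
     Struct.CoprimeMinimal.le_normalizer_map_char P D hn _)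

/-- A subgroup of a group of characteristic `p` containing a self-centralizing `p`-subgroup `O`
normalized by the `p`-core has characteristic `p`. -/
theorem charP_overgroup {L P O : Subgroup G} (hO : IsPGroup p ↥O)
    (hCO : centralizer (O : Set G) ≤ O) (hL : centralizer (pCore p ↥L : Set ↥L) ≤ pCore p ↥L)
    (hOP : O ≤ P) (hPL : P ≤ L) (hRO : pCoreOf p L ≤ normalizer (O : Set G)) :
    centralizer (pCore p ↥P : Set ↥P) ≤ pCore p ↥P := by
  set R := pCoreOf p L with hR
  have hRp : IsPGroup p ↥R := isPGroup_pCoreOf L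
  have hPR : P ≤ normalizer (R : Set G) := hPL.trans (le_normalizer_pCoreOf L)
  set V := pCoreOf p P with hV
  have hVp : IsPGroup p ↥V := isPGroup_pCoreOf P
  have hPV : P ≤ normalizer (V : Set G) := le_normalizer_pCoreOf P
  set D := R ⊓ P with hD
  have hPD : P ≤ normalizer (D : Set G) := Solv.le_normalizer_inf hPR le_normalizer
  have hDV : D ≤ V := le_pCoreOf (hRp.to_le inf_le_left) inf_le_right hPD
  set E := P ⊓ centralizer (V : Set G) with hE
  have hPE : P ≤ normalizer (E : Set G) :=
    Solv.le_normalizer_inf le_normalizer (LargeSub.le_normalizer_centralizer hPV)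
  have hED : E ≤ centralizer (D : Set G) := inf_le_right.trans (centralizer_le hDV)
  have hROD : ⁅R, O⁆ ≤ D := le_inf (Solv.commutator_normalizer_le O R (hOP.trans hPR))
    ((le_normalizer_iff_commutator_le_right.1 hRO).trans hOP)
  set N := R ⊓ centralizer (D : Set G) with hN
  have hPN : P ≤ normalizer (N : Set G) :=
    Solv.le_normalizer_inf hPR (LargeSub.le_normalizer_centralizer hPD)
  set F := ⁅O, E⁆ with hF
  have hFE : F ≤ E := by
    rw [hF, commutator_comm]
    exact Solv.commutator_normalizer_le O E (hOP.trans hPE)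
  have hND : N ≤ normalizer (D : Set G) := inf_le_right.trans (centralizer_le_normalizer _)
  have hFND : ⁅F, N⁆ ≤ D := by
    refine rotate_le (hOP.trans hPD) (inf_le_left.trans hPD) hND ?_ ?_
    · refine le_trans (commutator_mono ?_ le_rfl)
        ((commutator_mono (inf_le_left : N ≤ R) le_rfl).trans hROD)
      rw [commutator_comm]
      exact Solv.commutator_normalizer_le E N (inf_le_left.trans hPN)
    · refine (commutator_mono ((commutator_mono (inf_le_left : N ≤ R) le_rfl).trans hROD) le_rfl).trans ?_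
      rw [commutator_comm, commutator_eq_bot_iff_le_centralizer.2 hED]
      exact bot_le
  have hFp : IsPGroup p ↥F := CharPB.isPGroup_of_forall_eq_one fun x hx hco => by
    have hxE : x ∈ E := hFE hx
    have hzN : zpowers x ≤ normalizer (N : Set G) := zpowers_le.2 (hPN hxE.1)
    have hxN : x ∈ centralizer (N : Set G) := by
      refine CharPB.centralizes_of_iterCommutator (hRp.to_le inf_le_left) hco hzN (n := 2) (le_bot_iff.1 ?_)
      show ⁅⁅N, zpowers x⁆, zpowers x⁆ ≤ ⊥
      refine (commutator_mono ((commutator_mono le_rfl (zpowers_le.2 hx)).trans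
        ((commutator_comm N F).le.trans hFND)) le_rfl).trans (le_of_eq ?_)
      rw [commutator_comm, commutator_eq_bot_iff_le_centralizer, zpowers_le]
      exact hED hxE
    have hzR : zpowers x ≤ centralizer (R : Set G) := by
      refine Solv.thompson_pq p D (zpowers x) R (hRp.to_le inf_le_left) ?_ hRp ?_
        ((inf_le_right : D ≤ P).trans hPR)
        (zpowers_le.2 (hPR hxE.1)) ?_
      · rw [Nat.card_zpowers]; exact hco
      · exact le_centralizer_iff.1 (zpowers_le.2 (hED hxE))
      · exact le_centralizer_iff.1 (zpowers_le.2 hxN)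
    have hxO : (⟨x, hPL hxE.1⟩ : L) ∈ pCore p ↥L := hL (mem_centralizer_iff.2 fun r hr =>
      Subtype.ext (mem_centralizer_iff.1 (hzR (mem_zpowers x)) r ⟨r, hr, rfl⟩))
    obtain ⟨k, hk⟩ := IsPGroup.iff_card.1 (Solv.isPGroup_pCore p ↥L)
    have h1 : orderOf (⟨x, hPL hxE.1⟩ : L) ∣ p ^ k := hk ▸ Subgroup.orderOf_dvd_natCard _ hxO
    rw [Subgroup.orderOf_mk] at h1
    exact orderOf_eq_one_iff.1 (Nat.eq_one_of_dvd_coprimes (hco.pow_right k) dvd_rfl h1)
  have hFV : F ≤ V := by
    refine (le_pCoreOf hFp hFE ?_).trans (pCoreOf_le_of_normal inf_le_left hPE)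
    rw [hF]
    exact normalizer_commutator_ge_right O E
  set U := V ⊔ O with hU
  have hUp : IsPGroup p ↥U := hVp.to_sup_of_normal_left' hO (hOP.trans hPV)
  have hEp : IsPGroup p ↥E := CharPB.isPGroup_of_forall_eq_one fun x hx hco => by
    have hzn : zpowers x ≤ normalizer (U : Set G) := by
      rw [zpowers_le]
      refine mem_normalizer_of_le ?_
      refine sup_le ?_ ?_
      · exact fun v hv => mem_sup_left ((mem_normalizer_iff.1 (hPV hx.1) v).1 hv)
      · intro o ho
        show x * o * x⁻¹ ∈ U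
        rw [show x * o * x⁻¹ = ⁅x, o⁆ * o by rw [commutatorElement_def]; group]
        refine mul_mem (mem_sup_left (hFV ?_)) (mem_sup_right ho)
        rw [hF, commutator_comm]
        exact commutator_mem_commutator hx ho
    have hUV : ⁅U, zpowers x⁆ ≤ V := by
      rw [commutator_le]
      intro u hu z hz
      have hzE : z ∈ E := zpowers_le.2 hx hz
      have hu' : u ∈ ((V ⊔ O : Subgroup G) : Set G) := hu
      rw [coe_mul_of_right_le_normalizer_left V O (hOP.trans hPV)] at hu'
      obtain ⟨v, hv, o, ho, rfl⟩ := Set.mem_mul.1 hu'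
      have hvz : v * z = z * v := mem_centralizer_iff.1 hzE.2 v hv
      rw [show ⁅v * o, z⁆ = v * ⁅o, z⁆ * v⁻¹ * ⁅v, z⁆ by simp [commutatorElement_def, mul_assoc],
        commutatorElement_eq_one_iff_mul_comm.2 hvz, mul_one]
      exact mul_mem (mul_mem hv (hFV (commutator_mem_commutator ho hzE))) (inv_mem hv)
    have hc : x ∈ centralizer (U : Set G) := by
      refine CharPB.centralizes_of_iterCommutator hUp hco hzn (n := 2) (le_bot_iff.1 ?_)
      show ⁅⁅U, zpowers x⁆, zpowers x⁆ ≤ ⊥
      refine (commutator_mono hUV le_rfl).trans (le_of_eq ?_)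
      rw [commutator_comm, commutator_eq_bot_iff_le_centralizer, zpowers_le]
      exact hx.2
    have hxO : x ∈ O := hCO (centralizer_le (SetLike.coe_subset_coe.2 le_sup_right) hc)
    obtain ⟨k, hk⟩ := IsPGroup.iff_card.1 hO
    exact orderOf_eq_one_iff.1 (Nat.eq_one_of_dvd_coprimes (hco.pow_right k) dvd_rfl
      (hk ▸ Subgroup.orderOf_dvd_natCard _ hxO))
  have hEV : E ≤ V := le_pCoreOf hEp inf_le_left hPE
  intro x hx
  obtain ⟨y, hy, hyx⟩ := hEV (show (x : G) ∈ E from ⟨x.2, mem_centralizer_iff.2 (by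
    rintro _ ⟨v, hv, rfl⟩
    exact congrArg Subtype.val (mem_centralizer_iff.1 hx v hv))⟩)
  rwa [← Subtype.ext hyx]

variable (S : Sylow p G) {M : Subgroup G}

theorem sylow_le_normalizer (hH : IsOfParabolicCharacteristic p G) (hSM : (S : Subgroup G) ≤ M)
    (hM : IsInFrakM p M) (hasym : ¬ IsSymmetricIn (largestPReducedOf p M)) {H : Subgroup G}
    (hOH : pCoreOf p M ≤ H) :
    ∃ P : Sylow p ↥H, pCoreOf p M ≤ (P : Subgroup ↥H).map H.subtype ∧
      (P : Subgroup ↥H).map H.subtype ≤ normalizer (pCoreOf p M : Set G) ∧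
      pCoreOf p H ≤ normalizer (pCoreOf p M : Set G) := by
  obtain ⟨P, hP⟩ := ((isPGroup_pCoreOf (p := p) M).comap_subtype (K := H)).exists_le_sylow
  have h1 : pCoreOf p M ≤ (P : Subgroup ↥H).map H.subtype := fun o ho =>
    ⟨⟨o, hOH ho⟩, hP (show (⟨o, hOH ho⟩ : H) ∈ (pCoreOf p M).subgroupOf H from ho), rfl⟩
  have h2 : (P : Subgroup ↥H).map H.subtype ≤ normalizer (pCoreOf p M : Set G) :=
    le_normalizer.trans (FrakM.normalizer_le_of_pGroup S hH hSM hM hasym (P.isPGroup'.map _) h1)
  exact ⟨P, h1, h2, (pCoreOf_le_sylow_map P).trans h2⟩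

/-- The basic structure of a member of `ℌ(O_p(M))`. -/
theorem structure_facts {H : Subgroup G} (hYO : largestPReducedOf p M ≤ pCoreOf p M)
    (hYc : pCoreOf p M ≤ centralizer (largestPReducedOf p M : Set G))
    (hH : IsInFrakH p M H) :
    (normalClosure (((pCoreOf p M).subgroupOf H : Subgroup ↥H) : Set ↥H) = ⊤) ∧
    pResidual p ↥H ⊔ (pCoreOf p M).subgroupOf H = ⊤ ∧
    pResidual p ↥H ⊔ (largestPReducedOf p M).subgroupOf H =
      normalClosure (((largestPReducedOf p M).subgroupOf H : Subgroup ↥H) : Set ↥H) ∧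
    ⁅pResidual p ↥H, (largestPReducedOf p M).subgroupOf H⁆ = pResidual p ↥H := by
  obtain ⟨hchar, hOH, hYn, hmin⟩ := hH
  set O := pCoreOf p M with hO
  set Y := largestPReducedOf p M with hY
  set O' := O.subgroupOf H with hO'
  set Y' := Y.subgroupOf H with hY'
  set R := pResidual p ↥H with hR
  haveI hRn : R.Normal := inferInstance
  have hYH : Y ≤ H := hYO.trans hOH
  have hO'p : IsPGroup p ↥O' := (isPGroup_pCoreOf M).comap_subtype
  have hmin' : ∀ N : Subgroup ↥H, N.Normal → ∀ X : Subgroup ↥H, O' ≤ X → X ≠ ⊤ → Y' ≤ N → N ≤ X → False := by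
    intro N hN X hOX hX hYN hNX
    set Ng := N.map H.subtype with hNg
    set Xg := X.map H.subtype with hXg
    have hlt : Xg < H := by
      refine lt_of_le_of_ne (map_subtype_le X) fun e => hX (map_injective H.subtype_injective ?_)
      rw [← hXg, e, ← MonoidHom.range_eq_map, range_subtype]
    have hOXg : O ≤ Xg := fun o ho => ⟨⟨o, hOH ho⟩, hOX (show (⟨o, hOH ho⟩ : H) ∈ O' from ho), rfl⟩
    have h1 := hmin Xg hOXg hlt
    have hYNg : Y ≤ Ng := fun y hy => ⟨⟨y, hYH hy⟩, hYN (show (⟨y, hYH hy⟩ : H) ∈ Y' from hy), rfl⟩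
    have hHN : H ≤ normalizer (Ng : Set G) := by
      refine Solv.le_normalizer_of_conj_mem ?_
      rintro a ha _ ⟨n, hn, rfl⟩
      exact ⟨⟨a, ha⟩ * n * ⟨a, ha⟩⁻¹, hN.conj_mem n hn _, rfl⟩
    exact hYn ((le_inf h1 hYNg).trans ((pCoreOf_inf_le (map_mono hNX)).trans
      (pCoreOf_le_of_normal (map_subtype_le _) hHN)))
  have hD : normalClosure (O' : Set ↥H) = ⊤ := by
    by_contra hne
    exact hmin' _ normalClosure_normal _ le_normalClosure hne
      ((fun y hy => le_normalClosure (show y ∈ O' from hYO hy)) : Y' ≤ normalClosure (O' : Set ↥H)) le_rfl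
  -- the quotient by a normal subgroup with `p`-power index
  have hgen : R ⊔ O' = ⊤ := by
    set f := QuotientGroup.mk' R with hf
    have hQ : IsPGroup p (↥H ⧸ R) := by
      obtain ⟨k, hk⟩ := Solv.exists_pResidual_index (p := p) (G := ↥H)
      exact IsPGroup.of_card (n := k) (by rw [← index_eq_card]; exact hk)
    haveI := hQ.isNilpotent
    set U := O'.map f ⊔ commutator (↥H ⧸ R) with hU
    haveI : U.Normal := ⟨fun x hx g => by
      rw [show g * x * g⁻¹ = ⁅g, x⁆ * x by rw [commutatorElement_def]; group]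
      exact mul_mem (mem_sup_right (Subgroup.commutator_mem_commutator (mem_top g) (mem_top x))) hx⟩
    have h1 : normalClosure (O' : Set ↥H) ≤ U.comap f :=
      normalClosure_le_normal fun o ho => mem_sup_left ⟨o, ho, rfl⟩
    rw [hD] at h1
    have h2 : U = ⊤ := eq_top_iff.2 fun q _ => by
      obtain ⟨x, rfl⟩ := QuotientGroup.mk'_surjective R q
      exact h1 (mem_top x)
    have h3 : O'.map f = ⊤ := frattini_nongenerating (eq_top_iff.2
      (h2.ge.trans (sup_le_sup_left Solv.commutator_le_frattini _)))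
    have h4 := congrArg (Subgroup.comap f) h3
    rw [comap_map_eq, hf, QuotientGroup.ker_mk', comap_top, sup_comm] at h4
    exact h4
  have hres : ∀ K : Subgroup ↥H, K.Normal → K ⊔ O' = ⊤ → R ≤ K := by
    intro K hK hKO
    have hQ : IsPGroup p (↥H ⧸ K) := by
      refine hO'p.of_surjective ((QuotientGroup.mk' K).comp O'.subtype) fun q => ?_
      obtain ⟨x, rfl⟩ := QuotientGroup.mk'_surjective K q
      obtain ⟨k, hk, o, ho, rfl⟩ := mem_sup_of_normal_left.1 (hKO ▸ mem_top x : x ∈ K ⊔ O')
      refine ⟨⟨o, ho⟩, ?_⟩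
      show QuotientGroup.mk' K o = QuotientGroup.mk' K (k * o)
      rw [map_mul, show QuotientGroup.mk' K k = 1 from (QuotientGroup.eq_one_iff k).2 hk, one_mul]
    have := Solv.pResidual_le_ker_of_isPGroup hQ (QuotientGroup.mk' K)
    rwa [QuotientGroup.ker_mk'] at this
  set N0 := normalClosure (Y' : Set ↥H) with hN0
  have hRN0 : R ≤ N0 := by
    refine hres N0 normalClosure_normal ?_
    by_contra hne
    exact hmin' N0 normalClosure_normal _ le_sup_right hne le_normalClosure le_sup_left
  have hOY : O' ≤ centralizer (Y' : Set ↥H) := fun o ho => mem_centralizer_iff.2 fun y hy =>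
    Subtype.ext (mem_centralizer_iff.1 (hYc ho) (y : G) hy)
  set K := ⁅R, Y'⁆ with hK
  have hKn : K.Normal := by
    rw [← normalizer_eq_top_iff, eq_top_iff, ← hgen]
    refine sup_le (normalizer_commutator_ge_left R Y') ?_
    refine le_trans (le_inf (by rw [normalizer_eq_top]; exact le_top)
      (hOY.trans (centralizer_le_normalizer _))) (Solv.normalizer_le_normalizer_commutator R Y')
  have hKY : (K ⊔ Y').Normal := by
    rw [← normalizer_eq_top_iff, eq_top_iff, ← hgen]
    refine sup_le (fun r hr => ?_) (fun o ho => ?_)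
    · refine mem_normalizer_of_le (sup_le (fun z hz => ?_) (fun z hz => ?_))
      · exact mem_sup_left (hKn.conj_mem z hz r)
      · show r * z * r⁻¹ ∈ K ⊔ Y'
        rw [show r * z * r⁻¹ = ⁅r, z⁆ * z by rw [commutatorElement_def]; group]
        exact mul_mem (mem_sup_left (commutator_mem_commutator hr hz)) (mem_sup_right hz)
    · refine mem_normalizer_of_le (sup_le (fun z hz => ?_) (fun z hz => ?_))
      · exact mem_sup_left (hKn.conj_mem z hz o)
      · show o * z * o⁻¹ ∈ K ⊔ Y'
        rw [← mem_centralizer_iff.1 (hOY ho) z hz, mul_inv_cancel_right]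
        exact mem_sup_right hz
  have hN0le : N0 ≤ K ⊔ Y' := normalClosure_le_normal fun y hy => mem_sup_right hy
  haveI := hKn
  have hKR : K = R := by
    refine le_antisymm (commutator_le_left R Y') (hres K hKn (eq_top_iff.2 ?_))
    rw [← hgen]
    refine sup_le (hRN0.trans (hN0le.trans (sup_le le_sup_left ?_))) le_sup_right
    exact fun y hy => mem_sup_right (show y ∈ O' from hYO hy)
  refine ⟨hD, hgen, le_antisymm (sup_le hRN0 le_normalClosure) ?_, hKR⟩
  rw [← hKR]
  exact hN0le

end Cfsg.Agent.Local.FrakH
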