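import Cfsg.Agent.Lib.Local.WeaklyClosedBasics
import Cfsg.Agent.Lib.Local.CharPEquiv
import Cfsg.Agent.Lib.Local.AmalgamBasics
import Cfsg.Agent.Lib.Solv.Misc
import Cfsg.Agent.Lib.Struct.CoprimeMinimal
import Cfsg.Prelude.Def_LocalStructure

/-!
Weakly closed subgroups `Q` with `C(Q) ≤ Q`, and large subgroups.
-/

set_option autoImplicit false
set_option linter.style.haveILetI false

namespace Cfsg.Agent.Local.LargeSub

open Subgroup
open scoped Pointwise commutatorElement

variable {H : Type*} [Group H] [Finite H] {p : ℕ} [hp : Fact p.Prime]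

local notation "cj" => fun (g : H) (L : Subgroup H) => Subgroup.map (MulEquiv.toMonoidHom (MulAut.conj g)) L

theorem fixed_ne_bot {R Q : Subgroup H} (hR : IsPGroup p R) (hQ : IsPGroup p Q)
    (hn : Q ≤ normalizer (R : Set H)) (hR1 : R ≠ ⊥) : R ⊓ centralizer (Q : Set H) ≠ ⊥ := by
  set M := R ⊔ Q
  have hM : IsPGroup p M := hR.to_sup_of_normal_left' hQ hn
  haveI := hM.isNilpotent
  haveI : (R.subgroupOf M).Normal :=
    normal_subgroupOf_of_le_normalizer (sup_le le_normalizer hn)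
  have hne := Solv.inf_center_ne_bot (G := M) (R.subgroupOf M) fun e => hR1 (by
    rw [subgroupOf_eq_bot] at e
    exact e.eq_bot_of_le le_sup_left)
  obtain ⟨⟨x, hx⟩, hx1⟩ := ne_bot_iff_exists_ne_one.1 hne
  intro e
  refine hx1 (Subtype.ext (Subtype.ext ?_))
  have h1 : (x : H) ∈ R ⊓ centralizer (Q : Set H) :=
    mem_inf.2 ⟨(mem_inf.1 hx).1, mem_centralizer_iff.2 fun q hq =>
      congrArg Subtype.val (mem_center_iff.1 (mem_inf.1 hx).2 ⟨q, mem_sup_right hq⟩)⟩
  rw [e] at h1
  exact mem_bot.1 h1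

theorem le_normalizer_centralizer {A X : Subgroup H} (h : A ≤ normalizer (X : Set H)) :
    A ≤ normalizer ((centralizer (X : Set H) : Subgroup H) : Set H) := by
  refine Solv.le_normalizer_of_conj_mem fun a ha c hc => ?_
  rw [mem_centralizer_iff]
  intro x hx
  have h1 := mem_centralizer_iff.1 hc _ ((mem_normalizer_iff''.1 (h ha) x).1 hx)
  calc x * (a * c * a⁻¹) = a * ((a⁻¹ * x * a) * c) * a⁻¹ := by group
    _ = a * (c * (a⁻¹ * x * a)) * a⁻¹ := by rw [h1]
    _ = a * c * a⁻¹ * x := by group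

omit [Finite H] hp in
/-- If `Q` is trivial on `O / U`, so is `⁅M, Q⁆`. -/
theorem commutator_trivial_on {M Q O U : Subgroup H} (hMO : M ≤ normalizer (O : Set H))
    (hMU : M ≤ normalizer (U : Set H)) (hQU : Q ≤ normalizer (U : Set H))
    (hQ : ∀ q ∈ Q, ∀ o ∈ O, q * o * q⁻¹ * o⁻¹ ∈ U) :
    ∀ e ∈ ⁅M, Q⁆, ∀ o ∈ O, e * o * e⁻¹ * o⁻¹ ∈ U := by
  let S : Subgroup H :=
    { carrier := {g | g ∈ normalizer (U : Set H) ∧ ∀ o ∈ O, g * o * g⁻¹ * o⁻¹ ∈ U}
      one_mem' := ⟨one_mem _, fun o _ => by simp⟩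
      mul_mem' := by
        rintro g h ⟨hg, hg'⟩ ⟨hh, hh'⟩
        refine ⟨mul_mem hg hh, fun o ho => ?_⟩
        rw [show g * h * o * (g * h)⁻¹ * o⁻¹ = (g * (h * o * h⁻¹ * o⁻¹) * g⁻¹) * (g * o * g⁻¹ * o⁻¹) by group]
        exact mul_mem ((mem_normalizer_iff.1 hg _).1 (hh' o ho)) (hg' o ho)
      inv_mem' := by
        rintro g ⟨hg, hg'⟩
        refine ⟨inv_mem hg, fun o ho => ?_⟩
        rw [show g⁻¹ * o * g⁻¹⁻¹ * o⁻¹ = g⁻¹ * (g * o * g⁻¹ * o⁻¹)⁻¹ * g by group]
        exact (mem_normalizer_iff''.1 hg _).1 (inv_mem (hg' o ho)) }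
  have hle : ⁅M, Q⁆ ≤ S := by
    rw [commutator_le]
    intro x hx v hv
    refine ⟨?_, fun o ho => ?_⟩
    · rw [commutatorElement_def]
      exact mul_mem (mul_mem (mul_mem (hMU hx) (hQU hv)) (inv_mem (hMU hx))) (inv_mem (hQU hv))
    · set o' := x⁻¹ * o * x with ho'
      have h1 := hQ v⁻¹ (inv_mem hv) o ho
      have h2 := (mem_normalizer_iff''.1 (hMU hx) _).1 h1
      have h3 := (mem_normalizer_iff.1 (hQU hv) _).1 h2
      have h4 := hQ v hv o' ((mem_normalizer_iff''.1 (hMO hx) _).1 ho)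
      have h5 := (mem_normalizer_iff.1 (hMU hx) _).1 (mul_mem h3 h4)
      rw [commutatorElement_def]
      convert h5 using 1
      rw [ho']
      group
  exact fun e he => (hle he).2

/-- A weakly closed subgroup is normalized by any `p`-subgroup it normalizes. -/
theorem le_normalizer_of_pGroup {Q P : Subgroup H} (hQp : IsPGroup p Q)
    (hwc : IsWeaklyClosedSubgroup p Q) (hP : IsPGroup p P) (hn : Q ≤ normalizer (P : Set H)) :
    P ≤ normalizer (Q : Set H) := by
  intro x hx
  refine WCB.mem_normalizer_of_map_conj_eq ?_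
  have hM : IsPGroup p (P ⊔ Q : Subgroup H) := hP.to_sup_of_normal_left' hQp hn
  have h := WCB.eq_of_isWeaklyClosedSubgroup hwc hM (a := x) (b := 1) ?_
    (by rw [WCB.map_conj_one]; exact le_sup_right)
  · rwa [WCB.map_conj_one] at h
  · rintro _ ⟨q, hq, rfl⟩
    exact mul_mem (mul_mem (mem_sup_left hx) (mem_sup_right hq)) (inv_mem (mem_sup_left hx))

theorem normalizer_le_factor {Q : Subgroup H} (hQp : IsPGroup p Q) (hwc : IsWeaklyClosedSubgroup p Q)
    {X : Subgroup H} (hX : Q ≤ normalizer (X : Set H)) (hE : ⁅X, Q⁆ ≤ normalizer (Q : Set H)) :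
    X ≤ normalizer (Q : Set H) := by
  intro n hn
  have hQn : Q.map (MulAut.conj n).toMonoidHom ≤ ⁅X, Q⁆ ⊔ Q := by
    rintro _ ⟨q, hq, rfl⟩
    show n * q * n⁻¹ ∈ _
    rw [show n * q * n⁻¹ = ⁅n, q⁆ * q by rw [commutatorElement_def]; group]
    exact mul_mem (mem_sup_left (commutator_mem_commutator hn hq)) (mem_sup_right hq)
  obtain ⟨k, hk, hkn⟩ := Inv.weaklyClosed_exists_mul_mem_normalizer hwc.choose_spec (⁅X, Q⁆ ⊔ Q) le_sup_right n⁻¹
    (fun w hw => by rw [inv_inv]; exact hQn ⟨w, hw, rfl⟩)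
  have h1 : n⁻¹ ∈ normalizer (Q : Set H) := by
    have := mul_mem hkn (inv_mem ((sup_le hE le_normalizer) hk))
    rwa [mul_inv_cancel_right] at this
  exact inv_inv n ▸ inv_mem h1

/-- The main lemma: `C(O_p(L))` for `L ⊇ Q`, inside a subgroup `W` of characteristic `p`. -/
theorem core {Q L W : Subgroup H} (hQp : IsPGroup p Q) (hwc : IsWeaklyClosedSubgroup p Q)
    (hCQ : centralizer (Q : Set H) ≤ Q) (hQL : Q ≤ L) (hQW : Q ≤ W) (hRW : pCoreOf p L ≤ W)
    (hCW : centralizer (pCoreOf p L : Set H) ≤ W)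
    (hW : centralizer (pCore p W : Set W) ≤ pCore p W) :
    ⁅Q, centralizer (pCoreOf p L : Set H)⁆ ≤ Q ⊓ pCoreOf p L ∧
      IsPGroup p (centralizer (pCoreOf p L : Set H)) ∧
      centralizer (pCore p L : Set L) ≤ pCore p L := by
  set R := pCoreOf p L with hR
  set C := centralizer (R : Set H) with hC
  set O := (pCore p W).map W.subtype with hO
  have hRp : IsPGroup p R := (Solv.isPGroup_pCore p L).map _
  have hOp : IsPGroup p O := (Solv.isPGroup_pCore p W).map _
  haveI hWc := Solv.pCore_characteristic p W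
  have hWO : W ≤ normalizer (O : Set H) :=
    Struct.CoprimeMinimal.le_normalizer_map_char W W le_normalizer _
  haveI hLc := Solv.pCore_characteristic p L
  have hLR : L ≤ normalizer (R : Set H) :=
    Struct.CoprimeMinimal.le_normalizer_map_char L L le_normalizer _
  have hLC : L ≤ normalizer (C : Set H) := le_normalizer_centralizer hLR
  have hOQ : O ≤ normalizer (Q : Set H) := le_normalizer_of_pGroup hQp hwc hOp (hQW.trans hWO)
  have hRQ : R ≤ normalizer (Q : Set H) := le_normalizer_of_pGroup hQp hwc hRp (hQL.trans hLR)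
  have hON : ∀ q ∈ Q, ∀ o ∈ O, q * o * q⁻¹ * o⁻¹ ∈ Q ∧ q * o * q⁻¹ * o⁻¹ ∈ O := fun q hq o ho => by
    refine ⟨?_, mul_mem ((mem_normalizer_iff.1 (hWO (hQW hq)) o).1 ho) (inv_mem ho)⟩
    rw [show q * o * q⁻¹ * o⁻¹ = q * (o * q⁻¹ * o⁻¹) by group]
    exact mul_mem hq ((mem_normalizer_iff.1 (hOQ ho) _).1 (inv_mem hq))
  -- elements of order prime to `p` centralizing `O` are trivial
  have hfin : ∀ e ∈ W, (orderOf e).Coprime p → e ∈ centralizer (O : Set H) → e = 1 := by
    intro e he hco hec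
    have h1 : (⟨e, he⟩ : W) ∈ pCore p W := hW (mem_centralizer_iff.2 fun o ho =>
      Subtype.ext (mem_centralizer_iff.1 hec o ⟨o, ho, rfl⟩))
    obtain ⟨k, hk⟩ := IsPGroup.iff_card.1 hOp
    exact orderOf_eq_one_iff.1 (Nat.eq_one_of_dvd_coprimes (hco.pow_right k) dvd_rfl
      (hk ▸ Subgroup.orderOf_dvd_natCard O ⟨_, h1, rfl⟩))
  -- Step 1: `M = C_L(R)` is a `p`-group inside `R`
  set M := L ⊓ C with hM
  have hLM : L ≤ normalizer (M : Set H) :=
    le_trans (le_inf le_normalizer hLC) inf_normalizer_le_normalizer_inf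
  have hMR : ∀ P : Subgroup H, IsPGroup p P → P ≤ M → M ≤ normalizer (P : Set H) → P ≤ R := by
    intro P hP hPM hMP
    haveI : (P.subgroupOf M).Normal := normal_subgroupOf_of_le_normalizer hMP
    haveI : (M.subgroupOf L).Normal := normal_subgroupOf_of_le_normalizer hLM
    have hsn : (P.subgroupOf L).IsSubnormal := by
      refine IsSubnormal.trans (K := M.subgroupOf L) (fun x hx => hPM hx) ?_
        (Normal.isSubnormal inferInstance)
      refine Normal.isSubnormal ⟨fun x hx g => ?_⟩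
      exact (mem_normalizer_iff.1 (hMP g.2) _).1 hx
    intro x hx
    exact ⟨⟨x, (mem_inf.1 (hPM hx)).1⟩, Solv.le_pCore_of_isSubnormal hsn hP.comap_subtype hx, rfl⟩
  have hMW : M ≤ W := inf_le_right.trans hCW
  have hUM : O ⊓ M ≤ R := hMR _ (hOp.to_le inf_le_left) inf_le_right
    (le_trans (le_inf (hMW.trans hWO) le_normalizer) inf_normalizer_le_normalizer_inf)
  have hEp : IsPGroup p ↥(⁅M, Q⁆ : Subgroup H) := by
    refine CharPB.isPGroup_of_forall_eq_one fun e he hco => ?_
    have heM : e ∈ M := le_normalizer_iff_commutator_le_left.1 (hQL.trans hLM) he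
    refine hfin e (hMW heM) hco ?_
    have hz : zpowers e ≤ normalizer (O : Set H) := zpowers_le.2 (hWO (hMW heM))
    refine CharPB.centralizes_of_iterCommutator hOp hco hz (n := 3) (le_bot_iff.1 ?_)
    show ⁅⁅⁅O, zpowers e⁆, zpowers e⁆, zpowers e⁆ ≤ ⊥
    have htriv := commutator_trivial_on (M := M) (Q := Q) (O := O) (U := O ⊓ L) (hMW.trans hWO)
      (le_trans (le_inf (hMW.trans hWO) (inf_le_left.trans le_normalizer)) inf_normalizer_le_normalizer_inf)
      (le_trans (le_inf (hQW.trans hWO) (hQL.trans le_normalizer)) inf_normalizer_le_normalizer_inf)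
      (fun q hq o ho => mem_inf.2 ⟨(hON q hq o ho).2, hQL (hON q hq o ho).1⟩)
    have s1 : ⁅O, zpowers e⁆ ≤ O ⊓ L := by
      rw [commutator_comm, commutator_le]
      intro g hg o ho
      rw [commutatorElement_def]
      exact htriv g (zpowers_le.2 he hg) o ho
    have s2 : ⁅O ⊓ L, zpowers e⁆ ≤ O ⊓ M :=
      le_inf ((commutator_mono inf_le_left le_rfl).trans (le_normalizer_iff_commutator_le_left.1 hz))
        ((commutator_mono inf_le_right (zpowers_le.2 heM)).trans
          (le_normalizer_iff_commutator_le_right.1 hLM))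
    have s3 : ⁅O ⊓ M, zpowers e⁆ = ⊥ := by
      rw [commutator_comm, commutator_eq_bot_iff_le_centralizer]
      exact (zpowers_le.2 (mem_inf.1 heM).2).trans (centralizer_le (SetLike.coe_subset_coe.2 hUM))
    exact ((commutator_mono ((commutator_mono s1 le_rfl).trans s2) le_rfl).trans s3.le)
  have hER : ⁅M, Q⁆ ≤ R := hMR _ hEp (le_normalizer_iff_commutator_le_left.1 (hQL.trans hLM))
    (normalizer_commutator_ge_left M Q)
  have hMN : M ≤ normalizer (Q : Set H) :=
    normalizer_le_factor hQp hwc (hQL.trans hLM) (hER.trans hRQ)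
  have hcentQ : ∀ X : Subgroup H, X ≤ C → ⁅X, Q⁆ ≤ R → X ≤ normalizer (Q : Set H) → IsPGroup p X := by
    intro X hXC hXR hXN
    refine CharPB.isPGroup_of_forall_eq_one fun c hc hco => ?_
    have h1 : c ∈ centralizer (Q : Set H) := by
      refine CharPB.centralizes_of_iterCommutator hQp hco (zpowers_le.2 (hXN hc)) (n := 2) (le_bot_iff.1 ?_)
      show ⁅⁅Q, zpowers c⁆, zpowers c⁆ ≤ ⊥
      have h2 : ⁅Q, zpowers c⁆ ≤ R :=
        (commutator_mono le_rfl (zpowers_le.2 hc)).trans (by rw [commutator_comm]; exact hXR)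
      refine (commutator_mono h2 le_rfl).trans (le_of_eq ?_)
      rw [commutator_comm, commutator_eq_bot_iff_le_centralizer]
      exact zpowers_le.2 (hXC hc)
    obtain ⟨k, hk⟩ := IsPGroup.iff_card.1 hQp
    exact orderOf_eq_one_iff.1 (Nat.eq_one_of_dvd_coprimes (hco.pow_right k) dvd_rfl
      (hk ▸ Subgroup.orderOf_dvd_natCard Q (hCQ h1)))
  have hMp : IsPGroup p M := hcentQ M inf_le_right hER hMN
  have hMleR : M ≤ R := hMR M hMp le_rfl le_normalizer
  -- Step 2
  have hQC : Q ≤ normalizer (C : Set H) := hQL.trans hLC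
  have hEC : IsPGroup p ↥(⁅C, Q⁆ : Subgroup H) := by
    refine CharPB.isPGroup_of_forall_eq_one fun e he hco => ?_
    have heC : e ∈ C := le_normalizer_iff_commutator_le_left.1 hQC he
    refine hfin e (hCW heC) hco ?_
    have hz : zpowers e ≤ normalizer (O : Set H) := zpowers_le.2 (hWO (hCW heC))
    have hcomm : R ≤ centralizer ((zpowers e : Subgroup H) : Set H) :=
      le_centralizer_iff.1 (zpowers_le.2 heC)
    refine (Solv.thompson_pq p R (zpowers e) O hRp ?_ hOp hcomm (hRW.trans hWO) hz ?_) (mem_zpowers e)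
    · rwa [Nat.card_zpowers]
    · show O ⊓ C ≤ _
      have hCX : C ≤ normalizer ((O ⊓ C : Subgroup H) : Set H) :=
        le_trans (le_inf (hCW.trans hWO) le_normalizer) inf_normalizer_le_normalizer_inf
      have hCU : C ≤ normalizer ((O ⊓ C ⊓ R : Subgroup H) : Set H) :=
        le_trans (le_inf hCX (centralizer_le_normalizer _)) inf_normalizer_le_normalizer_inf
      have hQU : Q ≤ normalizer ((O ⊓ C ⊓ R : Subgroup H) : Set H) :=
        le_trans (le_inf (le_trans (le_inf (hQW.trans hWO) hQC) inf_normalizer_le_normalizer_inf)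
          (hQL.trans hLR)) inf_normalizer_le_normalizer_inf
      have htriv := commutator_trivial_on (M := C) (Q := Q) (O := O ⊓ C) (U := O ⊓ C ⊓ R)
        hCX hCU hQU (fun q hq o ho => by
          have h2 : q * o * q⁻¹ * o⁻¹ ∈ C :=
            mul_mem ((mem_normalizer_iff.1 (hQC hq) o).1 (mem_inf.1 ho).2) (inv_mem (mem_inf.1 ho).2)
          have h1 := hON q hq o (mem_inf.1 ho).1
          exact mem_inf.2 ⟨mem_inf.2 ⟨h1.2, h2⟩, hMleR (mem_inf.2 ⟨hQL h1.1, h2⟩)⟩)
      have hXn : zpowers e ≤ normalizer ((O ⊓ C : Subgroup H) : Set H) := zpowers_le.2 (hCX heC)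
      have hX : e ∈ centralizer ((O ⊓ C : Subgroup H) : Set H) := by
        refine CharPB.centralizes_of_iterCommutator (hOp.to_le inf_le_left) hco hXn (n := 2) (le_bot_iff.1 ?_)
        show ⁅⁅O ⊓ C, zpowers e⁆, zpowers e⁆ ≤ ⊥
        have s1 : ⁅O ⊓ C, zpowers e⁆ ≤ O ⊓ C ⊓ R := by
          rw [commutator_comm, commutator_le]
          intro g hg o ho
          rw [commutatorElement_def]
          exact htriv g (zpowers_le.2 he hg) o ho
        refine (commutator_mono (s1.trans inf_le_right) le_rfl).trans (le_of_eq ?_)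
        rw [commutator_comm, commutator_eq_bot_iff_le_centralizer]
        exact zpowers_le.2 heC
      exact le_centralizer_iff.1 (zpowers_le.2 hX)
  have hEN : ⁅C, Q⁆ ≤ normalizer (Q : Set H) :=
    le_normalizer_of_pGroup hQp hwc hEC (normalizer_commutator_ge_right C Q)
  have hCN : C ≤ normalizer (Q : Set H) := normalizer_le_factor hQp hwc hQC hEN
  have h1 : ⁅Q, C⁆ ≤ Q ⊓ R := by
    have hq : ⁅Q, C⁆ ≤ Q := le_normalizer_iff_commutator_le_left.1 hCN
    exact le_inf hq fun x hx => hMleR (mem_inf.2 ⟨hQL (hq hx), le_normalizer_iff_commutator_le_right.1 hQC hx⟩)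
  refine ⟨h1, hcentQ C le_rfl (by rw [commutator_comm]; exact h1.trans inf_le_right) hCN, fun x hx => ?_⟩
  have hxC : (x : H) ∈ C := by
    rw [hC, mem_centralizer_iff]
    rintro _ ⟨r, hr, rfl⟩
    exact congrArg Subtype.val (mem_centralizer_iff.1 hx r hr)
  obtain ⟨y, hy, e⟩ := hMleR (mem_inf.2 ⟨x.2, hxC⟩ : (x : H) ∈ M)
  rwa [← Subtype.ext e]

/-- The hypothesis in the form "some element of `Z(Q) ∩ O_p(L)` has centralizer of characteristic `p`". -/
theorem core_of_element {Q L : Subgroup H} (hQp : IsPGroup p Q) (hwc : IsWeaklyClosedSubgroup p Q)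
    (hCQ : centralizer (Q : Set H) ≤ Q) (hQL : Q ≤ L) {y : H}
    (hy : y ∈ pCoreOf p L ⊓ centralizer (Q : Set H))
    (hW : centralizer (pCore p (centralizer ({y} : Set H)) : Set (centralizer ({y} : Set H))) ≤
      pCore p (centralizer ({y} : Set H))) :
    ⁅Q, centralizer (pCoreOf p L : Set H)⁆ ≤ Q ⊓ pCoreOf p L ∧
      IsPGroup p (centralizer (pCoreOf p L : Set H)) ∧
      centralizer (pCore p L : Set L) ≤ pCore p L := by
  set R := pCoreOf p L with hR
  have hRp : IsPGroup p R := (Solv.isPGroup_pCore p L).map _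
  set X := R ⊓ centralizer (Q : Set H) with hX
  haveI hLc := Solv.pCore_characteristic p L
  have hQR : Q ≤ normalizer (R : Set H) :=
    hQL.trans (Struct.CoprimeMinimal.le_normalizer_map_char L L le_normalizer _)
  have hRQ : R ≤ normalizer (Q : Set H) := le_normalizer_of_pGroup hQp hwc hRp hQR
  have hRX : R ≤ normalizer (X : Set H) :=
    le_trans (le_inf le_normalizer (le_normalizer_centralizer hRQ)) inf_normalizer_le_normalizer_inf
  refine core (W := normalizer (X : Set H)) hQp hwc hCQ hQL ?_ hRX ?_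
    (CharPB.normalizer_charP_of_central (hRp.to_le inf_le_left) hy
      (fun x hx => (mem_centralizer_iff.1 (mem_inf.1 hy).2 x (hCQ (mem_inf.1 hx).2))) hW)
  · exact (le_centralizer_iff.1 inf_le_right : Q ≤ centralizer (X : Set H)).trans (centralizer_le_normalizer _)
  · exact (centralizer_le (SetLike.coe_subset_coe.2 inf_le_left)).trans (centralizer_le_normalizer _)

omit hp in
theorem isLarge_conj {Q : Subgroup H} (hL : IsLarge Q) (g : H) :
    IsLarge (Q.map (MulAut.conj g).toMonoidHom) := by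
  have hc := Amalgam.map_centralizer (MulAut.conj g) Q
  refine ⟨?_, fun U hU hU1 x hx => ?_⟩
  · rw [← hc]; exact map_mono hL.1
  set U' := U.map (MulAut.conj g⁻¹).toMonoidHom
  have e : U'.map (MulAut.conj g).toMonoidHom = U := by
    rw [WCB.map_conj_map, mul_inv_cancel, WCB.map_conj_one]
  have h1 : g⁻¹ * x * g ∈ normalizer (U' : Set H) := by
    refine WCB.mem_normalizer_of_map_conj_eq ?_
    rw [WCB.map_conj_map, show g⁻¹ * x * g * g⁻¹ = g⁻¹ * x by group, ← WCB.map_conj_map,
      WCB.map_conj_eq_of_mem_normalizer hx]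
  have h2 := hL.2 U' (fun z hz => by
      have h3 : (MulAut.conj g) z ∈ U := e ▸ mem_map_of_mem _ hz
      have h4 := hU h3
      rw [← hc] at h4
      obtain ⟨w, hw, he⟩ := h4
      rwa [← (MulAut.conj g).injective he])
    (fun h => hU1 (by rw [← e, h, Subgroup.map_bot])) h1
  refine WCB.mem_normalizer_of_map_conj_eq ?_
  rw [WCB.map_conj_map, show x * g = g * (g⁻¹ * x * g) by group, ← WCB.map_conj_map,
    WCB.map_conj_eq_of_mem_normalizer h2]

theorem isWeaklyClosed_of_isLarge {Q : Subgroup H} (hQp : IsPGroup p Q) (hQ1 : Q ≠ ⊥)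
    (hL : IsLarge Q) : IsWeaklyClosedSubgroup p Q := by
  obtain ⟨T, hT⟩ := hQp.exists_le_sylow
  have key : ∀ S : Sylow p H, Q ≤ (S : Subgroup H) →
      normalizer (((S : Subgroup H) ⊓ centralizer ((S : Subgroup H) : Set H) : Subgroup H) : Set H) ≤
        normalizer (Q : Set H) := fun S hS =>
    hL.2 _ (inf_le_right.trans (centralizer_le (SetLike.coe_subset_coe.2 hS)))
      (fixed_ne_bot S.isPGroup' S.isPGroup' le_normalizer fun e => hQ1 (le_bot_iff.1 (e ▸ hS)))
  refine ⟨T, WCB.weaklyClosed_of_sylow_le_normalizer T hT (fun S hS => ?_) ?_⟩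
  · exact ((le_centralizer_iff.1 inf_le_right : (S : Subgroup H) ≤
      centralizer (((S : Subgroup H) ⊓ centralizer ((S : Subgroup H) : Set H) : Subgroup H) : Set H)).trans
      (centralizer_le_normalizer _)).trans (key S hS)
  · exact (le_trans (le_inf le_rfl (le_normalizer_centralizer le_rfl)) inf_normalizer_le_normalizer_inf).trans
      (key T hT)

theorem centralizer_le_normalizer_large {Q : Subgroup H} (hL : IsLarge Q) {y : H}
    (hy : y ∈ centralizer (Q : Set H)) (hy1 : y ≠ 1) :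
    centralizer ({y} : Set H) ≤ normalizer (Q : Set H) := by
  refine le_trans ?_ (hL.2 (zpowers y) (zpowers_le.2 hy) (zpowers_ne_bot.2 hy1))
  intro c hc
  refine centralizer_le_normalizer _ (mem_centralizer_iff.2 fun z hz => ?_)
  obtain ⟨i, rfl⟩ := mem_zpowers_iff.1 hz
  have h : Commute c y := mem_centralizer_singleton_iff.1 hc
  exact ((h.zpow_right i).eq).symm

/-- The consequences for a large subgroup. -/
theorem large_core {Q L : Subgroup H} (hQp : IsPGroup p Q) (hQ1 : Q ≠ ⊥) (hL : IsLarge Q)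
    (hQL : Q ≤ L) (hR : pCore p L ≠ ⊥) :
    ⁅Q, centralizer (pCoreOf p L : Set H)⁆ ≤ Q ⊓ pCoreOf p L ∧
      IsPGroup p (centralizer (pCoreOf p L : Set H)) ∧
      centralizer (pCore p L : Set L) ≤ pCore p L := by
  have hwc := isWeaklyClosed_of_isLarge hQp hQ1 hL
  have hne : pCoreOf p L ≠ ⊥ := fun e => hR ((map_eq_bot_iff_of_injective _ L.subtype_injective).1 e)
  haveI hLc := Solv.pCore_characteristic p L
  have hfix := fixed_ne_bot (R := pCoreOf p L) ((Solv.isPGroup_pCore p L).map _) hQp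
    (hQL.trans (Struct.CoprimeMinimal.le_normalizer_map_char L L le_normalizer _)) hne
  obtain ⟨⟨y, hy⟩, hy1⟩ := ne_bot_iff_exists_ne_one.1 hfix
  have hy1' : y ≠ 1 := fun e => hy1 (Subtype.ext e)
  refine core_of_element hQp hwc hL.1 hQL hy ?_
  set W := centralizer ({y} : Set H)
  have hQW : Q ≤ W := fun q hq =>
    mem_centralizer_singleton_iff.2 (mem_centralizer_iff.1 (mem_inf.1 hy).2 q hq)
  haveI : (Q.subgroupOf W).Normal :=
    normal_subgroupOf_of_le_normalizer (centralizer_le_normalizer_large hL (mem_inf.1 hy).2 hy1')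
  have hle : Q.subgroupOf W ≤ pCore p W := Solv.le_pCore hQp.comap_subtype
  intro x hx
  refine hle (hL.1 (mem_centralizer_iff.2 fun q hq => ?_))
  exact congrArg Subtype.val (mem_centralizer_iff.1 hx ⟨q, hQW hq⟩ (hle hq))

/-- `C(Q) ∩ C(Q^g) = 1` for `g ∉ N(Q)`. -/
theorem ti {Q : Subgroup H} (hQp : IsPGroup p Q) (hQ1 : Q ≠ ⊥) (hL : IsLarge Q) {g : H}
    (hg : g ∉ normalizer (Q : Set H)) :
    centralizer (Q : Set H) ⊓ centralizer ((Q.map (MulAut.conj g).toMonoidHom : Subgroup H) : Set H) = ⊥ := by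
  have hwc := isWeaklyClosed_of_isLarge hQp hQ1 hL
  set Qg := Q.map (MulAut.conj g).toMonoidHom
  by_contra hne
  set U := centralizer (Q : Set H) ⊓ centralizer (Qg : Set H)
  have h2 : Qg ≤ normalizer (Q : Set H) :=
    ((le_centralizer_iff.1 inf_le_right : Qg ≤ centralizer (U : Set H)).trans (centralizer_le_normalizer _)).trans
      (hL.2 U inf_le_left hne)
  refine hg (WCB.mem_normalizer_of_map_conj_eq ?_)
  have h := WCB.eq_of_isWeaklyClosedSubgroup hwc (hQp.to_sup_of_normal_left' (hQp.map _) h2)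
    (a := g) (b := 1) le_sup_right (by rw [WCB.map_conj_one]; exact le_sup_left)
  rwa [WCB.map_conj_one] at h

theorem le_weakClosure {Q L : Subgroup H} (hQL : Q ≤ L) : Q ≤ weakClosure Q L := by
  have := le_iSup (fun g : {g : H // Q.map (MulAut.conj g).toMonoidHom ≤ L} =>
    Q.map (MulAut.conj (g : H)).toMonoidHom) ⟨1, by rw [WCB.map_conj_one]; exact hQL⟩
  rwa [WCB.map_conj_one] at this

omit [Finite H] hp in
theorem weakClosure_le (Q L : Subgroup H) : weakClosure Q L ≤ L := iSup_le fun g => g.2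

end Cfsg.Agent.Local.LargeSub
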