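import Cfsg.Agent.Lib.Local.PReduced
import Cfsg.Agent.Lib.Solv.AbelianAction
import Cfsg.Agent.Lib.Solv.Misc
import Cfsg.Prelude.Def_LocalStructure

/-!
The largest `p`-reduced normal subgroup: existence, invariance and behaviour at subnormal subgroups.
-/

set_option autoImplicit false
set_option linter.style.haveILetI false

namespace Cfsg.Agent.Local.LargestPR

open Subgroup
open scoped commutatorElement

variable {L : Type*} [Group L] [Finite L] {p : ℕ} [hp : Fact p.Prime]

theorem pCore_le_centralizer {V : Subgroup L} (hV : IsPReducedNormal p V) :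
    pCore p L ≤ centralizer (V : Set L) := by
  haveI : (pCore p L).Normal := by
    haveI := Solv.pCore_characteristic p L; infer_instance
  refine PReduced.le_centralizer_of_subnormal hV (Normal.isSubnormal inferInstance) fun x hx hco => ?_
  obtain ⟨k, hk⟩ := IsPGroup.iff_card.1 (Solv.isPGroup_pCore p L)
  rw [orderOf_eq_one_iff.1 (Nat.eq_one_of_dvd_coprimes (hco.pow_right k) dvd_rfl
    (hk ▸ Subgroup.orderOf_dvd_natCard _ hx))]
  exact one_mem _

theorem le_pCore {V : Subgroup L} (hV : IsPReducedNormal p V) : V ≤ pCore p L := by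
  haveI := hV.1
  exact Solv.le_pCore (Solv.isPGroup_of_elemAbelian hV.2.1)

omit [Finite L] hp in
theorem le_largest {V : Subgroup L} (hV : IsPReducedNormal p V) : V ≤ largestPReduced p L :=
  le_sSup hV

/-- The join of all `p`-reduced normal subgroups is `p`-reduced normal. -/
theorem largest_spec : IsPReducedNormal p (largestPReduced p L) := by
  classical
  set S : Set (Subgroup L) := {V | IsPReducedNormal p V} with hS
  set Y : Subgroup L := largestPReduced p L
  have hY : Y = sSup S := rfl
  have hYe : IsElementaryAbelian p Y := by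
    have hgen : Y = closure (⋃ V ∈ S, (V : Set L)) := by
      rw [hY]
      exact le_antisymm (sSup_le fun V hV x hx => subset_closure (Set.mem_biUnion hV hx))
        ((closure_le _).2 (Set.iUnion₂_subset fun V hV => SetLike.coe_subset_coe.2 (le_sSup hV)))
    have hcomm : ∀ a ∈ ⋃ V ∈ S, (V : Set L), ∀ b ∈ ⋃ V ∈ S, (V : Set L), a * b = b * a := by
      intro a ha b hb
      simp only [Set.mem_iUnion] at ha hb
      obtain ⟨V, hV, ha⟩ := ha
      obtain ⟨W, hW, hb⟩ := hb
      exact mem_centralizer_iff.1 (pCore_le_centralizer hV (le_pCore hW hb)) a ha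
    have hc : IsMulCommutative (closure (⋃ V ∈ S, (V : Set L))) := isMulCommutative_closure hcomm
    rw [hgen]
    refine ⟨hc, fun a ha => ?_⟩
    induction ha using closure_induction with
    | mem a ha =>
      simp only [Set.mem_iUnion] at ha
      obtain ⟨V, hV, ha⟩ := ha
      exact hV.2.1.2 a ha
    | one => exact one_pow p
    | mul a b ha hb iha ihb =>
      have : Commute a b := congrArg Subtype.val (hc.is_comm.comm ⟨a, ha⟩ ⟨b, hb⟩)
      rw [this.mul_pow, iha, ihb, one_mul]
    | inv a _ iha => rw [inv_pow, iha, inv_one]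
  have hYn : Y.Normal := by
    refine ⟨fun a ha g => ?_⟩
    have h1 : Y.map (MulAut.conj g).toMonoidHom ≤ Y := by
      rw [map_le_iff_le_comap]
      exact sSup_le fun V hV x hx => (le_sSup hV : V ≤ Y) (hV.1.conj_mem x hx g)
    exact h1 ⟨a, ha, rfl⟩
  refine PReduced.isPReducedNormal_of_forall hYn hYe fun N hN h => le_centralizer_iff.1 (sSup_le fun V hV => le_centralizer_iff.1 ?_)
  exact PReduced.le_centralizer_of_subnormal hV hN.isSubnormal fun x hx hco =>
    centralizer_le (SetLike.coe_subset_coe.2 (le_sSup hV)) (h x hx hco)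

theorem isPReducedNormal_map {L' : Type*} [Group L'] (e : L ≃* L') {V : Subgroup L}
    (hV : IsPReducedNormal p V) : IsPReducedNormal p (V.map (e : L →* L')) := by
  haveI : Finite L' := Finite.of_equiv L e.toEquiv
  refine PReduced.isPReducedNormal_of_forall (hV.1.map _ e.surjective) (Solv.elemAbelian_map _ hV.2.1)
    fun N hN h => ?_
  have h1 : N.comap (e : L →* L') ≤ centralizer (V : Set L) :=
    PReduced.le_centralizer_of_subnormal hV (hN.comap _).isSubnormal fun x hx hco => by
      rw [mem_centralizer_iff]
      intro v hv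
      have h2 := mem_centralizer_iff.1 (h (e x) hx (by rwa [e.orderOf_eq])) (e v) ⟨v, hv, rfl⟩
      rw [← map_mul, ← map_mul] at h2
      exact e.injective h2
  intro y hy
  obtain ⟨x, rfl⟩ := e.surjective y
  rw [mem_centralizer_iff]
  rintro _ ⟨v, hv, rfl⟩
  have h2 := mem_centralizer_iff.1 (h1 (show x ∈ N.comap (e : L →* L') from hy)) v hv
  show e v * e x = e x * e v
  rw [← map_mul, ← map_mul, h2]

theorem largest_map_equiv {L' : Type*} [Group L'] (e : L ≃* L') :
    (largestPReduced p L).map (e : L →* L') = largestPReduced p L' := by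
  haveI : Finite L' := Finite.of_equiv L e.toEquiv
  refine le_antisymm (le_largest (isPReducedNormal_map e largest_spec)) fun y hy => ?_
  exact ⟨e.symm y, le_largest (isPReducedNormal_map e.symm largest_spec) ⟨y, hy, rfl⟩, e.apply_symm_apply y⟩

theorem largest_characteristic : (largestPReduced p L).Characteristic :=
  characteristic_iff_map_eq.2 fun φ => largest_map_equiv φ

theorem largest_normal : (largestPReduced p L).Normal := (largest_spec (p := p)).1

theorem largestOf_normal (A : Subgroup L) [A.Normal] : (largestPReducedOf p A).Normal := by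
  haveI := largest_characteristic (L := A) (p := p)
  unfold largestPReducedOf
  infer_instance

/-- A coprime element of a subnormal subgroup moves any normal `p`-subgroup into it. -/
theorem commutator_zpowers_le {A Y : Subgroup L} [Y.Normal] (hY : IsPGroup p Y) (hA : A.IsSubnormal)
    {x : L} (hx : x ∈ A) (hco : (orderOf x).Coprime p) : ⁅Y, zpowers x⁆ ≤ A := by
  have hn : zpowers x ≤ normalizer (Y : Set L) := normalizer_eq_top Y ▸ le_top
  have hR : ⁅⁅Y, zpowers x⁆, zpowers x⁆ = ⁅Y, zpowers x⁆ :=
    Solv.commutator_commutator_eq _ Y hn (CharPB.coprime_card_zpowers hY hco) (Or.inl inferInstance)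
  induction hA with
  | top => exact le_top
  | step A B hle hB hN ih =>
    have h1 := ih (hle hx)
    rw [← hR]
    rw [normal_subgroupOf_iff_le_normalizer hle] at hN
    exact (commutator_mono h1 (zpowers_le.2 hx)).trans (le_normalizer_iff_commutator_le_right.1 hN)

/-- A coprime element of a subnormal subgroup centralizing `Y ⊓ A` centralizes `Y`. -/
theorem mem_centralizer_of_inf {A Y : Subgroup L} [Y.Normal] (hY : IsPGroup p Y) (hA : A.IsSubnormal)
    {x : L} (hx : x ∈ A) (hco : (orderOf x).Coprime p)
    (hc : x ∈ centralizer ((Y ⊓ A : Subgroup L) : Set L)) : x ∈ centralizer (Y : Set L) := by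
  have hn : zpowers x ≤ normalizer (Y : Set L) := normalizer_eq_top Y ▸ le_top
  refine CharPB.centralizes_of_iterCommutator hY hco hn (n := 2) (le_bot_iff.1 ?_)
  show ⁅⁅Y, zpowers x⁆, zpowers x⁆ ≤ ⊥
  refine (commutator_mono (le_inf (le_normalizer_iff_commutator_le_left.1 hn)
    (commutator_zpowers_le hY hA hx hco)) le_rfl).trans (le_of_eq ?_)
  rw [commutator_comm, commutator_eq_bot_iff_le_centralizer, zpowers_le]
  exact hc

theorem isPGroup_largest : IsPGroup p (largestPReduced p L) :=
  Solv.isPGroup_of_elemAbelian (largest_spec (p := p)).2.1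

/-- `Y_L ⊓ A` is `p`-reduced in a subnormal subgroup `A`. -/
theorem isPReducedNormal_inf {A : Subgroup L} (hA : A.IsSubnormal) :
    IsPReducedNormal p ((largestPReduced p L ⊓ A).subgroupOf A) := by
  haveI := largest_normal (L := L) (p := p)
  refine PReduced.isPReducedNormal_of_forall ?_ ?_ fun N hN h => ?_
  · rw [inf_subgroupOf_right]
    infer_instance
  · exact Solv.elemAbelian_subgroupOf (Solv.elemAbelian_of_le (largest_spec (p := p)).2.1 inf_le_left)
  · have h1 : N.map A.subtype ≤ centralizer (largestPReduced p L : Set L) := by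
      refine PReduced.le_centralizer_of_subnormal largest_spec (hN.isSubnormal.trans' hA) ?_
      rintro _ ⟨x, hx, rfl⟩ hco
      refine mem_centralizer_of_inf isPGroup_largest hA x.2 hco ?_
      rw [mem_centralizer_iff]
      intro v hv
      exact congrArg Subtype.val (mem_centralizer_iff.1 (h x hx (by rwa [← orderOf_coe]))
        ⟨v, (mem_inf.1 hv).2⟩ hv)
    intro x hx
    rw [mem_centralizer_iff]
    intro v hv
    exact Subtype.ext (mem_centralizer_iff.1 (h1 ⟨x, hx, rfl⟩) v (mem_inf.1 hv).1)

/-- An element of a normal subgroup `A` centralizing `Y_L` centralizes `Y_A`. -/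
theorem inf_centralizer_le_of_normal (A : Subgroup L) [A.Normal] :
    A ⊓ centralizer (largestPReduced p L : Set L) ≤ centralizer (largestPReducedOf p A : Set L) := by
  set W := largestPReducedOf p A with hW
  haveI hWn : W.Normal := largestOf_normal A
  have hWe : IsElementaryAbelian p W := Solv.elemAbelian_map _ (largest_spec (p := p)).2.1
  have hsub : ∀ D : Subgroup L, D.Normal →
      (∀ x ∈ D ⊓ A, (orderOf x).Coprime p → x ∈ centralizer (W : Set L)) →
      A ⊓ D ≤ centralizer (W : Set L) := by
    intro D hD h x hx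
    haveI := hD
    have h1 := PReduced.le_centralizer_of_subnormal (largest_spec (L := A) (p := p))
      (N := D.subgroupOf A) (Normal.isSubnormal inferInstance) fun y hy hco => by
        rw [mem_centralizer_iff]
        intro w hw
        exact Subtype.ext (mem_centralizer_iff.1 (h y ⟨hy, y.2⟩ (by rwa [orderOf_coe])) w ⟨w, hw, rfl⟩)
    rw [mem_centralizer_iff]
    rintro _ ⟨w, hw, rfl⟩
    exact congrArg Subtype.val (mem_centralizer_iff.1 (h1 (show (⟨x, hx.1⟩ : A) ∈ D.subgroupOf A from hx.2)) w hw)
  suffices key : ∀ V : Subgroup L, V.Normal → V ≤ W →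
      A ⊓ centralizer (V : Set L) ≤ centralizer (W : Set L) →
      A ⊓ centralizer (largestPReduced p L : Set L) ≤ centralizer (W : Set L) from
    key W hWn le_rfl inf_le_right
  intro V
  induction V using WellFoundedLT.induction with
  | _ V ih =>
    intro hVn hVW hVC
    haveI := hVn
    have hVe := Solv.elemAbelian_of_le hWe hVW
    by_cases hred : IsPReducedNormal p V
    · exact le_trans (inf_le_inf_left _ (centralizer_le (SetLike.coe_subset_coe.2 (le_largest hred)))) hVC
    obtain ⟨N, hN, hNp, hNC⟩ : ∃ N : Subgroup L, N.Normal ∧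
        (∀ x ∈ N, (orderOf x).Coprime p → x ∈ centralizer (V : Set L)) ∧
        ¬ N ≤ centralizer (V : Set L) := by
      by_contra hcon
      refine hred (PReduced.isPReducedNormal_of_forall hVn hVe fun N h1 h2 => ?_)
      by_contra h3
      exact hcon ⟨N, h1, h2, h3⟩
    haveI := hN
    haveI : (centralizer (N : Set L)).Normal := normal_centralizer
    haveI : (centralizer (V : Set L)).Normal := normal_centralizer
    set V' := V ⊓ centralizer (N : Set L) with hV'
    have hlt : V' < V := lt_of_le_of_ne inf_le_left fun e =>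
      hNC (le_centralizer_iff.1 (inf_eq_left.1 e))
    refine ih V' hlt inferInstance (inf_le_left.trans hVW) ?_
    have hNA : A ⊓ N ≤ centralizer (V : Set L) :=
      (hsub N hN fun x hx hco => hVC ⟨hx.2, hNp x hx.1 hco⟩).trans
        (centralizer_le (SetLike.coe_subset_coe.2 hVW))
    refine hsub _ normal_centralizer fun x hx hco => hVC ⟨hx.2, ?_⟩
    set X := zpowers x
    set R := ⁅V, X⁆ with hR
    have hVp : IsPGroup p V := Solv.isPGroup_of_elemAbelian hVe
    have hXV : X ≤ normalizer (V : Set L) := normalizer_eq_top V ▸ le_top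
    have hRV : R ≤ V := le_normalizer_iff_commutator_le_left.1 hXV
    haveI := hVe.1
    have hdis : R ⊓ centralizer (X : Set L) = ⊥ :=
      Solv.commutator_inf_centralizer_eq_bot X V hXV (CharPB.coprime_card_zpowers hVp hco)
    by_contra hxc
    have hR0 : R ≠ ⊥ := fun e => hxc ((commutator_eq_bot_iff_le_centralizer.1
      (by rw [commutator_comm]; exact e) : X ≤ _) (mem_zpowers x))
    -- `N` normalizes `R`
    have hNR : ∀ n ∈ N, ∀ r ∈ R, n * r * n⁻¹ ∈ R := by
      intro n hn
      have h1 : R ≤ R.comap (MulAut.conj n).toMonoidHom := by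
        rw [hR, commutator_le]
        intro v hv y hy
        show n * ⁅v, y⁆ * n⁻¹ ∈ R
        have hyA : y ∈ A := (zpowers_le.2 hx.2) hy
        set v' := n * v * n⁻¹
        have hv' : v' ∈ V := hVn.conj_mem v hv n
        set c := n * y * n⁻¹ * y⁻¹
        have hc : c ∈ centralizer (V : Set L) := by
          refine hNA (mem_inf.2 ⟨mul_mem (Normal.conj_mem inferInstance y hyA n) (inv_mem hyA), ?_⟩)
          show n * y * n⁻¹ * y⁻¹ ∈ N
          rw [show n * y * n⁻¹ * y⁻¹ = n * (y * n⁻¹ * y⁻¹) by group]
          exact mul_mem hn (hN.conj_mem _ (inv_mem hn) y)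
        have hr : ⁅v', y⁆ ∈ R := commutator_mem_commutator hv' hy
        have c1 : v' * c = c * v' := mem_centralizer_iff.1 hc v' hv'
        have c2 : ⁅v', y⁆ * c⁻¹ = c⁻¹ * ⁅v', y⁆ :=
          mem_centralizer_iff.1 (inv_mem hc) _ (hRV hr)
        have e : n * ⁅v, y⁆ * n⁻¹ = ⁅v', y⁆ := by
          calc n * ⁅v, y⁆ * n⁻¹ = (v' * c) * y * v'⁻¹ * y⁻¹ * c⁻¹ := by
                simp only [v', c, commutatorElement_def]; group
            _ = c * (⁅v', y⁆ * c⁻¹) := by rw [c1, commutatorElement_def]; group
            _ = ⁅v', y⁆ := by rw [c2]; group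
        exact e ▸ hr
      exact fun r hr => h1 hr
    -- a Sylow subgroup of `N` fixes a nontrivial element of `R`
    obtain ⟨P⟩ := Sylow.nonempty (p := p) (G := N)
    set P' := (P : Subgroup N).map N.subtype
    have hP'N : P' ≤ N := map_subtype_le _
    have hP'R : P' ≤ normalizer (R : Set L) :=
      Solv.le_normalizer_of_conj_mem fun a ha => hNR a (hP'N ha)
    set M := R ⊔ P'
    have hMp : IsPGroup p M := (hVp.to_le hRV).to_sup_of_normal_left' (P.isPGroup'.map _) hP'R
    haveI := hMp.isNilpotent
    haveI : (R.subgroupOf M).Normal :=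
      normal_subgroupOf_of_le_normalizer (sup_le le_normalizer hP'R)
    have hne := Solv.inf_center_ne_bot (G := M) (R.subgroupOf M) fun e => hR0 (by
      rw [subgroupOf_eq_bot] at e
      exact e.eq_bot_of_le le_sup_left)
    obtain ⟨⟨r, hr⟩, ha⟩ := Subgroup.ne_bot_iff_exists_ne_one.1 hne
    have hr1 : r ≠ 1 := fun e => ha (Subtype.ext e)
    have hrN : (r : L) ∈ centralizer (N : Set L) := by
      set S := (centralizer ({(r : L)} : Set L)).subgroupOf N
      have hS : S.index = 1 := by
        by_contra hne1
        obtain ⟨q, hq, hd⟩ := Nat.exists_prime_and_dvd hne1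
        haveI : Fact q.Prime := ⟨hq⟩
        by_cases hqp : q = p
        · subst hqp
          refine P.not_dvd_index (hd.trans (index_dvd_of_le fun n hn => ?_))
          rw [mem_subgroupOf, mem_centralizer_singleton_iff]
          exact congrArg Subtype.val (mem_center_iff.1 hr.2 ⟨n, mem_sup_right ⟨n, hn, rfl⟩⟩)
        · obtain ⟨Q⟩ := Sylow.nonempty (p := q) (G := N)
          refine Q.not_dvd_index (hd.trans (index_dvd_of_le fun n hn => ?_))
          rw [mem_subgroupOf, mem_centralizer_singleton_iff]
          have hco' : (orderOf (n : L)).Coprime p := by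
            obtain ⟨k, hk⟩ := Q.isPGroup' ⟨n, hn⟩
            rw [orderOf_coe]
            refine Nat.Coprime.coprime_dvd_left (orderOf_dvd_of_pow_eq_one (congrArg Subtype.val hk))
              (((Nat.coprime_primes hq hp.out).2 hqp).pow_left k)
          exact (mem_centralizer_iff.1 (hNp n n.2 hco') r (hRV hr.1)).symm
      rw [mem_centralizer_iff]
      intro n hn
      have h1 : (⟨n, hn⟩ : N) ∈ S := by rw [index_eq_one.1 hS]; trivial
      exact mem_centralizer_singleton_iff.1 h1
    refine hr1 (Subtype.ext ?_)
    have h2 : (r : L) ∈ R ⊓ centralizer (X : Set L) := by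
      refine mem_inf.2 ⟨hr.1, mem_centralizer_iff.2 fun y hy => ?_⟩
      obtain ⟨i, rfl⟩ := mem_zpowers_iff.1 hy
      have h3 : Commute (r : L) x := mem_centralizer_iff.1 hx.1 r ⟨hRV hr.1, hrN⟩
      exact (h3.zpow_right i).eq.symm
    rw [hdis] at h2
    exact mem_bot.1 h2

/-- An element of a subnormal subgroup `A` centralizing `Y_L` centralizes `Y_A`. -/
theorem inf_centralizer_le {A : Subgroup L} (hA : A.IsSubnormal) :
    A ⊓ centralizer (largestPReduced p L : Set L) ≤ centralizer (largestPReducedOf p A : Set L) := by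
  induction hA with
  | top =>
    have e : largestPReducedOf p (⊤ : Subgroup L) = largestPReduced p L := by
      rw [← largest_map_equiv (topEquiv : (⊤ : Subgroup L) ≃* L)]
      rfl
    rw [e]
    exact inf_le_right
  | step A B hle hB hN ih =>
    intro x hx
    haveI := hN
    have hxB : (⟨x, hle hx.1⟩ : B) ∈ A.subgroupOf B ⊓ centralizer (largestPReduced p B : Set B) := by
      refine mem_inf.2 ⟨hx.1, mem_centralizer_iff.2 fun v hv => ?_⟩
      exact Subtype.ext (mem_centralizer_iff.1 (ih ⟨hle hx.1, hx.2⟩) v ⟨v, hv, rfl⟩)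
    have h1 := inf_centralizer_le_of_normal (A.subgroupOf B) hxB
    rw [mem_centralizer_iff]
    rintro _ ⟨w, hw, rfl⟩
    rw [← largest_map_equiv (subgroupOfEquivOfLe hle)] at hw
    obtain ⟨w', hw', rfl⟩ := hw
    exact congrArg Subtype.val (mem_centralizer_iff.1 h1 (w' : B) ⟨w', hw', rfl⟩)

end Cfsg.Agent.Local.LargestPR
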