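import Cfsg.Agent.Lib.Local.LargestPReduced
import Cfsg.Agent.Lib.Local.CentralizerOmegaCenter
import Cfsg.Agent.Lib.Local.AmalgamBasics
import Cfsg.Agent.Lib.Solv.NormalPComplement
import Cfsg.Prelude.Def_Amalgam

/-!
`Ω₁(Z(S))` for Sylow subgroups `S` of groups of characteristic `p`, and its splitting by `O^p`.
-/

set_option autoImplicit false
set_option linter.style.haveILetI false

namespace Cfsg.Agent.Local.SylowCenter

open Subgroup
open scoped Pointwise commutatorElement

variable {L : Type*} [Group L] [Finite L] {p : ℕ} [hp : Fact p.Prime]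

omit [Finite L] hp in
theorem mem_of_pow_mem {K : Subgroup L} {z : L} (hz : z ^ p = 1) {n : ℕ} (hn : n.Coprime p)
    (h : z ^ n ∈ K) : z ∈ K := by
  have e : z = (z ^ n) ^ (n.gcdA p) * (z ^ p) ^ (n.gcdB p) := by
    conv_lhs => rw [← zpow_one z]
    rw [← zpow_natCast z n, ← zpow_natCast z p, ← zpow_mul, ← zpow_mul, ← zpow_add,
      show ((1 : ℤ)) = ((n.gcd p : ℕ) : ℤ) by rw [hn.gcd_eq_one]; rfl, Nat.gcd_eq_gcd_ab]
  rw [e, hz, one_zpow, mul_one]
  exact zpow_mem h _

omit [Finite L] hp in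
theorem omega_mem {A : Subgroup L} {z : L} (hz : z ∈ A) (hzp : z ^ p = 1) : z ∈ omegaOne p A :=
  subset_closure ⟨hz, hzp⟩

omit [Finite L] hp in
theorem omega_center_elem (A : Subgroup L) :
    IsElementaryAbelian p (omegaOne p (A ⊓ centralizer (A : Set L))) := by
  have hc : IsMulCommutative (omegaOne p (A ⊓ centralizer (A : Set L))) :=
    isMulCommutative_closure fun a ha b hb => mem_centralizer_iff.1 hb.1.2 a ha.1.1
  refine ⟨hc, fun a ha => ?_⟩
  induction ha using closure_induction with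
  | mem a ha => exact ha.2
  | one => exact one_pow p
  | mul a b ha hb iha ihb =>
    have : Commute a b := congrArg Subtype.val (hc.is_comm.comm ⟨a, ha⟩ ⟨b, hb⟩)
    rw [this.mul_pow, iha, ihb, one_mul]
  | inv a _ iha => rw [inv_pow, iha, inv_one]

theorem sylow_center_le_pCore (hL : centralizer (pCore p L : Set L) ≤ pCore p L) (S : Sylow p L) :
    (S : Subgroup L) ⊓ centralizer ((S : Subgroup L) : Set L) ≤ pCore p L :=
  fun _ hx => hL (centralizer_le (SetLike.coe_subset_coe.2 (Solv.pCore_le_sylow S)) hx.2)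

theorem center_le_sylow (hL : centralizer (pCore p L : Set L) ≤ pCore p L) (S : Sylow p L) :
    center L ≤ (S : Subgroup L) :=
  fun x hx => Solv.pCore_le_sylow S (hL (mem_centralizer_iff.2 fun y _ => mem_center_iff.1 hx y))

/-- The join of the groups `Ω₁(Z(S))` over the Sylow subgroups, inside the group itself. -/
abbrev zJoin (p : ℕ) (L : Type*) [Group L] : Subgroup L :=
  ⨆ S : Sylow p L, omegaOne p ((S : Subgroup L) ⊓ centralizer ((S : Subgroup L) : Set L))

omit [Finite L] hp in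
theorem sylowCenterClosure_eq (H : Subgroup L) :
    sylowCenterClosure p H = (zJoin p H).map H.subtype := by
  rw [sylowCenterClosure, Subgroup.map_iSup]
  refine iSup_congr fun S => ?_
  rw [Amalgam.omegaOne_map _ H.subtype_injective]
  congr 1
  ext x
  constructor
  · rintro ⟨⟨y, hy, rfl⟩, hxc⟩
    refine ⟨y, mem_inf.2 ⟨hy, mem_centralizer_iff.2 fun s hs => ?_⟩, rfl⟩
    exact Subtype.ext (mem_centralizer_iff.1 hxc s ⟨s, hs, rfl⟩)
  · rintro ⟨y, hy, rfl⟩
    refine mem_inf.2 ⟨⟨y, (mem_inf.1 hy).1, rfl⟩, mem_centralizer_iff.2 ?_⟩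
    rintro _ ⟨s, hs, rfl⟩
    exact congrArg Subtype.val (mem_centralizer_iff.1 (mem_inf.1 hy).2 s hs)

theorem zJoin_le (hL : centralizer (pCore p L : Set L) ≤ pCore p L) :
    zJoin p L ≤ omegaOne p (pCore p L ⊓ centralizer (pCore p L : Set L)) := by
  refine iSup_le fun S => (closure_le _).2 fun x hx => omega_mem
    (mem_inf.2 ⟨sylow_center_le_pCore hL S hx.1, ?_⟩) hx.2
  exact centralizer_le (SetLike.coe_subset_coe.2 (Solv.pCore_le_sylow S)) hx.1.2

omit [Finite L] in
theorem zJoin_normal [Finite L] : (zJoin p L).Normal := by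
  refine ⟨fun x hx g => ?_⟩
  have hle : zJoin p L ≤ (zJoin p L).comap (MulAut.conj g).toMonoidHom := by
    refine iSup_le fun S => (closure_le _).2 fun y hy => ?_
    refine le_iSup (fun T : Sylow p L => omegaOne p ((T : Subgroup L) ⊓ centralizer ((T : Subgroup L) : Set L)))
      (g • S) (omega_mem (mem_inf.2 ⟨⟨y, hy.1.1, rfl⟩, mem_centralizer_iff.2 ?_⟩)
        (by rw [← map_pow, hy.2, map_one]))
    rintro _ ⟨s, hs, rfl⟩
    show MulAut.conj g s * MulAut.conj g y = MulAut.conj g y * MulAut.conj g s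
    rw [← map_mul, ← map_mul, mem_centralizer_iff.1 hy.1.2 s hs]
  exact hle hx

theorem not_dvd_relIndex_normal (S : Sylow p L) (N : Subgroup L) [N.Normal] :
    ¬ p ∣ (S : Subgroup L).relIndex N := by
  intro hd'
  refine S.not_dvd_index (hd'.trans ?_)
  have e1 := relIndex_mul_relIndex ((S : Subgroup L) ⊓ N) N ((S : Subgroup L) ⊔ N) inf_le_right le_sup_right
  have e2 := relIndex_mul_relIndex ((S : Subgroup L) ⊓ N) (S : Subgroup L) ((S : Subgroup L) ⊔ N) inf_le_left le_sup_left
  rw [inf_relIndex_right, relIndex_sup_right] at e1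
  rw [inf_relIndex_left, ← e1, mul_comm ((S : Subgroup L).relIndex N)] at e2
  rw [← Nat.eq_of_mul_eq_mul_left (Nat.pos_of_ne_zero (index_ne_zero_of_finite (H := N.subgroupOf (S : Subgroup L)))) e2]
  exact relIndex_dvd_index_of_le le_sup_left

theorem zJoin_isPReducedNormal (hL : centralizer (pCore p L : Set L) ≤ pCore p L) :
    IsPReducedNormal p (zJoin p L) := by
  refine PReduced.isPReducedNormal_of_forall zJoin_normal
    (Solv.elemAbelian_of_le (omega_center_elem _) (zJoin_le hL)) fun N hN h => ?_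
  haveI := hN
  rw [le_centralizer_iff]
  refine iSup_le fun S => ?_
  rw [le_centralizer_iff]
  intro n hn
  set Ω := omegaOne p ((S : Subgroup L) ⊓ centralizer ((S : Subgroup L) : Set L)) with hΩ
  set C := centralizer (Ω : Set L)
  have hle : Ω ≤ zJoin p L := le_iSup (fun T : Sylow p L =>
    omegaOne p ((T : Subgroup L) ⊓ centralizer ((T : Subgroup L) : Set L))) S
  have hS : (S : Subgroup L) ≤ C := by
    rw [le_centralizer_iff]
    exact (Amalgam.omegaOne_le _).trans inf_le_right
  have h1 : (C.subgroupOf N).index = 1 := by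
    by_contra hne
    obtain ⟨q, hq, hd⟩ := Nat.exists_prime_and_dvd hne
    haveI : Fact q.Prime := ⟨hq⟩
    by_cases hqp : q = p
    · subst hqp
      -- the trace of `S` on `N` is a Sylow subgroup of `N`
      have hdvd : ¬ q ∣ ((S : Subgroup L).subgroupOf N).index := not_dvd_relIndex_normal S N
      exact hdvd (hd.trans (index_dvd_of_le fun x hx => hS hx))
    · obtain ⟨Q⟩ := Sylow.nonempty (p := q) (G := N)
      refine Q.not_dvd_index (hd.trans (index_dvd_of_le fun x hx => ?_))
      obtain ⟨k, hk⟩ := Q.isPGroup' ⟨x, hx⟩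
      have hco : (orderOf (x : L)).Coprime p := by
        rw [orderOf_coe]
        exact Nat.Coprime.coprime_dvd_left (orderOf_dvd_of_pow_eq_one (congrArg Subtype.val hk))
          (((Nat.coprime_primes hq hp.out).2 hqp).pow_left k)
      exact centralizer_le (SetLike.coe_subset_coe.2 hle) (h x x.2 hco)
  have h2 : (⟨n, hn⟩ : N) ∈ C.subgroupOf N := by rw [index_eq_one.1 h1]; trivial
  exact h2

/-- A fixed point of a Sylow subgroup on an abelian normal subgroup is, up to a coprime power,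
central modulo `[V, O^p]`. -/
theorem exists_split (S : Sylow p L) (V : Subgroup L) [V.Normal] [IsMulCommutative V] {z : L}
    (hz : z ∈ V) (hzS : ∀ s ∈ (S : Subgroup L), s * z = z * s) :
    ∃ n : ℕ, n.Coprime p ∧ ∃ c ∈ V, c ∈ center L ∧ z ^ n * c⁻¹ ∈ ⁅V, pResidual p L⁆ := by
  obtain ⟨τ, h1, -, h3, -⟩ := OmegaCenter.exists_norm (⊤ : Subgroup L) (S : Subgroup L) V
    (by rw [normalizer_eq_top V])
  refine ⟨((S : Subgroup L).subgroupOf ⊤).index, ?_, τ ⟨z, hz⟩, (τ ⟨z, hz⟩).2,
    mem_center_iff.2 fun d => h1 ⟨z, hz⟩ hzS d (mem_top d), h3 ⁅V, pResidual p L⁆ ⟨z, hz⟩ fun d _ => ?_⟩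
  · rw [← relIndex, relIndex_top_right]
    exact (hp.out.coprime_iff_not_dvd.2 S.not_dvd_index).symm
  · have hd : d ∈ ((pResidual p L ⊔ (S : Subgroup L) : Subgroup L) : Set L) := by
      rw [sup_comm, Solv.sup_pResidual_eq_top]; trivial
    rw [normal_mul] at hd
    obtain ⟨o, ho, s, hs, rfl⟩ := Set.mem_mul.1 hd
    show z * (o * s * z * (o * s)⁻¹)⁻¹ ∈ _
    rw [show z * (o * s * z * (o * s)⁻¹)⁻¹ = z * (o * (s * z * s⁻¹) * o⁻¹)⁻¹ by group,
      hzS s hs, mul_inv_cancel_right, show z * (o * z * o⁻¹)⁻¹ = ⁅z, o⁆ by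
        rw [commutatorElement_def]; group]
    exact commutator_mem_commutator hz ho

end Cfsg.Agent.Local.SylowCenter
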