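import Cfsg.Agent.S2821
import Cfsg.Agent.S2822
import Cfsg.Agent.S2824
import Cfsg.Agent.Lib.Local.LargestPReduced
import Cfsg.Agent.Lib.Local.LargeSubgroup
import Cfsg.Agent.Lib.Local.SylowCenter

/-!
Existence of members of `𝔐_H(T)`.
-/

set_option autoImplicit false
set_option linter.style.haveILetI false

namespace Cfsg.Agent.Local.FrakM

open Subgroup

variable {H : Type*} [Group H] [Finite H] {p : ℕ} [Fact p.Prime]

omit [Finite H] [Fact p.Prime] in
theorem rel_of_mem {K : Subgroup H} (hK : K ∈ charPSubgroups p H) :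
    centralizer (pCore p ↥K : Set ↥K) ≤ pCore p ↥K := by
  intro x hx
  obtain ⟨y, hy, hyx⟩ := hK.2 (show (x : H) ∈ centralizer (((pCore p ↥K).map K.subtype : Subgroup H) : Set H) by
    rw [mem_centralizer_iff]
    rintro _ ⟨o, ho, rfl⟩
    exact congrArg Subtype.val (mem_centralizer_iff.1 hx o ho))
  rwa [← Subtype.ext hyx]

theorem largestOf_le_normalizer (K : Subgroup H) :
    K ≤ normalizer (largestPReducedOf p K : Set H) := by
  refine Solv.le_normalizer_of_conj_mem ?_
  rintro a ha _ ⟨y, hy, rfl⟩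
  exact ⟨⟨a, ha⟩ * y * ⟨a, ha⟩⁻¹, (LargestPR.largest_normal).conj_mem y hy _, rfl⟩

theorem pCoreOf_le_sylow {T : Sylow p H} {K : Subgroup H} (hTK : (T : Subgroup H) ≤ K) :
    pCoreOf p K ≤ (T : Subgroup H) := by
  rintro _ ⟨x, hx, rfl⟩
  exact Solv.pCore_le_sylow (T.subtype hTK) hx

theorem largestOf_le_pCoreOf (K : Subgroup H) : largestPReducedOf p K ≤ pCoreOf p K :=
  map_mono (LargestPR.le_pCore LargestPR.largest_spec)

/-- A subgroup containing a Sylow subgroup of a member of `𝓛_H` is a member. -/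
theorem charP_of_le {T : Sylow p H} {K N : Subgroup H} (hTK : (T : Subgroup H) ≤ K) (hKN : K ≤ N)
    (hN : N ∈ charPSubgroups p H) : K ∈ charPSubgroups p H := by
  have hON : pCoreOf p N ≤ K := (pCoreOf_le_sylow (hTK.trans hKN)).trans hTK
  haveI : ((pCoreOf p N).subgroupOf K).Normal :=
    normal_subgroupOf_of_le_normalizer
      (hKN.trans (Struct.CoprimeMinimal.le_normalizer_map_char N N le_normalizer _))
  have hle : (pCoreOf p N).subgroupOf K ≤ pCore p ↥K :=
    Solv.le_pCore ((Solv.isPGroup_pCore p ↥N).map N.subtype).comap_subtype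
  have hle' : pCoreOf p N ≤ pCoreOf p K := fun x hx => ⟨⟨x, hON hx⟩, hle hx, rfl⟩
  refine ⟨fun e => hN.1 ?_, ?_⟩
  · have h0 : pCoreOf p K = ⊥ := by rw [pCoreOf, e, Subgroup.map_bot]
    exact (map_eq_bot_iff_of_injective _ N.subtype_injective).1 (le_bot_iff.1 (hle'.trans h0.le))
  · exact ((centralizer_le (SetLike.coe_subset_coe.2 hle')).trans hN.2).trans hle'

/-- `Y_L ≤ Y_X` for `T ≤ L ≤ X` and `X` of characteristic `p`. -/
theorem mono (T : Sylow p H) {L X : Subgroup H} (hTL : (T : Subgroup H) ≤ L) (hLX : L ≤ X)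
    (hX : centralizer (pCore p ↥X : Set ↥X) ≤ pCore p ↥X) :
    largestPReducedOf p L ≤ largestPReducedOf p X := by
  set Y := largestPReducedOf p L with hYdef
  set O := pCore p ↥X with hOdef
  set W := Y.subgroupOf X with hWdef
  have hTX : (T : Subgroup H) ≤ X := hTL.trans hLX
  haveI : ((pCoreOf p X).subgroupOf L).Normal :=
    normal_subgroupOf_of_le_normalizer
      (hLX.trans (Struct.CoprimeMinimal.le_normalizer_map_char X X le_normalizer _))
  have hOL : (pCoreOf p X).subgroupOf L ≤ pCore p ↥L :=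
    Solv.le_pCore ((Solv.isPGroup_pCore p ↥X).map X.subtype).comap_subtype
  have hWc : W ≤ centralizer (O : Set ↥X) := by
    intro w hw
    rw [mem_centralizer_iff]
    intro o ho
    have hoT : (o : H) ∈ (T : Subgroup H) := Solv.pCore_le_sylow (T.subtype hTX) ho
    obtain ⟨y, hy, hyw⟩ := (mem_subgroupOf.1 hw : (w : H) ∈ Y)
    have h := congrArg Subtype.val (mem_centralizer_iff.1
      (LargestPR.pCore_le_centralizer LargestPR.largest_spec
        (hOL (show (⟨(o : H), hTL hoT⟩ : L) ∈ (pCoreOf p X).subgroupOf L from ⟨o, ho, rfl⟩))) y hy)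
    refine Subtype.ext ?_
    show (o : H) * (w : H) = (w : H) * (o : H)
    rw [← hyw]
    exact h.symm
  have hWpow : ∀ w ∈ W, w ^ p = 1 := fun w hw => by
    obtain ⟨y, hy, hyw⟩ := (mem_subgroupOf.1 hw : (w : H) ∈ Y)
    refine Subtype.ext ?_
    rw [SubmonoidClass.coe_pow, OneMemClass.coe_one, show (w : H) = (y : H) from hyw.symm]
    exact congrArg Subtype.val ((LargestPR.largest_spec (p := p)).2.1.2 y hy)
  let E : Subgroup ↥X :=
    { carrier := {x | x ∈ O ⊓ centralizer (O : Set ↥X) ∧ x ^ p = 1}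
      one_mem' := ⟨one_mem _, one_pow p⟩
      mul_mem' := fun {a b} ha hb => ⟨mul_mem ha.1 hb.1, by
        have hab : Commute a b := (mem_centralizer_iff.1 hb.1.2 a ha.1.1)
        rw [hab.mul_pow, ha.2, hb.2, one_mul]⟩
      inv_mem' := fun {a} ha => ⟨inv_mem ha.1, by rw [inv_pow, ha.2, inv_one]⟩ }
  haveI hEn : E.Normal := ⟨fun x hx g =>
    ⟨(inferInstance : (O ⊓ centralizer (O : Set ↥X)).Normal).conj_mem x hx.1 g, by
      rw [← MulAut.conj_apply, ← map_pow, hx.2, map_one]⟩⟩
  have hEe : IsElementaryAbelian p E :=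
    ⟨⟨⟨fun a b => Subtype.ext (mem_centralizer_iff.1 b.2.1.2 (a : ↥X) a.2.1.1)⟩⟩,
      fun x hx => hx.2⟩
  have hWE : W ≤ E := fun w hw => ⟨⟨hX (hWc hw), hWc hw⟩, hWpow w hw⟩
  set V := normalClosure (W : Set ↥X) with hVdef
  have hVred : IsPReducedNormal p V := by
    refine PReduced.isPReducedNormal_of_forall normalClosure_normal
      (Solv.elemAbelian_of_le hEe (normalClosure_le_normal hWE)) fun N hN hNp => ?_
    haveI := hN
    set NL := (N.map X.subtype).subgroupOf L with hNL
    haveI : NL.Normal := by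
      refine normal_subgroupOf_of_le_normalizer (hLX.trans ?_)
      refine Solv.le_normalizer_of_conj_mem ?_
      rintro a ha _ ⟨n, hn, rfl⟩
      exact ⟨⟨a, ha⟩ * n * ⟨a, ha⟩⁻¹, hN.conj_mem n hn _, rfl⟩
    have hNLc : NL ≤ centralizer (largestPReduced p ↥L : Set ↥L) :=
      PReduced.le_centralizer_of_subnormal LargestPR.largest_spec (Normal.isSubnormal inferInstance)
        fun x hx hco => by
          obtain ⟨n, hn, hnx⟩ := (mem_subgroupOf.1 hx : (x : H) ∈ N.map X.subtype)
          rw [mem_centralizer_iff]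
          intro y hy
          have hyH : (y : H) ∈ Y := ⟨y, hy, rfl⟩
          have h := mem_centralizer_iff.1 (hNp n hn (by
            rw [← Subgroup.orderOf_coe, show (n : H) = (x : H) from hnx, Subgroup.orderOf_coe]
            exact hco)) ⟨y, hLX y.2⟩ (le_normalClosure (H := W) hyH)
          refine Subtype.ext ?_
          show (y : H) * (x : H) = (x : H) * (y : H)
          rw [show (x : H) = (n : H) from hnx.symm]
          exact congrArg Subtype.val h
    set TX : Subgroup ↥X := ((T.subtype hTX : Sylow p X) : Subgroup X) with hTXdef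
    have hnd := SylowCenter.not_dvd_relIndex_normal (T.subtype hTX) N
    have hnd' : ¬ p ∣ (TX.subgroupOf N).index := hnd
    have hp0 : IsPGroup p ↥(TX.subgroupOf N) := (T.subtype hTX).isPGroup'.comap_subtype
    have hgen := Solv.sup_pResidual_eq_top (hp0.toSylow hnd')
    have hle : (⊤ : Subgroup ↥N) ≤ (centralizer (W : Set ↥X)).subgroupOf N := by
      rw [← hgen, IsPGroup.toSylow_coe]
      refine sup_le ?_ ?_
      · intro n hn
        rw [mem_subgroupOf, mem_centralizer_iff]
        intro w hw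
        obtain ⟨y, hy, hyw⟩ := (mem_subgroupOf.1 hw : (w : H) ∈ Y)
        have hnT : ((n : ↥X) : H) ∈ (T : Subgroup H) := hn
        have h := congrArg Subtype.val (mem_centralizer_iff.1 (hNLc
          (show (⟨((n : ↥X) : H), hTL hnT⟩ : L) ∈ NL from ⟨n, n.2, rfl⟩)) y hy)
        refine Subtype.ext ?_
        show (w : H) * ((n : ↥X) : H) = ((n : ↥X) : H) * (w : H)
        rw [← hyw]
        exact h
      · rw [pResidual, closure_le]
        intro n hn
        exact centralizer_le (le_normalClosure (H := W))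
          (hNp n n.2 (by rw [Subgroup.orderOf_coe]; exact hn))
    have hNW : N ≤ centralizer (W : Set ↥X) := fun n hn => hle (mem_top (⟨n, hn⟩ : ↥N))
    haveI : (centralizer (N : Set ↥X)).Normal := normal_centralizer
    exact le_centralizer_iff.1 (normalClosure_le_normal (le_centralizer_iff.1 hNW))
  intro y hy
  exact ⟨⟨y, hTX (pCoreOf_le_sylow hTL (largestOf_le_pCoreOf L hy))⟩,
    LargestPR.le_largest hVred (le_normalClosure (H := W) hy), rfl⟩

theorem exists_fixed (T : Sylow p H) {L : Subgroup H} (hTL : (T : Subgroup H) ≤ L)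
    (hL : L ∈ charPSubgroups p H) :
    ∃ y ∈ largestPReducedOf p L, y ∈ centralizer ((T : Subgroup H) : Set H) ∧ y ≠ 1 := by
  have hne : (T : Subgroup H) ≠ ⊥ := fun e => hL.1
    ((map_eq_bot_iff_of_injective _ L.subtype_injective).1 (le_bot_iff.1 (e ▸ pCoreOf_le_sylow hTL)))
  have hZ := LargeSub.fixed_ne_bot (p := p) T.isPGroup' T.isPGroup' le_normalizer hne
  haveI := (Subgroup.nontrivial_iff_ne_bot _).2 hZ
  have hd := ((T.isPGroup'.to_le inf_le_left :
    IsPGroup p ↥((T : Subgroup H) ⊓ centralizer ((T : Subgroup H) : Set H)))).card_eq_or_dvd.resolve_left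
      Finite.one_lt_card.ne'
  obtain ⟨z, hz⟩ := exists_prime_orderOf_dvd_card' p hd
  have h := Cfsg.Agent.S2821.result T L hTL (rel_of_mem hL) _ rfl
  refine ⟨z, h.2.2.2.2.1 (h.2.2.2.1 (SylowCenter.omega_mem z.2 ?_)), (mem_inf.1 z.2).2, fun e => ?_⟩
  · have h' := pow_orderOf_eq_one (z : H)
    rwa [Subgroup.orderOf_coe, hz] at h'
  · rw [← Subgroup.orderOf_coe, e, orderOf_one] at hz
    exact (Fact.out : p.Prime).ne_one hz.symm

theorem largestOf_ne_bot (T : Sylow p H) {L : Subgroup H} (hTL : (T : Subgroup H) ≤ L)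
    (hL : L ∈ charPSubgroups p H) : largestPReducedOf p L ≠ ⊥ := fun e => by
  obtain ⟨y, hy, -, hy1⟩ := exists_fixed T hTL hL
  rw [e, mem_bot] at hy
  exact hy1 hy

theorem charP_of_le_normalizer (hH : IsOfParabolicCharacteristic p H) (T : Sylow p H)
    {L K : Subgroup H} (hTL : (T : Subgroup H) ≤ L) (hL : L ∈ charPSubgroups p H)
    (hTK : (T : Subgroup H) ≤ K) (hKY : K ≤ normalizer (largestPReducedOf p L : Set H)) :
    K ∈ charPSubgroups p H := by
  refine charP_of_le hTK hKY ?_
  set Y := largestPReducedOf p L with hY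
  set N := normalizer (Y : Set H) with hN
  have hYp : IsPGroup p ↥Y := (LargestPR.isPGroup_largest (L := ↥L) (p := p)).map L.subtype
  have hY1 : Y ≠ ⊥ := largestOf_ne_bot T hTL hL
  have hc := hH Y hYp hY1 ⟨T, hTK.trans hKY⟩
  haveI : (Y.subgroupOf N).Normal := normal_subgroupOf_of_le_normalizer le_rfl
  have hle : Y.subgroupOf N ≤ pCore p ↥N :=
    Solv.le_pCore (N := Y.subgroupOf N) (hYp.comap_subtype (K := N))
  have hYO : Y ≤ pCoreOf p N := fun y hy =>
    ⟨⟨y, le_normalizer hy⟩, hle (show (⟨y, le_normalizer hy⟩ : N) ∈ Y.subgroupOf N from hy), rfl⟩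
  refine ⟨fun e => hY1 (le_bot_iff.1 (hYO.trans_eq (by rw [pCoreOf, e, Subgroup.map_bot]))), ?_⟩
  intro x hx
  have hxN : x ∈ N := centralizer_le_normalizer _ (centralizer_le (SetLike.coe_subset_coe.2 hYO) hx)
  exact ⟨⟨x, hxN⟩, hc (mem_centralizer_iff.2 fun o ho =>
    Subtype.ext (mem_centralizer_iff.1 hx _ ⟨o, ho, rfl⟩)), rfl⟩

theorem exists_maximal_ge {K : Subgroup H} (hK : K ∈ charPSubgroups p H) :
    ∃ X, K ≤ X ∧ X ∈ maxCharPSubgroups p H := by
  obtain ⟨X, ⟨hX1, hX2⟩, hXmax⟩ := Set.exists_max_image {X | X ∈ charPSubgroups p H ∧ K ≤ X}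
    (fun X => Nat.card ↥X) (Set.toFinite _) ⟨K, hK, le_rfl⟩
  exact ⟨X, hX2, hX1, fun L hL hXL =>
    (eq_of_le_of_card_ge hXL (hXmax L ⟨hL, hX2.trans hXL⟩)).symm⟩

theorem centralizer_le_of_max (hH : IsOfParabolicCharacteristic p H) (T : Sylow p H) {X : Subgroup H}
    (hTX : (T : Subgroup H) ≤ X) (hX : X ∈ maxCharPSubgroups p H) :
    centralizer (largestPReducedOf p X : Set H) ≤ X :=
  le_sup_right.trans_eq (hX.2 _ (charP_of_le_normalizer hH T hTX hX.1 (hTX.trans le_sup_left)
    (sup_le (largestOf_le_normalizer X) (centralizer_le_normalizer _))) le_sup_left)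

/-- The existence of `M ∈ 𝔐_H(T)` and `L* ≤ M` equivalent to `L`. -/
theorem exists_pair (hH : IsOfParabolicCharacteristic p H) (T : Sylow p H) {L : Subgroup H}
    (hTL : (T : Subgroup H) ≤ L) (hL : L ∈ charPSubgroups p H) :
    ∃ M Ls : Subgroup H, (T : Subgroup H) ≤ M ∧ IsInFrakM p M ∧ (T : Subgroup H) ≤ Ls ∧ Ls ≤ M ∧
      Ls ∈ charPSubgroups p H ∧ largestPReducedOf p L = largestPReducedOf p Ls ∧
      largestPReducedOf p L ≤ largestPReducedOf p M ∧
      L ⊔ centralizer (largestPReducedOf p L : Set H) =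
        Ls ⊔ centralizer (largestPReducedOf p L : Set H) := by
  set T' : Subgroup H := (T : Subgroup H) with hT'
  set Y := largestPReducedOf p L with hYdef
  set C := centralizer (Y : Set H) with hCdef
  have hNC : normalizer (Y : Set H) ≤ normalizer (C : Set H) :=
    LargeSub.le_normalizer_centralizer le_rfl
  have hLN : L ≤ normalizer (C : Set H) := (largestOf_le_normalizer L).trans hNC
  have hLCn : L ⊔ C ≤ normalizer (Y : Set H) :=
    sup_le (largestOf_le_normalizer L) (centralizer_le_normalizer _)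
  have hLC : L ⊔ C ∈ charPSubgroups p H :=
    charP_of_le_normalizer hH T hTL hL (hTL.trans le_sup_left) hLCn
  obtain ⟨X₀, hLX₀, hX₀⟩ := exists_maximal_ge hLC
  obtain ⟨X, ⟨hXmax, hTX, hYX, hset⟩, hXbig⟩ := Set.exists_max_image
    {X : Subgroup H | X ∈ maxCharPSubgroups p H ∧ T' ≤ X ∧ Y ≤ largestPReducedOf p X ∧
      ∀ a ∈ L, ∃ x ∈ X, ∃ c ∈ C, a = x * c}
    (fun X => Nat.card ↥(largestPReducedOf p X)) (Set.toFinite _)
    ⟨X₀, hX₀, hTL.trans (le_sup_left.trans hLX₀),
      mono T hTL (le_sup_left.trans hLX₀) (rel_of_mem hX₀.1),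
      fun a ha => ⟨a, hLX₀ (mem_sup_left ha), 1, one_mem _, (mul_one a).symm⟩⟩
  set CX := centralizer (largestPReducedOf p X : Set H) with hCXdef
  have hCXX : CX ≤ X := centralizer_le_of_max hH T hTX hXmax
  obtain ⟨M, ⟨hTM, hMCX⟩, hMmin⟩ := Set.exists_min_image
    {M : Subgroup H | T' ≤ M ∧ M ⊔ CX = X} (fun M => Nat.card ↥M) (Set.toFinite _)
    ⟨X, hTX, sup_eq_left.2 hCXX⟩
  have hMX : M ≤ X := le_sup_left.trans_eq hMCX
  have hM : M ∈ charPSubgroups p H := charP_of_le hTM hMX hXmax.1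
  have hYM : largestPReducedOf p M = largestPReducedOf p X :=
    le_antisymm (mono T hTM hMX (rel_of_mem hXmax.1))
      (Cfsg.Agent.S2822.result T M X hTM hTX (rel_of_mem hM) (rel_of_mem hXmax.1)
        (hMCX.trans (sup_eq_left.2 hCXX).symm))
  have hMN : M ≤ normalizer (CX : Set H) :=
    (hMX.trans (largestOf_le_normalizer X)).trans (LargeSub.le_normalizer_centralizer le_rfl)
  have hXmul : ∀ x ∈ X, ∃ m ∈ M, ∃ c ∈ CX, x = m * c := by
    intro x hx
    have h : x ∈ ((M ⊔ CX : Subgroup H) : Set H) := by rw [hMCX]; exact hx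
    rw [coe_mul_of_left_le_normalizer_right M CX hMN] at h
    obtain ⟨m, hm, c, hc, rfl⟩ := Set.mem_mul.1 h
    exact ⟨m, hm, c, hc, rfl⟩
  have hCXC : CX ≤ C := centralizer_le (SetLike.coe_subset_coe.2 hYX)
  -- uniqueness of the maximal overgroup
  have huniq : ∀ X' ∈ maxCharPSubgroups p H, M ≤ X' → X' = X := by
    intro X' hX' hMX'
    have hYY : largestPReducedOf p X ≤ largestPReducedOf p X' :=
      hYM ▸ mono T hTM hMX' (rel_of_mem hX'.1)
    have heq : largestPReducedOf p X = largestPReducedOf p X' := by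
      refine eq_of_le_of_card_ge hYY (hXbig X' ⟨hX', hTM.trans hMX', hYX.trans hYY, fun a ha => ?_⟩)
      obtain ⟨x, hx, c, hc, rfl⟩ := hset a ha
      obtain ⟨m, hm, c', hc', rfl⟩ := hXmul x hx
      exact ⟨m, hMX' hm, c' * c, mul_mem (hCXC hc') hc, mul_assoc m c' c⟩
    refine hXmax.2 X' hX'.1 ?_
    rw [← hMCX]
    refine sup_le hMX' ?_
    rw [hCXdef, heq]
    exact centralizer_le_of_max hH T (hTM.trans hMX') hX'
  have hCM : centralizer (largestPReducedOf p M : Set H) = CX := by rw [hYM]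
  -- minimality
  have hminM : ∀ U : Subgroup ↥M, T'.subgroupOf M ≤ U → U ⊔ CX.subgroupOf M = ⊤ → U = ⊤ := by
    intro U hTU hU
    have hUM : U.map M.subtype ≤ M := map_subtype_le U
    have h1 : U.map M.subtype ⊔ CX = X := by
      refine le_antisymm ((sup_le_sup_right hUM CX).trans_eq hMCX) ?_
      rw [← hMCX]
      refine sup_le ?_ le_sup_right
      have h := congrArg (Subgroup.map M.subtype) hU
      rw [Subgroup.map_sup, ← MonoidHom.range_eq_map, range_subtype] at h
      exact h.ge.trans (sup_le_sup_left (subgroupOf_map_subtype CX M |>.trans_le inf_le_left) _)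
    have h2 := eq_of_le_of_card_ge hUM
      (hMmin _ ⟨fun t ht => ⟨⟨t, hTM ht⟩, hTU ht, rfl⟩, h1⟩)
    apply map_injective M.subtype_injective
    rw [h2, ← MonoidHom.range_eq_map, range_subtype]
  set NM := CX.subgroupOf M with hNMdef
  haveI hNMn : NM.Normal := normal_subgroupOf_of_le_normalizer hMN
  set TM : Subgroup ↥M := ((T.subtype hTM : Sylow p M) : Subgroup M) with hTMdef
  have hnd : ¬ p ∣ (TM.subgroupOf NM).index := SylowCenter.not_dvd_relIndex_normal (T.subtype hTM) NM
  have hp0 : IsPGroup p ↥(TM.subgroupOf NM) := (T.subtype hTM).isPGroup'.comap_subtype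
  have hfr := Sylow.normalizer_sup_eq_top (hp0.toSylow hnd)
  rw [IsPGroup.toSylow_coe, subgroupOf_map_subtype] at hfr
  have hPn : normalizer ((TM ⊓ NM : Subgroup ↥M) : Set ↥M) = ⊤ := hminM _
    (fun t ht => Solv.le_normalizer_inf (X := TM) le_normalizer
      (by rw [normalizer_eq_top]; exact le_top) ht) hfr
  haveI hPnormal : (TM ⊓ NM).Normal := normalizer_eq_top_iff.1 hPn
  have hPO : TM ⊓ NM ≤ pCore p ↥M :=
    Solv.le_pCore ((T.subtype hTM).isPGroup'.to_le inf_le_left)
  have hON : pCore p ↥M ≤ NM := by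
    intro o ho
    rw [mem_subgroupOf, ← hCM, mem_centralizer_iff]
    rintro _ ⟨y, hy, rfl⟩
    exact congrArg Subtype.val (mem_centralizer_iff.1
      (LargestPR.pCore_le_centralizer LargestPR.largest_spec ho) y hy)
  have hOeq : pCore p ↥M = TM ⊓ NM :=
    le_antisymm (le_inf (Solv.pCore_le_sylow (T.subtype hTM)) hON) hPO
  have hOnd : ¬ p ∣ (pCore p ↥M).relIndex NM := by
    rw [hOeq, inf_relIndex_right]; exact hnd
  have hFrakM : IsInFrakM p M := by
    refine ⟨hM, ?_, ?_, ?_, ?_, ?_⟩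
    · rw [hCM, hMCX]; exact hXmax
    · rw [hCM, hMCX]; exact huniq
    · rw [hCM, hMCX]; exact hYM
    · rw [hCM]
      set D := M ⊓ CX with hD
      intro P
      have hDM : NM.map M.subtype = D := by rw [hNMdef, subgroupOf_map_subtype, inf_comm]
      have hn : ((pCoreOf p M).subgroupOf D).Normal :=
        normal_subgroupOf_of_le_normalizer
          ((inf_le_left : D ≤ M).trans (Struct.CoprimeMinimal.le_normalizer_map_char M M le_normalizer _))
      have hq : IsPGroup p ↥((pCoreOf p M).subgroupOf D) :=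
        ((Solv.isPGroup_pCore p ↥M).map M.subtype).comap_subtype
      have hnd2 : ¬ p ∣ ((pCoreOf p M).subgroupOf D).index := by
        show ¬ p ∣ (pCoreOf p M).relIndex D
        rw [← hDM, pCoreOf, relIndex_map_map_of_injective _ _ M.subtype_injective]
        exact hOnd
      have hn' : ((hq.toSylow hnd2 : Sylow p ↥D) : Subgroup ↥D).Normal := by
        rw [IsPGroup.toSylow_coe]; exact hn
      haveI := Sylow.unique_of_normal (hq.toSylow hnd2) hn'
      exact (Subsingleton.elim (hq.toSylow hnd2) P) ▸ hn'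
    · rw [hCM]
      have hNMeq : (M ⊓ CX).subgroupOf M = NM := by
        rw [inf_comm, inf_subgroupOf_right]
      rw [hNMeq]
      simp only [frattini, Order.radical, le_iInf_iff]
      intro U hU
      rw [map_le_iff_le_comap]
      set U' := U.comap (QuotientGroup.mk' (pCore p ↥M)) with hU'
      have hU'c : IsCoatom U' :=
        isCoatom_comap_of_surjective (QuotientGroup.mk'_surjective _) hU
      have hOU : pCore p ↥M ≤ U' := fun o ho => by
        rw [hU', mem_comap, QuotientGroup.mk'_apply, (QuotientGroup.eq_one_iff o).2 ho]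
        exact one_mem _
      by_contra hcon
      have htop : U' ⊔ NM = ⊤ := hU'c.2 _ (left_lt_sup.2 hcon)
      have h1 : NM.index = NM.relIndex U' := by
        rw [← relIndex_top_right, ← htop, relIndex_sup_right]
      have h2 : U'.index = (U' ⊓ NM).relIndex NM := by
        have e1 := relIndex_mul_index (inf_le_left : U' ⊓ NM ≤ U')
        have e2 := relIndex_mul_index (inf_le_right : U' ⊓ NM ≤ NM)
        rw [inf_relIndex_left, ← h1, ← e2, mul_comm] at e1
        exact Nat.eq_of_mul_eq_mul_right (Nat.pos_of_ne_zero index_ne_zero_of_finite) e1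
      have hUnd : ¬ p ∣ U'.index := fun hd => hOnd
        ((h2 ▸ hd).trans (relIndex_dvd_of_le_left NM (le_inf hOU hON)))
      obtain ⟨R⟩ := Sylow.nonempty (p := p) (G := ↥U')
      have hRnd : ¬ p ∣ ((R : Subgroup ↥U').map U'.subtype).index := by
        rw [index_map_subtype]
        exact (Fact.out : p.Prime).not_dvd_mul R.not_dvd_index hUnd
      obtain ⟨g, hg⟩ := MulAction.exists_smul_eq ↥M ((R.isPGroup'.map U'.subtype).toSylow hRnd)
        (T.subtype hTM)
      have hTU : TM ≤ U'.map (MulAut.conj g).toMonoidHom := by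
        have e : TM = ((R : Subgroup ↥U').map U'.subtype).map (MulAut.conj g).toMonoidHom := by
          rw [hTMdef, ← hg]
          rfl
        rw [e]
        exact map_mono (map_subtype_le _)
      have htop' : U'.map (MulAut.conj g).toMonoidHom ⊔ NM = ⊤ := by
        have h := congrArg (Subgroup.map (MulAut.conj g).toMonoidHom) htop
        rw [Subgroup.map_sup, map_top_of_surjective (MulAut.conj g).toMonoidHom (MulAut.conj g).surjective] at h
        rw [eq_top_iff, ← h]
        refine sup_le_sup_left ?_ _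
        rintro _ ⟨n, hn, rfl⟩
        exact hNMn.conj_mem n hn g
      have h3 := hminM _ (fun t ht => hTU ht) htop'
      refine hU'c.1 (map_injective (f := (MulAut.conj g).toMonoidHom) (MulAut.conj g).injective ?_)
      rw [h3, map_top_of_surjective (MulAut.conj g).toMonoidHom (MulAut.conj g).surjective]
  -- `L*`
  set Ls0 := M ⊓ (L ⊔ C) with hLs0
  have hTLs0 : T' ≤ Ls0 := le_inf hTM (hTL.trans le_sup_left)
  have hLs0c : Ls0 ∈ charPSubgroups p H := charP_of_le hTLs0 inf_le_left hM
  have hfac : Ls0 ⊔ C = L ⊔ C := by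
    refine le_antisymm (sup_le inf_le_right le_sup_right) (sup_le (fun a ha => ?_) le_sup_right)
    obtain ⟨x, hx, c, hc, rfl⟩ := hset a ha
    obtain ⟨m, hm, c', hc', rfl⟩ := hXmul x hx
    have hcc : c' * c ∈ C := mul_mem (hCXC hc') hc
    rw [mul_assoc] at ha ⊢
    refine mul_mem_sup ⟨hm, ?_⟩ hcc
    have := mul_mem (mem_sup_left ha : m * (c' * c) ∈ L ⊔ C) (mem_sup_right (inv_mem hcc))
    simpa [mul_assoc] using this
  set Ls := Ls0 ⊓ normalizer ((T' ⊓ C : Subgroup H) : Set H) with hLsdef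
  obtain ⟨hYs, hjoin⟩ := Cfsg.Agent.S2824.result T L Ls0 hTL hTLs0 (rel_of_mem hL) (rel_of_mem hLs0c)
    (T' ⊓ C) rfl hfac Ls rfl
  have hTLs : T' ≤ Ls := le_inf hTLs0 (Solv.le_normalizer_inf le_normalizer (hTL.trans hLN))
  exact ⟨M, Ls, hTM, hFrakM, hTLs, inf_le_left.trans inf_le_left,
    charP_of_le hTLs inf_le_left hLs0c, hYs.symm, hYX.trans hYM.ge, hjoin⟩

end Cfsg.Agent.Local.FrakM
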