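import Cfsg.Agent.Lib.Inv.WeaklyClosed
import Cfsg.Prelude.Def_LocalStructure
import Cfsg.Prelude.Def_IsolatedElements
import Cfsg.Agent.Lib.Solv.Coprime

/-!
Weakly closed subgroups and isolated elements: elementary facts.
-/

set_option autoImplicit false
set_option linter.style.haveILetI false

namespace Cfsg.Agent.Local.WCB

open Subgroup

variable {G : Type*} [Group G] [Finite G] {p : ℕ} [hp : Fact p.Prime]

local notation "cj" => fun (g : G) (L : Subgroup G) => Subgroup.map (MulEquiv.toMonoidHom (MulAut.conj g)) L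

theorem map_conj_map (a b : G) (L : Subgroup G) :
    (L.map (MulAut.conj b).toMonoidHom).map (MulAut.conj a).toMonoidHom =
      L.map (MulAut.conj (a * b)).toMonoidHom := by
  rw [map_map]; congr 1; ext x; simp [mul_assoc]

theorem map_conj_one (L : Subgroup G) : L.map (MulAut.conj (1 : G)).toMonoidHom = L := by
  ext x; simp

theorem mem_normalizer_of_map_conj_eq {L : Subgroup G} {g : G}
    (h : L.map (MulAut.conj g).toMonoidHom = L) : g ∈ normalizer (L : Set G) := by
  rw [mem_normalizer_iff]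
  intro w
  conv_rhs => rw [← h]
  constructor
  · exact fun hw => ⟨w, hw, rfl⟩
  · rintro ⟨w', hw', e⟩
    exact (MulAut.conj g).injective e ▸ hw'

theorem map_conj_eq_of_mem_normalizer {L : Subgroup G} {g : G} (h : g ∈ normalizer (L : Set G)) :
    L.map (MulAut.conj g).toMonoidHom = L := by
  ext w
  constructor
  · rintro ⟨y, hy, rfl⟩; exact (mem_normalizer_iff.1 h y).1 hy
  · intro hw
    exact ⟨g⁻¹ * w * g, (mem_normalizer_iff''.1 h w).1 hw, by simp [mul_assoc]⟩

theorem isPGroup_sup {A B : Subgroup G} (hA : IsPGroup p A) (hB : IsPGroup p B)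
    (h : B ≤ normalizer (A : Set G)) : IsPGroup p (A ⊔ B : Subgroup G) :=
  hA.to_sup_of_normal_left' hB h

theorem eq_of_isWeaklyClosedSubgroup {Q : Subgroup G} (h : IsWeaklyClosedSubgroup p Q) {P : Subgroup G}
    (hP : IsPGroup p P) {a b : G} (ha : Q.map (MulAut.conj a).toMonoidHom ≤ P)
    (hb : Q.map (MulAut.conj b).toMonoidHom ≤ P) :
    Q.map (MulAut.conj a).toMonoidHom = Q.map (MulAut.conj b).toMonoidHom :=
  Inv.weaklyClosed_conj_eq h.choose_spec hP ha hb

/-- A subgroup normal in every Sylow subgroup containing it, in the normalizer-control form. -/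
theorem weaklyClosed_of_sylow_le_normalizer {Q : Subgroup G} (T : Sylow p G) (hQT : Q ≤ (T : Subgroup G))
    (hn : ∀ S : Sylow p G, Q ≤ (S : Subgroup G) → (S : Subgroup G) ≤ normalizer (Q : Set G))
    (hN : normalizer ((T : Subgroup G) : Set G) ≤ normalizer (Q : Set G)) :
    IsWeaklyClosed Q (T : Subgroup G) := by
  refine ⟨hQT, fun g hg => ?_⟩
  set Qg := Q.map (MulAut.conj g).toMonoidHom with hQg
  have h1 : Q ≤ ((g⁻¹ • T : Sylow p G) : Subgroup G) := by
    intro x hx
    exact ⟨g * x * g⁻¹, hg ⟨x, hx, rfl⟩, by simp [mul_assoc]⟩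
  have h2 := hn _ h1
  have hT : (T : Subgroup G) ≤ normalizer (Qg : Set G) := by
    intro t ht
    refine mem_normalizer_of_map_conj_eq ?_
    have h3 : g⁻¹ * t * g ∈ normalizer (Q : Set G) := h2 ⟨t, ht, by simp [mul_assoc]⟩
    rw [hQg, map_conj_map, show t * g = g * (g⁻¹ * t * g) by group, ← map_conj_map,
      map_conj_eq_of_mem_normalizer h3]
  have hgT : ((g • T : Sylow p G) : Subgroup G) ≤ normalizer (Qg : Set G) := by
    rintro _ ⟨t, ht, rfl⟩
    show g * t * g⁻¹ ∈ _
    refine mem_normalizer_of_map_conj_eq ?_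
    rw [hQg, map_conj_map, show g * t * g⁻¹ * g = g * t by group, ← map_conj_map,
      map_conj_eq_of_mem_normalizer (hn T hQT ht)]
  obtain ⟨n, hn'⟩ := MulAction.exists_smul_eq (normalizer (Qg : Set G)) ((g • T).subtype hgT) (T.subtype hT)
  have h4 : ((n : G) * g) • T = T := by
    rw [mul_smul]
    rw [Sylow.smul_subtype] at hn'
    exact Sylow.subtype_injective hn'
  have h5 := map_conj_eq_of_mem_normalizer (hN (Sylow.smul_eq_iff_mem_normalizer.1 h4))
  rw [← map_conj_map] at h5
  rw [← hQg] at h5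
  rw [← h5, map_conj_eq_of_mem_normalizer n.2]

/-- Mutually normalizing conjugates of `Q` being equal is weak closure. -/
theorem isWeaklyClosedSubgroup_of_commutator {Q : Subgroup G} (hQ : IsPGroup p Q)
    (h : ∀ g : G, ⁅Q, Q.map (MulAut.conj g).toMonoidHom⁆ ≤ Q ⊓ Q.map (MulAut.conj g).toMonoidHom →
      Q.map (MulAut.conj g).toMonoidHom = Q) : IsWeaklyClosedSubgroup p Q := by
  have hpair : ∀ g : G, Q.map (MulAut.conj g).toMonoidHom ≤ normalizer (Q : Set G) →
      Q ≤ normalizer ((Q.map (MulAut.conj g).toMonoidHom : Subgroup G) : Set G) →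
      Q.map (MulAut.conj g).toMonoidHom = Q := fun g h1 h2 => h g (le_inf
        (le_normalizer_iff_commutator_le_left.1 h1)
        (by rw [commutator_comm]; exact le_normalizer_iff_commutator_le_left.1 h2))
  have hn : ∀ S : Sylow p G, Q ≤ (S : Subgroup G) → (S : Subgroup G) ≤ normalizer (Q : Set G) := by
    intro S hS
    by_contra hne
    set N := (S : Subgroup G) ⊓ normalizer (Q : Set G) with hN
    have hNS : N < (S : Subgroup G) := lt_of_le_of_ne inf_le_left fun e => hne (inf_eq_left.1 e)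
    haveI := S.isPGroup'.isNilpotent
    have hlt : N.subgroupOf (S : Subgroup G) < ⊤ := lt_top_iff_ne_top.2 fun e => hNS.not_ge (subgroupOf_eq_top.1 e)
    obtain ⟨g, hg1, hg2⟩ := SetLike.exists_of_lt ((Group.normalizerCondition_of_isNilpotent (G := (S : Subgroup G))) _ hlt)
    have hgN : ∀ x : G, x ∈ N → (g : G) * x * (g : G)⁻¹ ∈ N := fun x hx => by
      have := (mem_normalizer_iff.1 hg1 ⟨x, hx.1⟩).1 hx
      exact this
    have hgN' : ∀ x : G, x ∈ N → (g : G)⁻¹ * x * (g : G) ∈ N := fun x hx => by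
      have := (mem_normalizer_iff''.1 hg1 ⟨x, hx.1⟩).1 hx
      exact this
    refine hg2 (mem_inf.2 ⟨g.2, mem_normalizer_of_map_conj_eq (hpair g ?_ ?_)⟩)
    · rintro _ ⟨x, hx, rfl⟩
      exact (hgN x (mem_inf.2 ⟨hS hx, le_normalizer hx⟩)).2
    · intro x hx
      have h3 : (g : G)⁻¹ * x * g ∈ normalizer (Q : Set G) := (hgN' x (mem_inf.2 ⟨hS hx, le_normalizer hx⟩)).2
      refine mem_normalizer_of_map_conj_eq ?_
      rw [map_conj_map, show x * (g : G) = g * ((g : G)⁻¹ * x * g) by group, ← map_conj_map,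
        map_conj_eq_of_mem_normalizer h3]
  obtain ⟨T, hT⟩ := hQ.exists_le_sylow
  refine ⟨T, hT, fun g hg => hpair g ?_ ?_⟩
  · exact hg.trans (hn T hT)
  · refine hT.trans fun t ht => mem_normalizer_of_map_conj_eq ?_
    have h1 : Q ≤ ((g⁻¹ • T : Sylow p G) : Subgroup G) := fun x hx => ⟨g * x * g⁻¹, hg ⟨x, hx, rfl⟩, by simp [mul_assoc]⟩
    have h3 : g⁻¹ * t * g ∈ normalizer (Q : Set G) := hn _ h1 ⟨t, ht, by simp [mul_assoc]⟩
    rw [map_conj_map, show t * g = g * (g⁻¹ * t * g) by group, ← map_conj_map,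
      map_conj_eq_of_mem_normalizer h3]

/-- An isolated element is central in every `p`-subgroup containing it. -/
theorem isolated_central {x : G} (hiso : IsIsolated x) {R : Subgroup G} (hR : IsPGroup p R) (hx : x ∈ R) :
    ∀ r ∈ R, Commute r x := by
  intro r hr
  by_contra hne
  set C := (centralizer ({x} : Set G)).subgroupOf R with hC
  haveI := hR.isNilpotent
  have hlt : C < ⊤ := lt_top_iff_ne_top.2 fun e => hne (by
    have := subgroupOf_eq_top.1 e hr
    exact (mem_centralizer_iff.1 this x rfl).symm)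
  obtain ⟨g, hg1, hg2⟩ := SetLike.exists_of_lt ((Group.normalizerCondition_of_isNilpotent (G := R)) C hlt)
  have hxC : (⟨x, hx⟩ : R) ∈ C := mem_centralizer_iff.2 fun y hy => by
    rw [Set.mem_singleton_iff.1 hy]
    rfl
  have h1 := mem_centralizer_iff.1 ((mem_normalizer_iff.1 hg1 _).1 hxC) x rfl
  have h2 := hiso g h1
  refine hg2 (mem_centralizer_iff.2 fun y hy => ?_)
  rw [Set.mem_singleton_iff.1 hy]
  exact (mul_inv_eq_iff_eq_mul.1 h2).symm

theorem isolated_eq_of_mem {x : G} (hiso : IsIsolated x) {R : Subgroup G} (hR : IsPGroup p R) (hx : x ∈ R)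
    {g : G} (hg : g * x * g⁻¹ ∈ R) : g * x * g⁻¹ = x :=
  hiso g (isolated_central hiso hR hx _ hg).symm

end Cfsg.Agent.Local.WCB
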