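import Cfsg.Agent.Lib.Local.FrakM
import Cfsg.Agent.Lib.Local.WeaklyClosedBasics
import Cfsg.Prelude.Def_LocalStructure

/-!
`O_p(M)` for `M ∈ 𝔐` with asymmetric `Y_M`.
-/

set_option autoImplicit false
set_option linter.style.haveILetI false

namespace Cfsg.Agent.Local.FrakM

open Subgroup
open scoped commutatorElement

variable {G : Type*} [Group G] [Finite G] {p : ℕ} [Fact p.Prime]

theorem normalizer_mem_charP' (hH : IsOfParabolicCharacteristic p G) {I : Subgroup G}
    (hIp : IsPGroup p ↥I) (hI1 : I ≠ ⊥) (hpar : IsParabolic p (normalizer (I : Set G))) :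
    normalizer (I : Set G) ∈ charPSubgroups p G := by
  set N := normalizer (I : Set G) with hN
  have hc := hH I hIp hI1 hpar
  haveI : (I.subgroupOf N).Normal := normal_subgroupOf_of_le_normalizer le_rfl
  have hle : I.subgroupOf N ≤ pCore p ↥N :=
    Solv.le_pCore (N := I.subgroupOf N) (hIp.comap_subtype (K := N))
  have hIO : I ≤ pCoreOf p N := fun y hy =>
    ⟨⟨y, le_normalizer hy⟩, hle (show (⟨y, le_normalizer hy⟩ : N) ∈ I.subgroupOf N from hy), rfl⟩
  refine ⟨fun e => hI1 (le_bot_iff.1 (hIO.trans_eq (by rw [pCoreOf, e, Subgroup.map_bot]))), ?_⟩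
  intro x hx
  have hxN : x ∈ N := centralizer_le_normalizer _ (centralizer_le (SetLike.coe_subset_coe.2 hIO) hx)
  exact ⟨⟨x, hxN⟩, hc (mem_centralizer_iff.2 fun o ho =>
    Subtype.ext (mem_centralizer_iff.1 hx _ ⟨o, ho, rfl⟩)), rfl⟩

variable (T : Sylow p G) {M : Subgroup G}

theorem normalizer_le_dagger (hH : IsOfParabolicCharacteristic p G) (hTM : (T : Subgroup G) ≤ M)
    (hM : IsInFrakM p M) {I : Subgroup G} (hIp : IsPGroup p ↥I) (hI1 : I ≠ ⊥)
    (hMI : M ≤ normalizer (I : Set G)) :
    normalizer (I : Set G) ≤ M ⊔ centralizer (largestPReducedOf p M : Set G) := by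
  obtain ⟨X, hNX, hX⟩ := exists_maximal_ge (normalizer_mem_charP' hH hIp hI1 ⟨T, hTM.trans hMI⟩)
  exact hNX.trans (hM.2.2.1 X hX (hMI.trans hNX)).le

theorem dagger_le_normalizer (M : Subgroup G) :
    M ⊔ centralizer (largestPReducedOf p M : Set G) ≤ normalizer (largestPReducedOf p M : Set G) :=
  sup_le (largestOf_le_normalizer M) (centralizer_le_normalizer _)

theorem M_le_normalizer_pCoreOf (M : Subgroup G) : M ≤ normalizer (pCoreOf p M : Set G) :=
  Struct.CoprimeMinimal.le_normalizer_map_char M M le_normalizer _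

/-- `O_p(M) = C_T(Y_M)` for `M ∈ 𝔐`. -/
theorem pCoreOf_eq (hTM : (T : Subgroup G) ≤ M) (hM : IsInFrakM p M) :
    pCoreOf p M = (T : Subgroup G) ⊓ centralizer (largestPReducedOf p M : Set G) := by
  set C := centralizer (largestPReducedOf p M : Set G) with hC
  refine le_antisymm (Cfsg.Agent.S2821.result T M hTM (rel_of_mem hM.1) _ rfl).2.1 ?_
  set D := M ⊓ C with hD
  have hTCD : (T : Subgroup G) ⊓ C ≤ D := inf_le_inf_right _ hTM
  have hp0 : IsPGroup p ↥(((T : Subgroup G) ⊓ C).subgroupOf D) :=
    (T.isPGroup'.to_le inf_le_left).comap_subtype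
  obtain ⟨P, hP⟩ := hp0.exists_le_sylow
  haveI := Sylow.characteristic_of_normal P (hM.2.2.2.2.1 P)
  have hMD : M ≤ normalizer (D : Set G) :=
    Solv.le_normalizer_inf le_normalizer
      ((largestOf_le_normalizer M).trans (LargeSub.le_normalizer_centralizer le_rfl))
  have hPn := Struct.CoprimeMinimal.le_normalizer_map_char M D hMD (P : Subgroup ↥D)
  have hPM : (P : Subgroup ↥D).map D.subtype ≤ M := (map_subtype_le _).trans inf_le_left
  haveI : (((P : Subgroup ↥D).map D.subtype).subgroupOf M).Normal :=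
    normal_subgroupOf_of_le_normalizer hPn
  have hle : ((P : Subgroup ↥D).map D.subtype).subgroupOf M ≤ pCore p ↥M :=
    Solv.le_pCore (N := ((P : Subgroup ↥D).map D.subtype).subgroupOf M) (P.isPGroup'.map _).comap_subtype
  intro x hx
  have hxP : x ∈ (P : Subgroup ↥D).map D.subtype := ⟨⟨x, hTCD hx⟩, hP hx, rfl⟩
  exact ⟨⟨x, hPM hxP⟩, hle hxP, rfl⟩

/-- A `p`-group containing `O_p(M)` meets `C(Y_M)` in `O_p(M)`. -/
theorem inf_centralizer_eq (hTM : (T : Subgroup G) ≤ M) (hM : IsInFrakM p M) {L : Subgroup G}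
    (hL : IsPGroup p ↥L) (hOL : pCoreOf p M ≤ L) :
    L ⊓ centralizer (largestPReducedOf p M : Set G) = pCoreOf p M := by
  set C := centralizer (largestPReducedOf p M : Set G) with hC
  have hO := pCoreOf_eq T hTM hM
  obtain ⟨P, hP⟩ := (Cfsg.Agent.S2821.result T M hTM (rel_of_mem hM.1) _ rfl).1
  have hsub : (P : Subgroup ↥C) ≤ L.subgroupOf C := by
    rw [hP]
    exact fun x hx => hOL (hO.ge hx)
  have h := P.is_maximal' hL.comap_subtype hsub
  refine le_antisymm (fun x hx => ?_) (le_inf hOL (hO.le.trans inf_le_right))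
  have hxP : (⟨x, hx.2⟩ : C) ∈ (P : Subgroup ↥C) := h ▸ (show (⟨x, hx.2⟩ : C) ∈ L.subgroupOf C from hx.1)
  rw [hP] at hxP
  exact hO.ge hxP

/-- The conjugates of `Y_M` under a "mutually normalizing" generating set lie in `O_p(M)`. -/
theorem weaklyClosed_pCoreOf (hH : IsOfParabolicCharacteristic p G) (hTM : (T : Subgroup G) ≤ M)
    (hM : IsInFrakM p M) (hasym : ¬ IsSymmetricIn (largestPReducedOf p M)) :
    IsWeaklyClosedSubgroup p (pCoreOf p M) := by
  set O := pCoreOf p M with hOdef
  set Y := largestPReducedOf p M with hYdef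
  have hOp : IsPGroup p ↥O := (Solv.isPGroup_pCore p ↥M).map _
  have hO1 : O ≠ ⊥ := fun e => hM.1.1 ((map_eq_bot_iff_of_injective _ M.subtype_injective).1 e)
  have hNO : normalizer (O : Set G) ≤ normalizer (Y : Set G) :=
    (normalizer_le_dagger T hH hTM hM hOp hO1 (M_le_normalizer_pCoreOf M)).trans (dagger_le_normalizer M)
  have hYO : Y ≤ O := largestOf_le_pCoreOf M
  refine WCB.isWeaklyClosedSubgroup_of_commutator hOp fun g hg => ?_
  let cj : G → Subgroup G → Subgroup G := fun a K => K.map (MulAut.conj a).toMonoidHom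
  let Gen : Set G := {a | cj a O ≤ normalizer (O : Set G) ∧ cj a⁻¹ O ≤ normalizer (O : Set G)}
  have hinv : ∀ a ∈ Gen, a⁻¹ ∈ Gen := fun a ha => ⟨ha.2, by rw [inv_inv]; exact ha.1⟩
  have hgGen : g ∈ Gen := by
    refine ⟨?_, ?_⟩
    · rw [le_normalizer_iff_commutator_le_left]
      exact hg.trans inf_le_left
    · have h2 : O ≤ normalizer (cj g O : Set G) := by
        rw [le_normalizer_iff_commutator_le_left, commutator_comm]
        exact hg.trans inf_le_right
      rintro _ ⟨x, hx, rfl⟩
      refine WCB.mem_normalizer_of_map_conj_eq ?_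
      show O.map (MulAut.conj (g⁻¹ * x * g⁻¹⁻¹)).toMonoidHom = O
      rw [inv_inv, mul_assoc, ← WCB.map_conj_map, ← WCB.map_conj_map,
        WCB.map_conj_eq_of_mem_normalizer (h2 hx), WCB.map_conj_map, inv_mul_cancel, WCB.map_conj_one]
  have hMGen : ∀ m ∈ M, m ∈ Gen := fun m hm => by
    refine ⟨?_, ?_⟩
    · show O.map (MulAut.conj m).toMonoidHom ≤ _
      rw [WCB.map_conj_eq_of_mem_normalizer (M_le_normalizer_pCoreOf M hm)]
      exact le_normalizer
    · show O.map (MulAut.conj m⁻¹).toMonoidHom ≤ _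
      rw [WCB.map_conj_eq_of_mem_normalizer (inv_mem (M_le_normalizer_pCoreOf M hm))]
      exact le_normalizer
  -- the key induction
  have key : ∀ n : ℕ, ∀ l : List G, l.length ≤ n → (∀ x ∈ l, x ∈ Gen) → cj l.prod Y ≤ O := by
    intro n
    induction n with
    | zero =>
      intro l hl _
      rw [List.length_eq_zero_iff.1 (Nat.le_zero.1 hl), List.prod_nil]
      show Y.map _ ≤ O
      rw [WCB.map_conj_one]
      exact hYO
    | succ n ih =>
      intro l hl hmem
      match l, hl, hmem with
      | [], _, _ =>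
        show Y.map _ ≤ O
        rw [List.prod_nil, WCB.map_conj_one]
        exact hYO
      | a :: t, hl, hmem =>
        set w := (a :: t).prod with hw
        have h1 : cj w Y ≤ cj a O := by
          show Y.map _ ≤ O.map _
          rw [hw, List.prod_cons, ← WCB.map_conj_map]
          exact map_mono (ih t (by simpa using hl) fun x hx => hmem x (List.mem_cons_of_mem a hx))
        have ha := hmem a List.mem_cons_self
        have h1N : cj w Y ≤ normalizer (Y : Set G) := h1.trans (ha.1.trans hNO)
        -- the inverse word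
        obtain ⟨b, t', hbt⟩ : ∃ b t', ((a :: t).map (·⁻¹)).reverse = b :: t' :=
          List.exists_cons_of_ne_nil (by simp)
        have hlen : t'.length ≤ n := by
          have := congrArg List.length hbt
          simp at this hl
          omega
        have hmem' : ∀ x ∈ b :: t', x ∈ Gen := by
          rw [← hbt]
          intro x hx
          rw [List.mem_reverse, List.mem_map] at hx
          obtain ⟨y, hy, rfl⟩ := hx
          exact hinv y (hmem y hy)
        have hw' : w⁻¹ = b * t'.prod := by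
          rw [← List.prod_cons, ← hbt, hw, List.prod_inv_reverse]
        have h2N : cj w⁻¹ Y ≤ normalizer (Y : Set G) := by
          refine le_trans ?_ ((hmem' b List.mem_cons_self).1.trans hNO)
          show Y.map _ ≤ O.map _
          rw [hw', ← WCB.map_conj_map]
          exact map_mono (ih t' hlen fun x hx => hmem' x (List.mem_cons_of_mem b hx))
        have h3N : Y ≤ normalizer (cj w Y : Set G) := by
          intro y hy
          refine WCB.mem_normalizer_of_map_conj_eq ?_
          show (Y.map _).map _ = Y.map _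
          have h4 : w⁻¹ * y * w ∈ normalizer (Y : Set G) := by
            refine h2N ⟨y, hy, ?_⟩
            show w⁻¹ * y * w⁻¹⁻¹ = _
            rw [inv_inv]
          rw [WCB.map_conj_map, show y * w = w * (w⁻¹ * y * w) by group, ← WCB.map_conj_map,
            WCB.map_conj_eq_of_mem_normalizer h4]
        have hcomm : ⁅Y, cj w Y⁆ = ⊥ := by
          by_contra hne
          refine hasym ⟨w, hne, le_inf (le_normalizer_iff_commutator_le_left.1 h1N) ?_⟩
          rw [commutator_comm]
          exact le_normalizer_iff_commutator_le_left.1 h3N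
        have hLp : IsPGroup p ↥(O ⊔ cj a O : Subgroup G) :=
          hOp.to_sup_of_normal_left' (hOp.map _) ha.1
        have h5 := inf_centralizer_eq T hTM hM hLp le_sup_left
        rw [commutator_eq_bot_iff_le_centralizer, le_centralizer_iff] at hcomm
        exact (le_inf (h1.trans le_sup_right) hcomm).trans h5.le
  -- the generated group normalizes a nontrivial `p`-subgroup of `O`
  have hlist : ∀ k ∈ Subgroup.closure Gen, ∃ l : List G, (∀ x ∈ l, x ∈ Gen) ∧ l.prod = k := by
    intro k hk
    induction hk using Subgroup.closure_induction with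
    | mem x hx => exact ⟨[x], by simpa using hx, by simp⟩
    | one => exact ⟨[], by simp, rfl⟩
    | mul x y _ _ ihx ihy =>
      obtain ⟨l, hl, rfl⟩ := ihx
      obtain ⟨l', hl', rfl⟩ := ihy
      exact ⟨l ++ l', fun z hz => (List.mem_append.1 hz).elim (hl z) (hl' z), List.prod_append⟩
    | inv x _ ihx =>
      obtain ⟨l, hl, rfl⟩ := ihx
      refine ⟨(l.map (·⁻¹)).reverse, fun z hz => ?_, (List.prod_inv_reverse l).symm⟩
      rw [List.mem_reverse, List.mem_map] at hz
      obtain ⟨y, hy, rfl⟩ := hz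
      exact hinv y (hl y hy)
  set K := Subgroup.closure Gen with hKdef
  set W : Subgroup G := ⨆ k : ↥K, Y.map (MulAut.conj (k : G)).toMonoidHom with hW
  have hWO : W ≤ O := iSup_le fun k => by
    obtain ⟨l, hl, hk⟩ := hlist k k.2
    rw [← hk]
    exact key l.length l le_rfl hl
  have hYW : Y ≤ W := by
    have h := le_iSup (fun k : ↥K => Y.map (MulAut.conj (k : G)).toMonoidHom) 1
    rwa [OneMemClass.coe_one, WCB.map_conj_one] at h
  have hKW : K ≤ normalizer (W : Set G) := by
    intro k hk
    refine WCB.mem_normalizer_of_map_conj_eq ?_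
    rw [hW, Subgroup.map_iSup]
    refine le_antisymm (iSup_le fun j => ?_) (iSup_le fun j => ?_)
    · rw [WCB.map_conj_map]
      exact le_iSup (fun k : ↥K => Y.map (MulAut.conj (k : G)).toMonoidHom) ⟨k * j, mul_mem hk j.2⟩
    · refine le_trans (le_of_eq ?_) (le_iSup (fun i : ↥K =>
        (Y.map (MulAut.conj (i : G)).toMonoidHom).map (MulAut.conj k).toMonoidHom)
        ⟨k⁻¹ * j, mul_mem (inv_mem hk) j.2⟩)
      rw [WCB.map_conj_map, mul_inv_cancel_left]
  have hW1 : W ≠ ⊥ := fun e => largestOf_ne_bot T hTM hM.1 (le_bot_iff.1 (e ▸ hYW))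
  have hgY : g ∈ normalizer (Y : Set G) :=
    dagger_le_normalizer M (normalizer_le_dagger T hH hTM hM (hOp.to_le hWO) hW1
      (fun m hm => hKW (Subgroup.subset_closure (hMGen m hm))) (hKW (Subgroup.subset_closure hgGen)))
  have hLp : IsPGroup p ↥(O ⊔ cj g O : Subgroup G) :=
    hOp.to_sup_of_normal_left' (hOp.map _) hgGen.1
  have h5 := inf_centralizer_eq T hTM hM hLp le_sup_left
  have hle : cj g O ≤ O := by
    refine le_trans (le_inf le_sup_right ?_) h5.le
    rintro _ ⟨x, hx, rfl⟩
    exact (mem_normalizer_iff.1 (LargeSub.le_normalizer_centralizer (le_refl (normalizer (Y : Set G))) hgY) x).1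
      ((pCoreOf_eq T hTM hM).le hx).2
  exact eq_of_le_of_card_ge hle (by rw [card_map_of_injective (MulAut.conj g).injective])

theorem normalizer_le_of_pGroup (hH : IsOfParabolicCharacteristic p G) (hTM : (T : Subgroup G) ≤ M)
    (hM : IsInFrakM p M) (hasym : ¬ IsSymmetricIn (largestPReducedOf p M)) {L : Subgroup G}
    (hL : IsPGroup p ↥L) (hOL : pCoreOf p M ≤ L) :
    normalizer (L : Set G) ≤ normalizer (pCoreOf p M : Set G) := by
  intro g hg
  refine WCB.mem_normalizer_of_map_conj_eq ?_
  have h := WCB.eq_of_isWeaklyClosedSubgroup (weaklyClosed_pCoreOf T hH hTM hM hasym) hL (a := g) (b := 1)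
    ((map_mono hOL).trans (WCB.map_conj_eq_of_mem_normalizer hg).le) (by rw [WCB.map_conj_one]; exact hOL)
  rwa [WCB.map_conj_one] at h

theorem pCoreOf_normalizer_le_dagger (hH : IsOfParabolicCharacteristic p G) (hTM : (T : Subgroup G) ≤ M)
    (hM : IsInFrakM p M) :
    normalizer (pCoreOf p M : Set G) ≤ M ⊔ centralizer (largestPReducedOf p M : Set G) :=
  normalizer_le_dagger T hH hTM hM ((Solv.isPGroup_pCore p ↥M).map _)
    (fun e => hM.1.1 ((map_eq_bot_iff_of_injective _ M.subtype_injective).1 e)) (M_le_normalizer_pCoreOf M)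

end Cfsg.Agent.Local.FrakM
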