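import Mathlib
import Cfsg.Prelude

/-!
Regularity for a normalizer functor, rephrased with chains of Sylow subgroups of the whole group.
-/

set_option autoImplicit false

namespace Cfsg.Agent.Local.FunctorReg

open Subgroup
open scoped Pointwise

variable {G : Type*} [Group G] [Finite G] {p : ℕ} [Fact p.Prime]

/-- one step of a chain over `A` -/
def Step (f : Subgroup G → Set (Subgroup G)) (A : Subgroup G) (R R' : Sylow p G) : Prop :=
  ∃ (Q : Sylow p G), ∃ F ∈ f (Q : Subgroup G), ∃ x ∈ normalizer (F : Set G),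
    (R : Subgroup G) ≤ normalizer (F : Set G) ∧ (R' : Subgroup G) ≤ normalizer (F : Set G) ∧
      (R' : Subgroup G).map (MulAut.conj x⁻¹).toMonoidHom = (R : Subgroup G) ∧
      A ≤ (R' : Subgroup G) ⊓ normalizer (F : Set G)

theorem card_sylow_subgroup {M : Subgroup G} (S : Sylow p G) (hS : (S : Subgroup G) ≤ M) (P : Sylow p M) :
    Nat.card ((P : Subgroup M).map M.subtype) = Nat.card (S : Subgroup G) := by
  rw [card_map_of_injective M.subtype_injective, P.card_eq_multiplicity]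
  rw [← (S.subtype hS).card_eq_multiplicity, Sylow.coe_subtype]
  exact Nat.card_congr (subgroupOfEquivOfLe hS).toEquiv

theorem exists_sylow_map {M : Subgroup G} (S : Sylow p G) (hS : (S : Subgroup G) ≤ M) (P : Sylow p M) :
    ∃ R : Sylow p G, (R : Subgroup G) = (P : Subgroup M).map M.subtype := by
  obtain ⟨R, hR⟩ := (P.isPGroup'.map M.subtype).exists_le_sylow
  refine ⟨R, (eq_of_le_of_card_ge hR ?_).symm⟩
  rw [card_sylow_subgroup S hS P, R.card_eq_multiplicity, S.card_eq_multiplicity]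

theorem reflTransGen_of_regular (f : Subgroup G → Set (Subgroup G)) (hf : IsNormalizerFunctor p f)
    {M : Subgroup G} (hM : IsFunctorRegular p f M) {A : Subgroup G} (hA : A ≠ ⊥) (R R' : Sylow p G)
    (hR : (R : Subgroup G) ≤ M) (hR' : (R' : Subgroup G) ≤ M) (hAR : A ≤ R) (hAR' : A ≤ R') :
    Relation.ReflTransGen (Step f A) R R' := by
  rcases eq_or_ne R R' with rfl | hne
  · exact .refl
  have hne' : R.subtype hR ≠ R'.subtype hR' := fun h => hne (Sylow.subtype_injective h)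
  have hint : ((R.subtype hR : Sylow p M) : Subgroup M) ⊓ (R'.subtype hR' : Sylow p M) ≠ ⊥ := by
    intro h
    refine hA ((Subgroup.eq_bot_iff_forall _).2 fun a ha => ?_)
    have h1 : (⟨a, hR (hAR ha)⟩ : M) ∈ ((R.subtype hR : Sylow p M) : Subgroup M) ⊓ (R'.subtype hR' : Sylow p M) :=
      ⟨hAR ha, hAR' ha⟩
    rw [h, mem_bot] at h1
    exact congrArg Subtype.val h1
  obtain ⟨n, c, X, x, hc0, hcn, hstep⟩ := hM _ _ hne' hint
  choose c' hc' using fun i => exists_sylow_map R hR (c i)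
  have key : ∀ i : Fin n, Step f A (c' i.castSucc) (c' i.succ) := by
    intro i
    obtain ⟨⟨hX, P₁, hP₁⟩, ⟨-, P₂, hP₂⟩, hxX, hconj, hAX⟩ := hstep i
    obtain ⟨Y, ⟨P, F, hF, rfl⟩, hXeq⟩ := hX
    obtain ⟨Q, hQ⟩ := exists_sylow_map R hR P
    have hPX : (P : Subgroup M) ≤ X i := by
      rw [← hXeq]
      intro y hy
      refine mem_subgroupOf.2 ⟨y.2, ?_⟩
      obtain ⟨hF1, hF2⟩ := (hf _ (P.isPGroup'.map M.subtype)).1 F hF
      exact hF2 (le_normalizer ⟨y, hy, rfl⟩)
    have hle : ∀ (d : Sylow p M) (P₃ : Sylow p (X i)),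
        (P₃ : Subgroup (X i)).map (X i).subtype = (d : Subgroup M) ⊓ X i → (d : Subgroup M) ≤ X i := by
      intro d P₃ h3
      have h4 : (d : Subgroup M) = (d : Subgroup M) ⊓ X i := by
        refine (eq_of_le_of_card_ge inf_le_left ?_).symm
        rw [← h3, card_map_of_injective (X i).subtype_injective, P₃.card_eq_multiplicity,
          ← (P.subtype hPX).card_eq_multiplicity, Sylow.coe_subtype,
          Nat.card_congr (subgroupOfEquivOfLe hPX).toEquiv, P.card_eq_multiplicity, d.card_eq_multiplicity]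
      exact h4.le.trans inf_le_right
    have hXN : ∀ y ∈ X i, (y : G) ∈ normalizer (F : Set G) := by
      intro y hy
      rw [← hXeq] at hy
      exact (mem_subgroupOf.1 hy).2
    refine ⟨Q, F, hQ ▸ hF, x i, hXN _ hxX, ?_, ?_, ?_, ?_⟩
    · rw [hc']
      rintro _ ⟨y, hy, rfl⟩
      exact hXN y (hle _ P₁ hP₁ hy)
    · rw [hc']
      rintro _ ⟨y, hy, rfl⟩
      exact hXN y (hle _ P₂ hP₂ hy)
    · rw [hc', hc', ← hconj, subgroupConjRight, Subgroup.map_map, Subgroup.map_map]
      congr 1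
    · intro a ha
      have h1 : (⟨a, hR (hAR ha)⟩ : M) ∈ (c i.succ : Subgroup M) ⊓ X i :=
        hAX (mem_inf.2 ⟨hAR ha, hAR' ha⟩)
      exact mem_inf.2 ⟨(hc' i.succ).ge ⟨_, h1.1, rfl⟩, hXN _ h1.2⟩
  have h0 : c' 0 = R := Sylow.ext (by
    rw [hc', hc0, Sylow.coe_subtype, map_subgroupOf_eq_of_le hR])
  have hn : c' (Fin.last n) = R' := Sylow.ext (by
    rw [hc', hcn, Sylow.coe_subtype, map_subgroupOf_eq_of_le hR'])
  have hind : ∀ (j : ℕ) (hj : j < n + 1), Relation.ReflTransGen (Step f A) R (c' ⟨j, hj⟩) := by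
    intro j
    induction j with
    | zero => intro _; exact h0 ▸ .refl
    | succ j ih => intro hj; exact (ih (by omega)).tail (key ⟨j, by omega⟩)
  exact hn ▸ hind n (Nat.lt_succ_self n)

theorem step_conj (f : Subgroup G → Set (Subgroup G)) (hf : IsNormalizerFunctor p f) {A : Subgroup G}
    {R R' : Sylow p G} (a : G) (h : Step f A R R') :
    Step f (A.map (MulAut.conj a).toMonoidHom) (a • R) (a • R') := by
  obtain ⟨Q, F, hF, x, hx, hR, hR', hconj, hA⟩ := h
  have hN : ∀ y ∈ normalizer (F : Set G),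
      a * y * a⁻¹ ∈ normalizer ((F.map (MulAut.conj a).toMonoidHom : Subgroup G) : Set G) := by
    intro y hy
    rw [← map_equiv_normalizer_eq F (MulAut.conj a)]
    exact ⟨y, hy, rfl⟩
  refine ⟨a • Q, F.map (MulAut.conj a).toMonoidHom, ?_, a * x * a⁻¹, hN x hx, ?_, ?_, ?_, ?_⟩
  · show _ ∈ f ((Q : Subgroup G).map (MulAut.conj a).toMonoidHom)
    rw [(hf _ Q.isPGroup').2 a]
    exact ⟨F, hF, rfl⟩
  · rintro _ ⟨y, hy, rfl⟩; exact hN y (hR hy)
  · rintro _ ⟨y, hy, rfl⟩; exact hN y (hR' hy)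
  · show ((R' : Subgroup G).map (MulAut.conj a).toMonoidHom).map _ = (R : Subgroup G).map (MulAut.conj a).toMonoidHom
    rw [← hconj, Subgroup.map_map, Subgroup.map_map]
    congr 1
    ext y
    simp [mul_assoc]
  · rintro _ ⟨y, hy, rfl⟩
    exact mem_inf.2 ⟨⟨y, (hA hy).1, rfl⟩, hN y (hA hy).2⟩

theorem step_mono (f : Subgroup G → Set (Subgroup G)) {A B : Subgroup G} (hBA : B ≤ A)
    {R R' : Sylow p G} (h : Step f A R R') : Step f B R R' := by
  obtain ⟨Q, F, hF, x, hx, hR, hR', hconj, hA⟩ := h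
  exact ⟨Q, F, hF, x, hx, hR, hR', hconj, hBA.trans hA⟩

theorem chain_conj (f : Subgroup G → Set (Subgroup G)) (hf : IsNormalizerFunctor p f) {A B : Subgroup G}
    {R R' : Sylow p G} (a : G) (hB : B ≤ A.map (MulAut.conj a).toMonoidHom)
    (h : Relation.ReflTransGen (Step f A) R R') :
    Relation.ReflTransGen (Step f B) (a • R) (a • R') :=
  h.lift (fun R => a • R) fun _ _ hs => step_mono f hB (step_conj f hf a hs)

theorem regular_top (f : Subgroup G → Set (Subgroup G)) (hf : IsNormalizerFunctor p f)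
    (h : ∀ R R' : Sylow p G, (R : Subgroup G) ⊓ R' ≠ ⊥ →
      Relation.ReflTransGen (Step f ((R : Subgroup G) ⊓ R')) R R') :
    IsFunctorRegular p f ⊤ := by
  intro U V hUV hint
  obtain ⟨S0⟩ := Sylow.nonempty (p := p) (G := G)
  obtain ⟨R, hR⟩ := exists_sylow_map S0 le_top U
  obtain ⟨R', hR'⟩ := exists_sylow_map S0 le_top V
  have hne : (R : Subgroup G) ⊓ R' ≠ ⊥ := by
    rw [hR, hR', ← Subgroup.map_inf _ _ _ (subtype_injective _)]
    exact fun h0 => hint ((Subgroup.map_eq_bot_iff_of_injective _ (subtype_injective _)).1 h0)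
  suffices key : ∀ R'', Relation.ReflTransGen (Step f ((R : Subgroup G) ⊓ R')) R R'' →
      ∃ (n : ℕ) (c : Fin (n + 1) → Sylow p (⊤ : Subgroup G)) (X : Fin n → Subgroup (⊤ : Subgroup G))
        (x : Fin n → (⊤ : Subgroup G)), c 0 = U ∧ c (Fin.last n) = R''.subtype le_top ∧
        ∀ i : Fin n,
          X i ∈ sylowMembers p ((fun X : Subgroup G => X.subgroupOf (⊤ : Subgroup G)) '' functorFamily p f ⊤)
            (c i.castSucc : Subgroup (⊤ : Subgroup G)) ∧
          X i ∈ sylowMembers p ((fun X : Subgroup G => X.subgroupOf (⊤ : Subgroup G)) '' functorFamily p f ⊤)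
            (c i.succ : Subgroup (⊤ : Subgroup G)) ∧
          x i ∈ X i ∧ subgroupConjRight (x i) (c i.succ : Subgroup (⊤ : Subgroup G)) =
            (c i.castSucc : Subgroup (⊤ : Subgroup G)) ∧
          (U : Subgroup (⊤ : Subgroup G)) ⊓ (V : Subgroup (⊤ : Subgroup G)) ≤ (c i.succ : Subgroup (⊤ : Subgroup G)) ⊓ X i by
    obtain ⟨n, c, X, x, h0, hn, hs⟩ := key R' (h R R' hne)
    refine ⟨n, c, X, x, h0, hn.trans (Sylow.ext ?_), hs⟩
    rw [Sylow.coe_subtype, hR', subgroupOf, comap_map_eq_self_of_injective (subtype_injective _)]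
  intro R'' hR''
  induction hR'' with
  | refl =>
    refine ⟨0, fun _ => U, Fin.elim0, Fin.elim0, rfl, Sylow.ext ?_, fun i => i.elim0⟩
    rw [Sylow.coe_subtype, hR, subgroupOf, comap_map_eq_self_of_injective (subtype_injective _)]
  | @tail R₁ R₂ _ hs ih =>
    obtain ⟨n, c, X, x, h0, hn, hstep⟩ := ih
    obtain ⟨Q, F, hF, y, hy, hR₁, hR₂, hconj, hA⟩ := hs
    refine ⟨n + 1, Fin.snoc c (R₂.subtype le_top),
      Fin.snoc X (((⊤ : Subgroup G) ⊓ normalizer (F : Set G)).subgroupOf ⊤),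
      Fin.snoc x ⟨y, mem_top y⟩, ?_, Fin.snoc_last _ _, ?_⟩
    · rw [show (0 : Fin (n + 1 + 1)) = Fin.castSucc 0 from rfl, Fin.snoc_castSucc]; exact h0
    intro i
    refine Fin.lastCases ?_ (fun j => ?_) i
    · simp only [Fin.snoc_last, Fin.succ_last, Fin.snoc_castSucc, hn]
      have hmem : ∀ R₃ : Sylow p G, (R₃ : Subgroup G) ≤ normalizer (F : Set G) →
          ((⊤ : Subgroup G) ⊓ normalizer (F : Set G)).subgroupOf ⊤ ∈
            sylowMembers p ((fun X : Subgroup G => X.subgroupOf (⊤ : Subgroup G)) '' functorFamily p f ⊤)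
              ((R₃.subtype le_top : Sylow p (⊤ : Subgroup G)) : Subgroup (⊤ : Subgroup G)) := by
        intro R₃ h3
        refine ⟨⟨_, ⟨Q.subtype le_top, F, ?_, rfl⟩, rfl⟩, ?_⟩
        · rw [Sylow.coe_subtype, map_subgroupOf_eq_of_le le_top]; exact hF
        · have hle : ((R₃.subtype le_top : Sylow p (⊤ : Subgroup G)) : Subgroup (⊤ : Subgroup G)) ≤
              ((⊤ : Subgroup G) ⊓ normalizer (F : Set G)).subgroupOf ⊤ :=
            fun z hz => mem_subgroupOf.2 ⟨mem_top _, h3 hz⟩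
          refine ⟨(R₃.subtype le_top).subtype hle, ?_⟩
          rw [Sylow.coe_subtype (R₃.subtype le_top), map_subgroupOf_eq_of_le hle, inf_eq_left.2 hle]
      refine ⟨hmem R₁ hR₁, hmem R₂ hR₂, mem_subgroupOf.2 ⟨mem_top _, hy⟩, ?_, ?_⟩
      · apply map_injective (subtype_injective (⊤ : Subgroup G))
        rw [Sylow.coe_subtype, Sylow.coe_subtype, subgroupConjRight, Subgroup.map_map,
          map_subgroupOf_eq_of_le le_top, ← hconj]
        conv_rhs => rw [← map_subgroupOf_eq_of_le (le_top : (R₂ : Subgroup G) ≤ ⊤), Subgroup.map_map]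
        congr 1
      · intro z hz
        have hz' : (z : G) ∈ (R : Subgroup G) ⊓ R' := by
          rw [hR, hR']
          exact mem_inf.2 ⟨⟨z, hz.1, rfl⟩, ⟨z, hz.2, rfl⟩⟩
        exact mem_inf.2 ⟨(hA hz').1, mem_subgroupOf.2 ⟨mem_top _, (hA hz').2⟩⟩
    · simp only [Fin.snoc_castSucc, Fin.succ_castSucc]
      exact hstep j

end Cfsg.Agent.Local.FunctorReg
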