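import Cfsg.Agent.Lib.Local.PComponent

/-!
Existence of `p`-components, the `p`-layer, quotients and central extensions of quasisimple
groups.
-/

set_option autoImplicit false
set_option linter.style.haveILetI false

namespace Cfsg.Agent.Local

open Subgroup
open scoped commutatorElement

/-- Criterion for quasisimplicity. -/
theorem qs_of_dichotomy {K : Type*} [Group K] (hperf : ⁅(⊤ : Subgroup K), (⊤ : Subgroup K)⁆ = ⊤)
    (hne : center K ≠ ⊤) (h : ∀ N : Subgroup K, N.Normal → N ≤ center K ∨ N = ⊤) :
    IsQuasisimple K := by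
  refine ⟨⟨by rwa [commutator_def]⟩, ?_⟩
  haveI : Nontrivial (K ⧸ center K) := not_subsingleton_iff_nontrivial.1 fun hs =>
    hne (QuotientGroup.subsingleton_iff.1 hs)
  refine ⟨fun N hN => ?_⟩
  rcases h _ (hN.comap (QuotientGroup.mk' (center K))) with e | e
  · left
    rw [eq_bot_iff]
    intro x hx
    obtain ⟨y, rfl⟩ := QuotientGroup.mk'_surjective (center K) x
    exact (QuotientGroup.eq_one_iff _).2 (e hx)
  · right
    rw [← map_comap_eq_self_of_surjective (QuotientGroup.mk'_surjective (center K)) N, e,
      map_top_of_surjective _ (QuotientGroup.mk'_surjective _)]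

theorem qs_top_commutator {K : Type*} [Group K] (h : IsQuasisimple K) :
    ⁅(⊤ : Subgroup K), (⊤ : Subgroup K)⁆ = ⊤ := by
  rw [← commutator_def]; exact h.1.commutator_eq_top

/-- A nontrivial image of a quasisimple group is quasisimple. -/
theorem qs_of_surjective {K L : Type*} [Group K] [Group L] (h : IsQuasisimple K) (f : K →* L)
    (hf : Function.Surjective f) [Nontrivial L] : IsQuasisimple L := by
  have hperf : ⁅(⊤ : Subgroup L), (⊤ : Subgroup L)⁆ = ⊤ := by
    rw [← map_top_of_surjective f hf, ← map_commutator, qs_top_commutator h]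
  refine qs_of_dichotomy hperf (fun e => ?_) fun N hN => ?_
  · have : (⊤ : Subgroup L) = ⊥ := by
      rw [← hperf, commutator_eq_bot_iff_le_centralizer]
      intro x _ y _
      exact (mem_center_iff.1 (e ▸ mem_top x : x ∈ center L) y)
    exact bot_ne_top this.symm
  · haveI := hN.comap f
    rcases qs_normal_le_center_or_eq_top h (N.comap f) with e | e
    · left
      intro x hx
      obtain ⟨y, rfl⟩ := hf x
      rw [mem_center_iff]
      intro g
      obtain ⟨g, rfl⟩ := hf g
      rw [← map_mul, mem_center_iff.1 (e hx) g, map_mul]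
    · right
      rw [← map_comap_eq_self_of_surjective hf N, e, map_top_of_surjective f hf]

/-- A perfect central extension of a quasisimple group is quasisimple. -/
theorem qs_of_central_quotient {K : Type*} [Group K] (O : Subgroup K) [O.Normal]
    (hperf : ⁅(⊤ : Subgroup K), (⊤ : Subgroup K)⁆ = ⊤) (hO : O ≤ center K)
    (h : IsQuasisimple (K ⧸ O)) : IsQuasisimple K := by
  set f := QuotientGroup.mk' O
  have hf : Function.Surjective f := QuotientGroup.mk'_surjective O
  refine qs_of_dichotomy hperf (fun e => ?_) fun N hN => ?_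
  · apply qs_center_ne_top h
    rw [eq_top_iff]
    intro x _
    obtain ⟨y, rfl⟩ := hf x
    rw [mem_center_iff]
    intro g
    obtain ⟨g, rfl⟩ := hf g
    rw [← map_mul, mem_center_iff.1 (e ▸ mem_top y : y ∈ center K) g, map_mul]
  · haveI := hN.map f hf
    rcases qs_normal_le_center_or_eq_top h (N.map f) with e | e
    · left
      have h1 : ⁅⁅N, (⊤ : Subgroup K)⁆, (⊤ : Subgroup K)⁆ = ⊥ := by
        rw [commutator_eq_bot_iff_le_centralizer]
        intro x hx
        have hxO : x ∈ O := by
          have hle : ⁅N, (⊤ : Subgroup K)⁆ ≤ O := by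
            rw [commutator_le]
            intro a ha b _
            rw [← QuotientGroup.ker_mk' O, MonoidHom.mem_ker, map_commutatorElement,
              commutatorElement_eq_one_iff_mul_comm]
            exact (mem_center_iff.1 (e (mem_map_of_mem f ha)) (f b)).symm
          exact hle hx
        intro g _
        exact mem_center_iff.1 (hO hxO) g
      have h2 : ⁅⁅(⊤ : Subgroup K), N⁆, (⊤ : Subgroup K)⁆ = ⊥ := by
        rwa [commutator_comm (⊤ : Subgroup K) N]
      have h3 := commutator_commutator_eq_bot_of_rotate h2 h1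
      rw [hperf, commutator_comm, commutator_eq_bot_iff_le_centralizer] at h3
      intro x hx
      rw [mem_center_iff]
      intro g
      exact h3 hx g (mem_top g)
    · right
      have hNO : N ⊔ O = ⊤ := by
        rw [← QuotientGroup.ker_mk' O, ← comap_map_eq, e, comap_top]
      rw [eq_top_iff, ← hperf, commutator_le]
      intro a _ b _
      obtain ⟨a1, ha1, a2, ha2, rfl⟩ :=
        mem_sup_of_normal_left.1 (hNO ▸ mem_top a : a ∈ N ⊔ O)
      have e2 : ⁅a1 * a2, b⁆ = a1 * (b * a1⁻¹ * b⁻¹) := by
        rw [commutatorElement_def, mul_inv_rev]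
        calc a1 * a2 * b * (a2⁻¹ * a1⁻¹) * b⁻¹ = a1 * (a2 * b) * a2⁻¹ * a1⁻¹ * b⁻¹ := by group
          _ = a1 * (b * a2) * a2⁻¹ * a1⁻¹ * b⁻¹ := by rw [mem_center_iff.1 (hO ha2) b]
          _ = a1 * (b * a1⁻¹ * b⁻¹) := by group
      rw [e2]
      exact N.mul_mem ha1 (hN.conj_mem _ (N.inv_mem ha1) b)

section PLayer

variable {G : Type*} [Group G] [Finite G] {p : ℕ}

/-- The image of a component in a quotient is trivial or a component. -/
theorem component_map_mk {K : Subgroup G} (hK : IsComponent K) (N : Subgroup G) [N.Normal] :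
    K.map (QuotientGroup.mk' N) = ⊥ ∨ IsComponent (K.map (QuotientGroup.mk' N)) := by
  rcases eq_or_ne (K.map (QuotientGroup.mk' N)) ⊥ with e | e
  · exact Or.inl e
  refine Or.inr ⟨hK.1.map (QuotientGroup.mk'_surjective N), ?_⟩
  haveI := (nontrivial_iff_ne_bot _).2 e
  exact qs_of_surjective hK.2 _ ((QuotientGroup.mk' N).subgroupMap_surjective K)

theorem exists_pComponent {Kb : Subgroup (G ⧸ pPrimeCore p G)} (hKb : IsComponent Kb) :
    ∃ K : Subgroup G, IsPComponent p K ∧ K.map (QuotientGroup.mk' (pPrimeCore p G)) = Kb := by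
  set f := QuotientGroup.mk' (pPrimeCore p G)
  obtain ⟨K, hK⟩ := exists_minimal_of_wellFoundedLT
    (fun H : Subgroup G => H.IsSubnormal ∧ H.map f = Kb)
    ⟨Kb.comap f, hKb.1.comap f,
      map_comap_eq_self_of_surjective (QuotientGroup.mk'_surjective _) Kb⟩
  refine ⟨K, ⟨hK.1.1, by rw [hK.1.2]; exact hKb, fun H hH hle he => ?_⟩, hK.1.2⟩
  exact le_antisymm hle (hK.2 ⟨hH, he.trans hK.1.2⟩ hle)

theorem pLayer_map_eq_layer :
    (pLayer p G).map (QuotientGroup.mk' (pPrimeCore p G)) = layer (G ⧸ pPrimeCore p G) := by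
  refine le_antisymm ?_ ?_
  · rw [map_le_iff_le_comap]
    exact sSup_le fun K hK => map_le_iff_le_comap.1 (le_sSup hK.2.1)
  · refine sSup_le fun Kb hKb => ?_
    obtain ⟨K, hK, rfl⟩ := exists_pComponent hKb
    exact map_mono (le_sSup hK)

theorem pLayer_eq_bot_iff :
    pLayer p G = ⊥ ↔ layer (G ⧸ pPrimeCore p G) = ⊥ := by
  constructor
  · intro h
    rw [← pLayer_map_eq_layer, h, Subgroup.map_bot]
  · intro h
    rw [eq_bot_iff]
    refine sSup_le fun K hK => ?_
    have h1 : K.map (QuotientGroup.mk' (pPrimeCore p G)) ≤ ⊥ := h ▸ le_sSup hK.2.1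
    exact absurd (le_bot_iff.1 h1) (component_ne_bot hK.2.1)

omit [Finite G] in
theorem isPComponent_conj {K : Subgroup G} (hK : IsPComponent p K) (g : G) :
    IsPComponent p (K.map (MulAut.conj g).toMonoidHom) := by
  set f := QuotientGroup.mk' (pPrimeCore p G) with hf
  have e : ∀ (x : G) (H : Subgroup G), (H.map (MulAut.conj x).toMonoidHom).map f =
      (H.map f).map (MulAut.conj (f x)).toMonoidHom := by
    intro x H
    rw [map_map, map_map]
    congr 1
  refine ⟨hK.1.map (MulAut.conj g).surjective, ?_, fun H hH hle he => ?_⟩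
  · rw [e]; exact isComponent_conj hK.2.1 _
  have hb : ∀ (x : G) (H : Subgroup G),
      (H.map (MulAut.conj x).toMonoidHom).map (MulAut.conj x⁻¹).toMonoidHom = H := by
    intro x H
    rw [map_map]
    convert map_id H
    ext y
    simp [mul_assoc]
  have hb' : (H.map (MulAut.conj g⁻¹).toMonoidHom).map (MulAut.conj g).toMonoidHom = H := by
    simpa using hb g⁻¹ H
  have h3 := hK.2.2 (H.map (MulAut.conj g⁻¹).toMonoidHom) (hH.map (MulAut.conj g⁻¹).surjective)
    (by rw [← hb g K]; exact map_mono hle) (by rw [e, he, ← e, hb g K])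
  rw [← hb', h3]

variable [hp : Fact p.Prime]

/-- Elements centralising a `p`-component modulo `O_{p'}` normalise it. -/
theorem pComponent_map_conj_eq {K : Subgroup G} (hK : IsPComponent p K) {g : G}
    (hg : ∀ k ∈ K, g * k * g⁻¹ * k⁻¹ ∈ pPrimeCore p G) :
    K.map (MulAut.conj g).toMonoidHom = K := by
  refine pComponent_eq_of_map_eq (isPComponent_conj hK g) hK ?_
  have key : ∀ k ∈ K, QuotientGroup.mk' (pPrimeCore p G) (g * k * g⁻¹) =
      QuotientGroup.mk' (pPrimeCore p G) k := fun k hk => by
    rw [← mul_inv_eq_one, ← map_inv, ← map_mul, QuotientGroup.mk'_apply, QuotientGroup.eq_one_iff]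
    exact hg k hk
  ext x
  constructor
  · rintro ⟨_, ⟨k, hk, rfl⟩, rfl⟩
    exact ⟨k, hk, (key k hk).symm⟩
  · rintro ⟨k, hk, rfl⟩
    exact ⟨_, ⟨k, hk, rfl⟩, key k hk⟩

theorem pLayer_le_normalizer {K : Subgroup G} (hK : IsPComponent p K) :
    pLayer p G ≤ normalizer (K : Set G) := by
  refine sSup_le fun L hL g hg => ?_
  rcases eq_or_ne L K with rfl | hne
  · exact le_normalizer hg
  have h := pComponent_map_conj_eq hK (g := g) fun k hk => by
    have := pComponents_commute_mod hL hK hne (commutator_mem_commutator hg hk)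
    rwa [commutatorElement_def] at this
  rw [mem_normalizer_iff]
  intro x
  constructor
  · intro hx
    rw [← h]; exact ⟨x, hx, rfl⟩
  · intro hx
    rw [← h] at hx
    obtain ⟨y, hy, e⟩ := hx
    have : y = x := by simpa using e
    rwa [this] at hy

theorem pComponent_commutator_self {K : Subgroup G} (hK : IsPComponent p K) : ⁅K, K⁆ = K := by
  refine hK.2.2 _ ?_ (commutator_le_self K) ?_
  · rw [← map_subtype_commutator K]
    exact (Subgroup.Normal.isSubnormal (commutator_normal ⊤ ⊤)).trans' hK.1
  · rw [map_commutator, component_eq_commutator hK.2.1]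

theorem pComponent_not_coprime {K : Subgroup G} (hK : IsPComponent p K) : p ∣ Nat.card K :=
  ((component_index_center_not_coprime (Solv.pPrimeCore_quotient_pPrimeCore p) hK.2.1).trans
    (index_dvd_card _)).trans (card_map_dvd _ _)

theorem pComponent_eq_of_perfect_le {K H : Subgroup G} (hK : IsPComponent p K) (hle : H ≤ K)
    (hsn : H.IsSubnormal) (hperf : ⁅H, H⁆ = H) (hd : p ∣ Nat.card H) : H = K := by
  set f := QuotientGroup.mk' (pPrimeCore p G)
  rcases qs_subnormal_le_center_or_eq_top hK.2.1.2
    ((hsn.map (QuotientGroup.mk'_surjective _)).subgroupOf (K := K.map f)) with e | e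
  · exfalso
    have h0 : ⁅H.map f, H.map f⁆ = ⊥ := by
      rw [commutator_eq_bot_iff_le_centralizer]
      intro x hx y hy
      exact congrArg Subtype.val (mem_center_iff.1
        (e (show (⟨x, map_mono hle hx⟩ : K.map f) ∈ (H.map f).subgroupOf _ from hx))
        ⟨y, map_mono hle hy⟩)
    rw [← map_commutator, hperf, Subgroup.map_eq_bot_iff, QuotientGroup.ker_mk'] at h0
    exact hp.out.coprime_iff_not_dvd.1
      ((Solv.card_pPrimeCore_coprime p G).coprime_dvd_left (card_dvd_of_le h0)).symm hd
  · exact hK.2.2 _ hsn hle (le_antisymm (map_mono hle) (subgroupOf_eq_top.1 e))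

theorem pPrimeCore_subtype_eq {K : Subgroup G} (hK : K.IsSubnormal) :
    (pPrimeCore p K).map K.subtype = K ⊓ pPrimeCore p G := by
  refine le_antisymm (le_inf (map_subtype_le _) ?_) ?_
  · refine le_pPrimeCore_of_isSubnormal
      ((haveI := Solv.pPrimeCore_characteristic p K; inferInstance :
        (pPrimeCore p K).Normal).isSubnormal.trans' hK) ?_
    rw [Solv.card_map_subtype]
    exact Solv.card_pPrimeCore_coprime p K
  · have hle : (pPrimeCore p G).subgroupOf K ≤ pPrimeCore p K :=
      Solv.le_pPrimeCore ((Solv.card_pPrimeCore_coprime p G).coprime_dvd_left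
        (card_comap_dvd_of_injective _ _ K.subtype_injective))
    intro x hx
    exact ⟨⟨x, hx.1⟩, hle hx.2, rfl⟩

/-- A `p`-component modulo its core is quasisimple. -/
theorem pComponent_quotient_qs {K : Subgroup G} (hK : IsPComponent p K) :
    IsQuasisimple (K ⧸ pPrimeCore p K) := by
  set f := (QuotientGroup.mk' (pPrimeCore p G)).subgroupMap K
  have hker : f.ker = pPrimeCore p K := by
    refine map_injective K.subtype_injective ?_
    rw [pPrimeCore_subtype_eq hK.1]
    ext x
    constructor
    · rintro ⟨y, hy, rfl⟩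
      exact ⟨y.2, (QuotientGroup.eq_one_iff _).1 (congrArg Subtype.val hy)⟩
    · rintro ⟨h1, h2⟩
      exact ⟨⟨x, h1⟩, Subtype.ext ((QuotientGroup.eq_one_iff _).2 h2), rfl⟩
  exact qs_congr hK.2.1.2 ((QuotientGroup.quotientKerEquivOfSurjective f
    ((QuotientGroup.mk' (pPrimeCore p G)).subgroupMap_surjective K)).symm.trans
    (QuotientGroup.quotientMulEquivOfEq hker))

theorem pComponent_le_of_relIndex {K : Subgroup G} (hK : IsPComponent p K) (N : Subgroup G)
    [N.Normal] (h : (N.relIndex K).Coprime p) : K ≤ N := by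
  have hidx : (N.subgroupOf K).index.Coprime p := h
  suffices N.subgroupOf K = ⊤ from subgroupOf_eq_top.1 this
  by_contra hne
  set f := QuotientGroup.mk' (pPrimeCore p G)
  set g : ↥K →* ↥(K.map f) := f.subgroupMap K with hg
  have hgs : Function.Surjective g := f.subgroupMap_surjective K
  haveI := Subgroup.Normal.map (inferInstance : (N.subgroupOf K).Normal) g hgs
  rcases qs_normal_le_center_or_eq_top hK.2.1.2 ((N.subgroupOf K).map g) with e | e
  · have h1 : (center ↥(K.map f)).index ∣ (N.subgroupOf K).index :=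
      (index_dvd_of_le e).trans (index_map_dvd _ hgs)
    exact hp.out.coprime_iff_not_dvd.1 hidx.symm
      ((component_index_center_not_coprime (Solv.pPrimeCore_quotient_pPrimeCore p) hK.2.1).trans h1)
  · have heq : ((N.subgroupOf K).map K.subtype).map f = K.map f := by
      rw [map_map, show f.comp K.subtype = (K.map f).subtype.comp g from rfl, ← map_map, e,
        ← MonoidHom.range_eq_map, range_subtype]
    have := hK.2.2 _ ((inferInstance : (N.subgroupOf K).Normal).isSubnormal.trans' hK.1)
      (map_subtype_le _) heq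
    apply hne
    apply map_injective K.subtype_injective
    rw [this, ← MonoidHom.range_eq_map, range_subtype]

omit hp in
theorem relIndex_coprime_of_le_sup {H N O : Subgroup G} [N.Normal] (hO : (Nat.card O).Coprime p)
    (h : H ≤ N ⊔ O) : (N.relIndex H).Coprime p := by
  refine hO.coprime_dvd_left (Dvd.dvd.trans ?_ (relIndex_dvd_card N O))
  have h1 : N.relIndex (N ⊔ O) = N.relIndex O := by
    rw [sup_comm, relIndex_sup_right]
  rw [← h1]
  have h2 := relIndex_dvd_index_of_normal (N.subgroupOf (N ⊔ O)) (H.subgroupOf (N ⊔ O))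
  rw [relIndex_subgroupOf h] at h2
  exact h2

omit hp in
theorem pLayer_normal : (pLayer p G).Normal := by
  rw [← normalizer_eq_top_iff, eq_top_iff]
  intro g _
  have key : ∀ x : G, (pLayer p G).map (MulAut.conj x).toMonoidHom ≤ pLayer p G := fun x => by
    rw [map_le_iff_le_comap]
    exact sSup_le fun K hK => map_le_iff_le_comap.1 (le_sSup (isPComponent_conj hK x))
  rw [mem_normalizer_iff]
  intro y
  constructor
  · intro hy
    exact key g ⟨y, hy, rfl⟩
  · intro hy
    have := key g⁻¹ ⟨_, hy, rfl⟩
    simpa [mul_assoc] using this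

omit hp in
/-- A surjection with `p'`-kernel maps `p`-components to `p`-components. -/
theorem isPComponent_map {H : Type*} [Group H] [Finite H] (f : G →* H)
    (hf : Function.Surjective f) (hker : (Nat.card f.ker).Coprime p) {K : Subgroup G}
    (hK : IsPComponent p K) : IsPComponent p (K.map f) := by
  have hcomap : (pPrimeCore p H).comap f = pPrimeCore p G := by
    refine le_antisymm ?_ (map_le_iff_le_comap.1 (Solv.map_pPrimeCore_le_of_surjective p f hf))
    haveI : ((pPrimeCore p H).comap f).Normal := Subgroup.Normal.comap inferInstance f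
    refine Solv.le_pPrimeCore ?_
    have hg : ((pPrimeCore p H).comap f).map f = pPrimeCore p H :=
      map_comap_eq_self_of_surjective hf _
    have h1 := (f.subgroupMap ((pPrimeCore p H).comap f)).ker.card_mul_index
    rw [index_ker, MonoidHom.range_eq_top.2 (f.subgroupMap_surjective _), card_top, congrArg (fun A : Subgroup H => Nat.card A) hg] at h1
    rw [← h1]
    refine Nat.Coprime.mul_left (hker.coprime_dvd_left ?_) (Solv.card_pPrimeCore_coprime p H)
    refine card_dvd_of_injective ((((pPrimeCore p H).comap f).subtype.comp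
      (f.subgroupMap ((pPrimeCore p H).comap f)).ker.subtype).codRestrict f.ker
        fun x => congrArg Subtype.val x.2) fun a b e => ?_
    exact Subtype.ext (Subtype.ext (congrArg (fun z : f.ker => (z : G)) e))
  have key : ∀ A B : Subgroup G, A.map (QuotientGroup.mk' (pPrimeCore p G)) =
      B.map (QuotientGroup.mk' (pPrimeCore p G)) ↔
      (A.map f).map (QuotientGroup.mk' (pPrimeCore p H)) =
        (B.map f).map (QuotientGroup.mk' (pPrimeCore p H)) := by
    intro A B
    rw [map_eq_map_iff, map_map, map_map, map_eq_map_iff, ← MonoidHom.comap_ker,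
      QuotientGroup.ker_mk', QuotientGroup.ker_mk', hcomap]
  let g : G →* H ⧸ pPrimeCore p H := (QuotientGroup.mk' _).comp f
  have hgker : g.ker = pPrimeCore p G := by
    rw [← MonoidHom.comap_ker, QuotientGroup.ker_mk', hcomap]
  have hgs : Function.Surjective g := (QuotientGroup.mk'_surjective _).comp hf
  let e := (QuotientGroup.quotientMulEquivOfEq hgker.symm).trans
    (QuotientGroup.quotientKerEquivOfSurjective g hgs)
  refine ⟨hK.1.map hf, ?_, fun R hR hle he => ?_⟩
  · have h1 := isComponent_map_equiv e hK.2.1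
    rw [map_map] at h1
    rw [map_map]
    exact h1
  · have h2 : R ≤ K.map f := hle
    have h3 : (R.comap f ⊓ K).map f = R := by
      refine le_antisymm ?_ fun x hx => ?_
      · rw [map_le_iff_le_comap]; exact inf_le_left
      · obtain ⟨k, hk, rfl⟩ := h2 hx
        exact ⟨k, ⟨hx, hk⟩, rfl⟩
    have h4 := hK.2.2 _ ((hR.comap f).inf hK.1) inf_le_right
      ((key _ _).2 (by rw [h3]; exact he))
    rw [← h3, h4]

theorem pPrimeCore_subtype_map_of_le {C N : Subgroup G} (hCN : C ≤ N)
    [(C.subgroupOf N).Normal] (hO : (pPrimeCore p ↥N).map N.subtype ≤ C) :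
    (pPrimeCore p ↥N).map N.subtype = (pPrimeCore p ↥C).map C.subtype := by
  refine le_antisymm ?_ ?_
  · haveI : (((pPrimeCore p ↥N).map N.subtype).subgroupOf C).Normal := by
      haveI := Solv.pPrimeCore_characteristic p ↥N
      refine normal_subgroupOf_of_le_normalizer fun c hc => ?_
      have key : ∀ g ∈ N, ∀ y ∈ (pPrimeCore p ↥N).map N.subtype,
          g * y * g⁻¹ ∈ (pPrimeCore p ↥N).map N.subtype := by
        rintro g hg _ ⟨y, hy, rfl⟩
        exact ⟨⟨g, hg⟩ * y * ⟨g, hg⟩⁻¹, Normal.conj_mem inferInstance _ hy _, rfl⟩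
      rw [mem_normalizer_iff]
      intro y
      exact ⟨key c (hCN hc) y, fun h => by
        simpa [mul_assoc] using key _ (inv_mem (hCN hc)) _ h⟩
    rw [← map_subgroupOf_eq_of_le hO]
    refine map_mono (Solv.le_pPrimeCore ?_)
    rw [Solv.card_subgroupOf hO, Solv.card_map_subtype]
    exact Solv.card_pPrimeCore_coprime p ↥N
  · have hR := Solv.pPrimeCore_map_subtype p (C.subgroupOf N)
    intro x hx
    obtain ⟨y, hy, rfl⟩ := hx
    have h := (Solv.pPrimeCore_map_equiv p (subgroupOfEquivOfLe hCN).symm).le
      (mem_map_of_mem _ hy)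
    exact ⟨_, (hR.le (mem_map_of_mem _ h)).1, rfl⟩

/-- A `p`-component of a normal subgroup is a `p`-component. -/
theorem isPComponent_map_subtype {M : Subgroup G} [hM : M.Normal] {K : Subgroup M}
    (hK : IsPComponent p K) : IsPComponent p (K.map M.subtype) := by
  set f := QuotientGroup.mk' (pPrimeCore p G) with hf
  haveI : (M.map f).Normal := hM.map f (QuotientGroup.mk'_surjective _)
  set g := f.subgroupMap M with hg
  have hgs : Function.Surjective g := f.subgroupMap_surjective M
  have hgker : g.ker = pPrimeCore p M := by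
    refine map_injective M.subtype_injective ?_
    rw [pPrimeCore_subtype_eq hM.isSubnormal]
    ext x
    constructor
    · rintro ⟨y, hy, rfl⟩
      exact ⟨y.2, (QuotientGroup.eq_one_iff _).1 (congrArg Subtype.val hy)⟩
    · rintro ⟨h1, h2⟩
      exact ⟨⟨x, h1⟩, Subtype.ext ((QuotientGroup.eq_one_iff _).2 h2), rfl⟩
  set e := (QuotientGroup.quotientMulEquivOfEq hgker.symm).trans
    (QuotientGroup.quotientKerEquivOfSurjective g hgs)
  have key : ∀ H : Subgroup M, (H.map M.subtype).map f =
      ((H.map (QuotientGroup.mk' (pPrimeCore p M))).map e.toMonoidHom).map (M.map f).subtype := by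
    intro H
    rw [map_map, map_map, map_map]
    rfl
  refine ⟨hK.1.trans' hM.isSubnormal, ?_, fun H hH hle he => ?_⟩
  · rw [key]
    exact isComponent_map_subtype (inferInstance : (M.map f).Normal).isSubnormal
      (isComponent_map_equiv e hK.2.1)
  · have hHM : H ≤ M := hle.trans (map_subtype_le _)
    have hH'K : H.subgroupOf M ≤ K := by
      intro y hy
      obtain ⟨z, hz, e'⟩ := hle hy
      rwa [← show z = y from Subtype.ext e']
    rw [← map_subgroupOf_eq_of_le hHM, key, key] at he
    rw [← map_subgroupOf_eq_of_le hHM, hK.2.2 _ hH.subgroupOf hH'K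
      (map_injective e.injective (map_injective (M.map f).subtype_injective he))]

end PLayer

end Cfsg.Agent.Local
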