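import Cfsg.Agent.Lib.Classical.Linear
import Cfsg.Agent.Lib.Local.PLayer
import Cfsg.Agent.Lib.Local.Basic

/-!
# `GL(n, q)`, `q` odd, has an involution centralizer with a component
-/

set_option autoImplicit false

namespace Cfsg.Agent.Local.GLComponent

open Matrix

variable {F : Type*} [Field F] [Fintype F] [DecidableEq F]

theorem hasComponent_aux (hF : Odd (Fintype.card F)) (k : ℕ) (hk : 2 ≤ k)
    (h : 3 ≤ Fintype.card (Fin k) ∨ ∃ a : F, a ≠ 0 ∧ a ^ 2 ≠ 1) :
    ∃ t : GL (Fin (k + 1)) F, orderOf t = 2 ∧ t ∉ Subgroup.center (GL (Fin (k + 1)) F) ∧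
      Cfsg.HasComponent (↥(Subgroup.centralizer ({t} : Set (GL (Fin (k + 1)) F))) ⧸
        Cfsg.oddCore ↥(Subgroup.centralizer ({t} : Set (GL (Fin (k + 1)) F)))) := by
  haveI : Fact (Nat.Prime 2) := ⟨Nat.prime_two⟩
  haveI : Nontrivial (Fin k) := Fin.nontrivial_iff_two_le.2 hk
  have h2 : (2 : F) ≠ 0 := by
    intro h2
    haveI : CharP F 2 := CharTwo.of_one_ne_zero_of_two_eq_zero one_ne_zero h2
    obtain ⟨n, -, hn⟩ := FiniteField.card F 2
    rw [hn] at hF
    exact (Nat.not_odd_iff_even.2 (Nat.even_pow.2 ⟨even_two, n.pos.ne'⟩)) hF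
  -- block matrices
  let R : Matrix (Fin k ⊕ Fin 1) (Fin k ⊕ Fin 1) F ≃* Matrix (Fin (k + 1)) (Fin (k + 1)) F :=
    (Matrix.reindexAlgEquiv F F finSumFinEquiv).toMulEquiv
  let E : (Matrix (Fin k ⊕ Fin 1) (Fin k ⊕ Fin 1) F)ˣ ≃* GL (Fin (k + 1)) F := Units.mapEquiv R
  let ψ : SpecialLinearGroup (Fin k) F →* Matrix (Fin k ⊕ Fin 1) (Fin k ⊕ Fin 1) F :=
    { toFun := fun S => Matrix.fromBlocks S.1 0 0 1
      map_one' := Matrix.fromBlocks_one
      map_mul' := fun S S' => by simp [Matrix.fromBlocks_multiply] }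
  let t0 : (Matrix (Fin k ⊕ Fin 1) (Fin k ⊕ Fin 1) F)ˣ :=
    ⟨Matrix.fromBlocks 1 0 0 (-1), Matrix.fromBlocks 1 0 0 (-1),
      by simp [Matrix.fromBlocks_multiply, Matrix.fromBlocks_one],
      by simp [Matrix.fromBlocks_multiply, Matrix.fromBlocks_one]⟩
  set t := E t0 with ht
  set C := Subgroup.centralizer ({t} : Set (GL (Fin (k + 1)) F)) with hC
  have hmem : ∀ g : (Matrix (Fin k ⊕ Fin 1) (Fin k ⊕ Fin 1) F)ˣ, E g ∈ C ↔ t0 * g = g * t0 := by
    intro g
    rw [hC, Subgroup.mem_centralizer_singleton_iff, ht, ← map_mul, ← map_mul, E.injective.eq_iff]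
    exact eq_comm
  let f : SpecialLinearGroup (Fin k) F →* ↥C :=
    ((E.toMonoidHom).comp ψ.toHomUnits).codRestrict C fun S => (hmem _).2 (Units.ext (by
      show Matrix.fromBlocks 1 0 0 (-1) * Matrix.fromBlocks S.1 0 0 1 =
        Matrix.fromBlocks S.1 0 0 1 * Matrix.fromBlocks 1 0 0 (-1)
      simp [Matrix.fromBlocks_multiply]))
  -- the image is normal
  haveI hn : f.range.Normal := by
    refine ⟨?_⟩
    rintro _ ⟨S, rfl⟩ g
    obtain ⟨g0, hg0⟩ := E.surjective (g : GL (Fin (k + 1)) F)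
    have hcomm := congrArg Units.val ((hmem g0).1 (hg0 ▸ g.2))
    set G := (g0 : Matrix (Fin k ⊕ Fin 1) (Fin k ⊕ Fin 1) F) with hG
    have hGb : G = Matrix.fromBlocks G.toBlocks₁₁ 0 0 G.toBlocks₂₂ := by
      have e := hcomm
      rw [Units.val_mul, Units.val_mul] at e
      change Matrix.fromBlocks 1 0 0 (-1) * G = G * Matrix.fromBlocks 1 0 0 (-1) at e
      rw [← Matrix.fromBlocks_toBlocks G, Matrix.fromBlocks_multiply, Matrix.fromBlocks_multiply] at e
      obtain ⟨-, e12, e21, -⟩ := Matrix.fromBlocks_inj.1 e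
      simp at e12 e21
      have z12 : G.toBlocks₁₂ = 0 := by
        ext i j
        have := Matrix.ext_iff.2 e12 i j
        simp at this
        exact (mul_eq_zero.1 (show (2 : F) * G.toBlocks₁₂ i j = 0 by linear_combination this)).resolve_left h2
      have z21 : G.toBlocks₂₁ = 0 := by
        ext i j
        have := Matrix.ext_iff.2 e21 i j
        simp at this
        exact (mul_eq_zero.1 (show (2 : F) * G.toBlocks₂₁ i j = 0 by linear_combination -this)).resolve_left h2
      conv_lhs => rw [← Matrix.fromBlocks_toBlocks G, z12, z21]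
    have hdet : IsUnit G.toBlocks₁₁.det := by
      have hu := Matrix.isUnit_iff_isUnit_det G |>.1 g0.isUnit
      rw [hGb, Matrix.det_fromBlocks_zero₂₁] at hu
      exact isUnit_of_mul_isUnit_left hu
    set A := G.toBlocks₁₁ with hA
    let S' : SpecialLinearGroup (Fin k) F := ⟨A * S.1 * A⁻¹, by
      rw [Matrix.det_conj ((Matrix.isUnit_iff_isUnit_det A).2 hdet)]; exact S.2⟩
    refine ⟨S', ?_⟩
    rw [eq_mul_inv_iff_mul_eq]
    refine Subtype.ext ?_
    show E (ψ.toHomUnits S') * (g : GL (Fin (k + 1)) F) = (g : GL (Fin (k + 1)) F) * E (ψ.toHomUnits S)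
    rw [← hg0, ← map_mul, ← map_mul]
    refine congrArg E (Units.ext ?_)
    show Matrix.fromBlocks (A * S.1 * A⁻¹) 0 0 1 * G = G * Matrix.fromBlocks S.1 0 0 1
    rw [hGb, Matrix.fromBlocks_multiply, Matrix.fromBlocks_multiply]
    simp [Matrix.nonsing_inv_mul_cancel_right _ _ hdet]
  -- quasisimplicity
  have hqs : Cfsg.IsQuasisimple (SpecialLinearGroup (Fin k) F) :=
    ⟨⟨Classical.SL_commutator_eq_top h⟩, Classical.PSL_simple h⟩
  set O := Cfsg.oddCore ↥C
  let π := QuotientGroup.mk' O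
  refine ⟨t, ?_, ?_, (π.comp f).range, ?_, ?_⟩
  · rw [ht, MulEquiv.orderOf_eq]
    refine orderOf_eq_prime (Units.ext ?_) fun e => ?_
    · show (Matrix.fromBlocks 1 0 0 (-1) : Matrix (Fin k ⊕ Fin 1) (Fin k ⊕ Fin 1) F) ^ 2 = 1
      simp [sq, Matrix.fromBlocks_multiply, Matrix.fromBlocks_one]
    · have := Matrix.ext_iff.2 (congrArg Units.val e) (Sum.inr 0) (Sum.inr 0)
      simp [t0] at this
      exact h2 (by linear_combination -this)
  · intro hc
    let i0 : Fin k := ⟨0, by omega⟩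
    let g : Matrix (Fin k ⊕ Fin 1) (Fin k ⊕ Fin 1) F :=
      Matrix.transvection (Sum.inl i0) (Sum.inr 0) 1
    have hg : IsUnit g := (Matrix.isUnit_iff_isUnit_det g).2 (by
      rw [Matrix.det_transvection_of_ne _ _ (by simp)]; exact isUnit_one)
    have h1 := Subgroup.mem_center_iff.1 hc (E hg.unit)
    rw [ht, ← map_mul, ← map_mul] at h1
    have h2' := Matrix.ext_iff.2 (congrArg Units.val (E.injective h1)) (Sum.inl i0) (Sum.inr 0)
    change (g * (Matrix.fromBlocks 1 0 0 (-1) : Matrix (Fin k ⊕ Fin 1) (Fin k ⊕ Fin 1) F)) (Sum.inl i0) (Sum.inr 0) =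
      ((Matrix.fromBlocks 1 0 0 (-1) : Matrix (Fin k ⊕ Fin 1) (Fin k ⊕ Fin 1) F) * g)
        (Sum.inl i0) (Sum.inr 0) at h2'
    simp [g, Matrix.mul_apply, Fintype.sum_sum_type, Matrix.transvection, Matrix.single] at h2'
    exact h2 (by linear_combination -h2')
  · refine Subgroup.Normal.isSubnormal ?_
    rw [MonoidHom.range_comp]
    exact hn.map _ (QuotientGroup.mk'_surjective O)
  · haveI : Nontrivial ↥((π.comp f).range) := by
      rw [Subgroup.nontrivial_iff_ne_bot]
      intro hb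
      obtain ⟨i0, i1, hne⟩ := exists_pair_ne (Fin k)
      let s : SpecialLinearGroup (Fin k) F :=
        ⟨Matrix.diagonal (fun i => if i = i0 ∨ i = i1 then -1 else 1), by
          rw [Matrix.det_diagonal, Finset.prod_eq_mul i0 i1 hne (fun c _ hc => by simp [hc.1, hc.2])
            (by simp) (by simp)]
          simp⟩
      have hs : f s ∈ O := by
        rw [← QuotientGroup.eq_one_iff]
        exact Subgroup.mem_bot.1 (hb ▸ ⟨s, rfl⟩)
      have hfs : orderOf (f s) = 2 := by
        refine orderOf_eq_prime ?_ fun e => ?_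
        · have hs2 : s ^ 2 = 1 := by
            refine Subtype.ext ?_
            show (Matrix.diagonal (fun i => if i = i0 ∨ i = i1 then (-1 : F) else 1)) ^ 2 = 1
            rw [sq, Matrix.diagonal_mul_diagonal, ← Matrix.diagonal_one]
            congr 1
            funext i
            split <;> simp
          rw [← map_pow, hs2, map_one]
        · have h1 := E.injective ((congrArg Subtype.val e).trans (map_one E).symm)
          have := Matrix.ext_iff.2 (congrArg Units.val h1) (Sum.inl i0) (Sum.inl i0)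
          change (Matrix.fromBlocks (Matrix.diagonal (fun i => if i = i0 ∨ i = i1 then (-1 : F) else 1)) 0 0 (1 : Matrix (Fin 1) (Fin 1) F))
            (Sum.inl i0) (Sum.inl i0) = (1 : Matrix (Fin k ⊕ Fin 1) (Fin k ⊕ Fin 1) F) (Sum.inl i0) (Sum.inl i0) at this
          simp at this
          exact h2 (by linear_combination -this)
      have hd : orderOf (⟨f s, hs⟩ : ↥O) ∣ Nat.card ↥O := orderOf_dvd_natCard _
      rw [Subgroup.orderOf_mk, hfs] at hd
      exact (Nat.not_even_iff_odd.2 (Cfsg.Agent.Local.oddCore_card_odd (G := ↥C))) (even_iff_two_dvd.2 hd)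
    exact Cfsg.Agent.Local.qs_of_surjective hqs (π.comp f).rangeRestrict
      (MonoidHom.rangeRestrict_surjective _)

theorem general_linear (hF : Odd (Fintype.card F)) (n : ℕ) (hn : 3 ≤ n)
    (h33 : ¬ (n = 3 ∧ Fintype.card F = 3)) :
    ∃ t : GL (Fin n) F, orderOf t = 2 ∧ t ∉ Subgroup.center (GL (Fin n) F) ∧
      Cfsg.HasComponent (↥(Subgroup.centralizer ({t} : Set (GL (Fin n) F))) ⧸
        Cfsg.oddCore ↥(Subgroup.centralizer ({t} : Set (GL (Fin n) F)))) := by
  obtain ⟨k, rfl⟩ : ∃ k, n = k + 1 := ⟨n - 1, by omega⟩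
  refine hasComponent_aux hF k (by omega) ?_
  rcases Nat.lt_or_ge k 3 with hk | hk
  · refine Or.inr ?_
    by_contra hcon
    push Not at hcon
    have hsub : (Finset.univ : Finset F) ⊆ {0, 1, -1} := fun a _ => by
      rcases eq_or_ne a 0 with rfl | ha
      · simp
      · rcases sq_eq_one_iff.1 (hcon a ha) with rfl | rfl <;> simp
    have hle : Fintype.card F ≤ 3 := by
      rw [← Finset.card_univ]
      exact (Finset.card_le_card hsub).trans Finset.card_le_three
    have := Fintype.one_lt_card (α := F)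
    have : Fintype.card F ≠ 3 := fun e => h33 ⟨by omega, e⟩
    rw [Nat.odd_iff] at hF
    omega
  · exact Or.inl (by rw [Fintype.card_fin]; exact hk)

end Cfsg.Agent.Local.GLComponent
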