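import Cfsg.Agent.Lib.Struct.CoprimeMinimal
import Cfsg.Agent.Lib.Solv.NormalPComplement
import Cfsg.Agent.Lib.Solv.FpfNilpotent
import Cfsg.Agent.Lib.Solv.Coprime

/-!
# Normal Hall subgroups inside the derived group
-/

set_option autoImplicit false
set_option linter.style.haveILetI false

namespace Cfsg.Agent.Local.HallDerived

open Subgroup
open scoped commutatorElement Pointwise

variable {G : Type*} [Group G] [Finite G] [Group.IsSolvable G]

theorem eq_commutator (H K : Subgroup G) (hH : H.Normal) (hcop : (Nat.card H).Coprime H.index)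
    (hK : IsComplement' H K) (hle : H ≤ commutator G) :
    H = ⁅H, K⁆ ∧ H ⊓ centralizer (K : Set G) ≤ ⁅H, H⁆ := by
  haveI := hH
  have hKH : K ≤ normalizer (H : Set G) := by rw [normalizer_eq_top]; exact le_top
  set N := ⁅H, K⁆ with hN
  have hNH : N ≤ H := le_normalizer_iff_commutator_le_left.1 hKH
  haveI : N.Normal := by
    rw [← normalizer_eq_top_iff, eq_top_iff, ← hK.sup_eq_top]
    exact sup_le (normalizer_commutator_ge_left H K) (normalizer_commutator_ge_right H K)
  haveI : (⁅H, H⁆).Normal := commutator_normal H H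
  set W := ⁅H, H⁆ ⊔ N with hW
  have hWH : W ≤ H := sup_le (commutator_le_left H H) hNH
  have hG : commutator G ≤ W ⊔ K := by
    set f := QuotientGroup.mk' W
    have hsurj : ∀ x : G, ∃ h ∈ H, ∃ k ∈ K, x = h * k := fun x => by
      have hx : x ∈ H ⊔ K := hK.sup_eq_top ▸ mem_top x
      obtain ⟨h, hh, k, hk, e⟩ := mem_sup_of_normal_left.1 hx
      exact ⟨h, hh, k, hk, e.symm⟩
    have hc : ∀ a b : G, ⁅a, b⁆ ∈ W → f a * f b = f b * f a := fun a b h => by
      rw [← commutatorElement_eq_one_iff_mul_comm, ← map_commutatorElement]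
      exact (QuotientGroup.eq_one_iff _).2 h
    rw [show (commutator G : Subgroup G) = ⁅(⊤ : Subgroup G), (⊤ : Subgroup G)⁆ from rfl, commutator_le]
    intro a _ b _
    obtain ⟨h, hh, k, hk, rfl⟩ := hsurj a
    obtain ⟨h', hh', k', hk', rfl⟩ := hsurj b
    have h1 := hc h h' (mem_sup_left (commutator_mem_commutator hh hh'))
    have h2 := hc h k' (mem_sup_right (commutator_mem_commutator hh hk'))
    have h3 := hc h' k (mem_sup_right (commutator_mem_commutator hh' hk))
    have e : f ⁅h * k, h' * k'⁆ = f ⁅k, k'⁆ := by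
      rw [map_commutatorElement, map_commutatorElement, map_mul, map_mul, commutatorElement_def,
        commutatorElement_def]
      calc f h * f k * (f h' * f k') * (f h * f k)⁻¹ * (f h' * f k')⁻¹
          = f h * (f k * f h') * f k' * (f k)⁻¹ * (f h)⁻¹ * (f k')⁻¹ * (f h')⁻¹ := by group
        _ = f h * (f h' * f k) * f k' * (f k)⁻¹ * (f h)⁻¹ * (f k')⁻¹ * (f h')⁻¹ := by rw [h3]
        _ = f h * f h' * (f k * f k' * (f k)⁻¹) * ((f k' * f h)⁻¹) * (f h')⁻¹ := by group
        _ = f h * f h' * (f k * f k' * (f k)⁻¹) * ((f h * f k')⁻¹) * (f h')⁻¹ := by rw [h2]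
        _ = f h * f h' * (f k * f k' * (f k)⁻¹ * (f k')⁻¹) * (f h' * f h)⁻¹ := by group
        _ = f h * f h' * (f k * f k' * (f k)⁻¹ * (f k')⁻¹) * (f h * f h')⁻¹ := by rw [h1]
        _ = f k * f k' * (f k)⁻¹ * (f k')⁻¹ := by
          have hcm : ∀ y ∈ H, ∀ z ∈ K, f y * f z = f z * f y := fun y hy z hz =>
            hc y z (mem_sup_right (commutator_mem_commutator hy hz))
          have hz : k * k' * k⁻¹ * k'⁻¹ ∈ K :=
            mul_mem (mul_mem (mul_mem hk hk') (inv_mem hk)) (inv_mem hk')
          have := hcm (h * h') (mul_mem hh hh') _ hz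
          simp only [map_mul, map_inv] at this
          rw [this, mul_inv_cancel_right]
    have he : ⁅h * k, h' * k'⁆ * (⁅k, k'⁆)⁻¹ ∈ W := by
      rw [← QuotientGroup.eq_one_iff]
      show f _ = 1
      rw [map_mul, map_inv, e, mul_inv_cancel]
    have := mul_mem (mem_sup_left he : _ ∈ W ⊔ K) (mem_sup_right (show ⁅k, k'⁆ ∈ K by
      rw [commutatorElement_def]
      exact mul_mem (mul_mem (mul_mem hk hk') (inv_mem hk)) (inv_mem hk')))
    rwa [inv_mul_cancel_right] at this
  have hHW : H ≤ W := by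
    intro h hh
    obtain ⟨w, hw, k, hk, e⟩ := mem_sup_of_normal_left.1 (hG (hle hh))
    have : k ∈ H ⊓ K := ⟨by
      have h4 := mul_mem (inv_mem (hWH hw)) hh
      rwa [← e, inv_mul_cancel_left] at h4, hk⟩
    rw [hK.disjoint.eq_bot, mem_bot] at this
    rw [this, mul_one] at e
    exact e ▸ hw
  have hNeq : H = N := by
    refine le_antisymm ?_ hNH
    haveI hNs : (N.subgroupOf H).Normal := Subgroup.normal_subgroupOf
    have htop : ⁅(⊤ : Subgroup (H ⧸ N.subgroupOf H)), (⊤ : Subgroup (H ⧸ N.subgroupOf H))⁆ = ⊤ := by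
      set q := QuotientGroup.mk' (N.subgroupOf H)
      rw [← map_top_of_surjective q (QuotientGroup.mk'_surjective _), ← map_commutator]
      refine le_antisymm (map_mono le_top) ?_
      rintro _ ⟨x, -, rfl⟩
      obtain ⟨c, hc, n, hn, e⟩ := mem_sup_of_normal_left.1 (hHW x.2)
      obtain ⟨c', hc', rfl⟩ : ∃ c' : H, c' ∈ ⁅(⊤ : Subgroup H), (⊤ : Subgroup H)⁆ ∧ (c' : G) = c := by
        have hc2 : c ∈ (⁅(⊤ : Subgroup H), (⊤ : Subgroup H)⁆).map H.subtype := by
          rwa [map_commutator, ← MonoidHom.range_eq_map, range_subtype]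
        obtain ⟨c', hc', rfl⟩ := hc2
        exact ⟨c', hc', rfl⟩
      refine ⟨c', hc', (QuotientGroup.eq.2 ?_)⟩
      show (c' : G)⁻¹ * (x : G) ∈ N
      rw [← e, inv_mul_cancel_left]
      exact hn
    rcases subsingleton_or_nontrivial (H ⧸ N.subgroupOf H) with hs | hnt
    · exact subgroupOf_eq_top.1 (QuotientGroup.subgroup_eq_top_of_subsingleton _ hs)
    · exact absurd htop (Group.IsSolvable.commutator_lt_top_of_nontrivial _).ne
  refine ⟨hNeq, fun c hc => ?_⟩
  have hcK : (Nat.card K).Coprime (Nat.card H) := by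
    rw [← hK.symm.index_eq_card]
    exact hcop.symm
  have h := Struct.CoprimeMinimal.fixed_mem K H hKH hcK hNeq.symm (commutator H) le_rfl ⟨c, hc.1⟩
    fun a ha => hc.2 a ha
  have h2 : c ∈ (commutator H).map H.subtype := ⟨_, h, rfl⟩
  rwa [map_subtype_commutator] at h2

theorem derived_prime_index (hnil : Group.IsNilpotent (commutator G))
    (hp : (commutator G).index.Prime) :
    (Nat.card (commutator G)).Coprime (commutator G).index ∧
      ∀ K : Subgroup G, IsComplement' (commutator G) K → commutator G = ⁅(⊤ : Subgroup G), K⁆ := by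
  set D := commutator G with hD
  obtain ⟨q, hq⟩ : ∃ q, D.index = q := ⟨_, rfl⟩
  rw [hq] at hp
  haveI : Fact q.Prime := ⟨hp⟩
  have hres : D ≤ pResidual q G := by
    haveI := Solv.pResidual_characteristic q G
    obtain ⟨j, hj⟩ := Solv.exists_pResidual_index (G := G) (p := q)
    set N := pResidual q G
    have hP : IsPGroup q (G ⧸ N) := IsPGroup.of_card (n := j) (by rw [← index_eq_card]; exact hj)
    haveI := hP.isNilpotent
    have hmap : D.map (QuotientGroup.mk' N) = commutator (G ⧸ N) := by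
      show (⁅(⊤ : Subgroup G), (⊤ : Subgroup G)⁆).map _ = ⁅(⊤ : Subgroup (G ⧸ N)), (⊤ : Subgroup (G ⧸ N))⁆
      rw [map_commutator, map_top_of_surjective _ (QuotientGroup.mk'_surjective _)]
    by_contra hcon
    haveI : Nontrivial (G ⧸ N) := by
      rw [← not_subsingleton_iff_nontrivial]
      intro hs
      exact hcon (le_top.trans (QuotientGroup.subgroup_eq_top_of_subsingleton N hs).ge)
    obtain ⟨g, -, hg⟩ := SetLike.exists_of_lt
      (Struct.CoprimeMinimal.frattini_ne_top (Q := G ⧸ N)).lt_top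
    have hidx : (frattini (G ⧸ N)).index ∣ q := by
      refine (index_dvd_of_le (Solv.commutator_le_frattini (G := G ⧸ N))).trans ?_
      rw [← hmap, ← hq]
      exact index_map_dvd _ (QuotientGroup.mk'_surjective _)
    have hidx' : (frattini (G ⧸ N)).index = q := ((Nat.dvd_prime hp).1 hidx).resolve_left
      fun h => Struct.CoprimeMinimal.frattini_ne_top (index_eq_one.1 h)
    have htop : zpowers g ⊔ frattini (G ⧸ N) = ⊤ := by
      have h1 := relIndex_mul_index (le_sup_right : frattini (G ⧸ N) ≤ zpowers g ⊔ frattini (G ⧸ N))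
      rw [hidx'] at h1
      rcases (Nat.dvd_prime hp).1 (Dvd.intro_left _ h1) with h2 | h2
      · exact index_eq_one.1 h2
      · exfalso
        rw [h2, Nat.mul_eq_right hp.ne_zero, relIndex_eq_one] at h1
        exact hg (h1 (mem_sup_left (mem_zpowers g)))
    have hgtop := frattini_nongenerating htop
    have hab : commutator (G ⧸ N) = ⊥ := by
      rw [eq_bot_iff, show (commutator (G ⧸ N) : Subgroup _) = ⁅(⊤ : Subgroup (G ⧸ N)), (⊤ : Subgroup (G ⧸ N))⁆ from rfl,
        commutator_le]
      intro a _ b _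
      obtain ⟨i, rfl⟩ := (hgtop ▸ mem_top a : a ∈ zpowers g)
      obtain ⟨i', rfl⟩ := (hgtop ▸ mem_top b : b ∈ zpowers g)
      rw [mem_bot, commutatorElement_eq_one_iff_mul_comm]
      exact ((Commute.refl g).zpow_zpow i i').eq
    rw [← hmap, Subgroup.map_eq_bot_iff, QuotientGroup.ker_mk'] at hab
    exact hcon hab
  have hcop : (Nat.card D).Coprime q := by
    obtain ⟨Q⟩ := Sylow.nonempty (p := q) (G := D)
    have hgen : ∀ x : G, (orderOf x).Coprime q → ∀ hx : x ∈ D, (⟨x, hx⟩ : D) ∈
        centralizer ((Q : Subgroup D) : Set D) := by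
      intro x hx hxD y hy
      haveI := hnil
      refine (Solv.commute_of_coprime_orderOf_of_isNilpotent hnil ?_).eq
      obtain ⟨i, hi⟩ := IsPGroup.iff_orderOf.1 Q.isPGroup' ⟨y, hy⟩
      rw [← orderOf_coe] at hi
      rw [show orderOf y = q ^ i from hi, ← orderOf_coe (⟨x, hxD⟩ : D)]
      exact (hx.symm).pow_left i
    have hxD : ∀ x : G, (orderOf x).Coprime q → x ∈ D := fun x hx =>
      Solv.mem_of_coprime_index D (hq ▸ hx)
    have hcen : ∀ d : D, d ∈ centralizer ((Q : Subgroup D) : Set D) := by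
      intro d
      have h : pResidual q G ≤ (centralizer ((Q : Subgroup D) : Set D)).map D.subtype :=
        (closure_le _).2 fun x hx => ⟨⟨x, hxD x hx⟩, hgen x hx (hxD x hx), rfl⟩
      obtain ⟨d', hd', e⟩ := h (hres d.2)
      exact (Subtype.ext e : d' = d) ▸ hd'
    have hnpc := Solv.hasNormalPComplement_of_burnside Q fun d _ => hcen d
    have hall : pResidual q G ≤ (pPrimeCore q D).map D.subtype := (closure_le _).2 fun x hx =>
      ⟨⟨x, hxD x hx⟩, Solv.mem_pPrimeCore_of_orderOf_coprime hnpc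
        (by rwa [← orderOf_coe]), rfl⟩
    refine (Solv.card_pPrimeCore_coprime q D).coprime_dvd_left ?_
    rw [← Solv.card_map_subtype D (pPrimeCore q D)]
    exact card_dvd_of_le (hres.trans hall)
  rw [hq]
  refine ⟨hcop, fun K hK => le_antisymm ?_ (commutator_mono le_rfl le_top)⟩
  exact (eq_commutator D K inferInstance (hq ▸ hcop) hK le_rfl).1.le.trans
    (commutator_mono le_top le_rfl)

end Cfsg.Agent.Local.HallDerived
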