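import Cfsg.Agent.Lib.Local.DicksonPoints
import Mathlib.GroupTheory.Sylow

/-!
A Sylow subgroup that is the Heisenberg group of order `p³`: coordinates modulo the centre and the
projective image of the normalizer.
-/

set_option autoImplicit false
set_option linter.unusedSectionVars false
set_option linter.style.haveILetI false

open Subgroup Matrix
open scoped commutatorElement Cfsg.Agent.Classical.Dickson

noncomputable section

namespace Cfsg.Agent.Local.HeisSylow

variable {G : Type*} [Group G] {p : ℕ} [Fact p.Prime]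

theorem pow_val (u : G) (h : u ^ p = 1) (n : ℕ) : u ^ (n : ZMod p).val = u ^ n := by
  rw [ZMod.val_natCast, pow_eq_pow_mod n h]

/-- Coordinates of a Heisenberg subgroup modulo its centre. -/
structure Frame (p : ℕ) (P : Subgroup G) where
  u : G
  v : G
  w : G
  hu : u ∈ P
  hv : v ∈ P
  hw : w ∈ P
  w_ne : w ≠ 1
  exp : ∀ x ∈ P, x ^ p = 1
  cen : ∀ x ∈ P, Commute x w
  comm : u * v = w * (v * u)
  central : ∀ x ∈ P, (∀ y ∈ P, Commute x y) → x ∈ zpowers w
  cd : G → (Fin 2 → ZMod p)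
  cd_mul : ∀ x ∈ P, ∀ y ∈ P, cd (x * y) = cd x + cd y
  cd_eq_zero : ∀ x ∈ P, cd x = 0 ↔ x ∈ zpowers w
  cd_u : cd u = ![1, 0]
  cd_v : cd v = ![0, 1]

theorem exists_frame [Finite G] (P : Subgroup G) (hc : Nat.card P = p ^ 3) (hexp : Monoid.exponent P = p)
    (hZ : Nat.card (center P) = p) (hcm : _root_.commutator P = center P) : Nonempty (Frame p P) := by
  classical
  have hpr : p.Prime := Fact.out
  have hpow : ∀ x : P, x ^ p = 1 := fun x => by rw [← hexp]; exact Monoid.pow_exponent_eq_one x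
  obtain ⟨u, v, huv⟩ : ∃ u v : P, u * v ≠ v * u := by
    by_contra hab
    push Not at hab
    have : center P = ⊤ := eq_top_iff.2 fun x _ => mem_center_iff.2 fun y => hab y x
    rw [this, card_top, hc] at hZ
    have h2 : p ^ 1 < p ^ 3 := Nat.pow_lt_pow_right hpr.one_lt (by norm_num)
    rw [pow_one] at h2
    omega
  set w : P := u * v * u⁻¹ * v⁻¹ with hwdef
  have hwZ : w ∈ center P := by
    rw [← hcm]
    have : w = ⁅u, v⁆ := by rw [hwdef, commutatorElement_def]
    rw [this, _root_.commutator_def]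
    exact commutator_mem_commutator (mem_top u) (mem_top v)
  have hw1 : w ≠ 1 := fun e => huv (by
    rw [hwdef, mul_inv_eq_one, mul_inv_eq_iff_eq_mul] at e; exact e)
  have hgen : center P = zpowers w := by
    refine (eq_of_le_of_card_ge (zpowers_le.2 hwZ) ?_).symm
    rw [hZ, Nat.card_zpowers, orderOf_eq_prime (hpow w) hw1]
  set Q := P ⧸ center P
  have hQc : ∀ a b : Q, a * b = b * a := by
    intro a b
    induction a using QuotientGroup.induction_on with | _ a =>
    induction b using QuotientGroup.induction_on with | _ b =>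
    rw [← QuotientGroup.mk_mul, ← QuotientGroup.mk_mul, QuotientGroup.eq, ← hcm, _root_.commutator_def,
      show (a * b)⁻¹ * (b * a) = ⁅b⁻¹, a⁻¹⁆ by rw [commutatorElement_def]; group]
    exact commutator_mem_commutator (mem_top _) (mem_top _)
  have hQp : ∀ a : Q, a ^ p = 1 := by
    intro a
    induction a using QuotientGroup.induction_on with | _ a =>
    rw [← QuotientGroup.mk_pow, hpow, QuotientGroup.mk_one]
  have hval : ∀ (a : Q) (i j : ZMod p), a ^ (i + j).val = a ^ i.val * a ^ j.val := fun a i j => by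
    rw [← pow_add, ZMod.val_add, ← pow_eq_pow_mod _ (hQp a)]
  let X : Multiplicative (Fin 2 → ZMod p) →* Q :=
    MonoidHom.mk' (fun a => (u : Q) ^ (a.toAdd 0).val * (v : Q) ^ (a.toAdd 1).val) fun a b => by
      simp only [toAdd_mul, Pi.add_apply, hval]
      rw [mul_assoc, mul_assoc, ← mul_assoc ((u : Q) ^ (b.toAdd 0).val), hQc ((u : Q) ^ (b.toAdd 0).val),
        mul_assoc]
  have hinj : Function.Injective X := by
    rw [injective_iff_map_eq_one]
    intro a ha
    change (u : Q) ^ (a.toAdd 0).val * (v : Q) ^ (a.toAdd 1).val = 1 at ha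
    rw [← QuotientGroup.mk_pow, ← QuotientGroup.mk_pow, ← QuotientGroup.mk_mul, QuotientGroup.eq_one_iff,
      mem_center_iff] at ha
    have key : ∀ (z r : P) (i : ZMod p), i ≠ 0 → Commute (z ^ i.val) r → Commute z r := by
      intro z r i hi h
      have e : (z ^ i.val) ^ (i⁻¹).val = z := by
        rw [← pow_mul, ← pow_val z (hpow z) (i.val * (i⁻¹).val), Nat.cast_mul, ZMod.natCast_zmod_val,
          ZMod.natCast_zmod_val, mul_inv_cancel₀ hi, ZMod.val_one, pow_one]
      rw [← e]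
      exact h.pow_left _
    have h0 : a.toAdd 0 = 0 := by
      by_contra hne
      refine huv (key u v _ hne ?_)
      have h := (ha v).symm
      rw [mul_assoc, (Commute.pow_left (Commute.refl v) _).eq, ← mul_assoc, ← mul_assoc] at h
      exact mul_right_cancel h
    have h1 : a.toAdd 1 = 0 := by
      by_contra hne
      refine huv (key v u _ hne ?_).symm
      have h := (ha u).symm
      rw [h0, ZMod.val_zero, pow_zero, one_mul] at h
      exact h
    refine Multiplicative.toAdd.injective (funext fun i => ?_)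
    fin_cases i
    · exact h0
    · exact h1
  have hcard : Nat.card Q = p ^ 2 := by
    have h := card_eq_card_quotient_mul_card_subgroup (center P)
    rw [hc, hZ, pow_succ] at h
    exact (Nat.eq_of_mul_eq_mul_right hpr.pos h).symm
  have hcardV : Nat.card (Multiplicative (Fin 2 → ZMod p)) = p ^ 2 := by
    rw [Nat.card_congr Multiplicative.toAdd, Nat.card_fun, Nat.card_zmod, Nat.card_fin]
  haveI : Finite Q := Quotient.finite _
  have hbij : Function.Bijective X :=
    hinj.bijective_of_nat_card_le (by rw [hcard, hcardV])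
  let e := MulEquiv.ofBijective X hbij
  let c : P →* Multiplicative (Fin 2 → ZMod p) := e.symm.toMonoidHom.comp (QuotientGroup.mk' (center P))
  have hcX : ∀ (x : P) (a : Multiplicative (Fin 2 → ZMod p)), X a = (x : Q) → c x = a := by
    intro x a h
    show e.symm (x : Q) = a
    rw [← h]
    exact e.symm_apply_apply a
  refine ⟨{
    u := u, v := v, w := w, hu := u.2, hv := v.2, hw := w.2
    w_ne := fun h => hw1 (Subtype.ext h)
    exp := fun x hx => congrArg Subtype.val (hpow ⟨x, hx⟩)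
    cen := fun x hx => (congrArg Subtype.val ((mem_center_iff.1 hwZ) ⟨x, hx⟩) : _)
    comm := ?_
    central := ?_
    cd := fun x => if h : x ∈ P then (c ⟨x, h⟩).toAdd else 0
    cd_mul := ?_
    cd_eq_zero := ?_
    cd_u := ?_
    cd_v := ?_ }⟩
  · show (u : G) * v = ((w : P) : G) * (v * u)
    rw [hwdef]
    push_cast
    group
  · intro x hx h
    have hm : (⟨x, hx⟩ : P) ∈ center P := mem_center_iff.2 fun y => Subtype.ext ((h y y.2).symm.eq)
    rw [hgen, mem_zpowers_iff] at hm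
    obtain ⟨k, hk⟩ := hm
    exact mem_zpowers_iff.2 ⟨k, by simpa using congrArg Subtype.val hk⟩
  · intro x hx y hy
    simp only [dif_pos hx, dif_pos hy, dif_pos (P.mul_mem hx hy)]
    rw [← toAdd_mul, ← map_mul]
    rfl
  · intro x hx
    simp only [dif_pos hx, toAdd_eq_zero]
    show e.symm ((⟨x, hx⟩ : P) : Q) = 1 ↔ _
    rw [MulEquiv.map_eq_one_iff, QuotientGroup.eq_one_iff, hgen, mem_zpowers_iff, mem_zpowers_iff]
    exact ⟨fun ⟨k, hk⟩ => ⟨k, by simpa using congrArg Subtype.val hk⟩, fun ⟨k, hk⟩ => ⟨k, Subtype.ext (by simpa using hk)⟩⟩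
  · simp only [dif_pos u.2]
    rw [hcX ⟨_, u.2⟩ (Multiplicative.ofAdd ![1, 0]) ?_]
    · rfl
    · show (u : Q) ^ (1 : ZMod p).val * (v : Q) ^ (0 : ZMod p).val = _
      rw [ZMod.val_one, ZMod.val_zero, pow_one, pow_zero, mul_one]
  · simp only [dif_pos v.2]
    rw [hcX ⟨_, v.2⟩ (Multiplicative.ofAdd ![0, 1]) ?_]
    · rfl
    · show (u : Q) ^ (0 : ZMod p).val * (v : Q) ^ (1 : ZMod p).val = _
      rw [ZMod.val_one, ZMod.val_zero, pow_one, pow_zero, one_mul]

namespace Frame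

variable {P : Subgroup G} (F : Frame p P)

theorem w_pow : F.w ^ p = 1 := F.exp _ F.hw

theorem order_w : orderOf F.w = p := orderOf_eq_prime F.w_pow F.w_ne

theorem cd_one : F.cd 1 = 0 := (F.cd_eq_zero 1 P.one_mem).2 (one_mem _)

theorem cd_pow {x : G} (hx : x ∈ P) (n : ℕ) : F.cd (x ^ n) = (n : ZMod p) • F.cd x := by
  induction n with
  | zero => rw [pow_zero, F.cd_one, Nat.cast_zero, zero_smul]
  | succ n ih => rw [pow_succ, F.cd_mul _ (P.pow_mem hx n) _ hx, ih, Nat.cast_succ, add_smul, one_smul]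

theorem cd_zpowers {z : G} (hz : z ∈ zpowers F.w) : F.cd z = 0 :=
  (F.cd_eq_zero z ((zpowers_le.2 F.hw) hz)).2 hz

/-- Equal coordinates: equal modulo the centre. -/
theorem cd_eq {x y : G} (hx : x ∈ P) (hy : y ∈ P) (h : F.cd x = F.cd y) : x⁻¹ * y ∈ zpowers F.w := by
  refine (F.cd_eq_zero _ (P.mul_mem (P.inv_mem hx) hy)).1 ?_
  have h1 := F.cd_mul _ (P.inv_mem hx) _ hx
  rw [inv_mul_cancel, F.cd_one] at h1
  rw [F.cd_mul _ (P.inv_mem hx) _ hy, ← h, ← h1]

theorem exists_pow_eq {z : G} (hz : z ∈ zpowers F.w) : ∃ k : ℕ, F.w ^ k = z := by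
  obtain ⟨k, hk⟩ := (isOfFinOrder_iff_pow_eq_one.2 ⟨p, (Fact.out : p.Prime).pos, F.w_pow⟩).mem_powers_iff_mem_zpowers.2 hz
  exact ⟨k, hk⟩

/-- An element outside the centre is moved by an element of `P` by exactly `w`. -/
theorem exists_X {a : G} (ha : a ∈ P) (ha' : a ∉ zpowers F.w) : ∃ b ∈ P, b * a * b⁻¹ = a * F.w := by
  obtain ⟨b₀, hb₀, hne⟩ : ∃ y ∈ P, ¬ Commute a y := by
    by_contra h
    push Not at h
    exact ha' (F.central a ha h)
  have hmem : a⁻¹ * (b₀ * a * b₀⁻¹) ∈ zpowers F.w := by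
    have hba : b₀ * a * b₀⁻¹ ∈ P := P.mul_mem (P.mul_mem hb₀ ha) (P.inv_mem hb₀)
    refine F.cd_eq ha hba ?_
    have h1 := F.cd_mul _ hba _ hb₀
    rw [inv_mul_cancel_right, F.cd_mul _ hb₀ _ ha, add_comm] at h1
    exact add_right_cancel h1
  obtain ⟨k, hk⟩ := F.exists_pow_eq hmem
  have hk0 : (k : ZMod p) ≠ 0 := by
    rw [Ne, ZMod.natCast_eq_zero_iff]
    rintro ⟨m, rfl⟩
    rw [pow_mul, F.w_pow, one_pow, eq_comm, inv_mul_eq_one, eq_mul_inv_iff_mul_eq] at hk
    exact hne hk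
  have hpows : ∀ i : ℕ, b₀ ^ i * a * (b₀ ^ i)⁻¹ = a * F.w ^ (k * i) := by
    intro i
    induction i with
    | zero => simp
    | succ i ih =>
      have e : b₀ ^ (i + 1) * a * (b₀ ^ (i + 1))⁻¹ = b₀ * (b₀ ^ i * a * (b₀ ^ i)⁻¹) * b₀⁻¹ := by
        rw [pow_succ']; group
      rw [e, ih, ← mul_assoc, mul_assoc (b₀ * a), ← ((F.cen b₀ hb₀).inv_left.pow_right (k * i)).eq,
        ← mul_assoc, show b₀ * a * b₀⁻¹ = a * F.w ^ k by rw [hk]; group, mul_assoc, ← pow_add,
        Nat.mul_succ, add_comm]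
  refine ⟨b₀ ^ ((k : ZMod p)⁻¹).val, P.pow_mem hb₀ _, ?_⟩
  rw [hpows, ← pow_val F.w F.w_pow, Nat.cast_mul, ZMod.natCast_zmod_val, mul_inv_cancel₀ hk0, ZMod.val_one,
    pow_one]

/-- Powers of the two generators. -/
theorem pow_comm (i j : ℕ) : F.u ^ i * F.v ^ j = F.w ^ (i * j) * (F.v ^ j * F.u ^ i) := by
  have h1 : ∀ j : ℕ, F.u * F.v ^ j = F.w ^ j * (F.v ^ j * F.u) := by
    intro j
    induction j with
    | zero => simp
    | succ j ih =>
      rw [pow_succ, ← mul_assoc, ih, mul_assoc, mul_assoc, F.comm, ← mul_assoc (F.v ^ j),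
        ((F.cen F.v F.hv).pow_left j).eq, mul_assoc, ← mul_assoc (F.w ^ j), ← pow_succ, mul_assoc (F.v ^ j)]
  induction i with
  | zero => simp
  | succ i ih =>
    rw [pow_succ' F.u, mul_assoc, ih, ← mul_assoc, ((F.cen F.u F.hu).pow_right _).eq, mul_assoc,
      ← mul_assoc F.u, h1, ← mul_assoc, ← mul_assoc, ← pow_add]
    simp only [mul_assoc]
    congr 2
    rw [Nat.succ_mul]

/-- An automorphism which is scalar modulo the centre. -/
theorem scalar (g : G) (hg : g ∈ normalizer (P : Set G)) (c : ℕ)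
    (hu' : F.cd (g * F.u * g⁻¹) = (c : ZMod p) • F.cd F.u) (hv' : F.cd (g * F.v * g⁻¹) = (c : ZMod p) • F.cd F.v) :
    g * F.w * g⁻¹ = F.w ^ (c * c) := by
  have hgu := (mem_normalizer_iff.1 hg F.u).1 F.hu
  have hgv := (mem_normalizer_iff.1 hg F.v).1 F.hv
  obtain ⟨i, hi⟩ := F.exists_pow_eq (F.cd_eq (P.pow_mem F.hu c) hgu (by rw [F.cd_pow F.hu, hu']))
  obtain ⟨j, hj⟩ := F.exists_pow_eq (F.cd_eq (P.pow_mem F.hv c) hgv (by rw [F.cd_pow F.hv, hv']))
  set U := F.u ^ c
  set V := F.v ^ c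
  have hU : g * F.u * g⁻¹ = U * F.w ^ i := by rw [hi]; group
  have hV : g * F.v * g⁻¹ = V * F.w ^ j := by rw [hj]; group
  have hcU : ∀ n : ℕ, Commute U (F.w ^ n) := fun n => ((F.cen _ F.hu).pow_pow c n)
  have hcV : ∀ n : ℕ, Commute V (F.w ^ n) := fun n => ((F.cen _ F.hv).pow_pow c n)
  have hconj : (g * F.u * g⁻¹) * (g * F.v * g⁻¹) = (g * F.w * g⁻¹) * ((g * F.v * g⁻¹) * (g * F.u * g⁻¹)) := by
    calc (g * F.u * g⁻¹) * (g * F.v * g⁻¹) = g * (F.u * F.v) * g⁻¹ := by group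
      _ = g * (F.w * (F.v * F.u)) * g⁻¹ := by rw [F.comm]
      _ = _ := by group
  rw [hU, hV] at hconj
  have e1 : U * F.w ^ i * (V * F.w ^ j) = F.w ^ (c * c) * (V * F.w ^ j * (U * F.w ^ i)) := by
    calc U * F.w ^ i * (V * F.w ^ j) = (U * V) * (F.w ^ i * F.w ^ j) := by
          rw [mul_assoc, ← mul_assoc (F.w ^ i), ← (hcV i).eq]; group
      _ = F.w ^ (c * c) * (V * U) * (F.w ^ i * F.w ^ j) := by rw [F.pow_comm c c]
      _ = F.w ^ (c * c) * (V * U * (F.w ^ j * F.w ^ i)) := by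
          rw [((Commute.refl F.w).pow_pow i j).eq]; group
      _ = _ := by rw [mul_assoc V (F.w ^ j), ← mul_assoc (F.w ^ j) U, ← (hcU j).eq]; group
  rw [e1] at hconj
  exact (mul_right_cancel hconj).symm

variable [Finite G]

/-- Conjugation on coordinates. -/
theorem exists_lin {g : G} (hg : g ∈ normalizer (P : Set G)) :
    ∃ M : Matrix (Fin 2) (Fin 2) (ZMod p), ∀ x ∈ P, F.cd (g * x * g⁻¹) = M *ᵥ F.cd x := by
  classical
  have hgP : ∀ x ∈ P, g * x * g⁻¹ ∈ P := fun x hx => (mem_normalizer_iff.1 hg x).1 hx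
  have hw' : ∀ z ∈ zpowers F.w, g * z * g⁻¹ ∈ zpowers F.w := by
    intro z hz
    have hzP := (zpowers_le.2 F.hw) hz
    refine F.central _ (hgP z hzP) fun y hy => ?_
    have hy' := (mem_normalizer_iff''.1 hg y).1 hy
    obtain ⟨k, rfl⟩ := mem_zpowers_iff.1 hz
    have hc := ((F.cen _ hy').zpow_right k).eq
    calc g * F.w ^ k * g⁻¹ * y = g * (F.w ^ k * (g⁻¹ * y * g)) * g⁻¹ := by group
      _ = g * (g⁻¹ * y * g * F.w ^ k) * g⁻¹ := by rw [hc]
      _ = y * (g * F.w ^ k * g⁻¹) := by group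
  refine ⟨(Matrix.of fun i j => ![F.cd (g * F.u * g⁻¹), F.cd (g * F.v * g⁻¹)] j i), fun x hx => ?_⟩
  set a := (F.cd x 0).val
  set b := (F.cd x 1).val
  have hy : F.u ^ a * F.v ^ b ∈ P := P.mul_mem (P.pow_mem F.hu a) (P.pow_mem F.hv b)
  have hxy : F.cd (F.u ^ a * F.v ^ b) = F.cd x := by
    rw [F.cd_mul _ (P.pow_mem F.hu a) _ (P.pow_mem F.hv b), F.cd_pow F.hu, F.cd_pow F.hv, F.cd_u, F.cd_v,
      ZMod.natCast_zmod_val, ZMod.natCast_zmod_val]
    ext i
    fin_cases i <;> simp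
  have hz := F.cd_eq hy hx hxy
  have e : g * x * g⁻¹ = (g * F.u * g⁻¹) ^ a * (g * F.v * g⁻¹) ^ b * (g * ((F.u ^ a * F.v ^ b)⁻¹ * x) * g⁻¹) := by
    rw [conj_pow, conj_pow]; group
  rw [e, F.cd_mul _ (P.mul_mem (P.pow_mem (hgP _ F.hu) a) (P.pow_mem (hgP _ F.hv) b)) _
      ((zpowers_le.2 F.hw) (hw' _ hz)), F.cd_mul _ (P.pow_mem (hgP _ F.hu) a) _ (P.pow_mem (hgP _ F.hv) b),
    F.cd_pow (hgP _ F.hu), F.cd_pow (hgP _ F.hv), F.cd_zpowers (hw' _ hz), add_zero, ZMod.natCast_zmod_val,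
    ZMod.natCast_zmod_val]
  ext i
  simp [Matrix.mulVec, dotProduct, Fin.sum_univ_two]
  ring

theorem mulVec_ext {M N : Matrix (Fin 2) (Fin 2) (ZMod p)} (h : ∀ x ∈ P, M *ᵥ F.cd x = N *ᵥ F.cd x) : M = N := by
  have h0 := h _ F.hu
  have h1 := h _ F.hv
  rw [F.cd_u] at h0
  rw [F.cd_v] at h1
  ext i j
  fin_cases j
  · simpa [Matrix.mulVec, dotProduct, Fin.sum_univ_two] using congrFun h0 i
  · simpa [Matrix.mulVec, dotProduct, Fin.sum_univ_two] using congrFun h1 i

/-- The representation of the normalizer. -/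
theorem exists_rep : ∃ ρ : normalizer (P : Set G) →* GL (Fin 2) (ZMod p),
    ∀ (g : normalizer (P : Set G)), ∀ x ∈ P,
      F.cd ((g : G) * x * (g : G)⁻¹) = (ρ g : Matrix (Fin 2) (Fin 2) (ZMod p)) *ᵥ F.cd x := by
  choose M hM using fun g : normalizer (P : Set G) => F.exists_lin g.2
  let φ : normalizer (P : Set G) →* Matrix (Fin 2) (Fin 2) (ZMod p) :=
    { toFun := M
      map_one' := F.mulVec_ext fun x hx => by rw [← hM 1 x hx, Matrix.one_mulVec]; simp
      map_mul' := fun g h => F.mulVec_ext fun x hx => by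
        rw [← hM (g * h) x hx, ← Matrix.mulVec_mulVec, ← hM h x hx,
          ← hM g _ ((mem_normalizer_iff.1 h.2 x).1 hx)]
        congr 1
        push_cast
        group }
  exact ⟨φ.toHomUnits, fun g x hx => hM g x hx⟩

theorem le_self {g x : G} (hg : g ∈ P) (hx : x ∈ P) : F.cd (g * x * g⁻¹) = F.cd x := by
  have hm : g * x * g⁻¹ ∈ P := P.mul_mem (P.mul_mem hg hx) (P.inv_mem hg)
  have h := F.cd_mul _ hm _ hg
  rw [inv_mul_cancel_right, F.cd_mul _ hg _ hx, add_comm] at h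
  exact (add_right_cancel h).symm

end Frame

variable [Finite G]

/-- The two transvections generate a torus element, which can be moved into the normalizer of the Sylow subgroup. -/
theorem exists_torus {P : Sylow p G} (F : Frame p (P : Subgroup G)) {a : G} (ha : a ∈ (P : Subgroup G))
    (ha' : a ∉ zpowers F.w) {Y : G} (hYa : Y * a * Y⁻¹ = a) (hYw : Y * F.w * Y⁻¹ = F.w * a)
    (q : ℕ) (hq : (q : ZMod p) ≠ 0) :
    ∃ n ∈ normalizer ((P : Subgroup G) : Set G), n * F.w * n⁻¹ = F.w ^ q ∧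
      F.cd (n * a * n⁻¹) = (q : ZMod p)⁻¹ • F.cd a := by
  classical
  obtain ⟨X, hXP, hXa⟩ := F.exists_X ha ha'
  have hXw : X * F.w * X⁻¹ = F.w := by rw [(F.cen X hXP).eq, mul_inv_cancel_right]
  have hap : a ^ p = 1 := F.exp a ha
  have haw : Commute a F.w := F.cen a ha
  obtain ⟨c, hc⟩ : ∃ c : G → G → G, ∀ g x, c g x = g * x * g⁻¹ := ⟨_, fun _ _ => rfl⟩
  have cmul : ∀ g h x, c (g * h) x = c g (c h x) := fun g h x => by simp [hc, mul_assoc]
  have cxy : ∀ g x y, c g (x * y) = c g x * c g y := fun g x y => by simp [hc, mul_assoc]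
  have cpow : ∀ g x (n : ℕ), c g (x ^ n) = c g x ^ n := fun g x n => by simp [hc, conj_pow]
  have czpow : ∀ g x (n : ℤ), c g (x ^ n) = c g x ^ n := fun g x n => by simp [hc, conj_zpow]
  have hX : ∀ i : ℕ, c (X ^ i) a = a * F.w ^ i ∧ c (X ^ i) F.w = F.w := by
    intro i
    induction i with
    | zero => simp [hc]
    | succ i ih =>
      rw [pow_succ', cmul, cmul, ih.1, ih.2, cxy, cpow]
      refine ⟨?_, by rw [hc, hXw]⟩
      rw [hc, hc, hXa, hXw, mul_assoc, ← pow_succ']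
  have hY : ∀ i : ℕ, c (Y ^ i) a = a ∧ c (Y ^ i) F.w = F.w * a ^ i := by
    intro i
    induction i with
    | zero => simp [hc]
    | succ i ih =>
      rw [pow_succ', cmul, cmul, ih.1, ih.2, cxy, cpow]
      refine ⟨by rw [hc, hYa], ?_⟩
      rw [hc, hc, hYa, hYw, mul_assoc, ← pow_succ']
  have hred : ∀ (x : G), x ^ p = 1 → ∀ m n : ℕ, (m : ZMod p) = (n : ZMod p) → x ^ m = x ^ n := fun x hx m n h => by
    rw [← pow_val x hx m, ← pow_val x hx n, h]
  have hW : ∀ m r : ℕ, (m : ZMod p) * r = -1 →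
      c (Y ^ m * X ^ r * Y ^ m) a = F.w ^ r ∧ c (Y ^ m * X ^ r * Y ^ m) F.w = a ^ m := by
    intro m r hmr
    have h0 : ((1 + m * r : ℕ) : ZMod p) = ((0 : ℕ) : ZMod p) := by push_cast; rw [hmr]; ring
    constructor
    · rw [cmul, cmul, (hY m).1, (hX r).1, cxy, (hY m).1, cpow, (hY m).2,
        (haw.symm.pow_right m).mul_pow, ← pow_mul, ← mul_assoc, (haw.pow_right r).eq, mul_assoc, ← pow_succ',
        hred a hap (m * r + 1) 0 (by rw [add_comm]; exact h0), pow_zero, mul_one]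
    · rw [cmul, cmul, (hY m).2, cxy, (hX r).2, cpow, (hX r).1, (haw.pow_right r).mul_pow, ← pow_mul,
        ← mul_assoc, ← (haw.pow_left m).eq, mul_assoc, ← pow_succ',
        hred F.w F.w_pow (r * m + 1) 0 (by rw [add_comm, mul_comm]; exact h0), pow_zero, mul_one, cpow, (hY m).1]
  have hpm1 : ((p - 1 : ℕ) : ZMod p) = -1 := by
    rw [Nat.cast_sub (Fact.out : p.Prime).one_le, ZMod.natCast_self, zero_sub, Nat.cast_one]
  set qz : ZMod p := (q : ZMod p) with hqz
  set m : ℕ := (-qz⁻¹).val with hm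
  have hmq : (m : ZMod p) * q = -1 := by
    rw [hm, ZMod.natCast_zmod_val, ← hqz, neg_mul, inv_mul_cancel₀ hq]
  obtain ⟨w1a, w1w⟩ := hW 1 (p - 1) (by rw [Nat.cast_one, one_mul, hpm1])
  obtain ⟨w2a, w2w⟩ := hW m q hmq
  set h := (Y ^ m * X ^ q * Y ^ m) * (Y ^ 1 * X ^ (p - 1) * Y ^ 1) with hh
  set μ := m * (p - 1) with hμdef
  have hμ : (μ : ZMod p) = qz⁻¹ := by
    rw [hμdef, Nat.cast_mul, hpm1, hm, ZMod.natCast_zmod_val]; ring
  have hμq : ((μ * q : ℕ) : ZMod p) = ((1 : ℕ) : ZMod p) := by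
    rw [Nat.cast_mul, hμ, ← hqz, inv_mul_cancel₀ hq, Nat.cast_one]
  have hhw : c h F.w = F.w ^ q := by rw [hh, cmul, w1w, cpow, w2a, pow_one]
  have hha : c h a = a ^ μ := by rw [hh, cmul, w1a, cpow, w2w, ← pow_mul]
  let T : Subgroup G :=
    { carrier := {g | c g F.w = F.w ∧ ∃ k : ℤ, c g a = a * F.w ^ k}
      one_mem' := ⟨by simp [hc], 0, by simp [hc]⟩
      mul_mem' := by
        rintro g1 g2 ⟨h1, k1, hk1⟩ ⟨h2, k2, hk2⟩
        refine ⟨by rw [cmul, h2, h1], k1 + k2, ?_⟩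
        rw [cmul, hk2, cxy, hk1, _root_.zpow_add, mul_assoc]
        congr 1
        rw [czpow, h1]
      inv_mem' := by
        rintro g ⟨h1, k, hk⟩
        have e1 : c g⁻¹ F.w = F.w := by
          conv_lhs => rw [← h1]
          simp [hc]; group
        refine ⟨e1, -k, ?_⟩
        have e2 : c g⁻¹ (c g a) = a := by simp [hc]; group
        rw [hk, cxy] at e2
        have e3 : c g⁻¹ (F.w ^ k) = F.w ^ k := by rw [czpow, e1]
        rw [e3] at e2
        conv_rhs => arg 1; rw [← e2]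
        rw [mul_assoc, ← _root_.zpow_add, add_neg_cancel, zpow_zero, mul_one] }
  have hPT : (P : Subgroup G) ≤ T := by
    intro g hg
    refine ⟨by rw [hc, (F.cen g hg).eq, mul_inv_cancel_right], ?_⟩
    have hm := F.cd_eq ha (Subgroup.mul_mem _ (Subgroup.mul_mem _ hg ha) (Subgroup.inv_mem _ hg)) (F.le_self hg ha).symm
    obtain ⟨k, hk⟩ := mem_zpowers_iff.1 hm
    exact ⟨k, by rw [hc, hk]; group⟩
  have hTh : ∀ g ∈ T, h * g * h⁻¹ ∈ T := by
    rintro g ⟨h1, k, hk⟩
    have key : ∀ y, c (h * g * h⁻¹) (c h y) = c h (c g y) := fun y => by simp [hc]; group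
    have eW : c h (F.w ^ μ) = F.w := by
      rw [cpow, hhw, ← pow_mul, hred F.w F.w_pow (q * μ) 1 (by rw [mul_comm]; exact hμq), pow_one]
    have eA : c h (a ^ q) = a := by
      rw [cpow, hha, ← pow_mul, hred a hap (μ * q) 1 hμq, pow_one]
    refine ⟨?_, ((q : ℤ) * (k * q)), ?_⟩
    · conv_lhs => rw [← eW]
      rw [key, cpow, h1, eW]
    · conv_lhs => rw [← eA]
      rw [key, cpow g, hk, (haw.zpow_right k).mul_pow, cxy, eA]
      congr 1
      rw [← zpow_natCast (F.w ^ k) q, ← _root_.zpow_mul, czpow, hhw, ← zpow_natCast, ← _root_.zpow_mul]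
  have hP' : ((h • P : Sylow p G) : Subgroup G) ≤ T := by
    intro y hy
    rw [Sylow.coe_subgroup_smul, Subgroup.mem_pointwise_smul_iff_inv_smul_mem] at hy
    have := hTh _ (hPT hy)
    simpa [MulAut.smul_def, mul_assoc] using this
  obtain ⟨t, ht⟩ := MulAction.exists_smul_eq T ((h • P).subtype hP') (P.subtype hPT)
  have hn : (t : G) * h ∈ normalizer ((P : Subgroup G) : Set G) := by
    have e : (((t : G) * h) • P : Sylow p G) = P := by
      rw [mul_smul]
      refine Sylow.subtype_injective (hP := ?_) (hQ := hPT) ?_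
      · intro y hy
        rw [Sylow.coe_subgroup_smul, Subgroup.mem_pointwise_smul_iff_inv_smul_mem] at hy
        have h1 := T.mul_mem (T.mul_mem t.2 (hP' hy)) (T.inv_mem t.2)
        simpa [MulAut.smul_def, mul_assoc] using h1
      · rw [← ht]
        exact (Sylow.smul_subtype hP' t).symm
    rw [Sylow.smul_eq_iff_mem_normalizer] at e
    exact e
  obtain ⟨ht1, k, hk⟩ := t.2
  refine ⟨_, hn, ?_, ?_⟩
  · rw [← hc, cmul, hhw, cpow, ht1]
  · rw [← hc, cmul, hha, cpow, hk, F.cd_pow (Subgroup.mul_mem _ ha (Subgroup.zpow_mem _ F.hw k)),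
      F.cd_mul _ ha _ (Subgroup.zpow_mem _ F.hw k), F.cd_zpowers (Subgroup.zpow_mem _ (mem_zpowers _) k),
      add_zero, hμ]

/-- The bound. -/
theorem bound {P : Sylow p G} (F : Frame p (P : Subgroup G)) {ι : Type*} [Fintype ι] (hι : 3 ≤ Fintype.card ι)
    (a : ι → G) (ha : ∀ i, a i ∈ (P : Subgroup G)) (ha' : ∀ i, a i ∉ zpowers F.w)
    (hdist : ∀ i j, i ≠ j → ∀ c : ZMod p, F.cd (a i) ≠ c • F.cd (a j))
    (hY : ∀ i, ∃ Y : G, Y * a i * Y⁻¹ = a i ∧ Y * F.w * Y⁻¹ = F.w * a i) :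
    p ≤ 7 ∨ p = 13 ∧ Fintype.card ι ≤ 12 := by
  classical
  rw [or_iff_not_imp_left]
  intro hp7
  have hpr : p.Prime := Fact.out
  obtain ⟨ρ, hρ⟩ := F.exists_rep
  let K := AlgebraicClosure (ZMod p)
  letI : DecidableEq K := Classical.decEq _
  haveI : CharP K p := charP_of_injective_algebraMap (algebraMap (ZMod p) K).injective p
  let f : ZMod p →+* K := algebraMap (ZMod p) K
  let ψ : normalizer ((P : Subgroup G) : Set G) →* Matrix.ProjGenLinGroup (Fin 2) K :=
    (Matrix.ProjGenLinGroup.mk.comp (Matrix.GeneralLinearGroup.map f)).comp ρ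
  set L := ψ.range
  haveI : Finite L := Finite.of_surjective _ ψ.rangeRestrict_surjective
  have hL : ¬ p ∣ Nat.card L := by
    have hle : ((P : Subgroup G).subgroupOf (normalizer ((P : Subgroup G) : Set G))) ≤ ψ.ker := by
      intro g hg
      rw [mem_subgroupOf] at hg
      have : ρ g = 1 := Units.ext (F.mulVec_ext fun x hx => by
        rw [← hρ g x hx, F.le_self hg hx, Units.val_one, Matrix.one_mulVec])
      show ψ g = 1
      simp [ψ, this]
    intro hd
    rw [← Subgroup.index_ker] at hd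
    refine P.not_dvd_index (hd.trans ((index_dvd_of_le hle).trans ?_))
    exact relIndex_dvd_index_of_le Subgroup.le_normalizer
  let vK : ι → (Fin 2 → K) := fun i j => f (F.cd (a i) j)
  have hv0 : ∀ i, vK i ≠ 0 := by
    intro i h
    refine ha' i ((F.cd_eq_zero _ (ha i)).1 (funext fun j => f.injective ?_))
    rw [Pi.zero_apply, map_zero]
    exact congrFun h j
  let S : Finset (OnePoint K) := Finset.univ.image fun i => DicksonPoints.pt (vK i)
  have hS : S.card = Fintype.card ι := by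
    refine (Finset.card_image_of_injective _ fun i j h => ?_).trans Finset.card_univ
    by_contra hne
    obtain ⟨c, hc⟩ := DicksonPoints.eq_smul_of_pt_eq (hv0 j) h
    obtain ⟨l, hl⟩ : ∃ l, vK j l ≠ 0 := Function.ne_iff.1 (hv0 j)
    refine hdist i j hne (F.cd (a i) l / F.cd (a j) l) (funext fun k => f.injective ?_)
    have h1 := congrFun hc k
    have h2 := congrFun hc l
    simp only [Pi.smul_apply, smul_eq_mul, vK] at h1 h2 hl ⊢
    rw [map_mul, map_div₀, h2, mul_div_cancel_right₀ _ hl, h1]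
  obtain ⟨qu, hqu⟩ := IsCyclic.exists_generator (α := (ZMod p)ˣ)
  have hqo : orderOf qu = p - 1 := by
    rw [orderOf_eq_card_of_forall_mem_zpowers hqu, Nat.card_eq_fintype_card, ZMod.card_units]
  set q := (qu : ZMod p).val
  have hqz : (q : ZMod p) = (qu : ZMod p) := ZMod.natCast_zmod_val _
  have hord : ∀ s ∈ S, ∃ g ∈ L, g • s = s ∧ p - 1 ∣ 3 * orderOf g := by
    intro s hs
    obtain ⟨i, -, rfl⟩ := Finset.mem_image.1 hs
    obtain ⟨Y, hYa, hYw⟩ := hY i
    obtain ⟨n, hn, hnw, hna⟩ := exists_torus F (ha i) (ha' i) hYa hYw q (by rw [hqz]; exact qu.ne_zero)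
    set N : normalizer ((P : Subgroup G) : Set G) := ⟨n, hn⟩
    set M := ρ N with hMdef
    have hMv : (M : Matrix (Fin 2) (Fin 2) (ZMod p)) *ᵥ F.cd (a i) = ((qu⁻¹ : (ZMod p)ˣ) : ZMod p) • F.cd (a i) := by
      rw [← hρ N _ (ha i), Units.val_inv_eq_inv_val, ← hqz]; exact hna
    refine ⟨ψ N, ⟨N, rfl⟩, ?_, ?_⟩
    · refine DicksonPoints.smul_pt _ _ (hv0 i) (μ := f ((qu⁻¹ : (ZMod p)ˣ) : ZMod p)) ((map_ne_zero f).2 (Units.ne_zero _)) ?_
      funext j
      have := congrArg f (congrFun hMv j)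
      simp only [Pi.smul_apply, smul_eq_mul, map_mul] at this
      rw [Pi.smul_apply, smul_eq_mul, ← this, RingHom.map_mulVec]
      rfl
    · set m := orderOf (ψ N)
      have h1 : Matrix.ProjGenLinGroup.mk (Matrix.GeneralLinearGroup.map f (M ^ m)) = 1 := by
        have := pow_orderOf_eq_one (ψ N)
        rw [← map_pow] at this
        rw [hMdef, ← map_pow ρ]
        exact this
      rw [Matrix.ProjGenLinGroup.mk_eq_one, Matrix.GeneralLinearGroup.center_eq_range_scalar] at h1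
      obtain ⟨cK, hcK⟩ := h1
      have hK : ∀ r s, f (((M ^ m : GL (Fin 2) (ZMod p)) : Matrix (Fin 2) (Fin 2) (ZMod p)) r s) = if r = s then (cK : K) else 0 := by
        intro r s
        have := congrArg (fun g : GL (Fin 2) K => (g : Matrix (Fin 2) (Fin 2) K) r s) hcK.symm
        simp only [Matrix.GeneralLinearGroup.coe_scalar, Matrix.scalar_apply, Matrix.diagonal_apply] at this
        exact this
      set Mm := ((M ^ m : GL (Fin 2) (ZMod p)) : Matrix (Fin 2) (Fin 2) (ZMod p)) with hMm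
      set c := Mm 0 0
      have hc : Mm = c • 1 := by
        ext r s
        refine f.injective ?_
        rw [hK, Matrix.smul_apply, Matrix.one_apply, smul_eq_mul, map_mul, show f c = cK by rw [hK 0 0, if_pos rfl]]
        split_ifs <;> simp
      have hpow : ∀ j : ℕ, ((M ^ j : GL (Fin 2) (ZMod p)) : Matrix (Fin 2) (Fin 2) (ZMod p)) *ᵥ F.cd (a i) =
          (((qu⁻¹) ^ j : (ZMod p)ˣ) : ZMod p) • F.cd (a i) := by
        intro j
        induction j with
        | zero => simp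
        | succ j ih =>
          rw [pow_succ, Units.val_mul, ← Matrix.mulVec_mulVec, hMv, Matrix.mulVec_smul, ih, smul_smul,
            pow_succ, Units.val_mul, mul_comm]
      have hcμ : c = (((qu⁻¹) ^ m : (ZMod p)ˣ) : ZMod p) := by
        have h2 := hpow m
        rw [← hMm, hc, Matrix.smul_mulVec, Matrix.one_mulVec] at h2
        exact smul_left_injective _ (fun e => ha' i ((F.cd_eq_zero _ (ha i)).1 e)) h2
      have hw1 : n ^ m * F.w * (n ^ m)⁻¹ = F.w ^ (c.val * c.val) := by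
        have hu : ∀ x ∈ (P : Subgroup G), F.cd (n ^ m * x * (n ^ m)⁻¹) = ((c.val : ℕ) : ZMod p) • F.cd x := by
          intro x hx
          have h3 := hρ (N ^ m) x hx
          rw [map_pow, ← hMdef, ← hMm, hc, Matrix.smul_mulVec, Matrix.one_mulVec] at h3
          rw [ZMod.natCast_zmod_val]
          exact h3
        exact F.scalar _ (Subgroup.pow_mem _ hn m) c.val (hu _ F.hu) (hu _ F.hv)
      have hw2 : ∀ j : ℕ, n ^ j * F.w * (n ^ j)⁻¹ = F.w ^ (q ^ j) := by
        intro j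
        induction j with
        | zero => simp
        | succ j ih =>
          calc n ^ (j + 1) * F.w * (n ^ (j + 1))⁻¹ = n ^ j * (n * F.w * n⁻¹) * (n ^ j)⁻¹ := by rw [pow_succ]; group
            _ = (n ^ j * F.w * (n ^ j)⁻¹) ^ q := by rw [hnw, conj_pow]
            _ = _ := by rw [ih, ← pow_mul, pow_succ]
      have heq : ((q ^ m : ℕ) : ZMod p) = ((c.val * c.val : ℕ) : ZMod p) := by
        have := pow_eq_pow_iff_modEq.1 ((hw2 m).symm.trans hw1)
        rw [F.order_w] at this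
        exact (ZMod.natCast_eq_natCast_iff _ _ p).2 this
      push_cast at heq
      rw [hqz, ZMod.natCast_zmod_val, hcμ, ← Units.val_pow_eq_pow_val, ← Units.val_mul] at heq
      rw [← hqo]
      refine orderOf_dvd_of_pow_eq_one ?_
      have h3 := Units.ext heq
      calc qu ^ (3 * m) = qu ^ m * (qu ^ m * qu ^ m) := by rw [← pow_add, ← pow_add]; congr 1; omega
        _ = _ := by nth_rewrite 1 [h3]; group
  have hp11 : 11 ≤ p := by
    by_contra h
    have h1 : p = 8 ∨ p = 9 ∨ p = 10 := by omega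
    rcases h1 with rfl | rfl | rfl <;> norm_num at hpr
  have h3 : ∀ s ∈ S, ∃ g ∈ L, g • s = s ∧ 3 ≤ orderOf g := by
    intro s hs
    obtain ⟨g, hg, hgs, hd⟩ := hord s hs
    refine ⟨g, hg, hgs, ?_⟩
    have := Nat.le_of_dvd (Nat.mul_pos (by norm_num) (orderOf_pos_iff.2 ?_)) hd
    · omega
    · exact (isOfFinOrder_of_finite (⟨g, hg⟩ : L)) |> fun h => Submonoid.isOfFinOrder_coe.2 h
  obtain ⟨h5, h4⟩ := DicksonPoints.main L hL S (by omega) h3
  have hle : ∀ s ∈ S, ∃ g ∈ L, g • s = s ∧ p - 1 ∣ 3 * orderOf g ∧ 0 < orderOf g ∧ orderOf g ≤ 5 := by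
    intro s hs
    obtain ⟨g, hg, hgs, hd⟩ := hord s hs
    refine ⟨g, hg, hgs, hd, ?_, h5 g hg⟩
    exact orderOf_pos_iff.2 (Submonoid.isOfFinOrder_coe.2 (isOfFinOrder_of_finite (⟨g, hg⟩ : L)))
  obtain ⟨s₀, hs₀⟩ := Finset.card_pos.1 (show 0 < S.card by omega)
  obtain ⟨g₀, -, -, hd₀, hpos₀, hle₀⟩ := hle s₀ hs₀
  have hp13 : p = 13 := by
    obtain ⟨t, ht⟩ := hd₀
    have ht1 : t = 1 := by
      rcases t with _ | _ | t
      · omega
      · rfl
      · rw [Nat.mul_add, Nat.mul_add] at ht; omega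
    rw [ht1, mul_one] at ht
    have h1 : p = 13 ∨ p = 16 := by omega
    rcases h1 with h | h
    · exact h
    · rw [h] at hpr; norm_num at hpr
  refine ⟨hp13, hS ▸ h4 fun s hs => ?_⟩
  obtain ⟨g, hg, hgs, hd, hpos, hl⟩ := hle s hs
  refine ⟨g, hg, hgs, ?_⟩
  have e : p - 1 = 12 := by omega
  rw [e] at hd
  omega

end Cfsg.Agent.Local.HeisSylow
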