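import Cfsg.Agent.Lib.Local.OrderPFix
import Cfsg.Agent.Lib.Local.QuotientLocal
import Cfsg.Agent.Lib.Local.ClassTwoFactorization

/-!
# Invariant coprime subgroups of a constrained group lie in the core

If `E` is an abelian `p`-subgroup of the `p`-constrained group `X` containing every `p`-element of
its centralizer, and (for `p = 2`) the Sylow 2-subgroups have class at most 2, then every
`E`-invariant subgroup of order prime to `p` lies in `O_{p'}(X)`.
-/

set_option autoImplicit false

namespace Cfsg.Agent.Local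

open Subgroup
open scoped commutatorElement

variable {X : Type*} [Group X] [Finite X]

theorem invariant_le_core {p : ℕ} [Fact p.Prime] (hX : Cfsg.IsPConstrained p X)
    (hcl : p = 2 → ∀ S : Sylow p X, ∀ x ∈ S, ∀ y ∈ S, ∀ z ∈ S, ⁅⁅x, y⁆, z⁆ = (1 : X))
    (E : Subgroup X) (hEp : IsPGroup p E) (hEc : IsMulCommutative E)
    (hfull : ∀ x ∈ centralizer (E : Set X), IsPGroup p (zpowers x) → x ∈ E)
    (Q : Subgroup X) (hQ : ¬ p ∣ Nat.card Q) (hEQ : E ≤ normalizer (Q : Set X)) :
    Q ≤ Cfsg.pPrimeCore p X := by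
  classical
  set O := Cfsg.pPrimeCore p X with hO
  have hOcop : (Nat.card O).Coprime p := Solv.card_pPrimeCore_coprime p X
  set f := QuotientGroup.mk' O with hf
  set P := Cfsg.pCore p (X ⧸ O) with hPdef
  haveI : P.Normal := by
    haveI := Solv.pCore_characteristic p (X ⧸ O)
    infer_instance
  have hPp : IsPGroup p P := Solv.isPGroup_pCore p _
  have hC : centralizer (P : Set (X ⧸ O)) ≤ P := ClassTwo.centralizer_pCore_le_of_isPConstrained hX
  set A := E.map f with hA
  set R := Q.map f with hR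
  have hAp : IsPGroup p A := hEp.map f
  have hRc : (Nat.card R).Coprime p :=
    Nat.Coprime.coprime_dvd_left (card_map_dvd Q f)
      ((Fact.out : p.Prime).coprime_iff_not_dvd.2 hQ).symm
  have hAR : A ≤ normalizer (R : Set (X ⧸ O)) :=
    (map_mono hEQ).trans (le_normalizer_map f)
  have hRP : R ≤ normalizer (P : Set (X ⧸ O)) := by rw [normalizer_eq_top]; exact le_top
  have hAP : A ≤ normalizer (P : Set (X ⧸ O)) := by rw [normalizer_eq_top]; exact le_top
  have hfix : P ⊓ centralizer (A : Set (X ⧸ O)) ≤ centralizer (R : Set (X ⧸ O)) := by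
    rintro y ⟨hyP, hyA⟩
    obtain ⟨k, hk⟩ := hPp ⟨y, hyP⟩
    have hyk : y ^ p ^ k = 1 := congrArg Subtype.val hk
    rw [hA, ← map_centralizer_eq hEp O hOcop] at hyA
    obtain ⟨c, hc, rfl⟩ := hyA
    have hcp : c ^ p ^ k ∈ O := by
      rw [← QuotientGroup.eq_one_iff, QuotientGroup.mk_pow]; exact hyk
    have hu : (c ^ Nat.card O) ^ p ^ k = 1 := by
      rw [← pow_mul, mul_comm, pow_mul]
      exact congrArg Subtype.val (pow_card_eq_one' (x := (⟨c ^ p ^ k, hcp⟩ : O)))
    have huE : c ^ Nat.card O ∈ E := by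
      refine hfull _ (pow_mem hc _) ?_
      rintro ⟨_, i, rfl⟩
      refine ⟨k, Subtype.ext ?_⟩
      show ((c ^ Nat.card O) ^ i) ^ p ^ k = 1
      rw [← zpow_natCast, ← zpow_mul, mul_comm i, zpow_mul, zpow_natCast, hu, one_zpow]
    have hyA' : f c ∈ A := by
      obtain ⟨j, hj⟩ := exists_pow_eq_self_of_coprime (x := f c) (n := Nat.card O)
        ((hOcop.pow_right k).coprime_dvd_right (orderOf_dvd_of_pow_eq_one hyk))
      rw [← hj, ← map_pow]
      exact pow_mem (mem_map_of_mem f huE) j
    intro q hq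
    have h1 : ⁅f c, q⁆ ∈ P := by
      rw [commutatorElement_def, mul_assoc (f c) q, mul_assoc (f c)]
      exact P.mul_mem hyP (Normal.conj_mem inferInstance _ (P.inv_mem hyP) q)
    have h2 : ⁅f c, q⁆ ∈ R := by
      rw [commutatorElement_def]
      exact Subgroup.mul_mem _ ((mem_normalizer_iff.1 (hAR hyA') q).1 hq) (Subgroup.inv_mem _ hq)
    have h3 : ⁅f c, q⁆ ∈ P ⊓ R := ⟨h1, h2⟩
    rw [Solv.inf_eq_bot_of_isPGroup hPp hRc, mem_bot] at h3
    exact (commutatorElement_eq_one_iff_mul_comm.1 h3).symm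
  have hRcent : R ≤ centralizer (P : Set (X ⧸ O)) := by
    rcases eq_or_ne p 2 with hp2 | hp2
    · -- the Sylow 2-subgroups have class at most 2
      have hAcomm : ∀ a ∈ A, ∀ b ∈ A, a * b = b * a := by
        rintro _ ⟨a, ha, rfl⟩ _ ⟨b, hb, rfl⟩
        rw [← map_mul, ← map_mul, show a * b = b * a from
          congrArg Subtype.val (hEc.is_comm.comm (⟨a, ha⟩ : E) ⟨b, hb⟩)]
      have hAcP : A ≤ centralizer ((R ⊓ centralizer (A : Set (X ⧸ O)) : Subgroup (X ⧸ O)) : Set (X ⧸ O)) :=
        fun a ha r hr => (hr.2 a ha).symm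
      have hR0 : R ⊓ centralizer (A : Set (X ⧸ O)) ≤ centralizer (P : Set (X ⧸ O)) :=
        Solv.thompson_pq p A _ P hAp (hRc.coprime_dvd_left (card_dvd_of_le inf_le_left)) hPp hAcP
          hAP (inf_le_left.trans hRP) (hfix.trans (centralizer_le inf_le_left))
      set U := ⁅P, A⁆ with hU
      have hUP : U ≤ P := le_normalizer_iff_commutator_le_left.1 hAP
      have hUA : U ≤ centralizer (A : Set (X ⧸ O)) := by
        obtain ⟨T, hT⟩ := (IsPGroup.to_sup_of_normal_left' hPp hAp hAP).exists_le_sylow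
        obtain ⟨S, rfl⟩ := Sylow.mapSurjective_surjective (QuotientGroup.mk'_surjective O) p T
        rw [hU, commutator_le]
        intro y hy a ha b hb
        obtain ⟨y', hy', rfl⟩ := hT (mem_sup_left hy)
        obtain ⟨a', ha', rfl⟩ := hT (mem_sup_right ha)
        obtain ⟨b', hb', rfl⟩ := hT (mem_sup_right hb)
        have h := congrArg f (hcl hp2 S y' hy' a' ha' b' hb')
        rw [map_commutatorElement, map_commutatorElement, map_one] at h
        exact (commutatorElement_eq_one_iff_mul_comm.1 h).symm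
      have hRU : R ≤ centralizer (U : Set (X ⧸ O)) :=
        le_centralizer_iff.1 ((le_inf hUP hUA).trans hfix)
      have hUn : ∀ g : X ⧸ O, (g ∈ P ∨ g ∈ A) → ∀ u ∈ U, g * u * g⁻¹ ∈ U := by
        intro g hg u hu
        rcases hg with hg | hg
        · exact (mem_normalizer_iff.1 (normalizer_commutator_ge_left P A hg) u).1 hu
        · exact (mem_normalizer_iff.1 (normalizer_commutator_ge_right P A hg) u).1 hu
      set W := ⁅A, R⁆ with hW
      have hWR : W ≤ R := le_normalizer_iff_commutator_le_right.1 hAR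
      have hPn : ∀ g : X ⧸ O, ∀ y ∈ P, g * y * g⁻¹ ∈ P := fun g y hy =>
        Normal.conj_mem inferInstance y hy g
      have hWP : W ≤ centralizer (P : Set (X ⧸ O)) := by
        have hmod : ∀ w ∈ W, ∀ y ∈ P, w * y * w⁻¹ * y⁻¹ ∈ U := by
          intro w hw
          suffices h : w ∈ R ∧ ∀ y ∈ P, w * y * w⁻¹ * y⁻¹ ∈ U from h.2
          rw [hW, Subgroup.commutator_def] at hw
          induction hw using Subgroup.closure_induction with
          | one => exact ⟨one_mem R, fun y _ => by simp⟩
          | mem w hw =>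
            obtain ⟨a, ha, q, hq, rfl⟩ := hw
            refine ⟨hWR (commutator_mem_commutator ha hq), fun y hy => ?_⟩
            set y0 := q⁻¹ * y * q with hy0
            have hy0P : y0 ∈ P := by
              have := hPn q⁻¹ y hy
              rwa [inv_inv, ← hy0] at this
            set u1 := y0⁻¹ * a⁻¹ * y0 * a with hu1
            have hu1U : u1 ∈ U := by
              have := commutator_mem_commutator (inv_mem hy0P) (inv_mem ha)
              rw [commutatorElement_def, inv_inv, inv_inv, ← hu1] at this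
              exact this
            set u2 := a * y * a⁻¹ * y⁻¹ with hu2
            have hu2U : u2 ∈ U := by
              rw [hU, commutator_comm]
              exact commutator_mem_commutator ha hy
            have hqu : q * u1 * q⁻¹ = u1 := by
              rw [(hRU hq u1 hu1U).symm]; group
            have e : ⁅a, q⁆ * y * ⁅a, q⁆⁻¹ * y⁻¹ = u2 * (y * (a * u1 * a⁻¹) * y⁻¹) := by
              calc ⁅a, q⁆ * y * ⁅a, q⁆⁻¹ * y⁻¹
                  = a * q * (a⁻¹ * y0 * a) * q⁻¹ * a⁻¹ * y⁻¹ := by
                    rw [commutatorElement_def, hy0]; group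
                _ = a * (q * y0 * q⁻¹) * (q * u1 * q⁻¹) * a⁻¹ * y⁻¹ := by rw [hu1]; group
                _ = a * y * u1 * a⁻¹ * y⁻¹ := by rw [hqu, hy0]; group
                _ = _ := by rw [hu2]; group
            rw [e]
            exact mul_mem hu2U (hUn y (Or.inl hy) _ (hUn a (Or.inr ha) _ hu1U))
          | mul w z _ _ ihw ihz =>
            refine ⟨mul_mem ihw.1 ihz.1, fun y hy => ?_⟩
            have h1 := ihz.2 y hy
            have e : w * (z * y * z⁻¹ * y⁻¹) * w⁻¹ = z * y * z⁻¹ * y⁻¹ := by
              rw [← hRU ihw.1 _ h1]; group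
            rw [show w * z * y * (w * z)⁻¹ * y⁻¹ =
              (w * (z * y * z⁻¹ * y⁻¹) * w⁻¹) * (w * y * w⁻¹ * y⁻¹) by group, e]
            exact mul_mem h1 (ihw.2 y hy)
          | inv w _ ih =>
            refine ⟨inv_mem ih.1, fun y hy => ?_⟩
            have h1 := ih.2 y hy
            have e : w⁻¹ * (w * y * w⁻¹ * y⁻¹)⁻¹ * w = (w * y * w⁻¹ * y⁻¹)⁻¹ := by
              rw [mul_assoc w⁻¹, hRU ih.1 _ (inv_mem h1), inv_mul_cancel_left]
            rw [show w⁻¹ * y * w⁻¹⁻¹ * y⁻¹ = w⁻¹ * (w * y * w⁻¹ * y⁻¹)⁻¹ * w by group, e]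
            exact inv_mem h1
        have hWc : (Nat.card W).Coprime (Nat.card P) :=
          (Solv.coprime_card_of_isPGroup hPp (hRc.coprime_dvd_left (card_dvd_of_le hWR))).symm
        haveI : Group.IsNilpotent P := hPp.isNilpotent
        have h1 : ⁅P, W⁆ ≤ U := by
          rw [commutator_comm, commutator_le]
          intro w hw y hy
          rw [commutatorElement_def]
          exact hmod w hw y hy
        have h2 : ⁅⁅P, W⁆, W⁆ = ⊥ := le_bot_iff.1 ((commutator_mono h1 le_rfl).trans
          (commutator_eq_bot_iff_le_centralizer.2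
            ((le_inf hUP hUA).trans (hfix.trans (centralizer_le hWR)))).le)
        exact le_centralizer_iff.1 (commutator_eq_bot_iff_le_centralizer.1
          (Solv.commutator_eq_bot_of_commutator_commutator_eq_bot W P (hWR.trans hRP) hWc
            (Or.inr inferInstance) h2))
      calc R = ⁅R, A⁆ ⊔ (R ⊓ centralizer (A : Set (X ⧸ O))) :=
            (Solv.commutator_sup_centralizer A R hAR (Solv.coprime_card_of_isPGroup hAp hRc)
              (Or.inl (by haveI := hAp.isNilpotent; infer_instance))).symm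
        _ ≤ _ := sup_le (by rw [commutator_comm]; exact hWP) hR0
    · refine le_centralizer_iff.1 (centralizes_of_fixed hp2 A R hAp hRc hAR P hPp hAP hRP ?_)
      intro y hyP hyA _
      exact hfix ⟨hyP, hyA⟩
  have hRbot : R = ⊥ := by
    have h : R ≤ P ⊓ R := le_inf (hRcent.trans hC) le_rfl
    rw [Solv.inf_eq_bot_of_isPGroup hPp hRc] at h
    exact le_bot_iff.1 h
  rw [hR, Subgroup.map_eq_bot_iff, QuotientGroup.ker_mk'] at hRbot
  exact hRbot

end Cfsg.Agent.Local
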