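import Cfsg.Agent.Lib.Solv.NormalPComplement
import Cfsg.Agent.Lib.Solv.Misc
import Cfsg.Agent.Lib.Solv.SchurZassenhaus
import Cfsg.Prelude.Def_LocalStructure

/-!
`p`-closed, `p`-irreducible and minimal groups: elementary facts.
-/

set_option autoImplicit false
set_option linter.style.haveILetI false

namespace Cfsg.Agent.Local.Irred

open Subgroup

variable {H : Type*} [Group H] [Finite H] {p : ℕ} [hp : Fact p.Prime]

theorem le_pCore_iff_normal (P : Sylow p H) : (P : Subgroup H).Normal ↔ (P : Subgroup H) ≤ pCore p H := by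
  constructor
  · intro h; exact Solv.le_pCore P.isPGroup'
  · intro h
    rw [le_antisymm h (Solv.pCore_le_sylow P)]
    infer_instance

theorem isPClosed_iff (P : Sylow p H) : IsPClosed p H ↔ (P : Subgroup H).Normal := by
  refine ⟨fun h => h P, fun h Q => ?_⟩
  haveI := Sylow.unique_of_normal P h
  rwa [Subsingleton.elim Q P]

theorem le_pCore_of_isPClosed_normal (N : Subgroup H) [N.Normal] (hN : IsPClosed p N) {Y : Subgroup H}
    (hY : IsPGroup p Y) (hYN : Y ≤ N) : Y ≤ pCore p H := by
  obtain ⟨Q, hQ⟩ := (hY.comap_of_injective N.subtype N.subtype_injective).exists_le_sylow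
  haveI := hN Q
  have hc : (Q : Subgroup N) ≤ pCore p N := Solv.le_pCore Q.isPGroup'
  have h1 : (pCore p N).map N.subtype ≤ pCore p H :=
    Solv.le_pCore ((Solv.isPGroup_pCore p N).map _)
  exact fun y hy => h1 ⟨⟨y, hYN hy⟩, hc (hQ hy), rfl⟩

theorem irreducible_of_strongly (h : IsStronglyPIrreducible p H) : IsPIrreducible p H := by
  refine ⟨h.1, fun N hN hnc => h.2 N hN fun hle => hnc ?_⟩
  intro P
  have hle' : commutator N ≤ pCore p N := by
    haveI : ((pCore p H).comap N.subtype).Normal := Normal.comap inferInstance _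
    refine le_trans ?_ (Solv.le_pCore (N := (pCore p H).comap N.subtype)
      ((Solv.isPGroup_pCore p H).comap_of_injective _ N.subtype_injective))
    rw [← map_le_iff_le_comap, map_subtype_commutator]
    exact le_trans (commutator_mono le_rfl le_top) hle
  exact ⟨fun x hx g => by
    have h1 : g * x * g⁻¹ * x⁻¹ ∈ (P : Subgroup N) :=
      Solv.pCore_le_sylow P (hle' (commutator_mem_commutator (mem_top g) (mem_top x)))
    simpa using mul_mem h1 hx⟩

theorem minimal_sup_or_le {T : Subgroup H} (h : IsMinimalOver T) (N : Subgroup H) :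
    N ⊔ T = ⊤ ∨ ∀ M : Subgroup H, IsCoatom M → T ≤ M → N ≤ M := by
  rcases eq_top_or_exists_le_coatom (N ⊔ T) with h' | ⟨M₀, hM₀, hle⟩
  · exact Or.inl h'
  · exact Or.inr fun M hM hTM => by
      rw [h.2.unique ⟨hM, hTM⟩ ⟨hM₀, le_sup_right.trans hle⟩]
      exact le_sup_left.trans hle

theorem isPGroup_quotient_of_sup (T : Sylow p H) (N : Subgroup H) [N.Normal]
    (h : N ⊔ (T : Subgroup H) = ⊤) : IsPGroup p (H ⧸ N) := by
  have h1 : (T : Subgroup H).map (QuotientGroup.mk' N) = ⊤ := by
    apply comap_injective (QuotientGroup.mk'_surjective N)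
    rw [comap_map_eq, QuotientGroup.ker_mk', sup_comm, h, comap_top]
  have h2 := T.isPGroup'.map (QuotientGroup.mk' N)
  rw [h1] at h2
  exact h2.of_equiv topEquiv

theorem irreducible_of_minimal (T : Sylow p H) (h : IsMinimalOver (T : Subgroup H)) :
    IsPIrreducible p H := by
  obtain ⟨M, ⟨hM, hTM⟩, -⟩ := h.2
  refine ⟨fun hc => ?_, fun N hN hnc => ?_⟩
  · haveI := (isPClosed_iff T).1 hc
    have h1 := h.1
    rw [normalClosure_eq_self] at h1
    exact hM.1 (top_le_iff.1 (h1 ▸ hTM))
  haveI := hN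
  let S : Sylow p N := ((T.isPGroup'.comap_of_injective N.subtype N.subtype_injective)).toSylow
    (Solv.index_sylow_inf_subnormal N (Normal.isSubnormal hN) T)
  have hS : (S : Subgroup N) = (T : Subgroup H).subgroupOf N := rfl
  set S' := (S : Subgroup N).map N.subtype with hS'
  have hfr : normalizer (S' : Set H) ⊔ N = ⊤ := Sylow.normalizer_sup_eq_top S
  have hTS : (T : Subgroup H) ≤ normalizer (S' : Set H) := by
    have : S' = (T : Subgroup H) ⊓ N := by
      rw [hS', hS, subgroupOf_map_subtype]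
    rw [this]
    intro t ht
    rw [mem_normalizer_iff]
    intro x
    simp only [mem_inf]
    constructor
    · rintro ⟨a, b⟩
      exact ⟨mul_mem (mul_mem ht a) (inv_mem ht), hN.conj_mem x b t⟩
    · rintro ⟨a, b⟩
      exact ⟨by simpa [mul_assoc] using mul_mem (mul_mem (inv_mem ht) a) ht,
        by simpa [mul_assoc] using hN.conj_mem _ b t⁻¹⟩
  rcases minimal_sup_or_le h N with h' | h'
  · refine Solv.pResidual_le_of_index N ?_
    obtain ⟨k, hk⟩ := IsPGroup.iff_card.1 (isPGroup_quotient_of_sup T N h')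
    exact ⟨k, hk⟩
  · exfalso
    have hNS : normalizer (S' : Set H) ≠ ⊤ := by
      intro e
      apply hnc
      refine (isPClosed_iff S).2 ⟨fun x hx g => ?_⟩
      have h2 : (g : H) ∈ normalizer (S' : Set H) := e ▸ mem_top _
      obtain ⟨y, hy, e⟩ := (mem_normalizer_iff.1 h2 (x : H)).1 ⟨x, hx, rfl⟩
      have : y = g * x * g⁻¹ := Subtype.ext e
      rw [← this]
      exact hy
    obtain ⟨M₁, hM₁, hle⟩ := (eq_top_or_exists_le_coatom (normalizer (S' : Set H))).resolve_left hNS
    have hN1 := h' M₁ hM₁ (hTS.trans hle)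
    exact hM₁.1 (top_le_iff.1 (hfr ▸ sup_le hle hN1))

theorem minimal_quotient (T : Sylow p H) (h : IsMinimalOver (T : Subgroup H)) (N : Subgroup H) [N.Normal] :
    IsPGroup p (H ⧸ N) ∨ IsMinimalOver ((T : Subgroup H).map (QuotientGroup.mk' N)) := by
  set f := QuotientGroup.mk' N with hf
  rcases minimal_sup_or_le h N with h' | h'
  · exact Or.inl (isPGroup_quotient_of_sup T N h')
  refine Or.inr ⟨?_, ?_⟩
  · rw [coe_map, ← map_normalClosure _ f (QuotientGroup.mk'_surjective N), h.1, ← MonoidHom.range_eq_map]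
    exact MonoidHom.range_eq_top.2 (QuotientGroup.mk'_surjective N)
  obtain ⟨M, ⟨hM, hTM⟩, hu⟩ := h.2
  have hNM : N ≤ M := h' M hM hTM
  have hcm : (M.map f).comap f = M := by
    rw [comap_map_eq, hf, QuotientGroup.ker_mk', sup_eq_left.2 hNM]
  refine ⟨M.map f, ⟨⟨fun e => hM.1 ?_, fun K hK => ?_⟩, map_mono hTM⟩, ?_⟩
  · rw [← hcm, e, comap_top]
  · apply comap_injective (QuotientGroup.mk'_surjective N)
    rw [comap_top]
    refine hM.2 _ ?_
    rw [← hcm]
    exact (comap_lt_comap_of_surjective (QuotientGroup.mk'_surjective N)).2 hK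
  · rintro K ⟨hK, hTK⟩
    have hKc : IsCoatom (K.comap f) := by
      refine ⟨fun e => hK.1 ?_, fun L hL => ?_⟩
      · apply comap_injective (QuotientGroup.mk'_surjective N)
        rw [comap_top]; exact e
      · have hNL : f.ker ≤ L := (ker_le_comap f K).trans hL.le
        have h1 : K < L.map f := by
          have := comap_map_eq_self hNL
          rw [← this] at hL
          exact (comap_lt_comap_of_surjective (QuotientGroup.mk'_surjective N)).1 hL
        rw [← comap_map_eq_self hNL, hK.2 _ h1, comap_top]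
    rw [← hu _ ⟨hKc, map_le_iff_le_comap.1 hTK⟩, map_comap_eq_self_of_surjective (QuotientGroup.mk'_surjective N)]

theorem irreducible_facts (h : IsPIrreducible p H) (T : Sylow p H) :
    normalClosure ((T : Subgroup H) : Set H) = ⊤ ∧ commutator H ⊔ (T : Subgroup H) = ⊤ ∧
      pResidual p H ≤ commutator H ∧
      ∀ Y : Subgroup H, Y ≤ (T : Subgroup H) → (T : Subgroup H) ≤ normalizer (Y : Set H) →
        ¬ Y ≤ pCore p H → ⁅pResidual p H, Y⁆ = pResidual p H ∧
          pResidual p H ≤ normalClosure (Y : Set H) := by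
  have hnc : ∀ Y : Subgroup H, IsPGroup p Y → ¬ Y ≤ pCore p H →
      pResidual p H ≤ normalClosure (Y : Set H) := fun Y hY hn =>
    h.2 _ normalClosure_normal fun hc => hn (le_pCore_of_isPClosed_normal _ hc hY le_normalClosure)
  have hTn : ¬ (T : Subgroup H) ≤ pCore p H := fun e =>
    h.1 ((isPClosed_iff T).2 ((le_pCore_iff_normal T).2 e))
  have h1 : normalClosure ((T : Subgroup H) : Set H) = ⊤ :=
    top_le_iff.1 ((Solv.sup_pResidual_eq_top T).symm.trans_le
      (sup_le le_normalClosure (hnc _ T.isPGroup' hTn)))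
  have h2 : commutator H ⊔ (T : Subgroup H) = ⊤ := by
    haveI : (commutator H ⊔ (T : Subgroup H)).Normal := ⟨fun x hx g => by
      have hc : g * x * g⁻¹ * x⁻¹ ∈ commutator H ⊔ (T : Subgroup H) :=
        mem_sup_left (commutator_mem_commutator (mem_top g) (mem_top x))
      simpa using mul_mem hc hx⟩
    exact top_le_iff.1 (h1.symm.trans_le (normalClosure_le_normal (SetLike.coe_subset_coe.2 le_sup_right)))
  refine ⟨h1, h2, Solv.pResidual_le_of_index _ (IsPGroup.iff_card.1 (isPGroup_quotient_of_sup T _ h2)), ?_⟩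
  intro Y hYT hTY hY
  have hR := hnc Y (T.isPGroup'.to_le hYT) hY
  refine ⟨?_, hR⟩
  set R := pResidual p H
  set W := ⁅R, Y⁆ with hW
  haveI : R.Characteristic := Solv.pResidual_characteristic p H
  haveI hWn : W.Normal := by
    rw [← normalizer_eq_top_iff, ← top_le_iff, ← Solv.sup_pResidual_eq_top T]
    exact sup_le (le_trans (le_inf ((normalizer_eq_top R).symm ▸ le_top) hTY)
      (Solv.normalizer_le_normalizer_commutator R Y)) (normalizer_commutator_ge_left R Y)
  have hWR : W ≤ R := commutator_le_left _ _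
  refine le_antisymm hWR ?_
  set f := QuotientGroup.mk' W
  have hYn : ((Y.map f) : Subgroup (H ⧸ W)).Normal := by
    rw [← normalizer_eq_top_iff, ← top_le_iff, ← map_top_of_surjective f (QuotientGroup.mk'_surjective W),
      ← Solv.sup_pResidual_eq_top T, Subgroup.map_sup]
    refine sup_le ((map_mono hTY).trans (le_normalizer_map f)) ?_
    have : R.map f ≤ centralizer ((Y.map f : Subgroup (H ⧸ W)) : Set (H ⧸ W)) := by
      rw [← commutator_eq_bot_iff_le_centralizer, ← map_commutator, Subgroup.map_eq_bot_iff, QuotientGroup.ker_mk']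
    exact this.trans (centralizer_le_normalizer _)
  have h3 : R.map f ≤ Y.map f :=
    (map_mono hR).trans (by
      rw [map_le_iff_le_comap]
      haveI := hYn
      exact normalClosure_le_normal (le_comap_map f Y))
  intro r hr
  refine closure_le (W) |>.2 ?_ hr
  intro g hg
  have h4 : f g ∈ Y.map f := h3 ⟨g, Solv.mem_pResidual hg, rfl⟩
  obtain ⟨k, hk⟩ := IsPGroup.iff_card.1 ((T.isPGroup'.to_le hYT).map f)
  have h5 : f g = 1 := orderOf_eq_one_iff.1 (Nat.eq_one_of_dvd_coprimes (Nat.Coprime.pow_right k hg)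
    (orderOf_map_dvd f g) (hk ▸ Subgroup.orderOf_dvd_natCard _ h4))
  exact (QuotientGroup.eq_one_iff g).1 h5

end Cfsg.Agent.Local.Irred
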