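import Cfsg.Agent.Lib.Local.Irreducible
import Cfsg.Agent.Lib.Local.CharPBasics

/-!
`p`-irreducibility and quotients by normal `p`-subgroups.
-/

set_option autoImplicit false
set_option linter.style.haveILetI false

namespace Cfsg.Agent.Local.Irred

open Subgroup

variable {H : Type*} [Group H] [Finite H] {p : ℕ} [hp : Fact p.Prime]

theorem isPClosed_map {K : Type*} [Group K] [Finite K] (f : H →* K) (hf : Function.Surjective f)
    (h : IsPClosed p H) : IsPClosed p K := by
  obtain ⟨P⟩ := Sylow.nonempty (p := p) (G := H)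
  rw [isPClosed_iff (P.mapSurjective hf), Sylow.coe_mapSurjective]
  exact Normal.map (h P) f hf

theorem isPClosed_of_ker {K : Type*} [Group K] [Finite K] (f : H →* K) (hf : Function.Surjective f)
    (hker : IsPGroup p f.ker) (h : IsPClosed p K) : IsPClosed p H := by
  obtain ⟨P⟩ := Sylow.nonempty (p := p) (G := H)
  rw [isPClosed_iff P]
  have h1 : f.ker ≤ (P : Subgroup H) := (Solv.le_pCore hker).trans (Solv.pCore_le_sylow P)
  have h2 := h (P.mapSurjective hf)
  rw [Sylow.coe_mapSurjective] at h2
  have h3 := Normal.comap h2 f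
  rwa [comap_map_eq_self h1] at h3

theorem isPClosed_of_le (A B : Subgroup H) (hAB : A ≤ B) (hn : (A.subgroupOf B).Normal) (h : IsPClosed p B) :
    IsPClosed p A := by
  intro P
  obtain ⟨Q, hQ⟩ := (P.isPGroup'.map (inclusion hAB)).exists_le_sylow
  haveI := h Q
  have h1 : ((Q : Subgroup B).comap (inclusion hAB)) = (P : Subgroup A) := by
    refine P.is_maximal' (Q.isPGroup'.comap_of_injective _ (inclusion_injective hAB)) ?_
    exact fun x hx => hQ ⟨x, hx, rfl⟩
  rw [← h1]
  exact Normal.comap inferInstance _

variable (D : Subgroup H) [D.Normal] (hD : IsPGroup p D)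
include hD

theorem isPClosed_quotient : IsPClosed p H ↔ IsPClosed p (H ⧸ D) :=
  ⟨isPClosed_map _ (QuotientGroup.mk'_surjective D),
    isPClosed_of_ker _ (QuotientGroup.mk'_surjective D) (by rwa [QuotientGroup.ker_mk'])⟩

theorem pResidual_le_of_sup {N : Subgroup H} [N.Normal] (h : pResidual p H ≤ N ⊔ D) : pResidual p H ≤ N := by
  rw [pResidual, closure_le]
  intro g hg
  exact CharPB.mem_of_coprime_of_subnormal (B := N) (Normal.isSubnormal inferInstance) hD
    (sup_comm N D ▸ h (Solv.mem_pResidual hg)) hg

theorem pResidual_quotient : pResidual p (H ⧸ D) = (pResidual p H).map (QuotientGroup.mk' D) := by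
  refine le_antisymm ?_ ?_
  · haveI : (pResidual p H).Characteristic := Solv.pResidual_characteristic p H
    haveI : ((pResidual p H).map (QuotientGroup.mk' D)).Normal :=
      Normal.map inferInstance _ (QuotientGroup.mk'_surjective D)
    refine Solv.pResidual_le_of_index _ ?_
    obtain ⟨k, hk⟩ := Solv.exists_pResidual_index (p := p) (G := H)
    obtain ⟨j, -, hj⟩ := (Nat.dvd_prime_pow hp.out).1 (hk ▸ index_map_dvd (pResidual p H) (QuotientGroup.mk'_surjective D))
    exact ⟨j, hj⟩
  · rw [map_le_iff_le_comap, pResidual, closure_le]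
    exact fun g hg => Solv.mem_pResidual (Nat.Coprime.coprime_dvd_left (orderOf_map_dvd _ g) hg)

theorem quotient_iff : (IsPIrreducible p H ↔ IsPIrreducible p (H ⧸ D)) ∧
    (IsStronglyPIrreducible p H ↔ IsStronglyPIrreducible p (H ⧸ D)) := by
  set f := QuotientGroup.mk' D with hf
  have hfs := QuotientGroup.mk'_surjective D
  have hcl := isPClosed_quotient D hD
  have hclN : ∀ N : Subgroup H, N.Normal → (IsPClosed p N ↔ IsPClosed p (N.map f)) := by
    intro N hN
    refine ⟨isPClosed_map _ (f.subgroupMap_surjective N), isPClosed_of_ker _ (f.subgroupMap_surjective N) ?_⟩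
    have hle : (f.subgroupMap N).ker ≤ D.subgroupOf N := fun x hx => by
      have h1 : f x = 1 := congrArg Subtype.val hx
      exact (QuotientGroup.eq_one_iff (N := D) (x : H)).1 h1
    exact (hD.comap_of_injective N.subtype N.subtype_injective).to_le hle
  have hres := pResidual_quotient D hD
  have hDp : D ≤ pCore p H := Solv.le_pCore hD
  have hcore : (pCore p (H ⧸ D)).comap f = pCore p H := by
    refine le_antisymm ?_ ?_
    · haveI : ((pCore p (H ⧸ D)).comap f).Normal := Normal.comap inferInstance _
      exact Solv.le_pCore ((Solv.isPGroup_pCore p _).comap_of_ker_isPGroup _ (by rwa [hf, QuotientGroup.ker_mk']))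
    · rw [← map_le_iff_le_comap]
      exact Solv.map_pCore_le_of_surjective p f hfs
  constructor
  · constructor
    · rintro ⟨h1, h2⟩
      refine ⟨fun h => h1 (hcl.2 h), fun Nq hN hnc => ?_⟩
      haveI := hN
      have h3 := h2 (Nq.comap f) (Normal.comap hN f) (fun h => hnc (by
        have := (hclN (Nq.comap f) (Normal.comap hN f)).1 h
        rwa [map_comap_eq_self_of_surjective hfs] at this))
      rw [hres, map_le_iff_le_comap]
      exact h3
    · rintro ⟨h1, h2⟩
      refine ⟨fun h => h1 (hcl.1 h), fun N hN hnc => ?_⟩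
      haveI := hN
      have h3 := h2 (N.map f) (Normal.map hN f hfs) (fun h => hnc ((hclN N hN).2 h))
      rw [hres, map_le_iff_le_comap, comap_map_eq, QuotientGroup.ker_mk'] at h3
      exact pResidual_le_of_sup D hD h3
  · constructor
    · rintro ⟨h1, h2⟩
      refine ⟨fun h => h1 (hcl.2 h), fun Nq hN hnc => ?_⟩
      haveI := hN
      have h3 := h2 (Nq.comap f) (Normal.comap hN f) (fun h => hnc (by
        have h4 := (map_mono (f := f) h).trans (Solv.map_pCore_le_of_surjective p f hfs)
        rwa [map_commutator, map_comap_eq_self_of_surjective hfs, map_top_of_surjective f hfs] at h4))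
      rw [hres, map_le_iff_le_comap]
      exact h3
    · rintro ⟨h1, h2⟩
      refine ⟨fun h => h1 (hcl.1 h), fun N hN hnc => ?_⟩
      haveI := hN
      have h3 := h2 (N.map f) (Normal.map hN f hfs) (fun h => hnc (by
        rw [← hcore, ← map_le_iff_le_comap, map_commutator, map_top_of_surjective f hfs]
        exact h))
      rw [hres, map_le_iff_le_comap, comap_map_eq, QuotientGroup.ker_mk'] at h3
      exact pResidual_le_of_sup D hD h3

end Cfsg.Agent.Local.Irred
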