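import Cfsg.Agent.Lib.Fusion.Embedded
import Cfsg.Agent.Lib.Local.Rank

/-!
# Subgroups containing the normalizers of the `p`-subgroups of large rank
-/

set_option autoImplicit false

open scoped Pointwise

namespace Cfsg.Agent.Local.KGen

open Cfsg Cfsg.FusionSystem Cfsg.Agent.Fusion

variable {X : Type*} [Group X] {p k : ℕ}

/-- The subgroup has `p`-rank at least `k`. -/
def Big (p k : ℕ) (Q : Subgroup X) : Prop := ¬ PRankLE p (k - 1) Q

theorem Big.mono {Q R : Subgroup X} (h : Big p k Q) (hQR : Q ≤ R) : Big p k R :=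
  fun hR => h (pRankLE_of_injective (Subgroup.inclusion hQR) (Subgroup.inclusion_injective _) hR)

theorem Big.conj {Q : Subgroup X} (h : Big p k Q) (c : X) :
    Big p k (Q.map (MulAut.conj c).toMonoidHom) :=
  fun hR => h (pRankLE_of_injective (Q.equivMapOfInjective _ (MulAut.conj c).injective).toMonoidHom
    (MulEquiv.injective _) hR)

theorem exists_elementary {Q : Subgroup X} (h : Big p k Q) :
    ∃ A : Subgroup X, A ≤ Q ∧ (∀ a ∈ A, a ^ p = 1) ∧ Big p k A := by
  rw [Big, PRankLE] at h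
  push Not at h
  obtain ⟨A, hA, hp, hcard⟩ := h
  refine ⟨A.map Q.subtype, Subgroup.map_subtype_le A, ?_, fun hR => ?_⟩
  · rintro _ ⟨a, ha, rfl⟩
    rw [← map_pow, hp a ha, map_one]
  · haveI := hA
    have := hR ((⊤ : Subgroup ↥(A.map Q.subtype))) inferInstance fun a _ => by
      obtain ⟨b, hb, e⟩ := a.2
      refine Subtype.ext ?_
      rw [SubgroupClass.coe_pow, ← e, ← map_pow, hp b hb, map_one]
      rfl
    rw [Subgroup.card_top,
      ← Nat.card_congr (A.equivMapOfInjective Q.subtype Q.subtype_injective).toEquiv] at this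
    exact absurd this (not_le.2 hcard)

variable [Finite X] [Fact p.Prime]

theorem exists_smul_eq_of_big (T : Sylow p X) {E : Subgroup X}
    (hE : ∀ Q : Subgroup X, Q ≤ (T : Subgroup X) → Big p k Q → Subgroup.normalizer (Q : Set X) ≤ E)
    (T' : Sylow p X) (h : Big p k ((T : Subgroup X) ⊓ T' : Subgroup X)) : ∃ e ∈ E, e • T = T' := by
  induction hn : Nat.card (T : Subgroup X) - Nat.card ((T : Subgroup X) ⊓ T' : Subgroup X)
    using Nat.strong_induction_on generalizing T' with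
  | _ n ih =>
  subst hn
  set D := (T : Subgroup X) ⊓ T' with hD
  by_cases hT : D = T
  · exact ⟨1, one_mem _, by
      rw [one_smul]
      exact Sylow.ext (T.is_maximal' T'.isPGroup' (inf_eq_left.1 hT)).symm⟩
  have h1 : D < (T : Subgroup X) := lt_of_le_of_ne inf_le_left hT
  have h2 : D < (T' : Subgroup X) := by
    refine lt_of_le_of_ne inf_le_right fun h2 => hT ?_
    have := T'.is_maximal' T.isPGroup' (inf_eq_right.1 h2)
    rw [hD, ← this, inf_idem]
  have hA := normalizerIn_self_lt (p := p) T.isPGroup' h1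
  have hB := normalizerIn_self_lt (p := p) T'.isPGroup' h2
  obtain ⟨R, hR⟩ := exists_isMaxP (p := p) (Subgroup.normalizer (D : Set X))
  obtain ⟨a, ha, hAle⟩ := hR.exists_conj_le (inf_le_right : normalizerIn (T : Subgroup X) D ≤ _)
    (T.isPGroup'.to_le inf_le_left)
  obtain ⟨b, hb, hBle⟩ := hR.exists_conj_le (inf_le_right : normalizerIn (T' : Subgroup X) D ≤ _)
    (T'.isPGroup'.to_le inf_le_left)
  obtain ⟨T₁, hT₁⟩ := hR.2.1.exists_le_sylow
  have hlt : ∀ {A : Subgroup X} {T'' : Sylow p X}, D < A → ∀ c : X,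
      A.map (MulAut.conj c).toMonoidHom ≤ (T : Subgroup X) ⊓ T'' →
      Nat.card (T : Subgroup X) - Nat.card ((T : Subgroup X) ⊓ T'' : Subgroup X) <
        Nat.card (T : Subgroup X) - Nat.card D ∧ Big p k ((T : Subgroup X) ⊓ T'' : Subgroup X) := by
    intro A T'' hlt c hc
    have hDA : Nat.card D < Nat.card A := card_lt_of_lt (S := A) le_rfl hlt
    have hAc : Nat.card A ≤ Nat.card ((T : Subgroup X) ⊓ T'' : Subgroup X) := by
      rw [← card_map_conj c A]
      exact Nat.card_le_card_of_injective (Subgroup.inclusion hc) (Subgroup.inclusion_injective _)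
    have hTT : Nat.card ((T : Subgroup X) ⊓ T'' : Subgroup X) ≤ Nat.card (T : Subgroup X) :=
      Nat.card_le_card_of_injective (Subgroup.inclusion inf_le_left) (Subgroup.inclusion_injective _)
    have hD0 : 0 < Nat.card D := Nat.card_pos
    exact ⟨by omega, ((h.mono hlt.le).conj c).mono hc⟩
  -- a Sylow subgroup through `N_T(D)` and a conjugate of `N_{T'}(D)`
  obtain ⟨h3, h4⟩ := hlt (T'' := a⁻¹ • T₁) hA 1 (by
    rintro _ ⟨x, hx, rfl⟩
    simp only [map_one]
    refine ⟨hx.1, ?_⟩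
    show x ∈ a⁻¹ • T₁
    rw [mem_smul_sylow, inv_inv]
    exact hT₁ (hAle ⟨x, hx, rfl⟩))
  obtain ⟨e, he, heq⟩ := ih _ h3 _ h4 rfl
  obtain ⟨h5, h6⟩ := hlt (T'' := (e⁻¹ * (a⁻¹ * b)) • T') hB (e⁻¹ * (a⁻¹ * b)) (by
    rintro _ ⟨x, hx, rfl⟩
    simp only [MulEquiv.coe_toMonoidHom, MulAut.conj_apply]
    refine ⟨?_, ?_⟩
    · have : e⁻¹ * (a⁻¹ * b) * x * (e⁻¹ * (a⁻¹ * b))⁻¹ = e⁻¹ * (a⁻¹ * (b * x * b⁻¹) * a) * e := by
        group
      rw [this]
      have h7 : a⁻¹ * (b * x * b⁻¹) * a ∈ a⁻¹ • T₁ := by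
        rw [mem_smul_sylow]
        have h8 : b * x * b⁻¹ ∈ (T₁ : Subgroup X) := hT₁ (hBle ⟨x, hx, rfl⟩)
        have e9 : a⁻¹⁻¹ * (a⁻¹ * (b * x * b⁻¹) * a) * a⁻¹ = b * x * b⁻¹ := by group
        rw [e9]
        exact h8
      rw [← heq, mem_smul_sylow] at h7
      exact h7
    · show _ ∈ (e⁻¹ * (a⁻¹ * b)) • T'
      rw [mem_smul_sylow]
      have e8 : (e⁻¹ * (a⁻¹ * b))⁻¹ * (e⁻¹ * (a⁻¹ * b) * x * (e⁻¹ * (a⁻¹ * b))⁻¹) *
          (e⁻¹ * (a⁻¹ * b)) = x := by group
      rw [e8]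
      exact hx.1)
  obtain ⟨e', he', heq'⟩ := ih _ h5 _ h6 rfl
  have hDne : Big p k D := h
  have hn : a⁻¹ * b ∈ E := hE D inf_le_left hDne (mul_mem (inv_mem ha) hb)
  refine ⟨(e⁻¹ * (a⁻¹ * b))⁻¹ * e', mul_mem (inv_mem (mul_mem (inv_mem he) hn)) he', ?_⟩
  rw [mul_smul, heq', inv_smul_smul]

theorem exists_sylow_eq {H : Subgroup X} (P : Sylow p H) (hP : ¬ PRankLE p (k - 1) (P : Subgroup H))
    (hΓ : ∀ R : Subgroup X, R ≤ (P : Subgroup H).map H.subtype → Big p k R →
      Subgroup.normalizer (R : Set X) ≤ H) :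
    Big p k ((P : Subgroup H).map H.subtype) ∧
      ∃ T : Sylow p X, (T : Subgroup X) = (P : Subgroup H).map H.subtype := by
  set P' := (P : Subgroup H).map H.subtype with hP'
  have hbig : Big p k P' := fun hR => hP (pRankLE_of_injective
    ((P : Subgroup H).equivMapOfInjective _ H.subtype_injective).toMonoidHom
    (MulEquiv.injective _) hR)
  refine ⟨hbig, ?_⟩
  obtain ⟨T, hT⟩ := (P.isPGroup'.map H.subtype).exists_le_sylow
  refine ⟨T, ?_⟩
  by_contra hne
  have hlt : P' < (T : Subgroup X) := lt_of_le_of_ne hT (Ne.symm hne)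
  have h1 := normalizerIn_self_lt (p := p) T.isPGroup' hlt
  have hW : normalizerIn (T : Subgroup X) P' ≤ H := inf_le_right.trans (hΓ P' le_rfl hbig)
  have h2 : (normalizerIn (T : Subgroup X) P').subgroupOf H = P := P.is_maximal'
    (((T.isPGroup').to_le inf_le_left).of_equiv (Subgroup.subgroupOfEquivOfLe hW).symm)
    (fun y hy => h1.le (Subgroup.mem_map_of_mem _ hy))
  refine h1.ne ?_
  have h3 := congrArg (Subgroup.map H.subtype) h2
  rw [Subgroup.map_subgroupOf_eq_of_le hW] at h3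
  exact h3.symm

theorem gamma_iff {H : Subgroup X} (P : Sylow p H) (hP : ¬ PRankLE p (k - 1) (P : Subgroup H)) :
    (∀ R : Subgroup X, R ≤ (P : Subgroup H).map H.subtype → Big p k R →
      Subgroup.normalizer (R : Set X) ≤ H) ↔
    ∀ g : X, g ∉ H → PRankLE p (k - 1) ↥(H ⊓ H.map (MulAut.conj g).toMonoidHom) := by
  constructor
  · intro hΓ g hg
    by_contra hbad
    obtain ⟨hbig, T, hT⟩ := exists_sylow_eq P hP hΓ
    obtain ⟨A, hAle, hAp, hAbig⟩ := exists_elementary (Q := H ⊓ H.map (MulAut.conj g).toMonoidHom) hbad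
    have hApg : IsPGroup p A := fun a => ⟨1, by rw [pow_one]; exact Subtype.ext (hAp a a.2)⟩
    have hinH : ∀ B : Subgroup X, IsPGroup p B → B ≤ H → ∃ h ∈ H, ∀ b ∈ B, h * b * h⁻¹ ∈ T := by
      intro B hB hBH
      obtain ⟨Q, hQ⟩ := (hB.of_equiv (Subgroup.subgroupOfEquivOfLe hBH).symm).exists_le_sylow
      obtain ⟨c, hc⟩ := MulAction.exists_smul_eq H Q P
      refine ⟨c, c.2, fun b hb => ?_⟩
      show _ ∈ (T : Subgroup X)
      rw [hT]
      have h3 : c * ⟨b, hBH hb⟩ * c⁻¹ ∈ (P : Subgroup H) := by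
        have h4 : c * ⟨b, hBH hb⟩ * c⁻¹ ∈ c • Q := by
          rw [mem_smul_sylow]
          have e : c⁻¹ * (c * ⟨b, hBH hb⟩ * c⁻¹) * c = ⟨b, hBH hb⟩ := by group
          rw [e]
          exact hQ (show (⟨b, hBH hb⟩ : H) ∈ B.subgroupOf H from hb)
        rw [hc] at h4
        exact h4
      exact ⟨_, h3, rfl⟩
    set B := A.map (MulAut.conj g⁻¹).toMonoidHom with hB
    have hBH : B ≤ H := by
      rintro _ ⟨a, ha, rfl⟩
      obtain ⟨h, hh, he⟩ := (hAle ha).2
      show g⁻¹ * a * g⁻¹⁻¹ ∈ H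
      rw [← he]
      simpa [mul_assoc] using hh
    obtain ⟨h1, hh1, e1⟩ := hinH A hApg (hAle.trans inf_le_left)
    obtain ⟨h2, hh2, e2⟩ := hinH B (hApg.map _) hBH
    -- `x` carries a subgroup of `T` of large rank into `T`
    set x := h1 * g * h2⁻¹ with hx
    have hbig2 : Big p k ((T : Subgroup X) ⊓ (x • T : Sylow p X) : Subgroup X) := by
      refine (hAbig.conj h1).mono ?_
      rintro _ ⟨a, ha, rfl⟩
      refine ⟨e1 a ha, ?_⟩
      show h1 * a * h1⁻¹ ∈ x • T
      rw [mem_smul_sylow]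
      have := e2 _ (Subgroup.mem_map_of_mem (MulAut.conj g⁻¹).toMonoidHom ha)
      simpa [hx, mul_assoc] using this
    obtain ⟨e, he, heq⟩ := exists_smul_eq_of_big T (E := H) (fun Q hQ => hΓ Q (hT ▸ hQ)) (x • T) hbig2
    have hxe : x⁻¹ * e ∈ Subgroup.normalizer ((T : Subgroup X) : Set X) :=
      Sylow.smul_eq_iff_mem_normalizer.1 (by rw [mul_smul, heq, inv_smul_smul])
    have hxeH : x⁻¹ * e ∈ H := by
      refine hΓ _ le_rfl hbig ?_
      rw [← hT]
      exact hxe
    have hxH : x ∈ H := by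
      have := mul_mem he (inv_mem hxeH)
      simpa using this
    refine hg ?_
    have := mul_mem (mul_mem (inv_mem hh1) hxH) hh2
    simpa [hx, mul_assoc] using this
  · intro h R hR hbig g hg
    by_contra hgH
    refine (hbig.mono (le_inf (hR.trans (Subgroup.map_subtype_le _)) ?_)) (h g hgH)
    intro r hr
    refine ⟨g⁻¹ * r * g, hR.trans (Subgroup.map_subtype_le _) ?_, ?_⟩
    · simpa using (Subgroup.mem_normalizer_iff.1 (inv_mem hg) r).1 hr
    · show g * (g⁻¹ * r * g) * g⁻¹ = r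
      group

end Cfsg.Agent.Local.KGen
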