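import Cfsg.Agent.Lib.Local.LBalance
import Cfsg.Prelude.Def_KGroupFacts

/-!
# The end of the L-balance induction for an arbitrary prime
-/

set_option autoImplicit false
set_option linter.style.haveILetI false

namespace Cfsg.Agent.Local

open Subgroup
open scoped commutatorElement

variable {G : Type*} [Group G] [Finite G] {p : ℕ} [hp : Fact p.Prime]

omit hp in
/-- The Sylow subgroup of the layer meets a component in a Sylow subgroup. -/
theorem exists_sylow_component [Fact p.Prime] {L : Subgroup G} (hL : IsComponent L)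
    (S : Sylow p ↥(layer G)) :
    ∃ SL : Sylow p ↥L,
      (SL : Subgroup ↥L).map L.subtype = (S : Subgroup ↥(layer G)).map (layer G).subtype ⊓ L := by
  have hLE : L ≤ (layer G) := le_sSup hL
  have hidx : ¬ p ∣ (((S : Subgroup ↥(layer G)).map (layer G).subtype).subgroupOf L).index := by
    intro hd
    refine Solv.index_sylow_inf_subnormal (L.subgroupOf (layer G)) hL.1.subgroupOf S (hd.trans (dvd_of_eq ?_))
    show ((S : Subgroup ↥(layer G)).map (layer G).subtype).relIndex L = (S : Subgroup ↥(layer G)).relIndex (L.subgroupOf (layer G))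
    conv_lhs => rw [show L = (L.subgroupOf (layer G)).map (layer G).subtype from (map_subgroupOf_eq_of_le hLE).symm]
    exact relIndex_map_map_of_injective _ _ (layer G).subtype_injective
  refine ⟨((S.isPGroup'.map (layer G).subtype).comap_of_injective L.subtype L.subtype_injective).toSylow hidx,
    ?_⟩
  show (((S : Subgroup ↥(layer G)).map (layer G).subtype).subgroupOf L).map L.subtype = (S : Subgroup ↥(layer G)).map (layer G).subtype ⊓ L
  rw [subgroupOf_map_subtype]

/-- A perfect subgroup centralizing a Sylow `p`-subgroup of the layer normalizes the components. -/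
theorem le_compNormalizer_of_centralizes_sylow (hO : pPrimeCore p G = ⊥) {W : Subgroup G}
    (S : Sylow p ↥(layer G))
    (hW : W ≤ centralizer (((S : Subgroup ↥(layer G)).map (layer G).subtype : Subgroup G) : Set G)) :
    W ≤ compNormalizer G := by
  refine le_compNormalizer_iff.2 fun L hL w hw => ?_
  refine mem_normalizer_iff_map_conj_eq.2 ?_
  by_contra hne
  obtain ⟨SL, hSL⟩ := exists_sylow_component hL S
  have hz : ¬ (SL : Subgroup ↥L) ≤ center ↥L := fun hle =>
    SL.not_dvd_index ((component_index_center_not_coprime hO hL).trans (index_dvd_of_le hle))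
  obtain ⟨s, hs, hsz⟩ := SetLike.not_le_iff_exists.1 hz
  refine hsz (mem_center_iff.2 fun y => Subtype.ext ?_)
  have hsS : (s : G) ∈ (S : Subgroup ↥(layer G)).map (layer G).subtype :=
    (hSL.le (mem_map_of_mem _ hs)).1
  have hsL' : (s : G) ∈ L.map (MulAut.conj w).toMonoidHom := by
    refine ⟨(s : G), s.2, ?_⟩
    show w * (s : G) * w⁻¹ = s
    rw [← mem_centralizer_iff.1 (hW hw) _ hsS, mul_inv_cancel_right]
  have h := components_commute hL (isComponent_conj hL w) (fun e => hne e.symm)
  rw [commutator_eq_bot_iff_le_centralizer] at h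
  exact (mem_centralizer_iff.1 (h y.2) _ hsL').symm

/-- A perfect group of the invariant is killed by maps into groups with normal `p`-complement. -/
theorem map_eq_one_of_npc {W : Subgroup G} (hWp : ⁅W, W⁆ = W)
    (hWodd : ∀ M : Subgroup G, M ≤ W → (M.subgroupOf W).Normal → (M.relIndex W).Coprime p → M = W)
    {A : Type*} [Group A] [Finite A] (hA : HasNormalPComplement p A) (φ : ↥W →* A) (w : ↥W) :
    φ w = 1 := by
  have hWtop : ⁅(⊤ : Subgroup ↥W), (⊤ : Subgroup ↥W)⁆ = ⊤ := by
    refine map_injective W.subtype_injective ?_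
    rw [map_commutator, ← MonoidHom.range_eq_map, range_subtype]
    exact hWp
  have hWcore : ∀ w, φ w ∈ pPrimeCore p A := by
    obtain ⟨k, hk⟩ := Solv.hasNormalPComplement_iff_index.1 hA
    have hq : IsPGroup p (A ⧸ pPrimeCore p A) := IsPGroup.of_card hk
    haveI := hq.isNilpotent
    set ψ := (QuotientGroup.mk' (pPrimeCore p A)).comp φ with hψ
    have hperf : ⁅ψ.range, ψ.range⁆ = ψ.range := by
      rw [MonoidHom.range_eq_map, ← map_commutator, hWtop]
    have hbot : ψ.range = ⊥ := by
      by_contra hne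
      haveI := (nontrivial_iff_ne_bot _).2 hne
      apply (Group.IsSolvable.commutator_lt_top_of_nontrivial ↥ψ.range).ne
      refine map_injective ψ.range.subtype_injective ?_
      rw [map_subtype_commutator, ← MonoidHom.range_eq_map, range_subtype]
      exact hperf
    intro w
    have : ψ w ∈ (⊥ : Subgroup (A ⧸ pPrimeCore p A)) := hbot ▸ ⟨w, rfl⟩
    exact (QuotientGroup.eq_one_iff _).1 this
  have hodd : φ.ker.index.Coprime p := by
    rw [index_ker]
    exact (Solv.card_pPrimeCore_coprime p A).coprime_dvd_left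
      (card_dvd_of_le (by rintro _ ⟨w, rfl⟩; exact hWcore w))
  have hker : φ.ker.map W.subtype = W := by
    refine hWodd _ (map_subtype_le _) ?_ ?_
    · rw [subgroupOf, comap_map_eq_self_of_injective W.subtype_injective]
      infer_instance
    · rw [relIndex, subgroupOf, comap_map_eq_self_of_injective W.subtype_injective]
      exact hodd
  obtain ⟨v, hv, e⟩ := hker.ge w.2
  rw [← show v = w from Subtype.ext e]
  exact hv

theorem solvable_hom_range_eq_bot {W : Type*} [Group W] (hW : ⁅(⊤ : Subgroup W), (⊤ : Subgroup W)⁆ = ⊤)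
    {A : Type*} [Group A] [Group.IsSolvable A] (ψ : W →* A) : ψ.range = ⊥ := by
  by_contra hne
  haveI := (nontrivial_iff_ne_bot _).2 hne
  apply (Group.IsSolvable.commutator_lt_top_of_nontrivial ↥ψ.range).ne
  refine map_injective ψ.range.subtype_injective ?_
  rw [map_subtype_commutator, ← MonoidHom.range_eq_map, range_subtype, MonoidHom.range_eq_map,
    ← map_commutator, hW]

/-- The centralizer of a Sylow subgroup has a normal complement. -/
theorem npc_centralizer_sylow {X : Type*} [Group X] [Finite X] (S : Sylow p X) :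
    HasNormalPComplement p ↥(centralizer ((S : Subgroup X) : Set X)) := by
  set C := centralizer ((S : Subgroup X) : Set X)
  obtain ⟨T⟩ := Sylow.nonempty (p := p) (G := ↥C)
  refine Solv.hasNormalPComplement_of_burnside T fun c _ => ?_
  rw [mem_centralizer_iff]
  intro t ht
  have hsup : IsPGroup p ↥((S : Subgroup X) ⊔ (T : Subgroup ↥C).map C.subtype : Subgroup X) :=
    S.isPGroup'.to_sup_of_normal_left' (T.isPGroup'.map _)
      ((map_subtype_le _).trans (centralizer_le_normalizer _))
  have htS : (t : X) ∈ (S : Subgroup X) :=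
    (S.is_maximal' hsup le_sup_left).le (mem_sup_right ⟨t, ht, rfl⟩)
  exact Subtype.ext (mem_centralizer_iff.1 c.2 (t : X) htS)

/-- The end of the induction under the Schreier hypothesis on the components. -/
theorem lBalInv_sylow_false_of_schreier (hO : pPrimeCore p G = ⊥)
    (hS : ∀ L : Subgroup G, IsComponent L → Group.IsSolvable (Out (↥L ⧸ center ↥L)))
    {T W : Subgroup G} (S : Sylow p ↥(layer G))
    (h : LBalInv p T ((S : Subgroup ↥(layer G)).map (layer G).subtype) W) : False := by
  obtain ⟨hWc, hWp, -, hWodd, -, -⟩ := id h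
  have hWS : W ≤ centralizer (((S : Subgroup ↥(layer G)).map (layer G).subtype : Subgroup G) : Set G) :=
    hWc.trans (centralizer_le (le_sup_right :
      (S : Subgroup ↥(layer G)).map (layer G).subtype ≤ T ⊔ _))
  have hWn := le_compNormalizer_iff.1 (le_compNormalizer_of_centralizes_sylow hO S hWS)
  refine lBalInv_false_of_centralizes hO h ?_
  rw [le_centralizer_iff]
  refine sSup_le fun L hL => ?_
  rw [← le_centralizer_iff]
  obtain ⟨SL, hSL⟩ := exists_sylow_component hL S
  haveI := hS L hL
  have hZ : (center ↥L).Characteristic := inferInstance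
  set f := QuotientGroup.mk' (center ↥L)
  -- action on the central quotient
  let bar : MulAut ↥L →* MulAut (↥L ⧸ center ↥L) :=
    { toFun := fun a => QuotientGroup.congr (center ↥L) (center ↥L) a
        (characteristic_iff_map_eq.1 hZ a)
      map_one' := by
        ext x
        obtain ⟨y, rfl⟩ := QuotientGroup.mk_surjective x
        rfl
      map_mul' := fun a b => by
        ext x
        obtain ⟨y, rfl⟩ := QuotientGroup.mk_surjective x
        rfl }
  let θ : ↥W →* MulAut (↥L ⧸ center ↥L) :=
    bar.comp (L.normalizerMonoidHom.comp (inclusion (hWn L hL)))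
  have hθ : ∀ (w : ↥W) (y : ↥L), θ w (f y) =
      f ⟨(w : G) * y * (w : G)⁻¹, (mem_normalizer_iff.1 (hWn L hL w.2) y).1 y.2⟩ := fun w y => rfl
  have hinn : ∀ w, θ w ∈ Inn (↥L ⧸ center ↥L) := by
    have hWtop : ⁅(⊤ : Subgroup ↥W), (⊤ : Subgroup ↥W)⁆ = ⊤ := by
      refine map_injective W.subtype_injective ?_
      rw [map_commutator, ← MonoidHom.range_eq_map, range_subtype]
      exact hWp
    intro w
    have h1 := solvable_hom_range_eq_bot hWtop ((QuotientGroup.mk' (Inn (↥L ⧸ center ↥L))).comp θ)
    have : (QuotientGroup.mk' (Inn (↥L ⧸ center ↥L))).comp θ w ∈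
        (⊥ : Subgroup (Out (↥L ⧸ center ↥L))) := h1 ▸ ⟨w, rfl⟩
    exact (QuotientGroup.eq_one_iff _).1 this
  set Sb := SL.mapSurjective (QuotientGroup.mk'_surjective (center ↥L))
  set A := centralizer ((Sb : Subgroup (↥L ⧸ center ↥L)) : Set (↥L ⧸ center ↥L))
  have hB : HasNormalPComplement p ↥(A.map (MulAut.conj : _ →* MulAut (↥L ⧸ center ↥L))) :=
    Solv.hasNormalPComplement_of_surjective
      ((MulAut.conj : _ →* MulAut (↥L ⧸ center ↥L)).subgroupMap A)
      (MonoidHom.subgroupMap_surjective _ _) (npc_centralizer_sylow Sb)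
  have hθB : ∀ w, θ w ∈ A.map (MulAut.conj : _ →* MulAut (↥L ⧸ center ↥L)) := by
    intro w
    obtain ⟨y, hy⟩ := hinn w
    refine ⟨y, ?_, hy⟩
    rw [SetLike.mem_coe, mem_centralizer_iff]
    rintro _ ⟨s, hs, rfl⟩
    have hsS : (s : G) ∈ (S : Subgroup ↥(layer G)).map (layer G).subtype :=
      (hSL.le (mem_map_of_mem _ hs)).1
    have h2 : θ w (f s) = f s := by
      rw [hθ]
      refine congrArg f (Subtype.ext ?_)
      show (w : G) * s * (w : G)⁻¹ = s
      rw [← mem_centralizer_iff.1 (hWS w.2) _ hsS, mul_inv_cancel_right]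
    rw [← hy] at h2
    calc f s * y = y * f s * y⁻¹ * y := by rw [show y * f s * y⁻¹ = f s from h2]
      _ = y * f s := by rw [inv_mul_cancel_right]
  intro w hw
  have h1 : θ ⟨w, hw⟩ = 1 :=
    congrArg Subtype.val (map_eq_one_of_npc hWp hWodd hB (θ.codRestrict _ hθB) ⟨w, hw⟩)
  -- trivial on the central quotient of the perfect group `L`
  set φ := L.normalizerMonoidHom ⟨w, hWn L hL hw⟩
  have hmod : ∀ y : ↥L, φ y * y⁻¹ ∈ center ↥L := by
    intro y
    have h2 := hθ ⟨w, hw⟩ y
    rw [h1] at h2
    rw [← QuotientGroup.eq_one_iff, ← QuotientGroup.mk'_apply, map_mul, map_inv]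
    show f (φ y) * (f y)⁻¹ = 1
    rw [mul_inv_eq_one]
    exact h2.symm
  have hfix : (⊤ : Subgroup ↥L) ≤ φ.toMonoidHom.eqLocus (MonoidHom.id ↥L) := by
    rw [← qs_top_commutator hL.2, commutator_le]
    intro a _ b _
    show φ ⁅a, b⁆ = ⁅a, b⁆
    obtain ⟨za, hza, ea⟩ : ∃ z ∈ center ↥L, φ a = z * a := ⟨_, hmod a, by group⟩
    obtain ⟨zb, hzb, eb⟩ : ∃ z ∈ center ↥L, φ b = z * b := ⟨_, hmod b, by group⟩
    rw [map_commutatorElement, ea, eb, commutatorElement_def, commutatorElement_def, mul_inv_rev,
      mul_inv_rev]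
    have c1 : za * a * (zb * b) = za * zb * (a * b) := by
      rw [mul_assoc za a, ← mul_assoc a zb b, mem_center_iff.1 hzb a]; group
    have c2 : za * zb * (a * b) = a * b * (zb * za) := by
      rw [← mem_center_iff.1 hza zb]
      exact ((mem_center_iff.1 (mul_mem hzb hza) (a * b)).symm)
    calc za * a * (zb * b) * (a⁻¹ * za⁻¹) * (b⁻¹ * zb⁻¹)
        = a * b * (zb * za) * (a⁻¹ * za⁻¹) * (b⁻¹ * zb⁻¹) := by rw [c1, c2]
      _ = a * b * (zb * (za * a⁻¹) * za⁻¹) * (b⁻¹ * zb⁻¹) := by group
      _ = a * b * (zb * (a⁻¹ * za) * za⁻¹) * (b⁻¹ * zb⁻¹) := by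
          rw [mem_center_iff.1 hza a⁻¹]
      _ = a * b * (zb * (a⁻¹ * b⁻¹)) * zb⁻¹ := by group
      _ = a * b * ((a⁻¹ * b⁻¹) * zb) * zb⁻¹ := by rw [mem_center_iff.1 hzb (a⁻¹ * b⁻¹)]
      _ = a * b * a⁻¹ * b⁻¹ := by group
  rw [mem_centralizer_iff]
  intro y hy
  have h3 : w * y * w⁻¹ = y := congrArg Subtype.val (hfix (mem_top (⟨y, hy⟩ : L)))
  calc y * w = w * y * w⁻¹ * w := by rw [h3]
    _ = w * y := inv_mul_cancel_right _ _

/-- `p`-components of `p`-local subgroups normalize the components, when `O_{p'}` is trivial. -/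
theorem pComponent_local_le_compNormalizer (hO : pPrimeCore p G = ⊥) {T : Subgroup G}
    (hT : IsPGroup p T) {K : Subgroup ↥(normalizer (T : Set G))} (hK : IsPComponent p K) :
    K.map (normalizer (T : Set G)).subtype ≤ compNormalizer G := by
  by_cases hKE : K.map (normalizer (T : Set G)).subtype ≤ layer G
  · refine hKE.trans (le_compNormalizer_iff.2 fun L hL => sSup_le fun M hM => ?_)
    rcases eq_or_ne M L with rfl | hne
    · exact le_normalizer
    · exact (commutator_eq_bot_iff_le_centralizer.1 (components_commute hM hL hne)).trans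
        (centralizer_le_normalizer _)
  · obtain ⟨S, W, hW, hWn⟩ := pComponent_local_reduce hO hT hK hKE
    exact hWn (le_compNormalizer_of_centralizes_sylow hO S
      (hW.1.trans (centralizer_le (le_sup_right :
      (S : Subgroup ↥(layer G)).map (layer G).subtype ≤ T ⊔ _))))

/-- L-balance under the Schreier hypothesis for the components modulo `O_{p'}`. -/
theorem lBalance_schreier
    (hS : ∀ K : Subgroup (G ⧸ pPrimeCore p G), IsComponent K →
      Group.IsSolvable (Out (↥K ⧸ center ↥K)))
    {T : Subgroup G} (hT : IsPGroup p T) :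
    (pLayer p ↥(normalizer (T : Set G))).map (normalizer (T : Set G)).subtype ≤ pLayer p G :=
  pLayer_normalizer_le_of
    (fun _ S _ h => lBalInv_sylow_false_of_schreier (Solv.pPrimeCore_quotient_pPrimeCore p) hS S h) hT

end Cfsg.Agent.Local
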