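import Cfsg.Agent.Lib.Local.FStar
import Cfsg.Agent.Lib.Local.PLayer
import Cfsg.Agent.Lib.Solv.Coprime

/-!
Consequences of Thompson's `P × Q` lemma for layers of normalisers of `p`-subgroups.
-/

set_option autoImplicit false
set_option linter.style.haveILetI false

namespace Cfsg.Agent.Local

open Subgroup
open scoped commutatorElement

variable {G : Type*} [Group G] [Finite G] {p : ℕ} [hp : Fact p.Prime]

/-- A group, perfect modulo a `p'`-subgroup, centralising `P` and `C_U(P)`, centralises `U`. -/
theorem le_centralizer_of_pxq {H O P U : Subgroup G} (hH : H ≤ ⁅H, H⁆ ⊔ O)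
    (hOH : O ≤ H) (hO : (Nat.card O).Coprime p) (hP : IsPGroup p P) (hU : IsPGroup p U)
    (hPH : P ≤ centralizer (H : Set G)) (hPU : P ≤ normalizer (U : Set G))
    (hHU : H ≤ normalizer (U : Set G))
    (hC : U ⊓ centralizer (P : Set G) ≤ centralizer (H : Set G)) :
    H ≤ centralizer (U : Set G) := by
  have hsmall : ∀ Q : Subgroup G, Q ≤ H → (Nat.card Q).Coprime p →
      Q ≤ centralizer (U : Set G) := fun Q hQ hc =>
    Solv.thompson_pq p P Q U hP hc hU (hPH.trans (centralizer_le hQ)) hPU (hQ.trans hHU)
      (hC.trans (centralizer_le hQ))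
  set N := (centralizer (U : Set G)).subgroupOf H with hN
  haveI : N.Normal := ⟨fun x hx g => by
    have hg := hHU g.2
    rw [hN, mem_subgroupOf, mem_centralizer_iff] at hx ⊢
    intro u hu
    have h1 := hx _ ((mem_normalizer_iff''.mp hg u).1 hu)
    push_cast
    calc u * ((g : G) * x * (g : G)⁻¹)
        = (g : G) * (((g : G)⁻¹ * u * g) * x) * (g : G)⁻¹ := by group
      _ = (g : G) * (x * ((g : G)⁻¹ * u * g)) * (g : G)⁻¹ := by rw [h1]
      _ = (g : G) * x * (g : G)⁻¹ * u := by group⟩
  have hq : IsPGroup p (H ⧸ N) := by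
    intro q
    obtain ⟨x, rfl⟩ := QuotientGroup.mk'_surjective N q
    obtain ⟨k, m, hm, hkm⟩ : ∃ k m, ¬ p ∣ m ∧ orderOf x = p ^ k * m := by
      obtain ⟨k, m, hm, h⟩ := Nat.exists_eq_pow_mul_and_not_dvd (orderOf_pos x).ne' p hp.out.ne_one
      exact ⟨k, m, hm, h⟩
    refine ⟨k, ?_⟩
    rw [← map_pow]
    refine (QuotientGroup.eq_one_iff _).2 ?_
    refine hsmall (zpowers ((x ^ p ^ k : H) : G)) (zpowers_le.2 (x ^ p ^ k : H).2) ?_
      (mem_zpowers _)
    rw [Nat.card_zpowers, Subgroup.orderOf_coe,
      orderOf_pow' x (pow_pos hp.out.pos k).ne', hkm, Nat.gcd_mul_right_left]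
    · rw [Nat.mul_div_cancel_left _ (pow_pos hp.out.pos k)]
      exact (hp.out.coprime_iff_not_dvd.2 hm).symm
  have hOC : O ≤ centralizer (U : Set G) := hsmall O hOH hO
  suffices hsub : Subsingleton (H ⧸ N) by
    exact subgroupOf_eq_top.1 (QuotientGroup.subsingleton_iff.1 hsub)
  by_contra hns
  rw [not_subsingleton_iff_nontrivial] at hns
  haveI := hq.isNilpotent
  apply (Group.IsSolvable.commutator_lt_top_of_nontrivial (H ⧸ N)).ne
  rw [eq_top_iff]
  have hsup : (⁅H, H⁆ ⊔ O).subgroupOf H = ⊤ := subgroupOf_eq_top.2 hH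
  intro q _
  obtain ⟨x, rfl⟩ := QuotientGroup.mk'_surjective N q
  have hx : (x : G) ∈ (commutator H).map H.subtype ⊔ O := by
    rw [map_subtype_commutator]
    exact hH x.2
  haveI : ((commutator H).map H.subtype).Normal → True := fun _ => trivial
  have key : (commutator H).map H.subtype ⊔ O ≤
      ((commutator (H ⧸ N)).comap (QuotientGroup.mk' N)).map H.subtype := by
    refine sup_le (map_mono ?_) fun o ho => ⟨⟨o, hOH ho⟩, ?_, rfl⟩
    · rw [← map_le_iff_le_comap, commutator_def, map_commutator]
      exact commutator_mono le_top le_top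
    · have : QuotientGroup.mk' N ⟨o, hOH ho⟩ = 1 :=
        (QuotientGroup.eq_one_iff _).2 (hOC ho)
      rw [SetLike.mem_coe, mem_comap, this]
      exact one_mem _
  obtain ⟨y, hy, hyx⟩ := key hx
  rwa [← show y = x from Subtype.ext hyx]

theorem le_centralizer_of_pxq_perfect {H P U : Subgroup G} (hH : ⁅H, H⁆ = H) (hP : IsPGroup p P)
    (hU : IsPGroup p U) (hPH : P ≤ centralizer (H : Set G))
    (hPU : P ≤ normalizer (U : Set G)) (hHU : H ≤ normalizer (U : Set G))
    (hC : U ⊓ centralizer (P : Set G) ≤ centralizer (H : Set G)) :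
    H ≤ centralizer (U : Set G) :=
  le_centralizer_of_pxq (O := ⊥) (by simp [hH]) bot_le (by simp) hP hU hPH hPU hHU hC

theorem le_normalizer_pCore (H : Subgroup G) : H ≤ normalizer (pCore p G : Set G) := by
  haveI := Solv.pCore_characteristic p G
  rw [normalizer_eq_top_iff.2 inferInstance]
  exact le_top

theorem component_ne_isPGroup {K : Subgroup G} (hK : IsComponent K) : ¬ IsPGroup p K := fun h => by
  haveI := h.isNilpotent
  exact qs_not_isSolvable hK.2 inferInstance

/-- `E(N_G(P))` and `O_{p'}(N_G(P))`-type subgroups centralise `O_p(G)`. -/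
theorem le_centralizer_pCore_of_commute {P : Subgroup G} (hP : IsPGroup p P)
    {H O : Subgroup (normalizer (P : Set G))} (hH : H ≤ ⁅H, H⁆ ⊔ O) (hOH : O ≤ H)
    (hO : (Nat.card O).Coprime p)
    (hc : ∀ R : Subgroup (normalizer (P : Set G)), R.Normal → IsPGroup p R → ⁅H, R⁆ = ⊥) :
    H.map (normalizer (P : Set G)).subtype ≤ centralizer (pCore p G : Set G) := by
  have hmap : ∀ {R : Subgroup G}, R ≤ normalizer (P : Set G) → (R.subgroupOf (normalizer (P : Set G))).Normal → IsPGroup p R →
      R ≤ centralizer (H.map (normalizer (P : Set G)).subtype : Set G) := by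
    intro R hR hn hRp
    rw [← map_subgroupOf_eq_of_le hR, ← commutator_eq_bot_iff_le_centralizer, commutator_comm,
      ← map_commutator,
      hc _ hn (hRp.comap_of_injective (normalizer (P : Set G)).subtype (normalizer (P : Set G)).subtype_injective), Subgroup.map_bot]
  haveI : (pCore p G).Normal := by haveI := Solv.pCore_characteristic p G; infer_instance
  refine le_centralizer_of_pxq (O := O.map (normalizer (P : Set G)).subtype) (P := P) ?_ (map_mono hOH)
    (by rw [Solv.card_map_subtype]; exact hO) hP (Solv.isPGroup_pCore p G)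
    (hmap le_normalizer normal_in_normalizer hP) (le_normalizer_pCore _)
    (le_normalizer_pCore _) ?_
  · rw [← map_commutator, ← Subgroup.map_sup]
    exact map_mono hH
  · refine le_trans (le_inf inf_le_left (inf_le_right.trans ?_)) (hmap (R := pCore p G ⊓ normalizer (P : Set G))
      inf_le_right ?_ ((Solv.isPGroup_pCore p G).to_le inf_le_left))
    · exact centralizer_le_normalizer _
    · rw [inf_subgroupOf_right]
      exact normal_subgroupOf

theorem layer_commutator_pGroup (R : Subgroup G) [R.Normal] (hR : IsPGroup p R) :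
    ⁅layer G, R⁆ = ⊥ := by
  rw [commutator_eq_bot_iff_le_centralizer]
  exact layer_le_centralizer_fitting.trans
    (centralizer_le ((Solv.le_pCore hR).trans (Solv.pCore_le_fittingSubgroup p)))

/-- `E(N_G(P)) ≤ C(O_p(G))`. -/
theorem layer_normalizer_le_centralizer {P : Subgroup G} (hP : IsPGroup p P) :
    (layer (normalizer (P : Set G))).map (normalizer (P : Set G)).subtype ≤
      centralizer (pCore p G : Set G) :=
  le_centralizer_pCore_of_commute hP (O := ⊥) (by rw [layer_commutator]; exact le_sup_left)
    bot_le (by simp) fun R hR hRp => by haveI := hR; exact layer_commutator_pGroup R hRp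

/-- `F*(G) = O_p(G)` passes to normalisers of `p`-subgroups. -/
theorem fstar_normalizer_eq_pCore (h : generalizedFittingSubgroup G = pCore p G) {P : Subgroup G}
    (hP : IsPGroup p P) :
    generalizedFittingSubgroup (normalizer (P : Set G)) = pCore p (normalizer (P : Set G)) := by
  set N := normalizer (P : Set G)
  have hC : centralizer (pCore p G : Set G) ≤ pCore p G := by
    have := centralizer_generalizedFitting_le (G := G)
    rwa [h] at this
  have hN' : ∀ R : Subgroup N, R.map N.subtype ≤ centralizer (pCore p G : Set G) →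
      IsPGroup p R := fun R hR => by
    have h1 : IsPGroup p (R.map N.subtype) := (Solv.isPGroup_pCore p G).to_le (hR.trans hC)
    exact h1.of_equiv (R.equivMapOfInjective _ N.subtype_injective).symm
  have hlayer : layer N = ⊥ := by
    rw [eq_bot_iff]
    refine sSup_le fun K hK => ?_
    exfalso
    exact component_ne_isPGroup hK (hN' K
      ((map_mono (le_sSup hK)).trans (layer_normalizer_le_centralizer hP)))
  have hcore : pPrimeCore p N = ⊥ := by
    have hc := Solv.card_pPrimeCore_coprime p N
    have h1 : IsPGroup p (pPrimeCore p N) := hN' _ <| le_centralizer_pCore_of_commute hP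
      (O := pPrimeCore p N) le_sup_right le_rfl hc fun R hR hRp => by
        haveI := hR
        rw [← le_bot_iff]
        exact (commutator_le_inf _ _).trans
          (Solv.inf_eq_bot_of_isPGroup hRp hc |> fun e => by rw [inf_comm]; exact e.le)
    exact (Solv.inf_eq_bot_of_isPGroup h1 hc) ▸ (inf_idem _).symm
  rw [generalizedFittingSubgroup, hlayer, bot_sup_eq, Solv.fittingSubgroup_eq_pCore hcore]

end Cfsg.Agent.Local
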