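import Cfsg.Agent.Lib.Classical.SL2
import Cfsg.Prelude.Def_LocalEven

/-!
Coordinates for a faithful natural two dimensional module, adapted to a Sylow subgroup.
-/

set_option autoImplicit false
set_option linter.style.haveILetI false

namespace Cfsg.Agent.Local.NatSL2

open Matrix Cfsg.Agent.Classical

variable {G : Type*} [Group G] {F : Type*} [Field F]

/-- The data attached to a natural module, with the distinguished subgroup unitriangular. -/
structure Coord (F : Type*) [Field F] (V L T : Subgroup G) where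
  R : L →* GL (Fin 2) F
  c : Additive V ≃+ (Fin 2 → F)
  det_eq : ∀ l, ((R l : GL (Fin 2) F) : Matrix (Fin 2) (Fin 2) F).det = 1
  surj : ∀ M : Matrix (Fin 2) (Fin 2) F, M.det = 1 → ∃ l, ((R l : GL (Fin 2) F) : Matrix (Fin 2) (Fin 2) F) = M
  inj : Function.Injective R
  act : ∀ (l : L) (v : V), ∃ w : V, (w : G) = (l : G) * (v : G) * (l : G)⁻¹ ∧
    c (Additive.ofMul w) = ((R l : GL (Fin 2) F) : Matrix (Fin 2) (Fin 2) F) *ᵥ c (Additive.ofMul v)
  le_L : T ≤ L
  mem_T : ∀ l : L, (l : G) ∈ T ↔ ((R l : GL (Fin 2) F) : Matrix (Fin 2) (Fin 2) F) 0 0 = 1 ∧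
    ((R l : GL (Fin 2) F) : Matrix (Fin 2) (Fin 2) F) 1 0 = 0 ∧ ((R l : GL (Fin 2) F) : Matrix (Fin 2) (Fin 2) F) 1 1 = 1

theorem charP_of_card [Fintype F] {p : ℕ} [Fact p.Prime] {n : ℕ} (hF : Fintype.card F = p ^ n) :
    CharP F p ∧ 0 < n := by
  haveI := CharP.exists F
  obtain ⟨q, hq⟩ := this
  haveI := hq
  obtain ⟨m, hqp, hm⟩ := FiniteField.card F q
  have hn : 0 < n := by
    rcases n with _ | n
    · exact absurd (hF.trans (pow_zero p)) (Fintype.one_lt_card (α := F)).ne'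
    · exact n.succ_pos
  have h1 : p ∣ q ^ (m : ℕ) := by rw [← hm, hF]; exact dvd_pow_self p hn.ne'
  have := (Nat.prime_dvd_prime_iff_eq (Fact.out : p.Prime) hqp).1 ((Fact.out : p.Prime).dvd_of_dvd_pow h1)
  exact ⟨this ▸ hq, hn⟩

theorem exists_coord [Finite G] [Fintype F] {p : ℕ} [Fact p.Prime] {n : ℕ} (hF : Fintype.card F = p ^ n)
    (V L : Subgroup G) (hnat : IsNaturalSL2Module F V L) (hf : L ⊓ Subgroup.centralizer (V : Set G) = ⊥)
    (S : Sylow p L) (T : Subgroup G) (hT : T = (S : Subgroup L).map L.subtype) :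
    Nonempty (Coord F V L T) := by
  classical
  haveI := (charP_of_card hF).1
  obtain ⟨-, ρ, ψ, hs, hker, hact⟩ := hnat
  have hinj : Function.Injective ρ := by
    rw [← MonoidHom.ker_eq_bot_iff, hker, Subgroup.eq_bot_iff_forall]
    exact fun l hl => Subtype.ext (Subgroup.mem_bot.1 ((eq_bot_iff.1 hf) ⟨l.2, hl⟩))
  let j : L →* GL (Fin 2) F := SpecialLinearGroup.toGL.comp ρ
  have hj : Function.Injective j := fun a b h => hinj (Subtype.ext (congrArg (fun u : GL (Fin 2) F => (u : Matrix (Fin 2) (Fin 2) F)) h))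
  obtain ⟨Q, hQ⟩ := (S.isPGroup'.map j).exists_le_sylow
  obtain ⟨g, hg⟩ := SL2.exists_conj_sylow p Q
  let R : L →* GL (Fin 2) F := (MulAut.conj g⁻¹).toMonoidHom.comp j
  have hR : ∀ l, ((R l : GL (Fin 2) F) : Matrix (Fin 2) (Fin 2) F) =
      ((g⁻¹ : GL (Fin 2) F) : Matrix (Fin 2) (Fin 2) F) * (ρ l : Matrix (Fin 2) (Fin 2) F) * (g : Matrix (Fin 2) (Fin 2) F) := fun l => by
    show (((g⁻¹ * j l * (g⁻¹)⁻¹ : GL (Fin 2) F)) : Matrix (Fin 2) (Fin 2) F) = _
    rw [inv_inv, GeneralLinearGroup.coe_mul, GeneralLinearGroup.coe_mul]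
    rfl
  have hgd : ((g⁻¹ : GL (Fin 2) F) : Matrix (Fin 2) (Fin 2) F).det * (g : Matrix (Fin 2) (Fin 2) F).det = 1 := by
    rw [← det_mul, ← GeneralLinearGroup.coe_mul, inv_mul_cancel, Units.val_one, det_one]
  let e : (Fin 2 → F) ≃+ (Fin 2 → F) :=
    { toFun := fun v => ((g⁻¹ : GL (Fin 2) F) : Matrix (Fin 2) (Fin 2) F) *ᵥ v
      invFun := fun v => (g : Matrix (Fin 2) (Fin 2) F) *ᵥ v
      left_inv := fun v => by
        show _ *ᵥ (_ *ᵥ v) = v
        rw [mulVec_mulVec, ← GeneralLinearGroup.coe_mul, mul_inv_cancel, Units.val_one, one_mulVec]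
      right_inv := fun v => by
        show _ *ᵥ (_ *ᵥ v) = v
        rw [mulVec_mulVec, ← GeneralLinearGroup.coe_mul, inv_mul_cancel, Units.val_one, one_mulVec]
      map_add' := fun v w => mulVec_add _ v w }
  refine ⟨⟨R, ψ.trans e, fun l => ?_, fun M hM => ?_, (MulAut.conj g⁻¹).injective.comp hj, fun l v => ?_,
    hT ▸ Subgroup.map_subtype_le _, fun l => ?_⟩⟩
  · rw [hR, det_mul, det_mul, (ρ l).2, mul_one, hgd]
  · obtain ⟨l, hl⟩ := hs ⟨(g : Matrix (Fin 2) (Fin 2) F) * M * ((g⁻¹ : GL (Fin 2) F) : Matrix (Fin 2) (Fin 2) F), by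
      rw [det_mul, det_mul, hM, mul_one, mul_comm, hgd]⟩
    refine ⟨l, ?_⟩
    rw [hR, hl]
    simp only [← mul_assoc]
    rw [← GeneralLinearGroup.coe_mul, inv_mul_cancel, Units.val_one, one_mul, mul_assoc,
      ← GeneralLinearGroup.coe_mul, inv_mul_cancel, Units.val_one, mul_one]
  · obtain ⟨w, hw, hw'⟩ := hact l v
    refine ⟨w, hw, ?_⟩
    show _ *ᵥ ψ (Additive.ofMul w) = _ *ᵥ (_ *ᵥ ψ (Additive.ofMul v))
    rw [hw', hR, mulVec_mulVec, mulVec_mulVec]
    congr 1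
    rw [mul_assoc _ (g : Matrix (Fin 2) (Fin 2) F), ← GeneralLinearGroup.coe_mul, mul_inv_cancel, Units.val_one, mul_one]
  · rw [← SL2.mem_U_iff]
    have h2 : (Q : Subgroup (GL (Fin 2) F)).comap j = S :=
      S.is_maximal' (Q.isPGroup'.comap_of_injective j hj) fun s hs' => hQ ⟨s, hs', rfl⟩
    have h3 : (l : G) ∈ T ↔ l ∈ (S : Subgroup L) := by
      rw [hT]
      exact ⟨fun ⟨x, hx, hxl⟩ => Subtype.ext hxl ▸ hx, fun h => ⟨l, h, rfl⟩⟩
    rw [h3, ← h2, Subgroup.mem_comap, hg]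
    constructor
    · rintro ⟨u, hu, e'⟩
      have e'' : g * u * g⁻¹ = j l := e'
      show g⁻¹ * j l * (g⁻¹)⁻¹ ∈ SL2.U F
      rw [← e'']
      simpa [mul_assoc] using hu
    · intro h
      refine ⟨R l, h, ?_⟩
      show g * (g⁻¹ * j l * (g⁻¹)⁻¹) * g⁻¹ = j l
      group

variable {V L T : Subgroup G} (C : Coord F V L T)

/-- The matrix of an element. -/
noncomputable def Coord.m (l : L) : Matrix (Fin 2) (Fin 2) F := ((C.R l : GL (Fin 2) F) : Matrix (Fin 2) (Fin 2) F)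

/-- The coordinates of an element of `V`. -/
noncomputable def Coord.vec (v : V) : Fin 2 → F := C.c (Additive.ofMul v)

theorem Coord.vec_inj {v w : V} (h : C.vec v = C.vec w) : v = w :=
  Additive.ofMul.injective (C.c.injective h)

theorem Coord.vec_mul (v w : V) : C.vec (v * w) = C.vec v + C.vec w := C.c.map_add _ _

theorem Coord.vec_one : C.vec 1 = 0 := C.c.map_zero

theorem Coord.vec_inv (v : V) : C.vec v⁻¹ = -C.vec v := C.c.map_neg _

theorem Coord.exists_vec (f : Fin 2 → F) : ∃ v : V, C.vec v = f :=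
  ⟨Additive.toMul (C.c.symm f), C.c.apply_symm_apply f⟩

theorem Coord.m_mul (a b : L) : C.m (a * b) = C.m a * C.m b := by
  simp [Coord.m, map_mul]

include C in
theorem Coord.comm (v w : V) : (v : G) * w = w * v :=
  congrArg Subtype.val (C.vec_inj (by rw [C.vec_mul, C.vec_mul, add_comm]) : v * w = w * v)

include C in
theorem Coord.conj_mem (l : L) (v : V) : (l : G) * v * (l : G)⁻¹ ∈ V := by
  obtain ⟨w, hw, -⟩ := C.act l v
  exact hw ▸ w.2

theorem Coord.vec_conj (l : L) (v : V) :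
    C.vec ⟨(l : G) * v * (l : G)⁻¹, C.conj_mem l v⟩ = C.m l *ᵥ C.vec v := by
  obtain ⟨w, hw, h⟩ := C.act l v
  rw [show (⟨(l : G) * v * (l : G)⁻¹, C.conj_mem l v⟩ : V) = w from Subtype.ext hw.symm]
  exact h

theorem Coord.commute_iff (l : L) (v : V) : (l : G) * v = v * l ↔ C.m l *ᵥ C.vec v = C.vec v := by
  rw [← C.vec_conj]
  constructor
  · intro h; congr 1; exact Subtype.ext (by show (l : G) * v * (l : G)⁻¹ = v; rw [h, mul_inv_cancel_right])
  · intro h; exact mul_inv_eq_iff_eq_mul.1 (congrArg Subtype.val (C.vec_inj h))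

/-- Members of the distinguished subgroup. -/
theorem Coord.exists_mem_T (b : F) : ∃ l : L, (l : G) ∈ T ∧ C.m l = !![1, b; 0, 1] := by
  obtain ⟨l, hl⟩ := C.surj !![1, b; 0, 1] (by simp [det_fin_two_of])
  exact ⟨l, (C.mem_T l).2 (by rw [hl]; simp), hl⟩

theorem Coord.T_form (l : L) (h : (l : G) ∈ T) : C.m l = !![1, C.m l 0 1; 0, 1] := by
  obtain ⟨h1, h2, h3⟩ := (C.mem_T l).1 h
  apply SL2.coord <;> simp [Coord.m, h1, h2, h3]

/-- The fixed points of the distinguished subgroup. -/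
theorem Coord.mem_fixed_iff (v : V) : (v : G) ∈ Subgroup.centralizer (T : Set G) ↔ C.vec v 1 = 0 := by
  rw [Subgroup.mem_centralizer_iff]
  constructor
  · intro h
    obtain ⟨l, hl, hm⟩ := C.exists_mem_T 1
    have := congrFun ((C.commute_iff l v).1 (h _ hl)) 0
    rw [hm] at this
    simpa [mulVec, dotProduct, Fin.sum_univ_two] using this
  · intro h t ht
    refine (C.commute_iff ⟨t, C.le_L ht⟩ v).2 ?_
    rw [C.T_form _ ht]
    funext i
    fin_cases i <;> simp [mulVec, dotProduct, Fin.sum_univ_two, h]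

/-- The commutator with a member of the distinguished subgroup. -/
theorem Coord.exists_comm (l : L) (hl : (l : G) ∈ T) (v : V) :
    ∃ w : V, (w : G) = v * l * (v : G)⁻¹ * (l : G)⁻¹ ∧ C.vec w = ![-(C.m l 0 1 * C.vec v 1), 0] := by
  refine ⟨v * ⟨(l : G) * ((v⁻¹ : V) : G) * (l : G)⁻¹, C.conj_mem l v⁻¹⟩, ?_, ?_⟩
  · show (v : G) * ((l : G) * (v : G)⁻¹ * (l : G)⁻¹) = _
    group
  · rw [C.vec_mul, C.vec_conj, C.vec_inv]
    conv_lhs => rw [C.T_form l hl]
    funext i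
    fin_cases i
    · simp [mulVec, dotProduct, Fin.sum_univ_two]
    · simp [mulVec, dotProduct, Fin.sum_univ_two]

end Cfsg.Agent.Local.NatSL2
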