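import Mathlib

/-!
# Field elements `a` with `a` and `2 - a` both of norm one
-/

set_option autoImplicit false

namespace Cfsg.Agent.Local.NormPair

open Finset

/-- A multiplicative subgroup meets its translate in about the expected number of points. -/
theorem translate_bound {F : Type*} [Field F] [Fintype F] [DecidableEq F] (H : Finset F)
    (h0 : ∀ x ∈ H, x ≠ 0) (hmul : ∀ x ∈ H, ∀ y ∈ H, x * y ∈ H) (hne : H.Nonempty) (c : F) (hc : c ≠ 0) :
    (H.card : ℝ) ^ 2 - Fintype.card F * Real.sqrt (Fintype.card F) ≤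
      Fintype.card F * (H.filter fun x => c - x ∈ H).card := by
  classical
  set P := Fintype.card F with hP
  set A := H.card with hA
  have hA0 : 0 < A := Finset.card_pos.2 hne
  let S : AddChar F ℂ → ℂ := fun ψ => ∑ x ∈ H, ψ x
  have himg : ∀ a ∈ H, H.image (a * ·) = H := by
    intro a ha
    refine Finset.eq_of_subset_of_card_le (fun y hy => ?_) ?_
    · obtain ⟨x, hx, rfl⟩ := Finset.mem_image.1 hy
      exact hmul a ha x hx
    · rw [Finset.card_image_of_injective _ (mul_right_injective₀ (h0 a ha))]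
  have hS : ∀ a ∈ H, ∀ ψ, S (AddChar.mulShift ψ a) = S ψ := by
    intro a ha ψ
    show ∑ x ∈ H, AddChar.mulShift ψ a x = ∑ x ∈ H, ψ x
    conv_rhs => rw [← himg a ha]
    rw [Finset.sum_image fun x _ y _ => mul_left_cancel₀ (h0 a ha)]
    rfl
  -- second moment
  have hsq : ∑ ψ : AddChar F ℂ, ‖S ψ‖ ^ 2 = (P : ℝ) * A := by
    have h : ∑ ψ : AddChar F ℂ, S ψ * (starRingEnd ℂ) (S ψ) = (P : ℂ) * A := by
      simp only [S, map_sum, ← AddChar.map_neg_eq_conj, Finset.sum_mul_sum, ← AddChar.map_add_eq_mul]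
      rw [Finset.sum_comm]
      simp_rw [Finset.sum_comm (s := (Finset.univ : Finset (AddChar F ℂ))), AddChar.sum_apply_eq_ite]
      have hxy : ∀ x y : F, (x + -y = 0) = (x = y) := fun x y => by
        rw [← sub_eq_add_neg, sub_eq_zero]
      simp only [hxy, Finset.sum_ite_eq]
      rw [Finset.sum_congr rfl fun x hx => if_pos hx, Finset.sum_const, nsmul_eq_mul, mul_comm]
    have h' := congrArg Complex.re h
    simp only [Complex.mul_conj', Complex.re_sum, ← Complex.ofReal_pow, Complex.ofReal_re] at h'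
    simpa using h'
  have hmax : ∀ ψ : AddChar F ℂ, ψ ≠ 1 → ‖S ψ‖ ≤ Real.sqrt P := by
    intro ψ hψ
    have hinj := AddChar.to_mulShift_inj_of_isPrimitive (AddChar.IsPrimitive.of_ne_one hψ)
    have h1 : ∑ χ ∈ H.image (AddChar.mulShift ψ), ‖S χ‖ ^ 2 = (A : ℝ) * ‖S ψ‖ ^ 2 := by
      rw [Finset.sum_image fun x _ y _ e => hinj e,
        Finset.sum_congr rfl fun x hx => by rw [hS x hx ψ], Finset.sum_const, nsmul_eq_mul]
    have h2 : (A : ℝ) * ‖S ψ‖ ^ 2 ≤ P * A := by
      rw [← h1, ← hsq]
      exact Finset.sum_le_univ_sum_of_nonneg fun χ => sq_nonneg _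
    have h3 : ‖S ψ‖ ^ 2 ≤ P := by
      rw [mul_comm (P : ℝ)] at h2
      exact le_of_mul_le_mul_left h2 (by exact_mod_cast hA0)
    exact Real.le_sqrt_of_sq_le h3
  -- counting
  have hN : ∑ ψ : AddChar F ℂ, S ψ ^ 2 * ψ (-c) =
      (P : ℂ) * (H.filter fun x => c - x ∈ H).card := by
    simp only [S, sq, Finset.sum_mul_sum]
    simp only [Finset.sum_mul, ← AddChar.map_add_eq_mul]
    rw [Finset.sum_comm]
    simp_rw [Finset.sum_comm (s := (Finset.univ : Finset (AddChar F ℂ))), AddChar.sum_apply_eq_ite]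
    have hxy : ∀ x y : F, (x + y + -c = 0) = (c - x = y) := fun x y => by
      refine propext ⟨fun e => ?_, fun e => ?_⟩ <;> linear_combination -e
    simp only [hxy, Finset.sum_ite_eq]
    rw [← Finset.sum_filter, Finset.sum_const, nsmul_eq_mul, mul_comm]
  have hT : ∑ ψ : AddChar F ℂ, S ψ ^ 2 * S (AddChar.mulShift ψ (-c)) =
      (A : ℂ) * ((P : ℂ) * (H.filter fun x => c - x ∈ H).card) := by
    have hh : ∀ a ∈ H, ∑ ψ : AddChar F ℂ, S ψ ^ 2 * ψ (-c * a) =
        (P : ℂ) * (H.filter fun x => c - x ∈ H).card := by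
      intro a ha
      rw [← hN]
      let e : AddChar F ℂ ≃ AddChar F ℂ :=
        { toFun := fun ψ => AddChar.mulShift ψ a
          invFun := fun ψ => AddChar.mulShift ψ a⁻¹
          left_inv := fun ψ => by
            ext x; simp [AddChar.mulShift_apply, ← mul_assoc, mul_inv_cancel₀ (h0 a ha)]
          right_inv := fun ψ => by
            ext x; simp [AddChar.mulShift_apply, ← mul_assoc, inv_mul_cancel₀ (h0 a ha)] }
      refine (Fintype.sum_equiv e _ _ fun ψ => ?_)
      show _ = S (AddChar.mulShift ψ a) ^ 2 * (AddChar.mulShift ψ a) (-c)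
      rw [hS a ha, AddChar.mulShift_apply, mul_comm a]
    calc ∑ ψ : AddChar F ℂ, S ψ ^ 2 * S (AddChar.mulShift ψ (-c))
        = ∑ ψ : AddChar F ℂ, ∑ a ∈ H, S ψ ^ 2 * ψ (-c * a) := by
          refine Finset.sum_congr rfl fun ψ _ => ?_
          show S ψ ^ 2 * ∑ a ∈ H, AddChar.mulShift ψ (-c) a = _
          rw [Finset.mul_sum]
          rfl
      _ = ∑ a ∈ H, ∑ ψ : AddChar F ℂ, S ψ ^ 2 * ψ (-c * a) := Finset.sum_comm
      _ = _ := by rw [Finset.sum_congr rfl hh, Finset.sum_const, nsmul_eq_mul]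
  have hsplit := (Finset.add_sum_erase Finset.univ
    (fun ψ : AddChar F ℂ => S ψ ^ 2 * S (AddChar.mulShift ψ (-c))) (Finset.mem_univ 1)).trans hT
  have hS1 : S 1 = (A : ℂ) := by simp [S, hA]
  have hs1 : AddChar.mulShift (1 : AddChar F ℂ) (-c) = 1 := by ext x; simp [AddChar.mulShift_apply]
  simp only [hs1, hS1] at hsplit
  have herr : ‖∑ ψ ∈ Finset.univ.erase (1 : AddChar F ℂ), S ψ ^ 2 * S (AddChar.mulShift ψ (-c))‖ ≤
      Real.sqrt P * (P * A) := by
    refine (norm_sum_le _ _).trans ?_
    rw [← hsq, Finset.mul_sum]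
    refine (Finset.sum_le_sum fun ψ hψ => ?_).trans
      (Finset.sum_le_univ_sum_of_nonneg fun χ => mul_nonneg (Real.sqrt_nonneg _) (sq_nonneg _))
    rw [norm_mul, norm_pow, mul_comm (Real.sqrt (P : ℝ))]
    refine mul_le_mul_of_nonneg_left (hmax _ fun e => ?_) (sq_nonneg _)
    exact (Finset.mem_erase.1 hψ).1
      (AddChar.to_mulShift_inj_of_isPrimitive
        (ψ := ψ) (AddChar.IsPrimitive.of_ne_one (Finset.mem_erase.1 hψ).1)
        (a₁ := -c) (a₂ := 0) (by rw [e, AddChar.mulShift_zero]) |> fun h => absurd h (neg_ne_zero.2 hc))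
  set E := ∑ ψ ∈ Finset.univ.erase (1 : AddChar F ℂ), S ψ ^ 2 * S (AddChar.mulShift ψ (-c))
  have hre := congrArg Complex.re hsplit
  simp only [Complex.add_re, ← Nat.cast_pow, ← Nat.cast_mul, Complex.natCast_re] at hre
  push_cast at hre
  have hE := (Complex.abs_re_le_norm E).trans herr
  rw [abs_le] at hE
  have hA' : (0 : ℝ) < A := by exact_mod_cast hA0
  refine le_of_mul_le_mul_left ?_ hA'
  nlinarith [hE.1, hE.2, hre]

theorem ncard_five {p q : ℕ} [Fact p.Prime] [Fact q.Prime] (hp : p ≠ 2) (hq : 5 ≤ q) :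
    2 ≤ Set.ncard {a : GaloisField p q | Algebra.norm (ZMod p) a = 1 ∧ Algebra.norm (ZMod p) (2 - a) = 1} := by
  classical
  letI : Fintype (GaloisField p q) := Fintype.ofFinite _
  have hp1 := (Fact.out : p.Prime).one_lt
  have hp3 : 3 ≤ p := by omega
  have hP : Fintype.card (GaloisField p q) = p ^ q := by
    rw [← Nat.card_eq_fintype_card]; exact GaloisField.card p q (by omega)
  let H : Finset (GaloisField p q) := Finset.univ.filter fun a => Algebra.norm (ZMod p) a = 1
  have h2 : (2 : GaloisField p q) ≠ 0 := by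
    intro h
    have h' : ((2 : ℕ) : GaloisField p q) = 0 := by exact_mod_cast h
    rw [CharP.cast_eq_zero_iff _ p] at h'
    have := Nat.le_of_dvd two_pos h'
    omega
  have hb := translate_bound H (fun x hx e => by simp [H, e] at hx)
    (fun x hx y hy => by simp [H] at hx hy ⊢; simp [hx, hy]) ⟨1, by simp [H]⟩ 2 h2
  have hset : {a : GaloisField p q | Algebra.norm (ZMod p) a = 1 ∧ Algebra.norm (ZMod p) (2 - a) = 1}
      = ↑(H.filter fun x => 2 - x ∈ H) := by
    ext a; simp [H]
  rw [hset, Set.ncard_coe_finset]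
  -- lower bound for the norm one group
  have hA : p ^ (q - 1) ≤ H.card := by
    let f : (GaloisField p q)ˣ →* (ZMod p)ˣ := Units.map (Algebra.norm (ZMod p))
    have hk : Nat.card f.ker ≤ H.card := by
      rw [← Fintype.card_coe, ← Nat.card_eq_fintype_card]
      refine Nat.card_le_card_of_injective
        (fun u : f.ker => (⟨((u : (GaloisField p q)ˣ) : GaloisField p q), ?_⟩ : ↥H)) ?_
      · have h := congrArg Units.val (MonoidHom.mem_ker.1 u.2)
        simpa [H, f] using h
      · intro u v huv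
        exact Subtype.ext (Units.ext (congrArg Subtype.val huv))
    have h := Subgroup.card_mul_index f.ker
    rw [Subgroup.index_ker, Nat.card_units, GaloisField.card p q (by omega)] at h
    have hr : Nat.card f.range ≤ p - 1 := by
      refine (Subgroup.card_le_card_group _).trans ?_
      rw [Nat.card_units, Nat.card_zmod]
    have h3 : p ^ q - 1 ≤ H.card * (p - 1) := by
      rw [← h]; exact Nat.mul_le_mul hk hr
    have h4 : p ^ q = p ^ (q - 1) * p := by rw [← pow_succ, Nat.sub_add_cancel (by omega)]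
    refine Nat.le_of_mul_le_mul_right (le_trans ?_ h3) (show 0 < p - 1 by omega)
    rw [Nat.mul_sub, mul_one, h4]
    have : 1 ≤ p ^ (q - 1) := Nat.one_le_pow _ _ (by omega)
    omega
  by_contra hN
  have hN1 : ((H.filter fun x => 2 - x ∈ H).card : ℝ) ≤ 1 := by
    have : (H.filter fun x => 2 - x ∈ H).card ≤ 1 := by omega
    exact_mod_cast this
  rw [hP] at hb
  push_cast at hb
  set x : ℝ := (p : ℝ) ^ (q - 2)
  set s : ℝ := Real.sqrt ((p : ℝ) ^ q) with hs
  have hpR : (3 : ℝ) ≤ p := by exact_mod_cast hp3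
  have hx27 : (27 : ℝ) ≤ x :=
    calc (27 : ℝ) = 3 ^ 3 := by norm_num
      _ ≤ (p : ℝ) ^ 3 := pow_le_pow_left₀ (by norm_num) hpR 3
      _ ≤ (p : ℝ) ^ (q - 2) := pow_le_pow_right₀ (by linarith) (by omega)
  have hPpos : (0 : ℝ) < (p : ℝ) ^ q := by positivity
  have hA2 : (p : ℝ) ^ q * x ≤ (H.card : ℝ) ^ 2 := by
    have h1 : ((p : ℝ) ^ (q - 1)) ^ 2 ≤ (H.card : ℝ) ^ 2 :=
      pow_le_pow_left₀ (by positivity) (by exact_mod_cast hA) 2
    refine le_trans (le_of_eq ?_) h1
    rw [← pow_add, ← pow_mul]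
    congr 1
    omega
  have hxs : x ≤ 1 + s := by
    refine le_of_mul_le_mul_left ?_ hPpos
    nlinarith [hb, hA2, hN1]
  have hs2 : s ^ 2 = (p : ℝ) ^ q := Real.sq_sqrt hPpos.le
  have hBsq : 3 * (p : ℝ) ^ q ≤ x ^ 2 := by
    rw [← pow_mul]
    refine le_trans (mul_le_mul_of_nonneg_right hpR hPpos.le) ?_
    rw [← pow_succ']
    exact pow_le_pow_right₀ (by linarith) (by omega)
  have hs0 : 0 ≤ s := Real.sqrt_nonneg _
  nlinarith [hxs, hx27, hBsq, hs2]

open Polynomial in
theorem ncard_three {p : ℕ} [Fact p.Prime] [Fact (Nat.Prime 3)] (hp : p ≠ 2) :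
    2 ≤ Set.ncard {a : GaloisField p 3 | Algebra.norm (ZMod p) a = 1 ∧ Algebra.norm (ZMod p) (2 - a) = 1} := by
  classical
  have hp1 := (Fact.out : p.Prime).one_lt
  have h2 : (2 : ZMod p) ≠ 0 := by
    intro h
    have h' : ((2 : ℕ) : ZMod p) = 0 := by exact_mod_cast h
    rw [CharP.cast_eq_zero_iff _ p] at h'
    have := Nat.le_of_dvd two_pos h'
    omega
  -- the bad constants
  let g : ZMod p → ZMod p := fun x => x + (x - 1) / (x * (x - 2))
  let bad : Finset (ZMod p) := ((Finset.univ : Finset (ZMod p)) \ {0, 2}).image g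
  have hbad : bad.card + 2 ≤ p := by
    have h1 : bad.card ≤ p - 2 := by
      refine Finset.card_image_le.trans ?_
      rw [Finset.card_sdiff_of_subset (Finset.subset_univ _), Finset.card_univ, ZMod.card,
        Finset.card_pair h2.symm]
    omega
  have hgood : 2 ≤ (Finset.univ \ bad).card := by
    rw [Finset.card_sdiff_of_subset (Finset.subset_univ _), Finset.card_univ, ZMod.card]; omega
  obtain ⟨c₁, hc₁, c₂, hc₂, hne⟩ := Finset.one_lt_card.1 (show 1 < (Finset.univ \ bad).card by omega)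
  have main : ∀ c : ZMod p, c ∈ Finset.univ \ bad → ∃ a : GaloisField p 3,
      Algebra.norm (ZMod p) a = 1 ∧ Algebra.norm (ZMod p) (2 - a) = 1 ∧
      a * (a - 2) * (a - algebraMap (ZMod p) _ c) + a - 1 = 0 := by
    intro c hc
    let f : (ZMod p)[X] := (X * (X - C 2) * (X - C c)) + (X - C 1)
    have hev : ∀ x, f.eval x = x * (x - 2) * (x - c) + (x - 1) := fun x => by simp [f]
    have hmon : f.Monic := by
      refine Monic.add_of_left ((monic_X.mul (monic_X_sub_C _)).mul (monic_X_sub_C _)) ?_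
      rw [degree_mul, degree_mul, degree_X, degree_X_sub_C, degree_X_sub_C, degree_X_sub_C]
      decide
    have hdeg : f.natDegree = 3 := by
      have : f.degree = 3 := by
        rw [degree_add_eq_left_of_degree_lt (by
          rw [degree_mul, degree_mul, degree_X, degree_X_sub_C, degree_X_sub_C, degree_X_sub_C]
          decide), degree_mul, degree_mul, degree_X, degree_X_sub_C, degree_X_sub_C]
        rfl
      exact natDegree_eq_of_degree_eq_some this
    have hroots : ∀ x, ¬ f.IsRoot x := by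
      intro x hx
      rw [IsRoot.def, hev] at hx
      have hx0 : x ≠ 0 := fun e => by subst e; simp at hx
      have hx2 : x ≠ 2 := fun e => by
        subst e
        exact one_ne_zero (α := ZMod p) (by linear_combination hx)
      refine (Finset.mem_sdiff.1 hc).2 (Finset.mem_image.2 ⟨x, ?_, ?_⟩)
      · simp [hx0, hx2]
      · show x + (x - 1) / (x * (x - 2)) = c
        rw [← eq_sub_iff_add_eq', div_eq_iff (mul_ne_zero hx0 (sub_ne_zero.2 hx2))]
        linear_combination hx
    haveI : Fact (Irreducible f) :=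
      ⟨irreducible_of_degree_le_three_of_not_isRoot (by rw [hdeg]; simp) hroots⟩
    let pb := AdjoinRoot.powerBasis hmon.ne_zero
    haveI : Module.Finite (ZMod p) (AdjoinRoot f) := pb.finite
    haveI : Finite (AdjoinRoot f) := Module.finite_of_finite (ZMod p)
    letI : Fintype (AdjoinRoot f) := Fintype.ofFinite _
    letI : Fintype (GaloisField p 3) := Fintype.ofFinite _
    have hcard : Fintype.card (AdjoinRoot f) = Fintype.card (GaloisField p 3) := by
      rw [← Nat.card_eq_fintype_card, ← Nat.card_eq_fintype_card, GaloisField.card p 3 (by norm_num),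
        Module.natCard_eq_pow_finrank (K := ZMod p), pb.finrank, AdjoinRoot.powerBasis_dim, hdeg,
        Nat.card_zmod]
    let e : AdjoinRoot f ≃ₐ[ZMod p] GaloisField p 3 := FiniteField.algEquivOfCardEq p (by simpa using hcard)
    have hnorm : ∀ x : ZMod p,
        Algebra.norm (ZMod p) (algebraMap _ (GaloisField p 3) x - e (AdjoinRoot.root f)) = f.eval x := by
      intro x
      rw [← e.commutes, ← map_sub, Algebra.norm_eq_of_algEquiv, Algebra.norm_eq_matrix_det pb.basis,
        map_sub, AlgHom.commutes]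
      have h1 := charpoly_leftMulMatrix pb
      have h2 : minpoly (ZMod p) pb.gen = f := by
        show minpoly (ZMod p) (AdjoinRoot.root f) = f
        rw [AdjoinRoot.minpoly_root hmon.ne_zero, hmon.leadingCoeff, inv_one, C_1, mul_one]
      have h3 := congrArg (eval x) (h1.trans h2)
      rw [Matrix.eval_charpoly] at h3
      exact h3
    refine ⟨e (AdjoinRoot.root f), ?_, ?_, ?_⟩
    · have h0 := hnorm 0
      rw [map_zero, zero_sub, hev] at h0
      have h1 : e (AdjoinRoot.root f) = algebraMap _ _ (-1 : ZMod p) * -e (AdjoinRoot.root f) := by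
        simp
      rw [h1, map_mul, Algebra.norm_algebraMap, h0, GaloisField.finrank p (by norm_num)]
      ring
    · have h0 := hnorm 2
      rw [map_ofNat, hev] at h0
      rw [h0]; ring
    · have h0 : Polynomial.aeval (e (AdjoinRoot.root f)) f = 0 := by
        rw [Polynomial.aeval_algHom_apply e, AdjoinRoot.aeval_eq, AdjoinRoot.mk_self, map_zero]
      simp [f, map_ofNat] at h0
      linear_combination h0
  obtain ⟨a₁, hN₁, hM₁, he₁⟩ := main c₁ hc₁
  obtain ⟨a₂, hN₂, hM₂, he₂⟩ := main c₂ hc₂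
  have ha : a₁ ≠ a₂ := by
    rintro rfl
    have h : a₁ * (a₁ - 2) * (algebraMap (ZMod p) (GaloisField p 3) c₂ - algebraMap _ _ c₁) = 0 := by
      linear_combination he₁ - he₂
    rcases mul_eq_zero.1 h with h | h
    · rcases mul_eq_zero.1 h with h | h
      · rw [h, Algebra.norm_zero] at hN₁; exact zero_ne_one hN₁
      · rw [show (2 : GaloisField p 3) - a₁ = 0 by linear_combination -h, Algebra.norm_zero] at hM₁
        exact zero_ne_one hM₁
    · exact hne ((algebraMap (ZMod p) (GaloisField p 3)).injective (sub_eq_zero.1 h)).symm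
  rw [← Set.ncard_pair ha]
  exact Set.ncard_le_ncard (by rintro x (rfl | rfl) <;> exact ⟨by assumption, by assumption⟩) (Set.toFinite _)

theorem ncard_ge (p q : ℕ) [Fact p.Prime] [Fact q.Prime] (hp : p ≠ 2) (hq : q ≠ 2) :
    2 ≤ Set.ncard {a : GaloisField p q | Algebra.norm (ZMod p) a = 1 ∧ Algebra.norm (ZMod p) (2 - a) = 1} := by
  rcases eq_or_ne q 3 with rfl | h3
  · exact ncard_three hp
  · refine ncard_five hp ?_
    have h := (Fact.out : q.Prime)
    have := h.two_le
    by_contra h5
    interval_cases q <;> norm_num at *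

end Cfsg.Agent.Local.NormPair
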