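import Cfsg.Agent.Lib.Local.StronglyPEmbedded
import Cfsg.Agent.Lib.Inv.SylowIn
import Cfsg.Prelude.Def_Balance

/-!
# Strongly `p`-embedded subgroups and `1`-connectedness
-/

set_option autoImplicit false
set_option linter.style.haveILetI false

namespace Cfsg.Agent.Local.OneConn

open Subgroup

variable {G : Type*} [Group G] {p : ℕ} [hp : Fact p.Prime]

/-- A vertex of the commuting graph. -/
def Vertex (p : ℕ) (E : Subgroup G) : Prop := IsElementaryAbelian p E ∧ p ^ 1 ≤ Nat.card E

/-- An edge of the commuting graph. -/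
def Adj (p : ℕ) (A B : Subgroup G) : Prop :=
  IsElementaryAbelian p A ∧ p ^ 1 ≤ Nat.card A ∧ IsElementaryAbelian p B ∧ p ^ 1 ≤ Nat.card B ∧
    ∀ a ∈ A, ∀ b ∈ B, a * b = b * a

theorem vertex_zpowers {x : G} (hx : orderOf x = p) : Vertex p (zpowers x) := by
  refine ⟨⟨inferInstance, ?_⟩, ?_⟩
  · rintro _ ⟨i, rfl⟩
    show (x ^ i) ^ p = 1
    rw [← zpow_natCast, ← zpow_mul, mul_comm, zpow_mul, zpow_natCast, ← hx, pow_orderOf_eq_one,
      one_zpow]
  · rw [Nat.card_zpowers, hx, pow_one]

theorem adj_conj (g : G) {A B : Subgroup G} (h : Adj p A B) :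
    Adj p (A.map (MulAut.conj g).toMonoidHom) (B.map (MulAut.conj g).toMonoidHom) := by
  obtain ⟨h1, h2, h3, h4, h5⟩ := h
  have hel : ∀ C : Subgroup G, IsElementaryAbelian p C →
      IsElementaryAbelian p (C.map (MulAut.conj g).toMonoidHom) := fun C hC => by
    haveI := hC.1
    refine ⟨inferInstance, ?_⟩
    rintro _ ⟨c, hc, rfl⟩
    rw [← map_pow, hC.2 c hc, map_one]
  have hcard : ∀ C : Subgroup G, Nat.card (C.map (MulAut.conj g).toMonoidHom) = Nat.card C :=
    fun C => (Nat.card_congr (C.equivMapOfInjective _ (MulAut.conj g).injective).toEquiv).symm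
  refine ⟨hel A h1, (hcard A).symm ▸ h2, hel B h3, (hcard B).symm ▸ h4, ?_⟩
  rintro _ ⟨a, ha, rfl⟩ _ ⟨b, hb, rfl⟩
  rw [← map_mul, h5 a ha b hb, map_mul]

theorem adj_symm {A B : Subgroup G} (h : Adj p A B) : Adj p B A :=
  ⟨h.2.2.1, h.2.2.2.1, h.1, h.2.1, fun b hb a ha => (h.2.2.2.2 a ha b hb).symm⟩

theorem adj_zpowers {x y : G} (hx : orderOf x = p) (hy : orderOf y = p) (h : x * y = y * x) :
    Adj p (zpowers x) (zpowers y) := by
  refine ⟨(vertex_zpowers hx).1, (vertex_zpowers hx).2, (vertex_zpowers hy).1,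
    (vertex_zpowers hy).2, ?_⟩
  rintro _ ⟨i, rfl⟩ _ ⟨j, rfl⟩
  exact ((show Commute x y from h).zpow_zpow i j).eq

theorem exists_mem_orderOf {E : Subgroup G} [Finite G] (h : Vertex p E) :
    ∃ e ∈ E, orderOf e = p ∧ Adj p E (zpowers e) := by
  have h1 : 1 < Nat.card E := lt_of_lt_of_le (by rw [pow_one]; exact hp.out.one_lt) h.2
  haveI := Finite.one_lt_card_iff_nontrivial.1 h1
  obtain ⟨e, he⟩ := exists_ne (1 : E)
  have ho : orderOf (e : G) = p :=
    orderOf_eq_prime (h.1.2 e e.2) fun e1 => he (Subtype.ext e1)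
  refine ⟨e, e.2, ho, h.1, h.2, (vertex_zpowers ho).1, (vertex_zpowers ho).2, ?_⟩
  haveI := h.1.1
  intro a ha b hb
  exact congrArg Subtype.val (mul_comm' (⟨a, ha⟩ : E) ⟨b, (zpowers_le.2 e.2) hb⟩)

variable [Finite G]

theorem iff_not_connected :
    (∃ H : Subgroup G, H ≠ ⊤ ∧ p ∣ Nat.card H ∧ SPE.Hyp p H) ↔ ¬ IsKConnected p 1 G := by
  constructor
  · rintro ⟨H, hH, hpH, h⟩ hconn
    obtain ⟨x, hx⟩ := exists_prime_orderOf_dvd_card' (G := H) p hpH
    have hxo : orderOf (x : G) = p := (orderOf_coe x).trans hx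
    obtain ⟨g, -, hg⟩ := SetLike.exists_of_lt hH.lt_top
    have hgo : orderOf (g * (x : G) * g⁻¹) = p := ((MulAut.conj g).orderOf_eq (x : G)).trans hxo
    have hxy := hconn _ _ (vertex_zpowers hxo).1 (vertex_zpowers hxo).2 (vertex_zpowers hgo).1
      (vertex_zpowers hgo).2
    have key : ∀ B, Relation.ReflTransGen (Adj p) (zpowers (x : G)) B → B ≤ H := by
      intro B hB
      induction hB with
      | refl => exact zpowers_le.2 x.2
      | @tail A B _ hbc ih =>
        obtain ⟨h1, h2, h3, h4, h5⟩ := hbc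
        have hAp : IsPGroup p A := fun a => ⟨1, by rw [pow_one]; exact Subtype.ext (h1.2 a a.2)⟩
        have hA1 : A ≠ ⊥ := fun e => by
          rw [e, card_bot, pow_one] at h2
          exact absurd h2 (not_le.2 hp.out.one_lt)
        intro b hb
        refine SPE.mem_of_conj_le h hAp hA1 ih (g := b) ?_
        rintro _ ⟨a, ha, rfl⟩
        show b * a * b⁻¹ ∈ H
        rw [← h5 a ha b hb, mul_inv_cancel_right]
        exact ih ha
    refine hg (SPE.mem_of_conj_le h (IsPGroup.of_card (n := 1) (by rw [Nat.card_zpowers, hxo, pow_one]))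
      (fun e => hp.out.ne_one (by rw [← hxo, orderOf_eq_one_iff]; exact zpowers_eq_bot.1 e))
      (zpowers_le.2 x.2) ?_)
    rw [MonoidHom.map_zpowers]
    exact key _ hxy
  · intro hnc
    obtain ⟨S⟩ := Sylow.nonempty (p := p) (G := G)
    have hpG : p ∣ Nat.card G := by
      by_contra h
      refine hnc fun E E' hE hEc _ _ => ?_
      obtain ⟨e, -, he, -⟩ := exists_mem_orderOf (p := p) ⟨hE, hEc⟩
      exact absurd (he ▸ orderOf_dvd_natCard e) h
    haveI : Nontrivial (S : Subgroup G) := (nontrivial_iff_ne_bot _).2 (S.ne_bot_of_dvd_card hpG)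
    haveI := S.isPGroup'.center_nontrivial
    obtain ⟨k, hk⟩ := (S.isPGroup'.to_subgroup (center (S : Subgroup G))).exists_card_eq
    have hk0 : k ≠ 0 := fun e => by
      rw [e, pow_zero] at hk
      exact (Finite.one_lt_card (α := center (S : Subgroup G))).ne' hk
    obtain ⟨z, hz⟩ := exists_prime_orderOf_dvd_card' (G := center (S : Subgroup G)) p
      (hk ▸ dvd_pow_self p hk0)
    set x : G := ((z : (S : Subgroup G)) : G) with hxdef
    have hx : orderOf x = p := by rw [hxdef, orderOf_coe, orderOf_coe, hz]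
    have hxc : ∀ s ∈ (S : Subgroup G), s * x = x * s := fun s hs =>
      congrArg Subtype.val (mem_center_iff.1 z.2 ⟨s, hs⟩)
    let R : Subgroup G → Subgroup G → Prop := Relation.ReflTransGen (Adj p)
    have hsymm : ∀ A B, R A B → R B A := fun A B hab => by
      induction hab with
      | refl => exact Relation.ReflTransGen.refl
      | tail _ hbc ih => exact Relation.ReflTransGen.head (adj_symm hbc) ih
    have hconj : ∀ (g : G) A B, R A B →
        R (A.map (MulAut.conj g).toMonoidHom) (B.map (MulAut.conj g).toMonoidHom) := fun g A B hab => by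
      induction hab with
      | refl => exact Relation.ReflTransGen.refl
      | tail _ hbc ih => exact ih.tail (adj_conj g hbc)
    have hmm : ∀ (a b : G) (A : Subgroup G), A.map (MulAut.conj (a * b)).toMonoidHom =
        (A.map (MulAut.conj b).toMonoidHom).map (MulAut.conj a).toMonoidHom := fun a b A => by
      rw [map_map, map_mul]; rfl
    have hone : ∀ A : Subgroup G, A.map (MulAut.conj (1 : G)).toMonoidHom = A := fun A => by
      ext y; simp
    set E0 := zpowers x with hE0
    let H : Subgroup G :=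
      { carrier := {g | R E0 (E0.map (MulAut.conj g).toMonoidHom)}
        one_mem' := by show R E0 _; rw [hone]
        mul_mem' := fun {a b} ha hb => by
          show R E0 _
          rw [hmm]
          exact ha.trans (hconj a _ _ hb)
        inv_mem' := fun {a} ha => by
          show R E0 _
          have := hconj a⁻¹ _ _ (hsymm _ _ ha)
          rwa [← hmm, inv_mul_cancel, hone] at this }
    have hSH : (S : Subgroup G) ≤ H := fun s hs => by
      show R E0 _
      rw [hE0, MonoidHom.map_zpowers]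
      rw [show (MulAut.conj s).toMonoidHom x = x from mul_inv_eq_iff_eq_mul.2 (hxc s hs)]
    have hxH : x ∈ H := hSH (z : (S : Subgroup G)).2
    have hreach : ∀ y ∈ H, orderOf y = p → R E0 (zpowers y) := by
      intro y hy hyo
      obtain ⟨h, hh, hle⟩ := Inv.exists_le_smul_sylow (P := S) (R := zpowers y)
        (IsPGroup.of_card (n := 1) (by rw [Nat.card_zpowers, hyo, pow_one])) (zpowers_le.2 hy) hSH
      have hy' : h⁻¹ * y * h ∈ (S : Subgroup G) := Inv.mem_smul_sylow.1 (hle (mem_zpowers y))
      have ho : orderOf (h⁻¹ * y * h) = p := by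
        have e := (MulAut.conj h⁻¹).orderOf_eq y
        rw [MulAut.conj_apply, inv_inv] at e
        exact e.trans hyo
      have h1 := hconj h _ _ (Relation.ReflTransGen.single (adj_zpowers hx ho (hxc _ hy').symm))
      rw [MonoidHom.map_zpowers (MulAut.conj h).toMonoidHom (h⁻¹ * y * h)] at h1
      rw [show (MulAut.conj h).toMonoidHom (h⁻¹ * y * h) = y from by
        show h * (h⁻¹ * y * h) * h⁻¹ = y
        group] at h1
      exact Relation.ReflTransGen.trans (hh : R E0 _) h1
    refine ⟨H, fun e => hnc ?_, ?_, fun g hg hdvd => hg ?_⟩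
    · have hall : ∀ E, IsElementaryAbelian p E → p ^ 1 ≤ Nat.card E → R E0 E := by
        intro E hE hEc
        obtain ⟨y, -, hyo, hadj⟩ := exists_mem_orderOf (p := p) ⟨hE, hEc⟩
        exact (hreach y (e ▸ mem_top y) hyo).tail (adj_symm hadj)
      exact fun E E' hE hEc hE' hE'c => (hsymm _ _ (hall E hE hEc)).trans (hall E' hE' hE'c)
    · rw [← hx]
      exact H.orderOf_dvd_natCard hxH
    · obtain ⟨w, hw⟩ := exists_prime_orderOf_dvd_card' p hdvd
      have hyo' : orderOf (w : G) = p := (orderOf_coe w).trans hw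
      obtain ⟨hy1, y', hy', hyy⟩ := w.2
      generalize (w : G) = y at hyo' hy1 hyy
      have hy'o : orderOf y' = p := by
        rw [← (MulAut.conj g).orderOf_eq y']
        exact (congrArg orderOf hyy).trans hyo'
      have h2 := hconj g _ _ (hreach y' hy' hy'o)
      rw [MonoidHom.map_zpowers (MulAut.conj g).toMonoidHom y', hyy] at h2
      exact (hreach y hy1 hyo').trans (hsymm _ _ h2)

end Cfsg.Agent.Local.OneConn
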