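import Cfsg.Agent.Lib.Struct.CoprimeMinimal
import Mathlib.Data.Nat.Choose.Dvd
import Mathlib.GroupTheory.PGroup

/-!
# A coprime group fixing the fixed elements of order `p` of a `p`-group acts trivially (`p` odd)
-/

set_option autoImplicit false
set_option linter.style.haveILetI false

namespace Cfsg.Agent.Local

open Subgroup Cfsg.Agent.Solv
open scoped commutatorElement

variable {G : Type*} [Group G]

theorem commutatorElement_pow_of_central {R : Type*} [Group R]
    (hc : ∀ a b z : R, ⁅a, b⁆ * z = z * ⁅a, b⁆) (u v : R) (k : ℕ) :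
    ⁅u ^ k, v⁆ = ⁅u, v⁆ ^ k := by
  induction k with
  | zero => simp
  | succ k ih =>
    have e : ⁅u ^ (k + 1), v⁆ = u * ⁅u ^ k, v⁆ * u⁻¹ * ⁅u, v⁆ := by
      simp [commutatorElement_def, pow_succ', mul_assoc]
    rw [e, ← hc (u ^ k) v u, mul_inv_cancel_right, ih, pow_succ]

theorem mul_pow_of_central {R : Type*} [Group R] (hc : ∀ a b z : R, ⁅a, b⁆ * z = z * ⁅a, b⁆)
    (x y : R) (k : ℕ) : (x * y) ^ k * ⁅x, y⁆ ^ k.choose 2 = x ^ k * y ^ k := by
  induction k with
  | zero => simp
  | succ k ih =>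
    set c := ⁅x, y⁆
    have hcc : ∀ (j : ℕ) (z : R), c ^ j * z = z * c ^ j := fun j z =>
      ((Commute.pow_left (hc x y z : Commute c z)) j).eq
    have hmove : ∀ j : ℕ, x * y ^ j = c ^ j * (y ^ j * x) := by
      intro j
      induction j with
      | zero => simp
      | succ j ihj =>
        calc x * y ^ (j + 1) = x * y ^ j * y := by rw [pow_succ, mul_assoc]
          _ = c ^ j * y ^ j * (x * y) := by rw [ihj]; group
          _ = c ^ j * y ^ j * (c * (y * x)) := by
            rw [show x * y = c * (y * x) by simp [c, commutatorElement_def, mul_assoc]]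
          _ = c ^ j * (y ^ j * c) * (y * x) := by group
          _ = c ^ (j + 1) * (y ^ (j + 1) * x) := by
            rw [show y ^ j * c = c * y ^ j from (hc x y (y ^ j)).symm, pow_succ, pow_succ]; group
    calc (x * y) ^ (k + 1) * c ^ (k + 1).choose 2
        = (x * y) ^ k * ((x * y) * c ^ k.choose 2) * c ^ k := by
          rw [pow_succ, show (k + 1).choose 2 = k.choose 2 + k by
            rw [Nat.choose_succ_succ', Nat.choose_one_right, add_comm], pow_add]
          group
      _ = (x * y) ^ k * c ^ k.choose 2 * (x * y) * c ^ k := by rw [← hcc _ (x * y)]; group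
      _ = x ^ k * y ^ k * (x * y) * c ^ k := by rw [ih]
      _ = x ^ k * (y ^ k * x) * (y * c ^ k) := by group
      _ = x ^ k * (c ^ k * (y ^ k * x)) * y := by rw [← hcc k y, hcc k (y ^ k * x)]; group
      _ = x ^ (k + 1) * y ^ (k + 1) := by rw [← hmove, pow_succ, pow_succ]; group

/-- The `p`th power map of a group of class two with commutators of exponent `p`, `p` odd. -/
theorem mul_pow_prime_of_central {R : Type*} [Group R] {p : ℕ} (hp : p.Prime) (hp2 : p ≠ 2)
    (hc : ∀ a b z : R, ⁅a, b⁆ * z = z * ⁅a, b⁆) (hcp : ∀ a b : R, ⁅a, b⁆ ^ p = 1) (x y : R) :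
    (x * y) ^ p = x ^ p * y ^ p := by
  have h := mul_pow_of_central hc x y p
  obtain ⟨t, ht⟩ : p ∣ p.choose 2 :=
    hp.dvd_choose_self two_ne_zero (lt_of_le_of_ne hp.two_le (Ne.symm hp2))
  rwa [ht, pow_mul, hcp, one_pow, mul_one] at h

theorem commutatorElement_mul_right_of_central {R : Type*} [Group R]
    (hc : ∀ a b z : R, ⁅a, b⁆ * z = z * ⁅a, b⁆) (z x y : R) :
    ⁅z, x * y⁆ = ⁅z, x⁆ * ⁅z, y⁆ := by
  have e : ⁅z, x * y⁆ = ⁅z, x⁆ * (x * ⁅z, y⁆ * x⁻¹) := by simp [commutatorElement_def, mul_assoc]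
  rw [e, ← hc z y x, mul_inv_cancel_right]

/-- The sum of the additive group attached to a group of class two (`m` is one half). -/
def baerMul {R : Type*} [Group R] (m : ℕ) (x y : R) : R := x * y * ⁅y, x⁆ ^ m

/-- A type carrying the sum `baerMul`. -/
def BaerType (R : Type*) : Type _ := R

/-- Minimal configuration: no group of class two and exponent `p` occurs. -/
theorem false_of_fixed_classTwo {R S T : Type*} [Group R] [Finite R] [Group S] [Finite S]
    [Group T] {p : ℕ} (hp : p.Prime) (hp2 : p ≠ 2) (hexp : ∀ x : R, x ^ p = 1)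
    (hc : ∀ a b z : R, ⁅a, b⁆ * z = z * ⁅a, b⁆) (hS : (Nat.card S).Coprime p) (hT : IsPGroup p T)
    (ρ : S →* MulAut R) (α : T →* MulAut R) (σ : T → S ≃ S)
    (hσ : ∀ t s x, α t (ρ s x) = ρ (σ t s) (α t x))
    (hfix : ∀ x : R, (∀ t, α t x = x) → ∀ s, ρ s x = x) (x₀ : R) (s₀ : S)
    (hne : ρ s₀ x₀ ≠ x₀) : False := by
  classical
  haveI : Fact p.Prime := ⟨hp⟩
  haveI := Fintype.ofFinite S
  obtain ⟨q, hq⟩ := hp.odd_of_ne_two hp2
  set m := q + 1 with hm
  have hcp : ∀ a b : R, ⁅a, b⁆ ^ p = 1 := fun a b => hexp _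
  have hcm : ∀ (a b z : R) (j : ℕ), ⁅a, b⁆ ^ j * z = z * ⁅a, b⁆ ^ j := fun a b z j =>
    ((Commute.pow_left (hc a b z : Commute ⁅a, b⁆ z)) j).eq
  letI : CommGroup (BaerType R) :=
    { mul := fun x y => baerMul m (R := R) x y
      one := (1 : R)
      inv := fun (x : R) => (x⁻¹ : R)
      mul_assoc := fun (x y z : R) => by
        show baerMul m (baerMul m x y) z = baerMul m x (baerMul m y z)
        unfold baerMul
        have e1 : ⁅z, x * y * ⁅y, x⁆ ^ m⁆ = ⁅z, x⁆ * ⁅z, y⁆ := by
          rw [commutatorElement_mul_right_of_central hc, commutatorElement_mul_right_of_central hc,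
            (commutatorElement_eq_one_iff_mul_comm.2 (hcm y x z m).symm), mul_one]
        have e2 : ⁅y * z * ⁅z, y⁆ ^ m, x⁆ = ⁅y, x⁆ * ⁅z, x⁆ := by
          rw [← commutatorElement_inv, commutatorElement_mul_right_of_central hc,
            commutatorElement_mul_right_of_central hc,
            (commutatorElement_eq_one_iff_mul_comm.2 (hcm z y x m).symm), mul_one, mul_inv_rev,
            commutatorElement_inv, commutatorElement_inv, hc]
        rw [e1, e2]
        have c1 : Commute ⁅z, x⁆ ⁅z, y⁆ := hc z x _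
        have c2 : Commute ⁅y, x⁆ ⁅z, x⁆ := hc y x _
        rw [c1.mul_pow, c2.mul_pow]
        calc x * y * ⁅y, x⁆ ^ m * z * (⁅z, x⁆ ^ m * ⁅z, y⁆ ^ m)
            = x * y * z * (⁅y, x⁆ ^ m * ⁅z, x⁆ ^ m * ⁅z, y⁆ ^ m) := by
              rw [mul_assoc (x * y), hcm y x z m]; group
          _ = x * y * z * (⁅z, y⁆ ^ m * (⁅y, x⁆ ^ m * ⁅z, x⁆ ^ m)) := by
              rw [hcm z y (⁅y, x⁆ ^ m * ⁅z, x⁆ ^ m) m]
          _ = _ := by group
      one_mul := fun (x : R) => by
        show baerMul m 1 x = x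
        simp [baerMul]
      mul_one := fun (x : R) => by
        show baerMul m x 1 = x
        simp [baerMul]
      inv_mul_cancel := fun (x : R) => by
        show baerMul m x⁻¹ x = 1
        rw [baerMul, (commutatorElement_eq_one_iff_mul_comm.2 (by simp) : ⁅x, x⁻¹⁆ = 1)]
        simp
      mul_comm := fun (x y : R) => by
        show baerMul m x y = baerMul m y x
        unfold baerMul
        have h1 : ⁅x, y⁆ ^ m = ⁅x, y⁆ * ((⁅x, y⁆)⁻¹) ^ m := by
          rw [inv_pow]
          refine eq_mul_inv_of_mul_eq ?_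
          rw [← pow_add, show m + m = p + 1 by omega, pow_succ, hcp, one_mul]
        rw [← commutatorElement_inv x y, h1]
        conv_rhs => rw [← mul_assoc]
        congr 1
        rw [← hc x y (y * x)]
        simp [commutatorElement_def, mul_assoc] }
  have hmap : ∀ (e : MulAut R) (x y : R), e (baerMul m x y) = baerMul m (e x) (e y) := fun e x y => by
    unfold baerMul
    rw [map_mul, map_mul, map_pow]
    exact congrArg (fun w => e x * e y * w ^ m) (map_commutatorElement e.toMonoidHom y x)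
  let L := BaerType R
  let act : MulAut R → L →* L := fun e =>
    { toFun := fun x => e x
      map_one' := map_one e
      map_mul' := hmap e }
  let f : L →* L :=
    { toFun := fun x => ∏ s : S, act (ρ s) x
      map_one' := Finset.prod_eq_one fun s _ => map_one _
      map_mul' := fun x y => by
        simp only [map_mul]
        exact Finset.prod_mul_distrib }
  let toR : L → R := id
  have hpow : ∀ (x : L) (k : ℕ), toR (x ^ k) = toR x ^ k := fun x k => by
    induction k with
    | zero => exact (pow_zero (toR x)).symm ▸ congrArg toR (pow_zero x)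
    | succ k ih =>
      rw [pow_succ x, pow_succ (toR x), ← ih]
      show baerMul m (toR (x ^ k)) (toR x) = toR (x ^ k) * toR x
      rw [baerMul, ih, commutatorElement_eq_one_iff_mul_comm.2
        ((Commute.refl (toR x)).pow_right k).eq, one_pow, mul_one]
  have hfρ : ∀ (u : S) (x : L), act (ρ u) (f x) = f x := fun u x => by
    show act (ρ u) (∏ s : S, act (ρ s) x) = ∏ s : S, act (ρ s) x
    rw [map_prod]
    refine (Finset.prod_congr rfl fun s _ => ?_).trans (Equiv.prod_comp (Equiv.mulLeft u)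
      (fun s => act (ρ s) x))
    show ρ u (ρ s x) = ρ (u * s) x
    exact (congrArg (fun e : MulAut R => e (id x)) (map_mul ρ u s)).symm
  have hfα : ∀ (t : T) (x : L), act (α t) (f x) = f (act (α t) x) := fun t x => by
    show act (α t) (∏ s : S, act (ρ s) x) = ∏ s : S, act (ρ s) (act (α t) x)
    rw [map_prod]
    refine (Finset.prod_congr rfl fun s _ => ?_).trans (Equiv.prod_comp (σ t)
      (fun s => act (ρ s) (act (α t) x)))
    exact hσ t s x
  -- `f` is not injective
  by_cases hinj : Function.Injective f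
  · haveI : Finite L := inferInstanceAs (Finite R)
    obtain ⟨y, hy⟩ := Finite.surjective_of_injective hinj (x₀ : L)
    exact hne (hy ▸ hfρ s₀ y)
  have hK : f.ker ≠ ⊥ := fun h => hinj ((MonoidHom.ker_eq_bot_iff f).1 h)
  haveI : Finite L := inferInstanceAs (Finite R)
  let K := f.ker
  letI : MulAction T K :=
    { smul := fun t k => ⟨act (α t) k, by
        show f (act (α t) k) = 1
        rw [← hfα, (k.2 : f k = 1), map_one]⟩
      one_smul := fun k => Subtype.ext (by show α 1 _ = _; rw [map_one]; rfl)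
      mul_smul := fun a b k => Subtype.ext (by show α (a * b) _ = _; rw [map_mul]; rfl) }
  have hKp : IsPGroup p K := fun k => ⟨1, Subtype.ext (by
    rw [pow_one, SubgroupClass.coe_pow]; exact (hpow _ p).trans (hexp _))⟩
  obtain ⟨n, hn⟩ := hKp.exists_card_eq
  have hn0 : n ≠ 0 := fun h => hK (eq_bot_of_card_eq _ (by rw [hn, h, pow_zero]))
  obtain ⟨k, hk, hk1⟩ := hT.exists_fixed_point_of_prime_dvd_card_of_fixed_point K
    (hn ▸ dvd_pow_self p hn0)
    (show (1 : K) ∈ MulAction.fixedPoints T K from fun t => Subtype.ext (map_one (act (α t))))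
  have hkS : ∀ s, act (ρ s) (k : L) = (k : L) := fun s =>
    hfix _ (fun t => congrArg Subtype.val (hk t)) s
  have h1 : toR (k : L) ^ Nat.card S = 1 := by
    rw [← hpow]
    show toR ((k : L) ^ Nat.card S) = toR (1 : L)
    refine congrArg toR ?_
    calc (k : L) ^ Nat.card S = ∏ _s : S, (k : L) := by
          rw [Finset.prod_const, Finset.card_univ, Nat.card_eq_fintype_card]
      _ = f k := Finset.prod_congr rfl fun s _ => (hkS s).symm
      _ = 1 := k.2
  have h2 := Nat.dvd_gcd (orderOf_dvd_of_pow_eq_one h1) (orderOf_dvd_of_pow_eq_one (hexp (toR (k : L))))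
  rw [hS.gcd_eq_one, Nat.dvd_one, orderOf_eq_one_iff] at h2
  exact hk1 (Subtype.ext h2).symm

variable [Finite G]

/-- Let `A` be a `p`-group normalizing the `p`-group `P` and the `p'`-group `Q` (`p` odd), `Q`
normalizing `P`. If `Q` centralizes every element of order `p` of `C_P(A)` then it centralizes
`P`. -/
theorem centralizes_of_fixed {p : ℕ} [hpf : Fact p.Prime] (hp2 : p ≠ 2) (A Q : Subgroup G)
    (hA : IsPGroup p A) (hQ : (Nat.card Q).Coprime p) (hAQ : A ≤ normalizer (Q : Set G)) :
    ∀ P : Subgroup G, IsPGroup p P → A ≤ normalizer (P : Set G) → Q ≤ normalizer (P : Set G) →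
      (∀ x ∈ P, x ∈ centralizer (A : Set G) → x ^ p = 1 → x ∈ centralizer (Q : Set G)) →
      P ≤ centralizer (Q : Set G) := by
  intro P
  induction P using WellFoundedLT.induction with
  | _ P ih => ?_
  intro hP hAP hQP hfix
  have hsub : ∀ U : Subgroup G, U < P → A ≤ normalizer (U : Set G) → Q ≤ normalizer (U : Set G) →
      ⁅U, Q⁆ = ⊥ := fun U hU h1 h2 => commutator_eq_bot_iff_le_centralizer.2
    (ih U hU (hP.to_le hU.le) h1 h2 fun x hx => hfix x (hU.le hx))
  rw [← commutator_eq_bot_iff_le_centralizer]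
  have hcop : (Nat.card Q).Coprime (Nat.card P) := (coprime_card_of_isPGroup hP hQ).symm
  haveI : Group.IsNilpotent P := hP.isNilpotent
  haveI : Group.IsSolvable P := inferInstance
  rcases (le_normalizer_iff_commutator_le_left.1 hQP : ⁅P, Q⁆ ≤ P).lt_or_eq with hlt | heq
  · refine commutator_eq_bot_of_commutator_commutator_eq_bot Q P hQP hcop (Or.inr inferInstance)
      (hsub _ hlt ?_ (normalizer_commutator_ge_right P Q))
    exact (le_inf hAP hAQ).trans (normalizer_le_normalizer_commutator P Q)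
  rcases eq_or_ne P ⊥ with rfl | hP0
  · exact commutator_bot_left _
  exfalso
  haveI : Nontrivial P := (nontrivial_iff_ne_bot _).2 hP0
  set D := (frattini P).map P.subtype with hD
  have hDP : D ≤ P := map_subtype_le _
  have hDlt : D < P := lt_of_le_of_ne hDP fun h => Struct.CoprimeMinimal.frattini_ne_top (Q := P)
    (map_injective P.subtype_injective (by rw [← MonoidHom.range_eq_map, range_subtype]; exact h))
  have hPD : P ≤ normalizer (D : Set G) :=
    Struct.CoprimeMinimal.le_normalizer_map_char P P le_normalizer _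
  have hDQ : ⁅D, Q⁆ = ⊥ := hsub D hDlt
    (Struct.CoprimeMinimal.le_normalizer_map_char A P hAP _)
    (Struct.CoprimeMinimal.le_normalizer_map_char Q P hQP _)
  -- `D` is central in `P`
  have hDc : ⁅P, D⁆ = ⊥ := by
    have h1 : ⁅⁅P, D⁆, Q⁆ = ⊥ := le_bot_iff.1
      ((commutator_mono (le_normalizer_iff_commutator_le_right.1 hPD) le_rfl).trans hDQ.le)
    have h2 : ⁅⁅D, Q⁆, P⁆ = ⊥ := by rw [hDQ, commutator_bot_left]
    have h3 : ⁅⁅Q, P⁆, D⁆ = ⊥ := commutator_commutator_eq_bot_of_rotate h1 h2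
    rwa [commutator_comm Q P, heq] at h3
  have hcen : ∀ d ∈ frattini P, ∀ z : P, d * z = z * d := fun d hd z => Subtype.ext
    (commutatorElement_eq_one_iff_mul_comm.1 (mem_bot.1 (hDc ▸
      commutator_mem_commutator z.2 (mem_map_of_mem P.subtype hd) : ⁅(z : G), (d : G)⁆ ∈ _))).symm
  have hc : ∀ a b z : P, ⁅a, b⁆ * z = z * ⁅a, b⁆ := fun a b z =>
    hcen _ (commutator_le_frattini (commutator_mem_commutator (mem_top a) (mem_top b))) z
  have hcp : ∀ a b : P, ⁅a, b⁆ ^ p = 1 := fun a b => by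
    rw [← commutatorElement_pow_of_central hc, commutatorElement_eq_one_iff_mul_comm]
    exact hcen _ (Struct.CoprimeMinimal.pow_mem_frattini hP a) b
  have hmp := mul_pow_prime_of_central hpf.out hp2 hc hcp
  let ψ : P →* P := { toFun := fun x => x ^ p, map_one' := one_pow p, map_mul' := hmp }
  have hexp : ∀ x : P, x ^ p = 1 := by
    have h : P ≤ ψ.ker.map P.subtype := by
      refine le_of_eq_of_le heq.symm (commutator_le.2 ?_)
      intro x hx s hs
      have hxs : ⁅x, s⁆ ∈ P := heq ▸ commutator_mem_commutator hx hs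
      refine ⟨⟨_, hxs⟩, ?_, rfl⟩
      have hy : s * x⁻¹ * s⁻¹ ∈ P := (mem_normalizer_iff.1 (hQP hs) _).1 (inv_mem hx)
      show (⟨_, hxs⟩ : P) ^ p = 1
      have e : (⟨_, hxs⟩ : P) = (⟨x, hx⟩ : P) * ⟨s * x⁻¹ * s⁻¹, hy⟩ := Subtype.ext (by
        simp [commutatorElement_def, mul_assoc])
      rw [e, hmp]
      apply Subtype.ext
      rw [Subgroup.coe_mul, SubgroupClass.coe_pow, SubgroupClass.coe_pow, Subgroup.coe_one]
      have hxp : x ^ p ∈ D :=
        ⟨_, Struct.CoprimeMinimal.pow_mem_frattini hP (⟨x, hx⟩ : P), by simp⟩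
      have hsx : s * (x ^ p)⁻¹ = (x ^ p)⁻¹ * s :=
        mem_centralizer_iff.1 (commutator_eq_bot_iff_le_centralizer.1 hDQ (inv_mem hxp)) s hs
      show x ^ p * (s * x⁻¹ * s⁻¹) ^ p = 1
      rw [conj_pow, inv_pow, hsx]
      group
    intro x
    obtain ⟨y, hy, e⟩ := h x.2
    exact (Subtype.ext e : y = x) ▸ hy
  obtain ⟨x₀, hx₀, s₀, hs₀, hne⟩ : ∃ x ∈ P, ∃ s ∈ Q, s * x * s⁻¹ ≠ x := by
    by_contra hcon
    push Not at hcon
    refine hP0 ?_
    rw [← heq, commutator_eq_bot_iff_le_centralizer]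
    exact fun x hx s hs => mul_inv_eq_iff_eq_mul.1 (hcon x hx s hs)
  refine false_of_fixed_classTwo hpf.out hp2 hexp hc hQ hA (conjHom Q P hQP) (conjHom A P hAP)
    (fun a => (conjHom A Q hAQ a).toEquiv) ?_ ?_ ⟨x₀, hx₀⟩ ⟨s₀, hs₀⟩ ?_
  · intro a s x
    apply Subtype.ext
    show (a : G) * ((s : G) * x * (s : G)⁻¹) * (a : G)⁻¹ =
      ((a : G) * s * (a : G)⁻¹) * ((a : G) * x * (a : G)⁻¹) * ((a : G) * s * (a : G)⁻¹)⁻¹
    group
  · intro x hx s
    have hxA : (x : G) ∈ centralizer (A : Set G) := fun a ha =>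
      mul_inv_eq_iff_eq_mul.1 (congrArg Subtype.val (hx ⟨a, ha⟩))
    have := hfix x x.2 hxA (congrArg Subtype.val (hexp x)) s s.2
    exact Subtype.ext (mul_inv_eq_iff_eq_mul.2 this)
  · exact fun h => hne (congrArg Subtype.val h)

end Cfsg.Agent.Local
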