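import Cfsg.Agent.Lib.Local.CharPBasics
import Cfsg.Agent.Lib.Solv.Thompson
import Cfsg.Prelude.Def_LocalEven

/-!
`p`-reduced normal subgroups.
-/

set_option autoImplicit false
set_option linter.style.haveILetI false

namespace Cfsg.Agent.Local.PReduced

open Subgroup

variable {L : Type*} [Group L] [Finite L] {p : ℕ} [hp : Fact p.Prime]

/-- A subnormal subgroup whose `p'`-elements centralize `V` centralizes `V`. -/
theorem le_centralizer_of_subnormal {V : Subgroup L} (hV : IsPReducedNormal p V) {N : Subgroup L}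
    (hN : N.IsSubnormal) (h : ∀ x ∈ N, (orderOf x).Coprime p → x ∈ centralizer (V : Set L)) :
    N ≤ centralizer (V : Set L) := by
  obtain ⟨-, -, hn, hq⟩ := hV
  haveI := hn
  set f := QuotientGroup.mk' (centralizer (V : Set L))
  have hp' : IsPGroup p (N.map f) := by
    rintro ⟨_, x, hx, rfl⟩
    obtain ⟨a, m, hm, he⟩ := Nat.exists_eq_pow_mul_and_not_dvd (orderOf_pos x).ne' p hp.out.one_lt.ne'
    refine ⟨a, Subtype.ext ?_⟩
    show (f x) ^ p ^ a = 1
    rw [← map_pow]
    refine (QuotientGroup.eq_one_iff _).2 (h _ (pow_mem hx _) ?_)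
    refine Nat.Coprime.coprime_dvd_left (orderOf_dvd_of_pow_eq_one ?_)
      (hp.out.coprime_iff_not_dvd.2 hm).symm
    rw [← pow_mul, ← he, pow_orderOf_eq_one]
  have h1 := Solv.le_pCore_of_isSubnormal (hN.map (QuotientGroup.mk'_surjective _)) hp'
  rw [hq, le_bot_iff, Subgroup.map_eq_bot_iff, QuotientGroup.ker_mk'] at h1
  exact h1

theorem isPReducedNormal_of_forall {V : Subgroup L} (hV : V.Normal) (he : IsElementaryAbelian p V)
    (h : ∀ N : Subgroup L, N.Normal → (∀ x ∈ N, (orderOf x).Coprime p → x ∈ centralizer (V : Set L)) →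
      N ≤ centralizer (V : Set L)) :
    IsPReducedNormal p V := by
  haveI := hV
  haveI hn : (centralizer (V : Set L)).Normal := normal_centralizer
  refine ⟨hV, he, hn, ?_⟩
  set f := QuotientGroup.mk' (centralizer (V : Set L))
  haveI : (pCore p (L ⧸ centralizer (V : Set L))).Normal := by
    haveI := Solv.pCore_characteristic p (L ⧸ centralizer (V : Set L)); infer_instance
  have h1 := h ((pCore p (L ⧸ centralizer (V : Set L))).comap f) (Normal.comap inferInstance _) fun x hx hco => by
    obtain ⟨k, hk⟩ := IsPGroup.iff_card.1 (Solv.isPGroup_pCore p (L ⧸ centralizer (V : Set L)))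
    rw [← QuotientGroup.eq_one_iff]
    exact orderOf_eq_one_iff.1 (Nat.eq_one_of_dvd_coprimes (hco.pow_right k) (orderOf_map_dvd f x)
      (hk ▸ Subgroup.orderOf_dvd_natCard _ (show f x ∈ _ from hx)))
  rw [eq_bot_iff]
  intro q hq
  obtain ⟨x, rfl⟩ := QuotientGroup.mk'_surjective _ q
  exact mem_bot.2 ((QuotientGroup.eq_one_iff x).2 (h1 hq))

end Cfsg.Agent.Local.PReduced
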