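import Cfsg.Agent.Lib.Local.ConjFamily
import Cfsg.Agent.Lib.Local.FusionReduction

/-!
Local-to-global results for a conjugacy functor paired with a central functor.
-/

set_option autoImplicit false
set_option linter.style.haveILetI false

namespace Cfsg.Agent.Local.PairControl

open Subgroup

variable {G : Type*} [Group G]

theorem conj_map_mem {D : Subgroup G} {g w : G} (h : w ∈ D) : g * w * g⁻¹ ∈ D.map (MulAut.conj g).toMonoidHom :=
  ⟨w, h, rfl⟩

theorem map_conj_centralizer (g : G) (T : Subgroup G) :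
    (centralizer (T : Set G)).map (MulAut.conj g).toMonoidHom =
      centralizer ((T.map (MulAut.conj g).toMonoidHom : Subgroup G) : Set G) := by
  ext w
  constructor
  · rintro ⟨c, hc, rfl⟩
    rw [mem_centralizer_iff]
    rintro _ ⟨t, ht, rfl⟩
    rw [← map_mul, ← map_mul, hc t ht]
  · intro hw
    refine ⟨g⁻¹ * w * g, mem_centralizer_iff.2 fun t ht => ?_, by simp [mul_assoc]⟩
    have h1 := mem_centralizer_iff.1 hw _ (conj_map_mem (g := g) ht)
    calc t * (g⁻¹ * w * g) = g⁻¹ * (g * t * g⁻¹ * w) * g := by group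
      _ = g⁻¹ * w * g * t := by rw [h1]; group

section Finite

variable [Finite G] {p : ℕ} [Fact p.Prime]

/-- Alperin's theorem with subgroups containing the centre of the Sylow subgroup. -/
theorem global_of_local (P : Sylow p G) (Ok : Subgroup G → G → Prop)
    (hone : ∀ (D : Subgroup G) (c : G), D ≤ (P : Subgroup G) → (∀ d ∈ D, c * d * c⁻¹ = d) → Ok D c)
    (hmul : ∀ (D : Subgroup G) (a b : G), D ≤ (P : Subgroup G) → D.map (MulAut.conj a).toMonoidHom ≤ (P : Subgroup G) →
      Ok D a → Ok (D.map (MulAut.conj a).toMonoidHom) b → Ok D (b * a))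
    (hinv : ∀ (D : Subgroup G) (a : G), D ≤ (P : Subgroup G) → Ok D a → Ok (D.map (MulAut.conj a).toMonoidHom) a⁻¹)
    (hmono : ∀ (D D' : Subgroup G) (a : G), D' ≤ D → Ok D a → Ok D' a)
    (hL : ∀ N₀ : ℕ, (∀ E : Subgroup G, E ≤ (P : Subgroup G) → N₀ < Nat.card E → ∀ c : G,
        (∀ e ∈ E, c * e * c⁻¹ ∈ (P : Subgroup G)) → Ok E c) →
      ∀ H : Subgroup G, H ≤ (P : Subgroup G) →
        (P : Subgroup G) ⊓ centralizer ((P : Subgroup G) : Set G) ≤ H →
        ((P : Subgroup G) ⊓ normalizer (H : Set G) = (P : Subgroup G) ∨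
          N₀ < Nat.card ↥((P : Subgroup G) ⊓ normalizer (H : Set G))) →
        ∀ D : Subgroup G, D ≤ (P : Subgroup G) ⊓ normalizer (H : Set G) → ∀ n ∈ normalizer (H : Set G),
          (∀ d ∈ D, n * d * n⁻¹ ∈ (P : Subgroup G)) → Ok D n) :
    ∀ D : Subgroup G, D ≤ (P : Subgroup G) → ∀ c : G, (∀ d ∈ D, c * d * c⁻¹ ∈ (P : Subgroup G)) → Ok D c := by
  classical
  suffices ∀ (k : ℕ) (D : Subgroup G), Nat.card (P : Subgroup G) ≤ k + Nat.card D → D ≤ (P : Subgroup G) →
      ∀ c : G, (∀ d ∈ D, c * d * c⁻¹ ∈ (P : Subgroup G)) → Ok D c from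
    fun D => this (Nat.card (P : Subgroup G)) D (Nat.le_add_right _ _)
  intro k
  induction k using Nat.strong_induction_on with
  | _ k ihk =>
  intro D hk hDP c hcD
  have ih' : ∀ E : Subgroup G, E ≤ (P : Subgroup G) → Nat.card D < Nat.card E → ∀ c : G,
      (∀ e ∈ E, c * e * c⁻¹ ∈ (P : Subgroup G)) → Ok E c := fun E hE hlt => by
    have := card_le_of_le hE
    exact ihk (k - 1) (by omega) E (by omega) hE
  rcases hDP.eq_or_lt with hDeq | hlt
  · subst hDeq
    refine hL (Nat.card (P : Subgroup G)) ih' (P : Subgroup G) le_rfl inf_le_left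
      (Or.inl (inf_eq_left.2 le_normalizer)) _ (le_inf le_rfl le_normalizer) c ?_ hcD
    have hm : (P : Subgroup G).map (MulAut.conj c).toMonoidHom = (P : Subgroup G) := by
      refine eq_of_le_of_card_ge ?_
        (Nat.card_congr ((P : Subgroup G).equivMapOfInjective _ (MulAut.conj c).injective).toEquiv).le
      rintro _ ⟨d, hd, rfl⟩; exact hcD d hd
    rw [mem_normalizer_iff]
    intro w
    conv_rhs => rw [← hm]
    constructor
    · exact fun hw => ⟨w, hw, rfl⟩
    · rintro ⟨w', hw', he⟩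
      exact (MulAut.conj c).injective he ▸ hw'
  have hbig : ∀ E : Subgroup G, E < (P : Subgroup G) →
      Nat.card E < Nat.card ↥((P : Subgroup G) ⊓ normalizer (E : Set G)) := fun E hE => by
    have hs := lt_sylow_inf_normalizer P hE
    exact lt_of_le_of_ne (card_le_of_le hs.le) fun e => hs.ne (eq_of_le_of_card_ge hs.le e.ge)
  -- a fully normalized conjugate
  obtain ⟨a, ha1, ha2⟩ := exists_conj_sylow_of P (U := (P : Subgroup G) ⊓ normalizer (D : Set G))
    (H := normalizer (D : Set G)) inf_le_right (P.isPGroup'.to_le inf_le_left)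
  rw [map_conj_normalizer] at ha2
  set U := D.map (MulAut.conj a).toMonoidHom with hU
  have hUP : U ≤ (P : Subgroup G) := by
    rintro _ ⟨d, hd, rfl⟩; exact ha1 d ⟨hDP hd, le_normalizer hd⟩
  have hax : Ok D a := hmono _ D a (le_inf hDP le_normalizer) (ih' _ inf_le_left (hbig D hlt) a ha1)
  set D' := D.map (MulAut.conj c).toMonoidHom with hD'
  have hD'P : D' ≤ (P : Subgroup G) := by rintro _ ⟨d, hd, rfl⟩; exact hcD d hd
  have hD'c : Nat.card D' = Nat.card D :=
    (Nat.card_congr (D.equivMapOfInjective _ (MulAut.conj c).injective).toEquiv).symm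
  have hD'lt : D' < (P : Subgroup G) := lt_of_le_of_ne hD'P fun e => hlt.ne
    (eq_of_le_of_card_ge hDP (by rw [← hD'c, e]))
  set e := a * c⁻¹ with he
  have hD'U : D'.map (MulAut.conj e).toMonoidHom = U := by
    rw [hD', hU, map_map]; congr 1; ext w; simp [he, mul_assoc]
  set E := (P : Subgroup G) ⊓ normalizer (D' : Set G) with hE
  have hEN : E.map (MulAut.conj e).toMonoidHom ≤ normalizer (U : Set G) := by
    rintro _ ⟨u, hu, rfl⟩
    exact hD'U ▸ (map_conj_normalizer e D').le ⟨u, hu.2, rfl⟩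
  obtain ⟨n, hn, hn'⟩ := exists_conj_le_of_not_dvd_relIndex inf_le_right
    (P.isPGroup'.to_le inf_le_left) ha2 hEN ((P.isPGroup'.to_le inf_le_left).map _)
  have hb : Ok D' (n * e) := by
    refine hmono E D' _ (le_inf hD'P le_normalizer) (ih' E inf_le_left (hD'c ▸ hbig D' hD'lt) (n * e) fun u hu => ?_)
    have := (hn' _ ⟨u, hu, rfl⟩).1
    rwa [show n * e * u * (n * e)⁻¹ = n * (MulAut.conj e).toMonoidHom u * n⁻¹ by simp [mul_assoc]]
  -- the enlargement of `U`
  set C := centralizer (U : Set G) with hC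
  set R := (P : Subgroup G) ⊓ normalizer (U : Set G) with hR
  have hCN : C ≤ normalizer (U : Set G) := centralizer_le_normalizer _
  set CP := (P : Subgroup G) ⊓ C with hCP
  have hCidx : ¬ p ∣ CP.relIndex C := by
    intro h
    refine ha2 (h.trans ?_)
    have hnorm : R ≤ normalizer (C : Set G) := fun r hr => by
      refine Agent.Solv.le_normalizer_of_conj_mem (X := normalizer (U : Set G)) ?_ hr.2
      intro g hg x hx
      rw [hC, mem_centralizer_iff]
      intro z hz
      have h2 := mem_centralizer_iff.1 hx _ ((mem_normalizer_iff''.1 hg z).1 hz)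
      calc z * (g * x * g⁻¹) = g * ((g⁻¹ * z * g) * x) * g⁻¹ := by group
        _ = g * x * g⁻¹ * z := by rw [h2]; group
    have hcap : C ⊓ R = CP := by
      refine le_antisymm (fun w hw => ⟨hw.2.1, hw.1⟩) fun w hw => ⟨hw.2, hw.1, hCN hw.2⟩
    have e0 := Agent.Solv.card_sup_mul_card_inf C R hnorm
    rw [hcap] at e0
    have e1 : Nat.card R * R.relIndex (C ⊔ R) = Nat.card ↥(C ⊔ R) := by
      have h0 := (R.subgroupOf (C ⊔ R)).card_mul_index
      rwa [Agent.Solv.card_subgroupOf (le_sup_right : R ≤ C ⊔ R)] at h0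
    have e2 : Nat.card CP * CP.relIndex C = Nat.card C := by
      have h0 := (CP.subgroupOf C).card_mul_index
      rwa [Agent.Solv.card_subgroupOf (inf_le_right : CP ≤ C)] at h0
    rw [← e1, ← e2] at e0
    have e3 : R.relIndex (C ⊔ R) = CP.relIndex C := by
      refine mul_left_cancel₀ (a := Nat.card R * Nat.card CP)
        (Nat.mul_ne_zero Nat.card_pos.ne' Nat.card_pos.ne') ?_
      linarith [e0]
    rw [← e3, ← relIndex_mul_relIndex R (C ⊔ R) (normalizer (U : Set G)) le_sup_right
      (sup_le hCN inf_le_right)]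
    exact dvd_mul_right _ _
  have hCPc : CP.map (MulAut.conj n).toMonoidHom ≤ C := by
    rintro _ ⟨w, hw, rfl⟩
    rw [hC, mem_centralizer_iff]
    intro z hz
    have h2 := mem_centralizer_iff.1 hw.2 _ ((mem_normalizer_iff''.1 hn z).1 hz)
    simp only [MulEquiv.coe_toMonoidHom, MulAut.conj_apply]
    calc z * (n * w * n⁻¹) = n * ((n⁻¹ * z * n) * w) * n⁻¹ := by group
      _ = n * w * n⁻¹ * z := by rw [h2]; group
  obtain ⟨c₁, hc₁, hc₁'⟩ := exists_conj_le_of_not_dvd_relIndex (inf_le_right : CP ≤ C)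
    (P.isPGroup'.to_le inf_le_left) hCidx hCPc ((P.isPGroup'.to_le inf_le_left).map _)
  set H := U ⊔ CP with hH
  have hHP : H ≤ (P : Subgroup G) := sup_le hUP inf_le_left
  have hnH : c₁ * n ∈ normalizer (H : Set G) := by
    have hle : H.map (MulAut.conj (c₁ * n)).toMonoidHom ≤ H := by
      rw [hH, Subgroup.map_sup]
      refine sup_le ((map_le_iff_le_comap).2 fun z hz => ?_) ((map_le_iff_le_comap).2 fun w hw => ?_)
      · refine mem_sup_left ?_
        have h1 := (mem_normalizer_iff.1 hn z).1 hz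
        have h2 := mem_centralizer_iff.1 hc₁ _ h1
        show (MulAut.conj (c₁ * n)) z ∈ U
        have h3 : c₁ * n * z * (c₁ * n)⁻¹ = n * z * n⁻¹ := by
          calc c₁ * n * z * (c₁ * n)⁻¹ = c₁ * (n * z * n⁻¹) * c₁⁻¹ := by group
            _ = n * z * n⁻¹ := by rw [← h2]; group
        rw [MulAut.conj_apply, h3]
        exact h1
      · refine mem_sup_right ?_
        have := hc₁' _ ⟨w, hw, rfl⟩
        show (MulAut.conj (c₁ * n)) w ∈ CP
        rwa [show (MulAut.conj (c₁ * n)) w = c₁ * (MulAut.conj n).toMonoidHom w * c₁⁻¹ by simp [mul_assoc]]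
    have hm : H.map (MulAut.conj (c₁ * n)).toMonoidHom = H := eq_of_le_of_card_ge hle
      (Nat.card_congr (H.equivMapOfInjective _ (MulAut.conj _).injective).toEquiv).le
    rw [mem_normalizer_iff]
    intro w
    conv_rhs => rw [← hm]
    constructor
    · exact fun hw => ⟨w, hw, rfl⟩
    · rintro ⟨w', hw', he'⟩
      exact (MulAut.conj _).injective he' ▸ hw'
  have hZH : (P : Subgroup G) ⊓ centralizer ((P : Subgroup G) : Set G) ≤ H :=
    le_sup_of_le_right (inf_le_inf_left _ (centralizer_le hUP))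
  have hUc : Nat.card U = Nat.card D :=
    (Nat.card_congr (D.equivMapOfInjective _ (MulAut.conj a).injective).toEquiv).symm
  have hcase : (P : Subgroup G) ⊓ normalizer (H : Set G) = (P : Subgroup G) ∨
      Nat.card D < Nat.card ↥((P : Subgroup G) ⊓ normalizer (H : Set G)) := by
    rcases hHP.eq_or_lt with h | h
    · left; rw [h]; exact inf_eq_left.2 le_normalizer
    · right
      have h1 := hbig H h
      have h2 : Nat.card U ≤ Nat.card H := card_le_of_le le_sup_left
      omega
  have hU1 : Ok U (c₁ * n) := by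
    refine hL (Nat.card D) ih' H hHP hZH hcase U (le_inf hUP ((le_sup_left : U ≤ H).trans le_normalizer))
      (c₁ * n) hnH fun d hd => ?_
    have h1 := (mem_normalizer_iff.1 hn d).1 hd
    have h2 := mem_centralizer_iff.1 hc₁ _ h1
    have h3 : c₁ * n * d * (c₁ * n)⁻¹ = n * d * n⁻¹ := by
      calc c₁ * n * d * (c₁ * n)⁻¹ = c₁ * (n * d * n⁻¹) * c₁⁻¹ := by group
        _ = n * d * n⁻¹ := by rw [← h2]; group
    rw [h3]
    exact hUP h1
  have hUn : U.map (MulAut.conj (c₁ * n)).toMonoidHom = U := by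
    refine eq_of_le_of_card_ge ?_ (Nat.card_congr (U.equivMapOfInjective _ (MulAut.conj _).injective).toEquiv).le
    rintro _ ⟨d, hd, rfl⟩
    have h1 := (mem_normalizer_iff.1 hn d).1 hd
    have h2 := mem_centralizer_iff.1 hc₁ _ h1
    show (MulAut.conj (c₁ * n)) d ∈ U
    have h3 : c₁ * n * d * (c₁ * n)⁻¹ = n * d * n⁻¹ := by
      calc c₁ * n * d * (c₁ * n)⁻¹ = c₁ * (n * d * n⁻¹) * c₁⁻¹ := by group
        _ = n * d * n⁻¹ := by rw [← h2]; group
    rw [MulAut.conj_apply, h3]
    exact h1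
  have hUn' : U.map (MulAut.conj n).toMonoidHom = U :=
    eq_of_le_of_card_ge (by rintro _ ⟨d, hd, rfl⟩; exact (mem_normalizer_iff.1 hn d).1 hd)
      (Nat.card_congr (U.equivMapOfInjective _ (MulAut.conj _).injective).toEquiv).le
  -- assemble
  have hUn2 : Ok U n := by
    have h := hmul U (c₁ * n) c₁⁻¹ hUP (hUn.le.trans hUP) hU1 (by
      rw [hUn]
      exact hone U _ hUP fun d hd => by
        have h2 := mem_centralizer_iff.1 (inv_mem hc₁) d hd
        rw [← h2]; group)
    rwa [inv_mul_cancel_left] at h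
  have hcomp : ∀ (X : Subgroup G) (u v : G), (X.map (MulAut.conj u).toMonoidHom).map (MulAut.conj v).toMonoidHom =
      X.map (MulAut.conj (v * u)).toMonoidHom := fun X u v => by
    rw [map_map]; congr 1; ext y; simp [mul_assoc]
  have h3 : Ok D (n * a) := hmul D a n hDP hUP hax hUn2
  have h4 : D.map (MulAut.conj (n * a)).toMonoidHom = U := by rw [← hcomp, ← hU, hUn']
  have h5 : D'.map (MulAut.conj (n * e)).toMonoidHom = U := by rw [← hcomp, hD'U, hUn']
  have h6 : Ok U (n * e)⁻¹ := by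
    have := hinv D' (n * e) hD'P hb
    rwa [h5] at this
  have h7 := hmul D (n * a) (n * e)⁻¹ hDP (h4.le.trans hUP) h3 (h4.symm ▸ h6)
  rwa [he, show (n * (a * c⁻¹))⁻¹ * (n * a) = c by group] at h7

/-- Moving the normalizer of a subgroup so that a given Sylow subgroup of it lies in `P`. -/
theorem exists_move (P : Sylow p G) (H Q : Subgroup G) (hQN : Q ≤ normalizer (H : Set G)) (hQp : IsPGroup p Q)
    (hidx : ¬ p ∣ Q.relIndex (normalizer (H : Set G))) :
    ∃ u : G, (∀ r ∈ (P : Subgroup G) ⊓ normalizer (H : Set G), u * r * u⁻¹ ∈ (P : Subgroup G)) ∧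
      ((P : Subgroup G) ⊓ normalizer (H : Set G) = (P : Subgroup G) → u = 1) ∧
      ∃ t : G, t⁻¹ * u ∈ normalizer (H : Set G) ∧
        Q.map (MulAut.conj t).toMonoidHom =
          (P : Subgroup G) ⊓ normalizer ((H.map (MulAut.conj u).toMonoidHom : Subgroup G) : Set G) := by
  classical
  set R := (P : Subgroup G) ⊓ normalizer (H : Set G) with hR
  obtain ⟨m, hm, hm'⟩ := exists_conj_le_of_not_dvd_relIndex hQN hQp hidx (inf_le_right : R ≤ normalizer (H : Set G))
    (P.isPGroup'.to_le inf_le_left)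
  have hHm : H.map (MulAut.conj m).toMonoidHom = H :=
    eq_of_le_of_card_ge (by rintro _ ⟨d, hd, rfl⟩; exact (mem_normalizer_iff.1 hm d).1 hd)
      (Nat.card_congr (H.equivMapOfInjective _ (MulAut.conj _).injective).toEquiv).le
  by_cases hRP : R = (P : Subgroup G)
  · refine ⟨1, fun r hr => by rw [one_mul, inv_one, mul_one]; exact hr.1, fun _ => rfl, m⁻¹, by simpa using hm, ?_⟩
    have hH1 : H.map (MulAut.conj (1 : G)).toMonoidHom = H := by
      convert map_id H
      ext; simp
    rw [hH1, ← hR, hRP]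
    have h1 : (P : Subgroup G).map (MulAut.conj m).toMonoidHom ≤ Q := by
      rw [← hRP]; rintro _ ⟨r, hr, rfl⟩; exact hm' r hr
    obtain ⟨T, hT⟩ := hQp.exists_le_sylow
    have h2 : (P : Subgroup G).map (MulAut.conj m).toMonoidHom = Q := by
      refine eq_of_le_of_card_ge h1 ((card_le_of_le hT).trans (le_of_eq ?_))
      rw [T.card_eq_multiplicity, ← P.card_eq_multiplicity]
      exact Nat.card_congr ((P : Subgroup G).equivMapOfInjective _ (MulAut.conj _).injective).toEquiv
    rw [← h2, map_map]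
    convert map_id (P : Subgroup G)
    ext; simp [mul_assoc]
  obtain ⟨T, hT⟩ := hQp.exists_le_sylow
  obtain ⟨k, hk⟩ := MulAction.exists_smul_eq G T P
  have hTP : ∀ w ∈ (T : Subgroup G), k * w * k⁻¹ ∈ (P : Subgroup G) := fun w hw => by
    rw [← hk]; exact ⟨w, hw, rfl⟩
  refine ⟨k * m, fun r hr => ?_, fun h => absurd h hRP, k, by simpa using hm, ?_⟩
  · have := hTP _ (hT (hm' r hr))
    rwa [show k * m * r * (k * m)⁻¹ = k * (m * r * m⁻¹) * k⁻¹ by group]
  have hHk : H.map (MulAut.conj (k * m)).toMonoidHom = H.map (MulAut.conj k).toMonoidHom := by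
    conv_rhs => rw [← hHm, map_map]
    congr 1; ext y; simp [mul_assoc]
  rw [hHk]
  set N' := normalizer ((H.map (MulAut.conj k).toMonoidHom : Subgroup G) : Set G) with hN'
  have hle : Q.map (MulAut.conj k).toMonoidHom ≤ (P : Subgroup G) ⊓ N' := by
    rintro _ ⟨w, hw, rfl⟩
    exact ⟨hTP w (hT hw), (map_conj_normalizer k H).le ⟨w, hQN hw, rfl⟩⟩
  refine eq_of_isPGroup_of_le hle inf_le_right (P.isPGroup'.to_le inf_le_left) ?_
  rw [hN', ← map_conj_normalizer, relIndex_map_map_of_injective _ _ (MulAut.conj k).injective]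
  exact hidx

end Finite

end Cfsg.Agent.Local.PairControl
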