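import Cfsg.Agent.Lib.Local.PairControl

/-!
Alperin induction through fully normalized centric subgroups.
-/

set_option autoImplicit false
set_option linter.style.haveILetI false

namespace Cfsg.Agent.Local.PairControl

open Subgroup

variable {G : Type*} [Group G] [Finite G] {p : ℕ} [Fact p.Prime]

theorem global_of_fullyNormalized (P : Sylow p G) (Ok : Subgroup G → G → Prop)
    (hone : ∀ (D : Subgroup G) (c : G), D ≤ (P : Subgroup G) → (∀ d ∈ D, c * d * c⁻¹ = d) → Ok D c)
    (hmul : ∀ (D : Subgroup G) (a b : G), D ≤ (P : Subgroup G) → D.map (MulAut.conj a).toMonoidHom ≤ (P : Subgroup G) →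
      Ok D a → Ok (D.map (MulAut.conj a).toMonoidHom) b → Ok D (b * a))
    (hinv : ∀ (D : Subgroup G) (a : G), D ≤ (P : Subgroup G) → Ok D a → Ok (D.map (MulAut.conj a).toMonoidHom) a⁻¹)
    (hmono : ∀ (D D' : Subgroup G) (a : G), D' ≤ D → Ok D a → Ok D' a)
    (hL : ∀ U : Subgroup G, U ≤ (P : Subgroup G) →
      (∀ E : Subgroup G, E ≤ (P : Subgroup G) → Nat.card U < Nat.card E → ∀ c : G,
        (∀ e ∈ E, c * e * c⁻¹ ∈ (P : Subgroup G)) → Ok E c) →
      ¬ p ∣ ((P : Subgroup G) ⊓ normalizer (U : Set G)).relIndex (normalizer (U : Set G)) →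
      (P : Subgroup G) ⊓ centralizer (U : Set G) ≤ U →
      ∀ n ∈ normalizer (U : Set G), Ok U n) :
    ∀ D : Subgroup G, D ≤ (P : Subgroup G) → ∀ c : G, (∀ d ∈ D, c * d * c⁻¹ ∈ (P : Subgroup G)) → Ok D c := by
  classical
  suffices ∀ (k : ℕ) (D : Subgroup G), Nat.card (P : Subgroup G) ≤ k + Nat.card D → D ≤ (P : Subgroup G) →
      ∀ c : G, (∀ d ∈ D, c * d * c⁻¹ ∈ (P : Subgroup G)) → Ok D c from
    fun D => this (Nat.card (P : Subgroup G)) D (Nat.le_add_right _ _)
  intro k
  induction k using Nat.strong_induction_on with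
  | _ k ihk =>
  intro D hk hDP c hcD
  have ih' : ∀ E : Subgroup G, E ≤ (P : Subgroup G) → Nat.card D < Nat.card E → ∀ c : G,
      (∀ e ∈ E, c * e * c⁻¹ ∈ (P : Subgroup G)) → Ok E c := fun E hE hlt => by
    have := card_le_of_le hE
    exact ihk (k - 1) (by omega) E (by omega) hE
  rcases hDP.eq_or_lt with hDeq | hlt
  · subst hDeq
    refine hL (P : Subgroup G) le_rfl ih' ?_ inf_le_left c ?_
    · rw [inf_eq_left.2 le_normalizer]
      intro h
      exact P.not_dvd_index (h.trans ⟨_, (relIndex_mul_index le_normalizer).symm⟩)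
    have hm : (P : Subgroup G).map (MulAut.conj c).toMonoidHom = (P : Subgroup G) := by
      refine eq_of_le_of_card_ge ?_
        (Nat.card_congr ((P : Subgroup G).equivMapOfInjective _ (MulAut.conj c).injective).toEquiv).le
      rintro _ ⟨d, hd, rfl⟩; exact hcD d hd
    rw [mem_normalizer_iff]
    intro w
    conv_rhs => rw [← hm]
    constructor
    · exact fun hw => ⟨w, hw, rfl⟩
    · rintro ⟨w', hw', he⟩
      exact (MulAut.conj c).injective he ▸ hw'
  have hbig : ∀ E : Subgroup G, E < (P : Subgroup G) →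
      Nat.card E < Nat.card ↥((P : Subgroup G) ⊓ normalizer (E : Set G)) := fun E hE => by
    have hs := lt_sylow_inf_normalizer P hE
    exact lt_of_le_of_ne (card_le_of_le hs.le) fun e => hs.ne (eq_of_le_of_card_ge hs.le e.ge)
  -- a fully normalized conjugate
  obtain ⟨a, ha1, ha2⟩ := exists_conj_sylow_of P (U := (P : Subgroup G) ⊓ normalizer (D : Set G))
    (H := normalizer (D : Set G)) inf_le_right (P.isPGroup'.to_le inf_le_left)
  rw [map_conj_normalizer] at ha2
  set U := D.map (MulAut.conj a).toMonoidHom with hU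
  have hUP : U ≤ (P : Subgroup G) := by
    rintro _ ⟨d, hd, rfl⟩; exact ha1 d ⟨hDP hd, le_normalizer hd⟩
  have hax : Ok D a := hmono _ D a (le_inf hDP le_normalizer) (ih' _ inf_le_left (hbig D hlt) a ha1)
  set D' := D.map (MulAut.conj c).toMonoidHom with hD'
  have hD'P : D' ≤ (P : Subgroup G) := by rintro _ ⟨d, hd, rfl⟩; exact hcD d hd
  have hD'c : Nat.card D' = Nat.card D :=
    (Nat.card_congr (D.equivMapOfInjective _ (MulAut.conj c).injective).toEquiv).symm
  have hD'lt : D' < (P : Subgroup G) := lt_of_le_of_ne hD'P fun e => hlt.ne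
    (eq_of_le_of_card_ge hDP (by rw [← hD'c, e]))
  set e := a * c⁻¹ with he
  have hD'U : D'.map (MulAut.conj e).toMonoidHom = U := by
    rw [hD', hU, map_map]; congr 1; ext w; simp [he, mul_assoc]
  set E := (P : Subgroup G) ⊓ normalizer (D' : Set G) with hE
  have hEN : E.map (MulAut.conj e).toMonoidHom ≤ normalizer (U : Set G) := by
    rintro _ ⟨u, hu, rfl⟩
    exact hD'U ▸ (map_conj_normalizer e D').le ⟨u, hu.2, rfl⟩
  obtain ⟨n, hn, hn'⟩ := exists_conj_le_of_not_dvd_relIndex inf_le_right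
    (P.isPGroup'.to_le inf_le_left) ha2 hEN ((P.isPGroup'.to_le inf_le_left).map _)
  have hb : Ok D' (n * e) := by
    refine hmono E D' _ (le_inf hD'P le_normalizer) (ih' E inf_le_left (hD'c ▸ hbig D' hD'lt) (n * e) fun u hu => ?_)
    have := (hn' _ ⟨u, hu, rfl⟩).1
    rwa [show n * e * u * (n * e)⁻¹ = n * (MulAut.conj e).toMonoidHom u * n⁻¹ by simp [mul_assoc]]
  -- the enlargement of `U`
  set C := centralizer (U : Set G) with hC
  set R := (P : Subgroup G) ⊓ normalizer (U : Set G) with hR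
  have hCN : C ≤ normalizer (U : Set G) := centralizer_le_normalizer _
  set CP := (P : Subgroup G) ⊓ C with hCP
  have hCidx : ¬ p ∣ CP.relIndex C := by
    intro h
    refine ha2 (h.trans ?_)
    have hnorm : R ≤ normalizer (C : Set G) := fun r hr => by
      refine Agent.Solv.le_normalizer_of_conj_mem (X := normalizer (U : Set G)) ?_ hr.2
      intro g hg x hx
      rw [hC, mem_centralizer_iff]
      intro z hz
      have h2 := mem_centralizer_iff.1 hx _ ((mem_normalizer_iff''.1 hg z).1 hz)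
      calc z * (g * x * g⁻¹) = g * ((g⁻¹ * z * g) * x) * g⁻¹ := by group
        _ = g * x * g⁻¹ * z := by rw [h2]; group
    have hcap : C ⊓ R = CP := by
      refine le_antisymm (fun w hw => ⟨hw.2.1, hw.1⟩) fun w hw => ⟨hw.2, hw.1, hCN hw.2⟩
    have e0 := Agent.Solv.card_sup_mul_card_inf C R hnorm
    rw [hcap] at e0
    have e1 : Nat.card R * R.relIndex (C ⊔ R) = Nat.card ↥(C ⊔ R) := by
      have h0 := (R.subgroupOf (C ⊔ R)).card_mul_index
      rwa [Agent.Solv.card_subgroupOf (le_sup_right : R ≤ C ⊔ R)] at h0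
    have e2 : Nat.card CP * CP.relIndex C = Nat.card C := by
      have h0 := (CP.subgroupOf C).card_mul_index
      rwa [Agent.Solv.card_subgroupOf (inf_le_right : CP ≤ C)] at h0
    rw [← e1, ← e2] at e0
    have e3 : R.relIndex (C ⊔ R) = CP.relIndex C := by
      refine mul_left_cancel₀ (a := Nat.card R * Nat.card CP)
        (Nat.mul_ne_zero Nat.card_pos.ne' Nat.card_pos.ne') ?_
      linarith [e0]
    rw [← e3, ← relIndex_mul_relIndex R (C ⊔ R) (normalizer (U : Set G)) le_sup_right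
      (sup_le hCN inf_le_right)]
    exact dvd_mul_right _ _
  have hCPc : CP.map (MulAut.conj n).toMonoidHom ≤ C := by
    rintro _ ⟨w, hw, rfl⟩
    rw [hC, mem_centralizer_iff]
    intro z hz
    have h2 := mem_centralizer_iff.1 hw.2 _ ((mem_normalizer_iff''.1 hn z).1 hz)
    simp only [MulEquiv.coe_toMonoidHom, MulAut.conj_apply]
    calc z * (n * w * n⁻¹) = n * ((n⁻¹ * z * n) * w) * n⁻¹ := by group
      _ = n * w * n⁻¹ * z := by rw [h2]; group
  obtain ⟨c₁, hc₁, hc₁'⟩ := exists_conj_le_of_not_dvd_relIndex (inf_le_right : CP ≤ C)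
    (P.isPGroup'.to_le inf_le_left) hCidx hCPc ((P.isPGroup'.to_le inf_le_left).map _)
  set H := U ⊔ CP with hH
  have hHP : H ≤ (P : Subgroup G) := sup_le hUP inf_le_left
  have hnH : c₁ * n ∈ normalizer (H : Set G) := by
    have hle : H.map (MulAut.conj (c₁ * n)).toMonoidHom ≤ H := by
      rw [hH, Subgroup.map_sup]
      refine sup_le ((map_le_iff_le_comap).2 fun z hz => ?_) ((map_le_iff_le_comap).2 fun w hw => ?_)
      · refine mem_sup_left ?_
        have h1 := (mem_normalizer_iff.1 hn z).1 hz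
        have h2 := mem_centralizer_iff.1 hc₁ _ h1
        show (MulAut.conj (c₁ * n)) z ∈ U
        have h3 : c₁ * n * z * (c₁ * n)⁻¹ = n * z * n⁻¹ := by
          calc c₁ * n * z * (c₁ * n)⁻¹ = c₁ * (n * z * n⁻¹) * c₁⁻¹ := by group
            _ = n * z * n⁻¹ := by rw [← h2]; group
        rw [MulAut.conj_apply, h3]
        exact h1
      · refine mem_sup_right ?_
        have := hc₁' _ ⟨w, hw, rfl⟩
        show (MulAut.conj (c₁ * n)) w ∈ CP
        rwa [show (MulAut.conj (c₁ * n)) w = c₁ * (MulAut.conj n).toMonoidHom w * c₁⁻¹ by simp [mul_assoc]]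
    have hm : H.map (MulAut.conj (c₁ * n)).toMonoidHom = H := eq_of_le_of_card_ge hle
      (Nat.card_congr (H.equivMapOfInjective _ (MulAut.conj _).injective).toEquiv).le
    rw [mem_normalizer_iff]
    intro w
    conv_rhs => rw [← hm]
    constructor
    · exact fun hw => ⟨w, hw, rfl⟩
    · rintro ⟨w', hw', he'⟩
      exact (MulAut.conj _).injective he' ▸ hw'
  have hZH : (P : Subgroup G) ⊓ centralizer ((P : Subgroup G) : Set G) ≤ H :=
    le_sup_of_le_right (inf_le_inf_left _ (centralizer_le hUP))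
  have hUc : Nat.card U = Nat.card D :=
    (Nat.card_congr (D.equivMapOfInjective _ (MulAut.conj a).injective).toEquiv).symm
  have hU1 : Ok U (c₁ * n) := by
    rcases eq_or_ne H U with hHU | hHU
    · refine hL U hUP (hUc.symm ▸ ih') ha2 ((le_sup_right : CP ≤ H).trans hHU.le) _ ?_
      rw [← hHU]
      exact hnH
    · have hUH : U < H := lt_of_le_of_ne le_sup_left hHU.symm
      refine hmono H U _ hUH.le (ih' H hHP ?_ _ fun d hd => hHP ((mem_normalizer_iff.1 hnH d).1 hd))
      rw [← hUc]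
      exact lt_of_le_of_ne (card_le_of_le hUH.le) fun e => hUH.ne (eq_of_le_of_card_ge hUH.le e.ge)
  have hUn : U.map (MulAut.conj (c₁ * n)).toMonoidHom = U := by
    refine eq_of_le_of_card_ge ?_ (Nat.card_congr (U.equivMapOfInjective _ (MulAut.conj _).injective).toEquiv).le
    rintro _ ⟨d, hd, rfl⟩
    have h1 := (mem_normalizer_iff.1 hn d).1 hd
    have h2 := mem_centralizer_iff.1 hc₁ _ h1
    show (MulAut.conj (c₁ * n)) d ∈ U
    have h3 : c₁ * n * d * (c₁ * n)⁻¹ = n * d * n⁻¹ := by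
      calc c₁ * n * d * (c₁ * n)⁻¹ = c₁ * (n * d * n⁻¹) * c₁⁻¹ := by group
        _ = n * d * n⁻¹ := by rw [← h2]; group
    rw [MulAut.conj_apply, h3]
    exact h1
  have hUn' : U.map (MulAut.conj n).toMonoidHom = U :=
    eq_of_le_of_card_ge (by rintro _ ⟨d, hd, rfl⟩; exact (mem_normalizer_iff.1 hn d).1 hd)
      (Nat.card_congr (U.equivMapOfInjective _ (MulAut.conj _).injective).toEquiv).le
  -- assemble
  have hUn2 : Ok U n := by
    have h := hmul U (c₁ * n) c₁⁻¹ hUP (hUn.le.trans hUP) hU1 (by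
      rw [hUn]
      exact hone U _ hUP fun d hd => by
        have h2 := mem_centralizer_iff.1 (inv_mem hc₁) d hd
        rw [← h2]; group)
    rwa [inv_mul_cancel_left] at h
  have hcomp : ∀ (X : Subgroup G) (u v : G), (X.map (MulAut.conj u).toMonoidHom).map (MulAut.conj v).toMonoidHom =
      X.map (MulAut.conj (v * u)).toMonoidHom := fun X u v => by
    rw [map_map]; congr 1; ext y; simp [mul_assoc]
  have h3 : Ok D (n * a) := hmul D a n hDP hUP hax hUn2
  have h4 : D.map (MulAut.conj (n * a)).toMonoidHom = U := by rw [← hcomp, ← hU, hUn']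
  have h5 : D'.map (MulAut.conj (n * e)).toMonoidHom = U := by rw [← hcomp, hD'U, hUn']
  have h6 : Ok U (n * e)⁻¹ := by
    have := hinv D' (n * e) hD'P hb
    rwa [h5] at this
  have h7 := hmul D (n * a) (n * e)⁻¹ hDP (h4.le.trans hUP) h3 (h4.symm ▸ h6)
  rwa [he, show (n * (a * c⁻¹))⁻¹ * (n * a) = c by group] at h7

/-- The intersection of a Sylow subgroup with a normal subgroup is a Sylow subgroup of it. -/
theorem exists_sylow_map_eq (P : Sylow p G) (N : Subgroup G) [hN : N.Normal] :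
    ∃ Q : Sylow p N, (Q : Subgroup N).map N.subtype = (P : Subgroup G) ⊓ N := by
  obtain ⟨Q, hQ⟩ := ((P.isPGroup'.to_le inf_le_left : IsPGroup p ↥((P : Subgroup G) ⊓ N)).of_equiv
    (subgroupOfEquivOfLe (inf_le_right : (P : Subgroup G) ⊓ N ≤ N)).symm).exists_le_sylow
  refine ⟨Q, ?_⟩
  have hle : (P : Subgroup G) ⊓ N ≤ (Q : Subgroup N).map N.subtype := fun x hx =>
    ⟨⟨x, hx.2⟩, hQ (mem_subgroupOf.2 hx), rfl⟩
  refine (eq_of_le_of_card_ge hle ?_).symm
  obtain ⟨T, hT⟩ := (Q.isPGroup'.map N.subtype).exists_le_sylow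
  obtain ⟨g, hg⟩ := MulAction.exists_smul_eq G T P
  rw [Nat.card_congr ((Q : Subgroup N).equivMapOfInjective _ N.subtype_injective).toEquiv.symm]
  refine le_trans (le_of_eq ?_) (Nat.card_le_card_of_injective
    (fun q : (Q : Subgroup N) => (⟨g * ((q : N) : G) * g⁻¹,
      ⟨hg ▸ ⟨_, hT ⟨q, q.2, rfl⟩, rfl⟩, hN.conj_mem _ (q : N).2 g⟩⟩ : ↥((P : Subgroup G) ⊓ N))) fun a b h => ?_)
  · rfl
  · have h' : g * ((a : N) : G) * g⁻¹ = g * ((b : N) : G) * g⁻¹ := congrArg Subtype.val h
    exact Subtype.ext (Subtype.ext (mul_left_cancel (mul_right_cancel h')))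

end Cfsg.Agent.Local.PairControl
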