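import Cfsg.Agent.Lib.Local.CharPEquiv

/-!
Characteristic `p` passes between two parabolic subgroups.
-/

set_option autoImplicit false
set_option linter.style.haveILetI false

namespace Cfsg.Agent.Local.CharPB

open Subgroup

variable {G : Type*} [Group G] [Finite G] {p : ℕ} [hp : Fact p.Prime]

theorem map_pCore_le_sylow {H : Subgroup G} (T : Sylow p G) (hT : (T : Subgroup G) ≤ H) :
    (pCore p H).map H.subtype ≤ (T : Subgroup G) := by
  rintro _ ⟨x, hx, rfl⟩
  exact Solv.pCore_le_sylow (T.subtype hT) hx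

theorem centralizer_pCore_le_of_parabolic (T : Sylow p G) {N M : Subgroup G}
    (hTN : (T : Subgroup G) ≤ N) (hTM : (T : Subgroup G) ≤ M)
    (hM : centralizer (pCore p M : Set M) ≤ pCore p M)
    (hC : N ⊓ centralizer (((pCore p N).map N.subtype : Subgroup G) : Set G) ≤ M) :
    centralizer (pCore p N : Set N) ≤ pCore p N := by
  set W := (pCore p N).map N.subtype with hW
  have hWT : W ≤ (T : Subgroup G) := map_pCore_le_sylow T hTN
  have hWM : W ≤ M := hWT.trans hTM
  have hWp : IsPGroup p W := T.isPGroup'.to_le hWT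
  have hNW : N ≤ normalizer (W : Set G) := by
    haveI : (pCore p N).Normal := by haveI := Solv.pCore_characteristic p N; infer_instance
    intro n hn
    rw [mem_normalizer_iff]
    intro x
    constructor
    · rintro ⟨y, hy, rfl⟩
      exact ⟨⟨n, hn⟩ * y * ⟨n, hn⟩⁻¹, (inferInstance : (pCore p N).Normal).conj_mem y hy _, rfl⟩
    · rintro ⟨y, hy, e⟩
      exact ⟨(⟨n, hn⟩ : N)⁻¹ * y * ⟨n, hn⟩,
        by simpa using (inferInstance : (pCore p N).Normal).conj_mem y hy (⟨n, hn⟩ : N)⁻¹, by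
          show n⁻¹ * (y : G) * n = x
          rw [show (y : G) = n * x * n⁻¹ from e]; group⟩
  set H := normalizer (W : Set G) ⊓ M with hH
  have hmap : (normalizer ((W.subgroupOf M : Subgroup M) : Set M)).map M.subtype = H := by
    rw [← subgroupOf_normalizer_eq hWM, subgroupOf_map_subtype]
  have hHc : centralizer (pCore p H : Set H) ≤ pCore p H :=
    centralizer_pCore_le_of_mulEquiv
      ((equivMapOfInjective _ _ M.subtype_injective).trans (MulEquiv.subgroupCongr hmap))
      (fstar_eq_pCore_iff.1 (fstar_normalizer_eq_pCore (fstar_eq_pCore_iff.2 hM)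
        (hWp.comap_of_injective _ M.subtype_injective)))
  have hTH : (T : Subgroup G) ≤ H := le_inf (hTN.trans hNW) hTM
  set P := (pCore p H).map H.subtype with hP
  have hPT : P ≤ (T : Subgroup G) := map_pCore_le_sylow T hTH
  set C₁ := centralizer (pCore p N : Set N) with hC₁
  haveI : C₁.Normal := by
    haveI : (pCore p N).Normal := by haveI := Solv.pCore_characteristic p N; infer_instance
    exact normal_centralizer
  have hC₁H : ∀ c : N, c ∈ C₁ → (c : G) ∈ H := fun c hc => mem_inf.2 ⟨hNW c.2, hC (mem_inf.2 ⟨c.2,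
    mem_centralizer_iff.2 fun x hx => by
      obtain ⟨y, hy, rfl⟩ := hx
      exact congrArg Subtype.val (mem_centralizer_iff.1 hc y hy)⟩)⟩
  have hHP : H ≤ normalizer (P : Set G) := by
    haveI : (pCore p H).Normal := by haveI := Solv.pCore_characteristic p H; infer_instance
    intro n hn
    rw [mem_normalizer_iff]
    intro x
    constructor
    · rintro ⟨y, hy, rfl⟩
      exact ⟨⟨n, hn⟩ * y * ⟨n, hn⟩⁻¹, (inferInstance : (pCore p H).Normal).conj_mem y hy _, rfl⟩
    · rintro ⟨y, hy, e⟩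
      exact ⟨(⟨n, hn⟩ : H)⁻¹ * y * ⟨n, hn⟩,
        by simpa using (inferInstance : (pCore p H).Normal).conj_mem y hy (⟨n, hn⟩ : H)⁻¹, by
          show n⁻¹ * (y : G) * n = x
          rw [show (y : G) = n * x * n⁻¹ from e]; group⟩
  have hX : P.subgroupOf N ⊓ C₁ ≤ pCore p N := by
    have h1 : (P.subgroupOf N).subgroupOf C₁ ≤ pCore p C₁ := by
      haveI : ((P.subgroupOf N).subgroupOf C₁).Normal := ⟨fun y hy g => by
        rw [mem_subgroupOf, mem_subgroupOf] at hy ⊢
        exact (mem_normalizer_iff.1 (hHP (hC₁H g g.2)) _).1 hy⟩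
      refine Solv.le_pCore ?_
      exact ((T.isPGroup'.to_le hPT).comap_of_injective _ N.subtype_injective).comap_of_injective _
        C₁.subtype_injective
    haveI := Solv.pCore_characteristic p C₁
    have h2 : (pCore p C₁).map C₁.subtype ≤ pCore p N :=
      Solv.le_pCore ((Solv.isPGroup_pCore p C₁).map _)
    intro x hx
    obtain ⟨hxP, hxC⟩ := mem_inf.1 hx
    exact h2 ⟨⟨x, hxC⟩, h1 (mem_subgroupOf.2 hxP), rfl⟩
  refine Solv.le_pCore (isPGroup_of_forall_eq_one fun c hc hco => ?_)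
  have hco' : (orderOf (c : G)).Coprime p := by rwa [Subgroup.orderOf_coe]
  have hcH := hC₁H c hc
  have hPn : zpowers (c : G) ≤ normalizer (P : Set G) := zpowers_le.2 (hHP hcH)
  have h3 : ⁅P, zpowers (c : G)⁆ ≤ W := by
    rw [commutator_le]
    rintro x hx _ ⟨m, rfl⟩
    show x * (c : G) ^ m * x⁻¹ * ((c : G) ^ m)⁻¹ ∈ W
    refine ⟨⟨x, hTN (hPT hx)⟩ * c ^ m * ⟨x, hTN (hPT hx)⟩⁻¹ * (c ^ m)⁻¹, hX (mem_inf.2 ⟨?_, ?_⟩), by simp⟩
    · rw [mem_subgroupOf]
      simp only [Subgroup.coe_mul, InvMemClass.coe_inv, Subgroup.coe_zpow]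
      rw [show x * (c : G) ^ m * x⁻¹ * ((c : G) ^ m)⁻¹ = x * ((c : G) ^ m * x⁻¹ * ((c : G) ^ m)⁻¹) by group]
      exact mul_mem hx ((mem_normalizer_iff.1 (zpow_mem (hHP hcH) m) _).1 (inv_mem hx))
    · exact mul_mem ((inferInstance : C₁.Normal).conj_mem _ (zpow_mem hc m) _) (inv_mem (zpow_mem hc m))
  have h4 : ⁅W, zpowers (c : G)⁆ = ⊥ := by
    rw [commutator_comm, commutator_eq_bot_iff_le_centralizer, zpowers_le, mem_centralizer_iff]
    rintro _ ⟨y, hy, rfl⟩
    exact congrArg Subtype.val (mem_centralizer_iff.1 hc y hy)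
  have h5 := centralizes_of_iterCommutator (T.isPGroup'.to_le hPT) hco' hPn (n := 2)
    (le_bot_iff.1 ((commutator_mono h3 le_rfl).trans h4.le))
  have h6 : (⟨(c : G), hcH⟩ : H) ∈ pCore p H := hHc (mem_centralizer_iff.2 fun y hy =>
    Subtype.ext (mem_centralizer_iff.1 h5 _ (mem_map_of_mem _ hy)))
  obtain ⟨k, hk⟩ := IsPGroup.iff_card.1 (Solv.isPGroup_pCore p H)
  have h7 : orderOf (⟨(c : G), hcH⟩ : H) = 1 := by
    refine Nat.eq_one_of_dvd_coprimes (hco'.pow_right k) ?_ (hk ▸ Subgroup.orderOf_dvd_natCard _ h6)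
    rw [← Subgroup.orderOf_coe]
  have h8 := orderOf_eq_one_iff.1 h7
  exact Subtype.ext (congrArg (fun y : H => (y : G)) h8)

end Cfsg.Agent.Local.CharPB
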