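import Cfsg.Agent.Lib.Solv.Subnormal
import Cfsg.Agent.Lib.Solv.Misc
import Cfsg.Agent.Lib.Solv.Basic
import Cfsg.Agent.Lib.Solv.NormalPComplement

/-!
A Sylow subgroup meets the join of two subnormal subgroups in the join of the meets.
-/

set_option autoImplicit false
set_option linter.style.haveILetI false

namespace Cfsg.Agent.Local.SubnormalSylow

open Subgroup

universe u

theorem map_inf_sylow {G : Type u} [Group G] [Finite G] {p : ℕ} [Fact p.Prime] {H : Type u} [Group H]
    [Finite H] (f : G →* H) (hf : Function.Surjective f) (T : Sylow p G) {A : Subgroup G}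
    (hA : A.IsSubnormal) :
    ((T : Subgroup G) ⊓ A).map f = (T : Subgroup G).map f ⊓ A.map f := by
  refine le_antisymm (map_inf_le _ _ f) ?_
  set P := (T : Subgroup G).map f ⊓ A.map f
  set Q := ((T : Subgroup G) ⊓ A).map f
  have hQP : Q ≤ P := map_inf_le _ _ f
  have hd : ¬ p ∣ Q.relIndex (A.map f) := by
    intro h
    refine Solv.index_sylow_inf_subnormal A hA T ?_
    change p ∣ (T : Subgroup G).relIndex A
    rw [← inf_relIndex_right (T : Subgroup G) A]
    refine h.trans ?_
    set φ := f.subgroupMap A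
    have h1 := index_map_dvd (((T : Subgroup G) ⊓ A).subgroupOf A) (f.subgroupMap_surjective A)
    have e : (((T : Subgroup G) ⊓ A).subgroupOf A).map (f.subgroupMap A) = Q.subgroupOf (A.map f) := by
      ext y
      constructor
      · rintro ⟨x, hx, rfl⟩
        exact ⟨x, hx, rfl⟩
      · rintro ⟨x, hx, hxy⟩
        exact ⟨⟨x, (mem_inf.1 hx).2⟩, hx, Subtype.ext hxy⟩
    rw [e] at h1
    exact h1
  obtain ⟨k, hk⟩ := IsPGroup.iff_card.1 ((T.isPGroup'.map f).to_le (inf_le_left : P ≤ _))
  have h2 : Q.relIndex P = 1 := by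
    have h3 : Q.relIndex P ∣ p ^ k := hk ▸ relIndex_dvd_card Q P
    obtain ⟨j, -, hj⟩ := (Nat.dvd_prime_pow (Fact.out : p.Prime)).1 h3
    rcases j with _ | j
    · simpa using hj
    · exfalso
      refine hd (dvd_trans ?_ (Dvd.intro (P.relIndex (A.map f))
        (relIndex_mul_relIndex Q P (A.map f) hQP inf_le_right)))
      rw [hj]; exact dvd_pow_self p j.succ_ne_zero
  exact relIndex_eq_one.1 h2

theorem inf_sup_le_aux : ∀ (n : ℕ) (G : Type u) [Group G] [Finite G], Nat.card G ≤ n →
    ∀ {p : ℕ} [Fact p.Prime] (T : Sylow p G) (A B : Subgroup G), A.IsSubnormal → B.IsSubnormal →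
    (T : Subgroup G) ⊓ (A ⊔ B) ≤ ((T : Subgroup G) ⊓ A) ⊔ ((T : Subgroup G) ⊓ B) := by
  intro n
  induction n with
  | zero => intro G _ _ h; exact absurd h (Nat.not_le.2 Nat.card_pos)
  | succ n ih =>
  intro G _ _ hcard p _ T A B hA hB
  set J := A ⊔ B with hJ
  set R := ((T : Subgroup G) ⊓ A) ⊔ ((T : Subgroup G) ⊓ B) with hR
  by_cases hJtop : J = ⊤
  swap
  · have hlt : Nat.card J ≤ n := by
      have := Subgroup.card_le_card_group J
      have h2 : Nat.card J ≠ Nat.card G := fun h => hJtop (eq_top_of_card_eq J h)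
      omega
    let TJ : Sylow p J := (T.isPGroup'.comap_of_injective J.subtype J.subtype_injective).toSylow
      (Solv.index_sylow_inf_subnormal J (Solv.isSubnormal_sup hA hB) T)
    have h1 := ih J hlt TJ (A.subgroupOf J) (B.subgroupOf J) hA.subgroupOf hB.subgroupOf
    rw [← subgroupOf_sup (le_sup_left : A ≤ J) (le_sup_right : B ≤ J), subgroupOf_self, inf_top_eq] at h1
    have h2 := map_mono (f := J.subtype) h1
    have hT : (TJ : Subgroup J).map J.subtype = (T : Subgroup G) ⊓ J := subgroupOf_map_subtype _ _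
    rw [hT, Subgroup.map_sup, map_inf _ _ _ J.subtype_injective, map_inf _ _ _ J.subtype_injective, hT,
      map_subgroupOf_eq_of_le (le_sup_left : A ≤ J), map_subgroupOf_eq_of_le (le_sup_right : B ≤ J)] at h2
    refine h2.trans (sup_le ?_ ?_)
    · exact le_sup_of_le_left (inf_le_inf_right _ inf_le_left)
    · exact le_sup_of_le_right (inf_le_inf_right _ inf_le_left)
  rw [hJtop, inf_top_eq]
  have hRT : R ≤ (T : Subgroup G) := sup_le inf_le_left inf_le_left
  by_cases hM : pResidual p G = ⊥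
  · have hA' : ∀ x : G, x ∈ (T : Subgroup G) := by
      intro x
      have h1 : x ∈ (T : Subgroup G) ⊔ pResidual p G := by rw [Solv.sup_pResidual_eq_top]; trivial
      rwa [hM, sup_bot_eq] at h1
    intro t _
    have htop : (T : Subgroup G) = ⊤ := eq_top_iff.2 fun x _ => hA' x
    rw [hR, htop, top_inf_eq, top_inf_eq, ← hJ, hJtop]
    trivial
  haveI : (pResidual p G).Normal := inferInstance
  obtain ⟨N, hN, hNM, hN1, hmin⟩ := Solv.exists_minimal_normal_le hM
  haveI := hN
  -- reduce to the kernel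
  have hTN : ∀ x ∈ (T : Subgroup G), ∃ r ∈ R, r⁻¹ * x ∈ (T : Subgroup G) ⊓ N := by
    have hf := QuotientGroup.mk'_surjective N
    have hlt : Nat.card (G ⧸ N) ≤ n := by
      have h1 := N.card_mul_index
      have h2 : 1 < Nat.card N := Finite.one_lt_card_iff_nontrivial.2 ((nontrivial_iff_ne_bot N).2 hN1)
      have h3 : 0 < N.index := Nat.pos_of_ne_zero N.index_ne_zero_of_finite
      have h4 : N.index < Nat.card G := h1 ▸ lt_mul_of_one_lt_left h3 h2
      rw [← index_eq_card]; omega
    have h1 := ih (G ⧸ N) hlt (T.mapSurjective hf) (A.map (QuotientGroup.mk' N)) (B.map (QuotientGroup.mk' N))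
      (hA.map hf) (hB.map hf)
    rw [Sylow.coe_mapSurjective, ← Subgroup.map_sup, ← map_inf_sylow _ hf T hA, ← map_inf_sylow _ hf T hB,
      ← Subgroup.map_sup, ← hJ, hJtop, map_top_of_surjective _ hf, inf_top_eq] at h1
    intro x hx
    obtain ⟨r, hr, hrx⟩ := h1 (mem_map_of_mem _ hx)
    exact ⟨r, hr, mem_inf.2 ⟨mul_mem (inv_mem (hRT hr)) hx, QuotientGroup.eq.1 hrx⟩⟩
  suffices hNR : (T : Subgroup G) ⊓ N ≤ R by
    intro x hx
    obtain ⟨r, hr, hrx⟩ := hTN x hx
    simpa using mul_mem hr (hNR hrx)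
  have hNA : N ≤ normalizer (A : Set G) := Solv.minimal_normal_le_normalizer N A hN1 hmin hA
  have hNB : N ≤ normalizer (B : Set G) := Solv.minimal_normal_le_normalizer N B hN1 hmin hB
  have hcom : ∀ (X : Subgroup G), N ≤ normalizer (X : Set G) → ∀ z ∈ N, ∀ a ∈ X,
      z * a * z⁻¹ * a⁻¹ ∈ X ⊓ N := fun X hX z hz a ha => mem_inf.2
    ⟨mul_mem ((mem_normalizer_iff.1 (hX hz) a).1 ha) (inv_mem ha), by
      rw [show z * a * z⁻¹ * a⁻¹ = z * (a * z⁻¹ * a⁻¹) by group]
      exact mul_mem hz (hN.conj_mem _ (inv_mem hz) a)⟩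
  set N₀ := (A ⊓ N) ⊔ (B ⊓ N) with hN₀
  haveI hN₀n : N₀.Normal := by
    rw [← normalizer_eq_top_iff, eq_top_iff, ← hJtop, hJ]
    have key : ∀ X : Subgroup G, N ≤ normalizer (X : Set G) → X ⊓ N ≤ N₀ → X ≤ normalizer (N₀ : Set G) := by
      intro X hX hXN a ha
      have hle : ∀ g ∈ X, N₀ ≤ N₀.comap (MulAut.conj g).toMonoidHom := by
        intro g hg z hz
        have hzN : z ∈ N := (sup_le inf_le_right inf_le_right : N₀ ≤ N) hz
        show g * z * g⁻¹ ∈ N₀
        rw [show g * z * g⁻¹ = (z * g * z⁻¹ * g⁻¹)⁻¹ * z by group]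
        exact mul_mem (inv_mem (hXN (hcom X hX z hzN g hg))) hz
      rw [mem_normalizer_iff]
      intro z
      refine ⟨fun hz => hle a ha hz, fun hz => ?_⟩
      have := hle a⁻¹ (inv_mem ha) hz
      simpa [mul_assoc] using this
    exact sup_le (key A hNA le_sup_left) (key B hNB le_sup_right)
  rcases hmin N₀ inferInstance (sup_le inf_le_right inf_le_right) with h0 | h0
  · -- `N` is central
    have hbotA : A ⊓ N = ⊥ := le_bot_iff.1 (h0 ▸ le_sup_left)
    have hbotB : B ⊓ N = ⊥ := le_bot_iff.1 (h0 ▸ le_sup_right)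
    have hcen : N ≤ center G := by
      intro z hz
      have h1 : A ⊔ B ≤ centralizer ({z} : Set G) := by
        refine sup_le (fun a ha => ?_) (fun a ha => ?_)
        · have := hcom A hNA z hz a ha
          rw [hbotA, mem_bot] at this
          exact mem_centralizer_singleton_iff.2 (mul_inv_eq_iff_eq_mul.1 (mul_inv_eq_one.1 this)).symm
        · have := hcom B hNB z hz a ha
          rw [hbotB, mem_bot] at this
          exact mem_centralizer_singleton_iff.2 (mul_inv_eq_iff_eq_mul.1 (mul_inv_eq_one.1 this)).symm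
      rw [← hJ, hJtop] at h1
      exact mem_center_iff.2 fun g => mem_centralizer_singleton_iff.1 (h1 (mem_top g))
    intro z hz
    obtain ⟨hzT, hzN⟩ := mem_inf.1 hz
    by_contra hzR
    haveI hRn : (R.subgroupOf (T : Subgroup G)).Normal := by
      constructor
      intro r hr t
      obtain ⟨r₀, hr₀, ht⟩ := hTN t t.2
      obtain ⟨-, htN⟩ := mem_inf.1 ht
      rw [mem_subgroupOf] at hr ⊢
      push_cast
      have h2 := mem_center_iff.1 (hcen htN)
      rw [show (t : G) * r * (t : G)⁻¹ = r₀ * ((r₀⁻¹ * t) * r * (r₀⁻¹ * t)⁻¹) * r₀⁻¹ by group,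
        ← h2 (r : G), mul_inv_cancel_right]
      exact mul_mem (mul_mem hr₀ hr) (inv_mem hr₀)
    letI : CommGroup ((T : Subgroup G) ⧸ R.subgroupOf (T : Subgroup G)) :=
      { (inferInstance : Group _) with
        mul_comm := fun a b => by
          obtain ⟨x, rfl⟩ := QuotientGroup.mk_surjective a
          obtain ⟨y, rfl⟩ := QuotientGroup.mk_surjective b
          obtain ⟨r, hr, hrx⟩ := hTN x x.2
          have hrx' : (r⁻¹ * (x : G)) ∈ center G := hcen (mem_inf.1 hrx).2
          have e : (QuotientGroup.mk x : (T : Subgroup G) ⧸ R.subgroupOf (T : Subgroup G)) =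
              QuotientGroup.mk ⟨r⁻¹ * x, (mem_inf.1 hrx).1⟩ := by
            rw [QuotientGroup.eq, mem_subgroupOf]
            push_cast
            rw [← mem_center_iff.1 hrx' (x : G)⁻¹ |>.symm]
            simpa using inv_mem hr
          rw [e, ← QuotientGroup.mk_mul, ← QuotientGroup.mk_mul]
          exact congrArg _ (Subtype.ext (mem_center_iff.1 hrx' y).symm) }
    set φ := QuotientGroup.mk' (R.subgroupOf (T : Subgroup G))
    set ψ := MonoidHom.transfer φ
    have hkey : ∀ (k : ℕ) (g₀ : G), g₀⁻¹ * z ^ k * g₀ ∈ (T : Subgroup G) → g₀⁻¹ * z ^ k * g₀ = z ^ k := by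
      intro k g₀ _
      rw [mul_assoc, ← mem_center_iff.1 (pow_mem (hcen hzN) k) g₀, inv_mul_cancel_left]
    have h1 : ψ z = φ ⟨z ^ (T : Subgroup G).index, _⟩ := MonoidHom.transfer_eq_pow φ z hkey
    have hp : IsPGroup p ((T : Subgroup G) ⧸ R.subgroupOf (T : Subgroup G)) := T.isPGroup'.to_quotient _
    have h2 : pResidual p G ≤ ψ.ker := by
      rw [pResidual, closure_le]
      intro g hg
      obtain ⟨k, hk⟩ := hp (ψ g)
      have h3 : orderOf (ψ g) ∣ orderOf g := orderOf_map_dvd ψ g
      exact orderOf_eq_one_iff.1 (Nat.eq_one_of_dvd_coprimes (hg.pow_right k) h3 (orderOf_dvd_of_pow_eq_one hk))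
    have h3 : z ^ (T : Subgroup G).index ∈ R := by
      have := h2 (hNM hzN)
      rw [MonoidHom.mem_ker, h1] at this
      exact mem_subgroupOf.1 ((QuotientGroup.eq_one_iff (N := R.subgroupOf (T : Subgroup G)) _).1 this)
    obtain ⟨k, hk⟩ := IsPGroup.iff_card.1 T.isPGroup'
    obtain ⟨i, hi⟩ := exists_pow_eq_self_of_coprime (n := (T : Subgroup G).index) (x := z)
      (Nat.Coprime.coprime_dvd_right (hk ▸ Subgroup.orderOf_dvd_natCard _ hzT)
        ((((Fact.out : p.Prime).coprime_iff_not_dvd.2 T.not_dvd_index).symm).pow_right k))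
    exact hzR (hi ▸ pow_mem h3 i)
  · -- `N` is generated by its meets with `A` and `B`
    let TN : Sylow p N := (T.isPGroup'.comap_of_injective N.subtype N.subtype_injective).toSylow
      (Solv.index_sylow_inf_subnormal N (Normal.isSubnormal inferInstance) T)
    haveI hXn : ((A ⊓ N).subgroupOf N).Normal := by
      rw [inf_subgroupOf_right]
      exact ⟨fun x hx y => (mem_normalizer_iff.1 (hNA y.2) x).1 hx⟩
    set X := (A ⊓ N).subgroupOf N
    set Y := (B ⊓ N).subgroupOf N
    have hXY : X ⊔ Y = ⊤ := by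
      rw [← subgroupOf_sup (inf_le_right : A ⊓ N ≤ N) (inf_le_right : B ⊓ N ≤ N), ← hN₀, h0, subgroupOf_self]
    have hXs : (A ⊓ N).subgroupOf N = A.subgroupOf N := inf_subgroupOf_right _ _
    have hYs : (B ⊓ N).subgroupOf N = B.subgroupOf N := inf_subgroupOf_right _ _
    have hidxX : ¬ p ∣ ((TN : Subgroup N).subgroupOf X).index :=
      Solv.index_sylow_inf_subnormal X (Normal.isSubnormal inferInstance) TN
    haveI hYn : Y.Normal := by
      rw [show Y = B.subgroupOf N from hYs]
      exact ⟨fun x hx y => (mem_normalizer_iff.1 (hNB y.2) x).1 hx⟩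
    have hidxY : ¬ p ∣ ((TN : Subgroup N).subgroupOf Y).index :=
      Solv.index_sylow_inf_subnormal Y (Normal.isSubnormal inferInstance) TN
    set U := (TN : Subgroup N) ⊓ X
    set V := (TN : Subgroup N) ⊓ Y
    have hle : (TN : Subgroup N) ≤ U ⊔ V := by
      have hVU : V ≤ normalizer (U : Set N) := by
        intro v hv
        obtain ⟨hvT, -⟩ := mem_inf.1 hv
        rw [mem_normalizer_iff]
        intro x
        constructor
        · intro hx
          obtain ⟨h1, h2⟩ := mem_inf.1 hx
          exact mem_inf.2 ⟨mul_mem (mul_mem hvT h1) (inv_mem hvT), hXn.conj_mem x h2 v⟩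
        · intro hx
          obtain ⟨h1, h2⟩ := mem_inf.1 hx
          refine mem_inf.2 ⟨?_, ?_⟩
          · simpa [mul_assoc] using mul_mem (mul_mem (inv_mem hvT) h1) hvT
          · simpa [mul_assoc] using hXn.conj_mem _ h2 v⁻¹
      have e1 := Solv.card_sup_mul_card_inf U V hVU
      have e2 := Solv.card_sup_mul_card_inf X Y le_normalizer_of_normal
      have hsupT : U ⊔ V ≤ (TN : Subgroup N) := sup_le inf_le_left inf_le_left
      have cX : Nat.card U * ((TN : Subgroup N).subgroupOf X).index = Nat.card X := by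
        have := ((TN : Subgroup N).subgroupOf X).card_mul_index
        rwa [show Nat.card ((TN : Subgroup N).subgroupOf X) = Nat.card U by
          rw [← inf_subgroupOf_right, Solv.card_subgroupOf inf_le_right]] at this
      have cY : Nat.card V * ((TN : Subgroup N).subgroupOf Y).index = Nat.card Y := by
        have := ((TN : Subgroup N).subgroupOf Y).card_mul_index
        rwa [show Nat.card ((TN : Subgroup N).subgroupOf Y) = Nat.card V by
          rw [← inf_subgroupOf_right, Solv.card_subgroupOf inf_le_right]] at this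
      have hUV : Nat.card ↥(U ⊓ V) ∣ Nat.card ↥(X ⊓ Y) :=
        card_dvd_of_le (inf_le_inf inf_le_right inf_le_right)
      obtain ⟨d, hd⟩ := hUV
      rw [hXY, card_top] at e2
      have hc : (Nat.card N) * d = Nat.card ↥(U ⊔ V) *
          (((TN : Subgroup N).subgroupOf X).index * ((TN : Subgroup N).subgroupOf Y).index) := by
        have hpos : 0 < Nat.card ↥(U ⊓ V) := Nat.card_pos
        refine Nat.eq_of_mul_eq_mul_left hpos ?_
        calc Nat.card ↥(U ⊓ V) * (Nat.card N * d) = Nat.card N * Nat.card ↥(X ⊓ Y) := by rw [hd]; ring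
          _ = Nat.card X * Nat.card Y := e2
          _ = (Nat.card U * Nat.card V) *
              (((TN : Subgroup N).subgroupOf X).index * ((TN : Subgroup N).subgroupOf Y).index) := by
                rw [← cX, ← cY]; ring
          _ = _ := by rw [← e1]; ring
      have hcop : (Nat.card (TN : Subgroup N)).Coprime
          (((TN : Subgroup N).subgroupOf X).index * ((TN : Subgroup N).subgroupOf Y).index) := by
        obtain ⟨k, hk⟩ := IsPGroup.iff_card.1 TN.isPGroup'
        rw [hk]
        exact (((Fact.out : p.Prime).coprime_iff_not_dvd.2 hidxX).mul_right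
          ((Fact.out : p.Prime).coprime_iff_not_dvd.2 hidxY)).pow_left k
      have hdvd : Nat.card (TN : Subgroup N) ∣ Nat.card ↥(U ⊔ V) := by
        refine hcop.dvd_of_dvd_mul_right ?_
        rw [← hc]
        exact (Subgroup.card_subgroup_dvd_card _).trans (dvd_mul_right _ _)
      exact (eq_of_le_of_card_ge hsupT (Nat.le_of_dvd Nat.card_pos hdvd)).ge
    intro z hz
    obtain ⟨hzT, hzN⟩ := mem_inf.1 hz
    have h1 : (⟨z, hzN⟩ : N) ∈ U ⊔ V := hle hzT
    have h2 : (U ⊔ V).map N.subtype ≤ R := by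
      rw [Subgroup.map_sup]
      refine sup_le_sup ?_ ?_
      · rintro _ ⟨x, hx, rfl⟩
        exact mem_inf.2 ⟨(mem_inf.1 hx).1, (mem_inf.1 (mem_subgroupOf.1 (mem_inf.1 hx).2)).1⟩
      · rintro _ ⟨x, hx, rfl⟩
        exact mem_inf.2 ⟨(mem_inf.1 hx).1, (mem_inf.1 (mem_subgroupOf.1 (mem_inf.1 hx).2)).1⟩
    exact h2 ⟨_, h1, rfl⟩

theorem inf_sup_eq {G : Type u} [Group G] [Finite G] {p : ℕ} [Fact p.Prime] (T : Sylow p G)
    {A B : Subgroup G} (hA : A.IsSubnormal) (hB : B.IsSubnormal) :
    (T : Subgroup G) ⊓ (A ⊔ B) = ((T : Subgroup G) ⊓ A) ⊔ ((T : Subgroup G) ⊓ B) :=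
  le_antisymm (inf_sup_le_aux _ G le_rfl T A B hA hB)
    (sup_le (inf_le_inf_left _ le_sup_left) (inf_le_inf_left _ le_sup_right))

end Cfsg.Agent.Local.SubnormalSylow
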