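import Cfsg.Agent.Lib.Local.CentralizerOmegaCenter
import Cfsg.Agent.Lib.Local.CharPEquiv
import Cfsg.Agent.Lib.Local.SylowSubnormalJoin
import Cfsg.Prelude.Def_LocalEven

/-!
Point stabilizers of subnormal subgroups in groups of local characteristic `p`.
-/

set_option autoImplicit false
set_option linter.style.haveILetI false

namespace Cfsg.Agent.Local.PointStab

open Subgroup

universe u

variable {G : Type u} [Group G] [Finite G] {p : ℕ} [hp : Fact p.Prime]

def LocChar (p : ℕ) (G : Type u) [Group G] : Prop :=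
  ∀ P : Subgroup G, IsPGroup p P → P ≠ ⊥ →
    centralizer (pCore p (normalizer (P : Set G)) : Set (normalizer (P : Set G))) ≤
      pCore p (normalizer (P : Set G))

/-- `Ω₁(Z(A))`. -/
abbrev zOmega (p : ℕ) (A : Subgroup G) : Subgroup G := omegaOne p (A ⊓ centralizer (A : Set G))

theorem mem_centralizer_zOmega_iff (K : Subgroup G) (A : Subgroup K) (B : Subgroup G)
    (h : A.map K.subtype = B) (y : K) :
    y ∈ centralizer (zOmega p A : Set K) ↔ (y : G) ∈ centralizer (zOmega p B : Set G) := by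
  subst h
  rw [zOmega, zOmega, ← OmegaCenter.map_omegaOneCenter]
  constructor
  · intro hy
    refine mem_centralizer_iff.2 ?_
    rintro _ ⟨a, ha, rfl⟩
    exact congrArg Subtype.val (mem_centralizer_iff.1 hy a ha)
  · intro hy
    exact mem_centralizer_iff.2 fun a ha =>
      Subtype.ext (mem_centralizer_iff.1 hy _ (mem_map_of_mem K.subtype ha))

theorem le_centralizer_zOmega (A : Subgroup G) : A ≤ centralizer (zOmega p A : Set G) :=
  le_centralizer_iff.1 ((closure_le _).2 fun _ hy => (mem_inf.1 hy.1).2)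

theorem zOmega_isPGroup {A : Subgroup G} (hA : IsPGroup p A) : IsPGroup p (zOmega p A) :=
  hA.to_le ((Amalgam.omegaOne_le _).trans inf_le_left)

theorem zOmega_ne_bot {A : Subgroup G} (hA : IsPGroup p A) (h : A ≠ ⊥) : zOmega p A ≠ ⊥ := by
  haveI := (nontrivial_iff_ne_bot A).2 h
  haveI := hA.center_nontrivial
  obtain ⟨j, hj⟩ := IsPGroup.iff_card.1 (hA.to_subgroup (center A))
  have hd : p ∣ Nat.card (center A) := by
    rcases j with _ | j
    · exact absurd (card_eq_one.1 (by simpa using hj)) ((nontrivial_iff_ne_bot _).1 inferInstance)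
    · rw [hj]; exact dvd_pow_self p j.succ_ne_zero
  obtain ⟨x, hx⟩ := exists_prime_orderOf_dvd_card' p hd
  intro e
  have hmem : ((x : A) : G) ∈ zOmega p A := subset_closure ⟨mem_inf.2 ⟨(x : A).2,
    mem_centralizer_iff.2 fun a ha => congrArg Subtype.val (mem_center_iff.1 x.2 ⟨a, ha⟩)⟩, by
      rw [← hx, ← orderOf_coe, ← orderOf_coe, pow_orderOf_eq_one]⟩
  rw [e, mem_bot] at hmem
  rw [← orderOf_coe, ← orderOf_coe, hmem, orderOf_one] at hx
  exact hp.out.ne_one hx.symm

theorem normal_step_aux (T : Sylow p G) (L M : Subgroup G) [L.Normal] (hTM : (T : Subgroup G) ≤ M)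
    (hM : centralizer (pCore p M : Set M) ≤ pCore p M) {y : G} (hyL : y ∈ L) (hyM : y ∈ M) :
    y ∈ centralizer (zOmega p (T : Subgroup G) : Set G) ↔
      y ∈ centralizer (zOmega p ((T : Subgroup G) ⊓ L) : Set G) := by
  haveI : (L.subgroupOf M).Normal := Normal.comap inferInstance _
  have h := OmegaCenter.inf_centralizer_eq_of_normal hM (T.subtype hTM) (L.subgroupOf M)
  have hT : ((T.subtype hTM : Sylow p M) : Subgroup M).map M.subtype = (T : Subgroup G) :=
    map_subgroupOf_eq_of_le hTM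
  have hS : (((T.subtype hTM : Sylow p M) : Subgroup M) ⊓ L.subgroupOf M).map M.subtype =
      (T : Subgroup G) ⊓ L := by
    rw [map_inf _ _ _ M.subtype_injective, hT, subgroupOf_map_subtype, inf_comm L M, ← inf_assoc,
      inf_eq_left.2 hTM]
  rw [← mem_centralizer_zOmega_iff M _ _ hT ⟨y, hyM⟩, ← mem_centralizer_zOmega_iff M _ _ hS ⟨y, hyM⟩]
  constructor
  · intro hy
    exact (mem_inf.1 (h.le (mem_inf.2 ⟨hyL, hy⟩))).2
  · intro hy
    exact (mem_inf.1 (h.ge (mem_inf.2 ⟨hyL, hy⟩))).2

theorem normal_step (hG : LocChar p G) (T : Sylow p G) (L : Subgroup G) [L.Normal]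
    (hS : (T : Subgroup G) ⊓ L ≠ ⊥) {y : G} (hyL : y ∈ L) :
    y ∈ centralizer (zOmega p (T : Subgroup G) : Set G) ↔
      y ∈ centralizer (zOmega p ((T : Subgroup G) ⊓ L) : Set G) := by
  set S := (T : Subgroup G) ⊓ L
  have hSp : IsPGroup p S := T.isPGroup'.to_le inf_le_left
  have hT1 : (T : Subgroup G) ≠ ⊥ := fun e => hS (le_bot_iff.1 (inf_le_left.trans e.le))
  have hTS : (T : Subgroup G) ≤ normalizer (zOmega p S : Set G) := by
    intro t ht
    refine mem_normalizer_iff.2 fun x => ?_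
    have e : (zOmega p S).map (MulAut.conj t).toMonoidHom = zOmega p S := by
      have eS : S.map (MulAut.conj t).toMonoidHom = S := by
        refine eq_of_le_of_card_ge ?_ (card_map_of_injective (MulAut.conj t).injective).ge
        rintro _ ⟨z, hz, rfl⟩
        exact mem_inf.2 ⟨mul_mem (mul_mem ht (mem_inf.1 hz).1) (inv_mem ht),
          (inferInstance : L.Normal).conj_mem z (mem_inf.1 hz).2 t⟩
      rw [zOmega, Amalgam.omegaOne_map _ (MulAut.conj t).injective, map_inf _ _ _ (MulAut.conj t).injective,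
        Amalgam.map_centralizer, eS]
    constructor
    · intro hx
      exact e.le (mem_map_of_mem _ hx)
    · intro hx
      rw [← e] at hx
      obtain ⟨z, hz, hzx⟩ := hx
      rwa [show x = z by simpa using (hzx : t * z * t⁻¹ = t * x * t⁻¹).symm]
  constructor
  · intro hy
    exact (normal_step_aux T L _ ((le_centralizer_zOmega (T : Subgroup G)).trans (centralizer_le_normalizer _))
      (hG _ (zOmega_isPGroup T.isPGroup') (zOmega_ne_bot T.isPGroup' hT1)) hyL
      (centralizer_le_normalizer _ hy)).1 hy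
  · intro hy
    exact (normal_step_aux T L _ hTS (hG _ (zOmega_isPGroup hSp) (zOmega_ne_bot hSp hS)) hyL
      (centralizer_le_normalizer _ hy)).2 hy

theorem locChar_normal (hG : LocChar p G) (K : Subgroup G) [K.Normal] : LocChar p K := by
  intro P hP hP1
  set P' := P.map K.subtype
  have h1 := hG P' (hP.map _) fun e => hP1 ((map_eq_bot_iff_of_injective _ K.subtype_injective).1 e)
  haveI : (K.subgroupOf (normalizer (P' : Set G))).Normal := Normal.comap inferInstance _
  have h2 := CharPB.centralizer_pCore_le_of_normal h1 (K.subgroupOf (normalizer (P' : Set G)))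
  have e1 : (K.subgroupOf (normalizer (P' : Set G))).map (normalizer (P' : Set G)).subtype =
      normalizer (P' : Set G) ⊓ K := by rw [subgroupOf_map_subtype, inf_comm]
  have e2 : (normalizer (P : Set K)).map K.subtype = normalizer (P' : Set G) ⊓ K := by
    conv_lhs => rw [show P = P'.subgroupOf K by rw [subgroupOf, comap_map_eq_self_of_injective K.subtype_injective]]
    rw [← subgroupOf_normalizer_eq (map_subtype_le _), subgroupOf_map_subtype]
  exact CharPB.centralizer_pCore_le_of_mulEquiv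
    (((equivMapOfInjective _ _ (normalizer (P' : Set G)).subtype_injective).trans (MulEquiv.subgroupCongr e1)).trans
      ((equivMapOfInjective _ _ K.subtype_injective).trans (MulEquiv.subgroupCongr e2)).symm) h2

theorem mem_centralizer_zOmega_subnormal (hG : LocChar p G) (T : Sylow p G) (L : Subgroup G)
    (hL : L.IsSubnormal) :
    LocChar p L ∧ ((T : Subgroup G) ⊓ L ≠ ⊥ → ∀ y ∈ L,
      (y ∈ centralizer (zOmega p (T : Subgroup G) : Set G) ↔
        y ∈ centralizer (zOmega p ((T : Subgroup G) ⊓ L) : Set G))) := by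
  induction hL with
  | top => exact ⟨locChar_normal hG ⊤, fun _ y _ => by rw [inf_top_eq]⟩
  | step H K hle hK hN ih =>
    haveI := hN
    obtain ⟨hKl, hKe⟩ := ih
    have e : LocChar p (H.subgroupOf K) := locChar_normal hKl (H.subgroupOf K)
    refine ⟨?_, fun hS y hyH => ?_⟩
    · intro P hP hP1
      set f := subgroupOfEquivOfLe hle
      set P₀ := P.map f.symm.toMonoidHom
      have h1 := e P₀ (hP.map _) fun h => hP1 ((map_eq_bot_iff_of_injective _ f.symm.injective).1 h)
      have e3 : (normalizer (P₀ : Set (H.subgroupOf K))).map f.toMonoidHom = normalizer (P : Set H) := by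
        rw [map_normalizer_eq_of_bijective _ (f := f.toMonoidHom) f.bijective, map_map]
        congr 2
        convert Subgroup.map_id P
        ext x
        simp [f]
      exact CharPB.centralizer_pCore_le_of_mulEquiv
        ((equivMapOfInjective _ _ f.injective).trans (MulEquiv.subgroupCongr e3)) h1
    let TK : Sylow p K := (T.isPGroup'.comap_of_injective K.subtype K.subtype_injective).toSylow
      (Solv.index_sylow_inf_subnormal K hK T)
    have hmapT : (TK : Subgroup K).map K.subtype = (T : Subgroup G) ⊓ K := subgroupOf_map_subtype _ _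
    have hmapTH : ((TK : Subgroup K) ⊓ H.subgroupOf K).map K.subtype = (T : Subgroup G) ⊓ H := by
      rw [map_inf _ _ _ K.subtype_injective, hmapT, map_subgroupOf_eq_of_le hle, inf_assoc, inf_eq_right.2 hle]
    have hSK : (T : Subgroup G) ⊓ K ≠ ⊥ := fun e' => hS (le_bot_iff.1 ((inf_le_inf_left _ hle).trans e'.le))
    have hSTK : (TK : Subgroup K) ⊓ H.subgroupOf K ≠ ⊥ := fun e' => hS (by rw [← hmapTH, e', Subgroup.map_bot])
    rw [hKe hSK y (hle hyH), ← mem_centralizer_zOmega_iff K _ _ hmapT ⟨y, hle hyH⟩,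
      normal_step hKl TK (H.subgroupOf K) hSTK (show (⟨y, hle hyH⟩ : K) ∈ H.subgroupOf K from hyH),
      mem_centralizer_zOmega_iff K _ _ hmapTH ⟨y, hle hyH⟩]

theorem pointStabilizer_eq (hG : LocChar p G) (T : Sylow p G) (L : Subgroup G) (hL : L.IsSubnormal) :
    pointStabilizer p L ((T : Subgroup G) ⊓ L) =
      closure {x : G | x ∈ L ⊓ centralizer (zOmega p (T : Subgroup G) : Set G) ∧ ∃ k, orderOf x = p ^ k} := by
  unfold pointStabilizer
  by_cases hS : (T : Subgroup G) ⊓ L = ⊥
  · have hone : ∀ x ∈ L, (∃ k, orderOf x = p ^ k) → x = 1 := by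
      rintro x hx ⟨k, hk⟩
      have hnd := Solv.index_sylow_inf_subnormal L hL T
      have e : (T : Subgroup G).subgroupOf L = ⊥ := by
        rw [← inf_subgroupOf_right, hS, bot_subgroupOf]
      rw [e, index_bot] at hnd
      rcases k with _ | k
      · exact orderOf_eq_one_iff.1 (by simpa using hk)
      · exact absurd ((dvd_pow_self p k.succ_ne_zero).trans (hk ▸ Subgroup.orderOf_dvd_natCard L hx)) hnd
    refine le_antisymm ((closure_le _).2 ?_) ((closure_le _).2 ?_)
    · rintro x ⟨hx, hk⟩; rw [hone x (mem_inf.1 hx).1 hk]; exact one_mem _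
    · rintro x ⟨hx, hk⟩; rw [hone x (mem_inf.1 hx).1 hk]; exact one_mem _
  · congr 1
    ext x
    constructor
    · rintro ⟨hx, hk⟩
      obtain ⟨h1, h2⟩ := mem_inf.1 hx
      exact ⟨mem_inf.2 ⟨h1, ((mem_centralizer_zOmega_subnormal hG T L hL).2 hS x h1).2 h2⟩, hk⟩
    · rintro ⟨hx, hk⟩
      obtain ⟨h1, h2⟩ := mem_inf.1 hx
      exact ⟨mem_inf.2 ⟨h1, ((mem_centralizer_zOmega_subnormal hG T L hL).2 hS x h1).1 h2⟩, hk⟩

omit [Finite G] hp in
theorem closure_pElements_characteristic :
    (closure {x : G | ∃ k, orderOf x = p ^ k}).Characteristic := by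
  refine characteristic_iff_map_le.2 fun φ => ?_
  rw [MonoidHom.map_closure]
  refine closure_mono ?_
  rintro _ ⟨x, ⟨k, hk⟩, rfl⟩
  exact ⟨k, (MulEquiv.orderOf_eq φ x).trans hk⟩

theorem pointStabilizer_sup (hG : LocChar p G) (T : Sylow p G) {L₁ L₂ : Subgroup G}
    (h₁ : L₁.IsSubnormal) (h₂ : L₂.IsSubnormal) :
    pointStabilizer p (L₁ ⊔ L₂) ((T : Subgroup G) ⊓ (L₁ ⊔ L₂)) =
      pointStabilizer p L₁ ((T : Subgroup G) ⊓ L₁) ⊔ pointStabilizer p L₂ ((T : Subgroup G) ⊓ L₂) := by
  have hJ := Solv.isSubnormal_sup h₁ h₂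
  rw [pointStabilizer_eq hG T _ hJ, pointStabilizer_eq hG T _ h₁, pointStabilizer_eq hG T _ h₂]
  set C := centralizer (zOmega p (T : Subgroup G) : Set G)
  set P : Subgroup G → Subgroup G := fun X => closure {x : G | x ∈ X ⊓ C ∧ ∃ k, orderOf x = p ^ k} with hP
  show P (L₁ ⊔ L₂) = P L₁ ⊔ P L₂
  have hmono : ∀ {X Y : Subgroup G}, X ≤ Y → P X ≤ P Y := fun {X Y} h =>
    closure_mono fun x ⟨hx, hk⟩ => ⟨inf_le_inf_right C h hx, hk⟩
  refine le_antisymm ?_ (sup_le (hmono le_sup_left) (hmono le_sup_right))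
  have hTC : (T : Subgroup G) ≤ C := le_centralizer_zOmega _
  have hPC : ∀ X, P X ≤ X ⊓ C := fun X => (closure_le _).2 fun x hx => hx.1
  have hsub : ∀ X : Subgroup G, X.IsSubnormal → ((P X).subgroupOf C).IsSubnormal := by
    intro X hX
    set Xc := X.subgroupOf C
    haveI := closure_pElements_characteristic (G := Xc) (p := p)
    have e : (closure {x : Xc | ∃ k, orderOf x = p ^ k}).map Xc.subtype = (P X).subgroupOf C := by
      apply map_injective C.subtype_injective
      rw [map_subgroupOf_eq_of_le ((hPC X).trans inf_le_right), MonoidHom.map_closure, MonoidHom.map_closure]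
      show Subgroup.closure _ = Subgroup.closure _
      congr 1
      ext x
      constructor
      · rintro ⟨_, ⟨y, ⟨k, hk⟩, rfl⟩, rfl⟩
        exact ⟨mem_inf.2 ⟨y.2, (y : C).2⟩, k, by rw [coe_subtype, coe_subtype, orderOf_coe, orderOf_coe, hk]⟩
      · rintro ⟨hx, k, hk⟩
        refine ⟨⟨x, (mem_inf.1 hx).2⟩, ⟨⟨⟨x, (mem_inf.1 hx).2⟩, (mem_inf.1 hx).1⟩, ⟨k, ?_⟩, rfl⟩, rfl⟩
        rw [← orderOf_coe, ← orderOf_coe]; exact hk
    rw [← e]
    exact ((inferInstance : (closure {x : Xc | ∃ k, orderOf x = p ^ k}).Normal).isSubnormal).trans' hX.subgroupOf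
  set K := P L₁ ⊔ P L₂ with hK
  have hKC : K ≤ C := sup_le ((hPC _).trans inf_le_right) ((hPC _).trans inf_le_right)
  have hKs : (K.subgroupOf C).IsSubnormal := by
    rw [hK, subgroupOf_sup ((hPC _).trans inf_le_right) ((hPC _).trans inf_le_right)]
    exact Solv.isSubnormal_sup (hsub _ h₁) (hsub _ h₂)
  set J := L₁ ⊔ L₂
  set X := J ⊓ C with hX
  have hKX : K ≤ X := sup_le ((hPC _).trans (inf_le_inf_right C le_sup_left))
    ((hPC _).trans (inf_le_inf_right C le_sup_right))
  have hXs : (K.subgroupOf X).IsSubnormal :=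
    Solv.subnormal_subgroupOf_mono hKs inf_le_right
  have hTK : (T : Subgroup G) ⊓ J ≤ K := by
    rw [SubnormalSylow.inf_sup_eq T h₁ h₂]
    have hpe : ∀ {Y : Subgroup G}, (T : Subgroup G) ⊓ Y ≤ P Y := fun {Y} x hx => by
      obtain ⟨hxT, hxY⟩ := mem_inf.1 hx
      obtain ⟨k, hk⟩ := T.isPGroup' ⟨x, hxT⟩
      obtain ⟨j, -, hj⟩ := (Nat.dvd_prime_pow hp.out).1 (orderOf_dvd_of_pow_eq_one
        (congrArg Subtype.val hk : x ^ p ^ k = 1))
      exact subset_closure ⟨mem_inf.2 ⟨hxY, hTC hxT⟩, j, hj⟩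
    exact sup_le_sup hpe hpe
  refine (closure_le _).2 ?_
  rintro x ⟨hx, k, hk⟩
  have hxX : x ∈ X := hx
  have hidx : ¬ p ∣ K.relIndex X := by
    intro hd
    have h1 := Solv.index_sylow_inf_subnormal J hJ T
    refine h1 ?_
    change p ∣ (T : Subgroup G).relIndex J
    rw [← inf_relIndex_right (T : Subgroup G) J]
    have hTJX : (T : Subgroup G) ⊓ J ≤ X := le_inf inf_le_right (inf_le_left.trans hTC)
    refine hd.trans (dvd_trans ?_ (Dvd.intro (X.relIndex J) (relIndex_mul_relIndex _ X J hTJX inf_le_left)))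
    exact Dvd.intro_left _ (relIndex_mul_relIndex _ K X hTK hKX)
  have h2 := relIndex_dvd_index_of_isSubnormal hXs ((zpowers x).subgroupOf X)
  rw [relIndex_subgroupOf (zpowers_le.2 hxX)] at h2
  have h3 : K.relIndex (zpowers x) ∣ p ^ k := by
    rw [← hk, ← Nat.card_zpowers]; exact relIndex_dvd_card K (zpowers x)
  have h4 : K.relIndex (zpowers x) = 1 :=
    Nat.eq_one_of_dvd_coprimes (((hp.out.coprime_iff_not_dvd.2 hidx)).pow_left k) h3 h2
  exact relIndex_eq_one.1 h4 (mem_zpowers x)

end Cfsg.Agent.Local.PointStab
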