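import Cfsg.Agent.Lib.Struct.UniqueOrderP
import Cfsg.Prelude.Def_OddOrderLocal

/-!
# First properties of the Puig series
-/

set_option autoImplicit false

namespace Cfsg.Agent.Local.Puig

open Subgroup

variable {G : Type*} [Group G]

theorem step_anti {X Y : Subgroup G} (h : X ≤ Y) : puigStep Y ≤ puigStep X :=
  sSup_le fun _ hA => le_sSup ⟨hA.1, h.trans hA.2⟩

theorem seq_one : puigSeq G 1 = ⊤ := by
  refine eq_top_iff.2 fun x _ => ?_
  exact le_sSup (show zpowers x ∈ {A : Subgroup G | IsMulCommutative A ∧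
    puigSeq G 0 ≤ normalizer (A : Set G)} from ⟨inferInstance, bot_le⟩) (mem_zpowers x)

theorem seq_even_le_succ (n : ℕ) : puigSeq G (2 * n) ≤ puigSeq G (2 * n + 1) ∧
    puigSeq G (2 * n + 2) ≤ puigSeq G (2 * n + 1) := by
  induction n with
  | zero => exact ⟨bot_le, by show _ ≤ puigSeq G 1; rw [seq_one]; exact le_top⟩
  | succ n ih =>
    have h2 : puigSeq G (2 * n + 2) ≤ puigSeq G (2 * n + 3) := step_anti ih.2
    exact ⟨h2, step_anti h2⟩

theorem seq_even_mono : Monotone fun n => puigSeq G (2 * n) := by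
  refine monotone_nat_of_le_succ fun n => ?_
  induction n with
  | zero => exact bot_le
  | succ n ih => exact step_anti (step_anti ih)

theorem seq_odd_anti : Antitone fun n => puigSeq G (2 * n + 1) :=
  fun _ _ h => step_anti (seq_even_mono h)

theorem seq_even_le_odd (n m : ℕ) : puigSeq G (2 * n) ≤ puigSeq G (2 * m + 1) := by
  rcases le_total n m with h | h
  · exact (seq_even_mono h).trans (seq_even_le_succ m).1
  · exact (seq_even_le_succ n).1.trans (seq_odd_anti h)

theorem exists_stable [Finite G] : ∃ k : ℕ, ∀ n : ℕ, k ≤ n →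
    puigSeq G (2 * n) = puigLower G ∧ puigSeq G (2 * n + 1) = puigSubgroup G := by
  obtain ⟨k, hk⟩ := WellFoundedGT.monotone_chain_condition
    (⟨fun n => puigSeq G (2 * n), seq_even_mono⟩ : ℕ →o Subgroup G)
  have hk' : ∀ n, k ≤ n → puigSeq G (2 * n) = puigSeq G (2 * k) := fun n hn => (hk n hn).symm
  refine ⟨k, fun n hn => ⟨le_antisymm (le_iSup (fun n => puigSeq G (2 * n)) n) (iSup_le fun m => ?_),
    le_antisymm (le_iInf fun m => ?_) (iInf_le (fun n => puigSeq G (2 * n + 1)) n)⟩⟩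
  · rw [hk' n hn, ← hk' (max m k) (le_max_right _ _)]
    exact seq_even_mono (le_max_left _ _)
  · have h : puigSeq G (2 * n + 1) = puigSeq G (2 * max m k + 1) := by
      show puigStep _ = puigStep _
      rw [hk' n hn, hk' _ (le_max_right m k)]
    rw [h]
    exact seq_odd_anti (le_max_left _ _)

theorem main [Finite G] : puigSeq G 0 = ⊥ ∧ puigSeq G 1 = ⊤ ∧
      (∀ n m : ℕ, puigSeq G (2 * n) ≤ puigSeq G (2 * n + 2) ∧
        puigSeq G (2 * n) ≤ puigSeq G (2 * m + 1) ∧
        puigSeq G (2 * m + 3) ≤ puigSeq G (2 * m + 1)) ∧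
      (∃ k : ℕ, ∀ n : ℕ, k ≤ n →
        puigSeq G (2 * n) = puigLower G ∧ puigSeq G (2 * n + 1) = puigSubgroup G) ∧
      puigLower G ≤ puigSubgroup G ∧
      puigStep (puigLower G) = puigSubgroup G ∧ puigStep (puigSubgroup G) = puigLower G := by
  obtain ⟨k, hk⟩ := exists_stable (G := G)
  obtain ⟨h1, h2⟩ := hk k le_rfl
  obtain ⟨h3, -⟩ := hk (k + 1) (Nat.le_succ k)
  have e1 : puigSeq G (2 * k + 1) = puigStep (puigSeq G (2 * k)) := by rw [puigSeq]
  have e2 : puigSeq G (2 * (k + 1)) = puigStep (puigSeq G (2 * k + 1)) := by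
    rw [show 2 * (k + 1) = 2 * k + 1 + 1 by omega, puigSeq]
  have hev : ∀ n, puigSeq G (2 * n) ≤ puigSeq G (2 * n + 2) := fun n => by
    rw [show 2 * n + 2 = 2 * (n + 1) by omega]
    exact seq_even_mono (Nat.le_succ n)
  have hod : ∀ m, puigSeq G (2 * m + 3) ≤ puigSeq G (2 * m + 1) := fun m => by
    rw [show 2 * m + 3 = 2 * (m + 1) + 1 by omega]
    exact seq_odd_anti (Nat.le_succ m)
  refine ⟨by rw [puigSeq], seq_one, fun n m => ⟨hev n, seq_even_le_odd n m, hod m⟩, ⟨k, hk⟩,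
    iSup_le fun n => le_iInf fun m => seq_even_le_odd n m, ?_, ?_⟩
  · rw [← h1, ← e1]
    exact h2
  · rw [← h2, ← e2]
    exact h3

theorem centralizer_le [Finite G] {p : ℕ} [Fact p.Prime] (hR : IsPGroup p G) :
    ∃ A : Subgroup G, (∀ i : ℕ, 0 < i → A ≤ puigSeq G i) ∧
      (∀ W : Subgroup G, A ≤ W → centralizer (W : Set G) ≤ W) ∧ (Nontrivial G → A ≠ ⊥) := by
  obtain ⟨A, hAn, hAc, hAsc⟩ := Struct.exists_selfCentralizing_normal hR
  refine ⟨A, fun i hi => ?_, fun W hW x hx => hW (hAsc x fun y hy => (hx y (hW hy)).symm),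
    fun hnt e => ?_⟩
  · obtain ⟨j, rfl⟩ : ∃ j, i = j + 1 := ⟨i - 1, by omega⟩
    refine le_sSup (s := {B : Subgroup G | IsMulCommutative B ∧
      puigSeq G j ≤ normalizer (B : Set G)}) ⟨⟨⟨fun a b => Subtype.ext (hAc a a.2 b b.2).eq⟩⟩, ?_⟩
    haveI := hAn
    rw [normalizer_eq_top]
    exact le_top
  · obtain ⟨x, hx⟩ := exists_ne (1 : G)
    have := hAsc x fun y hy => by rw [e, mem_bot] at hy; subst hy; exact Commute.one_right x
    rw [e, mem_bot] at this
    exact hx this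

end Cfsg.Agent.Local.Puig
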