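import Cfsg.Agent.Lib.Local.OddPGroupInvolution
import Cfsg.Prelude.Def_CaseTheorems
import Mathlib.Algebra.Group.Hom.End
import Mathlib.Data.Nat.Choose.Dvd
import Mathlib.FieldTheory.Finite.Basic
import Mathlib.RingTheory.Coprime.Lemmas

/-!
A finite group of `p`-rank at most two (`p > 3`) having a normal `p`-subgroup `U` with quotient
looking like `Qd(p)` has `U = 1`.
-/

set_option autoImplicit false
set_option linter.style.haveILetI false

namespace Cfsg.Agent.Local

open Subgroup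
open Cfsg.Agent.Solv (le_normalizer_of_conj_mem)
open scoped commutatorElement Pointwise

variable {G : Type*} [Group G] {p : ℕ}

/-- The data extracted from an extension of a `p`-group `U` by `Qd(p)`: `E` is the preimage of the
translation group, `x`, `y` lift the two elementary unipotent matrices and commute with the
involution `t` lifting `-1`, and `h` lifts `diag(2, 1/2)`. -/
structure QdData (p : ℕ) (G : Type*) [Group G] where
  U : Subgroup G
  E : Subgroup G
  Un : U.Normal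
  En : E.Normal
  hU : IsPGroup p U
  hUE : U ≤ E
  hE : IsPGroup p E
  x : G
  y : G
  t : G
  h : G
  e1 : G
  e2 : G
  ht : t * t = 1
  htx : t * x = x * t
  hty : t * y = y * t
  hth : t * h = h * t
  he1 : e1 ∈ E
  he2 : e2 ∈ E
  he1U : e1 ∉ U
  hspan : ∀ e ∈ E, ∃ i j : ℕ, (e1 ^ i * e2 ^ j)⁻¹ * e ∈ U
  hexp : ∀ e ∈ E, e ^ p ∈ U
  hinv : ∀ e ∈ E, t * e * t * e ∈ U
  hindex : Nat.card E = p ^ 2 * Nat.card U
  hxp : x ^ p ∈ U
  hyp : y ^ p ∈ U
  hxE : x ∉ E
  hxe2 : e1⁻¹ * (x * e2 * x⁻¹ * e2⁻¹) ∈ U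
  hxe1 : x * e1 * x⁻¹ * e1⁻¹ ∈ U
  hye1 : e2⁻¹ * (y * e1 * y⁻¹ * e1⁻¹) ∈ U
  htw : ∃ w ∈ closure ({x, y} : Set G), w⁻¹ * t ∈ U
  hhw : h ∈ closure ({x, y} : Set G)
  hhx : (x ^ 4)⁻¹ * (h * x * h⁻¹) ∈ U

namespace QdData

variable [Finite G] [hpf : Fact p.Prime] (d : QdData p G)

/-- The fixed points of the involution in `E`. -/
def D : Subgroup G := d.E ⊓ centralizer ({d.t} : Set G)

omit [Finite G] hpf in
theorem mem_D {e : G} : e ∈ d.D ↔ e ∈ d.E ∧ d.t * e * d.t = e := by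
  rw [D, Subgroup.mem_inf, mem_centralizer_singleton_iff]
  refine and_congr_right fun _ => ⟨fun h => ?_, fun h => ?_⟩
  · rw [← h, mul_assoc, d.ht, mul_one]
  · nth_rewrite 2 [← h]
    rw [← mul_assoc, ← mul_assoc, d.ht, one_mul]

omit [Finite G] hpf in
theorem conj_mem_E (g : G) {e : G} (he : e ∈ d.E) : g * e * g⁻¹ ∈ d.E := d.En.conj_mem e he g

omit [Finite G] hpf in
theorem tconj_mem_E {e : G} (he : e ∈ d.E) : d.t * e * d.t ∈ d.E := by
  have := d.conj_mem_E d.t he
  rwa [inv_eq_of_mul_eq_one_right d.ht] at this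

omit [Finite G] in
theorem D_le_U (hp : p ≠ 2) : d.D ≤ d.U := by
  intro e he
  obtain ⟨heE, hte⟩ := d.mem_D.1 he
  have h1 := d.hinv e heE
  rw [hte] at h1
  obtain ⟨n, hn⟩ := exists_sq_eq_of_isPGroup hp d.hE heE
  rw [← hn, ← (Commute.refl e).mul_pow]
  exact d.U.pow_mem h1 n

omit [Finite G] hpf in
/-- Counting elements of order dividing `p` in a commutative subgroup. -/
theorem card_le_sq (hr : PRankLE p 2 G) {A : Subgroup G} (hc : ∀ a ∈ A, ∀ b ∈ A, a * b = b * a)
    (hA : ∀ a ∈ A, a ^ p = 1) : Nat.card A ≤ p ^ 2 :=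
  hr A ⟨⟨fun a b => Subtype.ext (hc _ a.2 _ b.2)⟩⟩ hA

/-- There are no three independent commuting elements of order `p`. -/
theorem mem_pair (hr : PRankLE p 2 G) {a b c : G} (hap : a ^ p = 1) (hbp : b ^ p = 1)
    (hcp : c ^ p = 1) (hab : a * b = b * a) (hac : a * c = c * a) (hbc : b * c = c * b)
    (ha : a ≠ 1) (hb : b ∉ zpowers a) : c ∈ closure ({a, b} : Set G) := by
  by_contra hc
  set A := closure ({a, b, c} : Set G) with hA
  haveI hcomm : IsMulCommutative A := by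
    refine isMulCommutative_closure ?_
    intro u hu v hv
    rcases hu with rfl | rfl | rfl <;> rcases hv with rfl | rfl | rfl <;>
      first | rfl | exact hab | exact hab.symm | exact hac | exact hac.symm | exact hbc | exact hbc.symm
  have hexp : ∀ u ∈ A, u ^ p = 1 := by
    intro u hu
    induction hu using closure_induction with
    | mem u hu => rcases hu with rfl | rfl | rfl <;> assumption
    | one => exact one_pow _
    | mul u v hu hv ihu ihv =>
      have huv : Commute u v := congrArg Subtype.val (mul_comm' (⟨u, hu⟩ : A) ⟨v, hv⟩)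
      rw [huv.mul_pow, ihu, ihv, one_mul]
    | inv u _ ihu => rw [inv_pow, ihu, inv_one]
  have h1 : zpowers a < closure ({a, b} : Set G) :=
    lt_of_le_of_ne (zpowers_le.2 (subset_closure (by simp))) fun e =>
      hb (e ▸ subset_closure (by simp))
  have h2 : closure ({a, b} : Set G) < A :=
    lt_of_le_of_ne (closure_mono (by intro u hu; rcases hu with rfl | rfl <;> simp)) fun e =>
      hc (e ▸ subset_closure (by simp))
  have hoa : Nat.card (zpowers a) = p := by rw [Nat.card_zpowers, orderOf_eq_prime hap ha]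
  obtain ⟨i, hi⟩ := (show IsPGroup p A from fun u => ⟨1, Subtype.ext (by
    simpa using hexp u u.2)⟩).exists_card_eq
  obtain ⟨k, hk, hk'⟩ := (Nat.dvd_prime_pow hpf.out).1 (hi ▸ card_dvd_of_le h2.le)
  have hlt1 : p < p ^ k := by
    rw [← hk', ← hoa]
    exact lt_of_le_of_ne (card_le_of_le h1.le) fun e => h1.ne (eq_of_le_of_card_ge h1.le e.ge)
  have hlt2 : p ^ k < p ^ i := by
    rw [← hk', ← hi]
    exact lt_of_le_of_ne (card_le_of_le h2.le) fun e => h2.ne (eq_of_le_of_card_ge h2.le e.ge)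
  have hle := card_le_sq hr (fun u hu v hv => congrArg Subtype.val (mul_comm' (⟨u, hu⟩ : A) ⟨v, hv⟩)) hexp
  rw [hi] at hle
  have hk1 : 1 < k := (Nat.pow_lt_pow_iff_right hpf.out.one_lt).1 (by rwa [pow_one])
  have hik : k < i := (Nat.pow_lt_pow_iff_right hpf.out.one_lt).1 hlt2
  have := (Nat.pow_le_pow_iff_right hpf.out.one_lt).1 hle
  omega

/-- Elements of `G` normalizing a subgroup of order `p` with `g ^ p` in its centralizer fix it. -/
theorem commute_of_conj_mem_zpowers {g z : G} (hzp : z ^ p = 1) (hg : g * z * g⁻¹ ∈ zpowers z)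
    (hgp : Commute (g ^ p) z) : Commute g z := by
  by_cases hz1 : z = 1
  · rw [hz1]; exact Commute.one_right g
  obtain ⟨i, hi⟩ := mem_powers_iff_mem_zpowers.mpr hg
  replace hi : z ^ i = g * z * g⁻¹ := hi
  have hk : ∀ k : ℕ, g ^ k * z * (g ^ k)⁻¹ = z ^ (i ^ k) := by
    intro k
    induction k with
    | zero => simp
    | succ k ih =>
      rw [pow_succ' g, pow_succ' i, mul_inv_rev,
        show g * g ^ k * z * ((g ^ k)⁻¹ * g⁻¹) = g * (g ^ k * z * (g ^ k)⁻¹) * g⁻¹ by group, ih,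
        ← conj_pow, ← hi, ← pow_mul]
  have hzi : z ^ (i ^ p) = z ^ 1 := by
    rw [← hk p, hgp.eq, mul_inv_cancel_right, pow_one]
  have hoz : orderOf z = p := orderOf_eq_prime hzp hz1
  rw [pow_eq_pow_iff_modEq, hoz, ← ZMod.natCast_eq_natCast_iff, Nat.cast_pow, ZMod.pow_card,
    ZMod.natCast_eq_natCast_iff] at hzi
  have hii : z ^ i = z := by
    nth_rewrite 2 [← pow_one z]
    rw [pow_eq_pow_iff_modEq, hoz]
    exact hzi
  rw [hi] at hii
  exact mul_inv_eq_iff_eq_mul.1 hii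

/-- If `U` has nontrivial fixed points, some central element of order `p` of `E` is fixed by `t`,
and `x` and `y` fix it. -/
theorem exists_central_fixed (hp : p ≠ 2) (hr : PRankLE p 2 G) (hD : d.D ≠ ⊥) :
    ∃ z ∈ d.D, z ^ p = 1 ∧ z ≠ 1 ∧ ∀ g ∈ d.E, z * g = g * z := by
  haveI := d.hE.isNilpotent
  haveI : Nontrivial d.E := by
    rw [Subgroup.nontrivial_iff_ne_bot]
    exact fun h => hD (eq_bot_iff.2 fun e he => h ▸ (d.mem_D.1 he).1)
  haveI := d.hE.center_nontrivial
  obtain ⟨z0, hz0⟩ : ∃ z0 : center d.E, orderOf z0 = p := by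
    obtain ⟨k, hk⟩ := (d.hE.to_subgroup (center d.E)).exists_card_eq
    refine exists_prime_orderOf_dvd_card' p ?_
    rw [hk]
    refine dvd_pow_self p fun h0 => ?_
    rw [h0, pow_zero] at hk
    exact absurd hk Finite.one_lt_card.ne'
  set z : G := ((z0 : d.E) : G) with hzdef
  have hzE : z ∈ d.E := (z0 : d.E).2
  have hzc : ∀ g ∈ d.E, z * g = g * z := fun g hg =>
    congrArg Subtype.val (mem_center_iff.1 z0.2 ⟨g, hg⟩).symm
  have hoz : orderOf z = p := by rw [hzdef, orderOf_submonoid, orderOf_submonoid, hz0]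
  have hzp : z ^ p = 1 := hoz ▸ pow_orderOf_eq_one z
  have hz1 : z ≠ 1 := fun h => hpf.out.ne_one (by rw [← hoz, h, orderOf_one])
  by_contra hnone
  set w := z * (d.t * z * d.t) with hw
  by_cases hw1 : w = 1
  swap
  · refine hnone ⟨w, d.mem_D.2 ⟨d.E.mul_mem hzE (d.tconj_mem_E hzE), ?_⟩, ?_, hw1, fun g hg => ?_⟩
    · have hc := hzc _ (d.tconj_mem_E hzE)
      have e : d.t * w * d.t = (d.t * z * d.t) * z := by
        calc d.t * w * d.t = d.t * z * d.t * z * (d.t * d.t) := by rw [hw]; group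
          _ = d.t * z * d.t * z := by rw [d.ht, mul_one]
      rw [e, hw, hc]
    · rw [hw, (show Commute z (d.t * z * d.t) from hzc _ (d.tconj_mem_E hzE)).mul_pow, hzp, one_mul]
      rw [show d.t * z * d.t = d.t * z * d.t⁻¹ by rw [inv_eq_of_mul_eq_one_right d.ht], conj_pow,
        hzp, mul_one, mul_inv_cancel]
    · have h1 : d.t * g * d.t ∈ d.E := d.tconj_mem_E hg
      have h2 : Commute (d.t * z * d.t) g := by
        have := (show Commute z (d.t * g * d.t) from hzc _ h1)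
        have h3 := this.map (MulAut.conj d.t).toMonoidHom
        simpa [inv_eq_of_mul_eq_one_right d.ht, ← mul_assoc, d.ht, mul_assoc _ d.t d.t] using h3
      exact (Commute.mul_left (hzc g hg) h2).eq
  -- now `t` inverts the central element `z`
  have htz : d.t * z * d.t = z⁻¹ := eq_inv_of_mul_eq_one_right hw1
  -- an element of order `p` fixed by `t`
  obtain ⟨f0, hf0, hf0p, hf01⟩ : ∃ f0 ∈ d.D, f0 ^ p = 1 ∧ f0 ≠ 1 := by
    haveI : Nontrivial d.D := (Subgroup.nontrivial_iff_ne_bot _).2 hD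
    obtain ⟨f0, hf0⟩ : ∃ f0 : d.D, orderOf f0 = p := by
      obtain ⟨k, hk⟩ := (d.hE.to_le (inf_le_left : d.D ≤ d.E)).exists_card_eq
      refine exists_prime_orderOf_dvd_card' p ?_
      change Nat.card ↥d.D = p ^ k at hk
      rw [hk]
      refine dvd_pow_self p fun h0 => ?_
      rw [h0, pow_zero] at hk
      exact absurd hk Finite.one_lt_card.ne'
    refine ⟨f0, f0.2, ?_, fun h => hpf.out.ne_one ?_⟩
    · have h1 : f0 ^ p = 1 := orderOf_dvd_iff_pow_eq_one.1 (by rw [hf0])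
      simpa using congrArg Subtype.val h1
    · rw [← hf0, ← orderOf_submonoid f0, h, orderOf_one]
  obtain ⟨hf0E, htf0⟩ := d.mem_D.1 hf0
  have hf0z : f0 ∉ zpowers z := by
    intro hmem
    obtain ⟨k, rfl⟩ := mem_powers_iff_mem_zpowers.mpr hmem
    have h1 : d.t * z ^ k * d.t = (z ^ k)⁻¹ := by
      rw [show d.t * z ^ k * d.t = d.t * z ^ k * d.t⁻¹ by rw [inv_eq_of_mul_eq_one_right d.ht],
        ← conj_pow, inv_eq_of_mul_eq_one_right d.ht, htz, inv_pow]
    rw [htf0] at h1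
    exact hf01 (eq_one_of_sq_of_isPGroup hp d.hE hf0E (by
      replace h1 : z ^ k = (z ^ k)⁻¹ := h1
      change z ^ k * z ^ k = 1
      nth_rewrite 2 [h1]; rw [mul_inv_cancel]))
  -- `x` and `y` fix the line of `z`: every other central element of order `p` is one of them
  have key : ∀ g : G, g ^ p ∈ d.E → Commute g z := by
    intro g hgp
    refine commute_of_conj_mem_zpowers hzp ?_ (hzc _ hgp).symm
    have hcE : ∀ e ∈ d.E, g * z * g⁻¹ * e = e * (g * z * g⁻¹) := by
      intro e he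
      have h1 := hzc _ (d.conj_mem_E g⁻¹ he)
      calc g * z * g⁻¹ * e = g * (z * (g⁻¹ * e * (g⁻¹)⁻¹)) * g⁻¹ := by group
        _ = e * (g * z * g⁻¹) := by rw [h1]; group
    have hmem := mem_pair hr hzp hf0p (by rw [conj_pow, hzp, mul_one, mul_inv_cancel] :
      (g * z * g⁻¹) ^ p = 1) (hzc _ hf0E) (hcE z hzE).symm (hcE f0 hf0E).symm hz1 hf0z
    -- an element of order `p` of the centre outside `⟨z⟩` would produce `f0` in the centre
    by_contra hnot
    have hf0c : f0 ∈ closure ({z, g * z * g⁻¹} : Set G) :=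
      mem_pair hr hzp (by rw [conj_pow, hzp, mul_one, mul_inv_cancel]) hf0p (hcE z hzE).symm
        (hzc _ hf0E) (hcE f0 hf0E) hz1 hnot
    -- both generators are central in `E`; then `t` acts on `⟨z, f0⟩` with `z` as only inverted line
    have hf0cE : ∀ e ∈ d.E, Commute e f0 := by
      intro e he
      have hle : closure ({z, g * z * g⁻¹} : Set G) ≤ centralizer ({e} : Set G) := by
        rw [closure_le]
        rintro u (rfl | rfl) <;> rw [SetLike.mem_coe, mem_centralizer_singleton_iff]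
        exacts [hzc e he, hcE e he]
      exact (mem_centralizer_singleton_iff.1 (hle hf0c)).symm
    -- then `f0` is a fixed central element; all elements of order `p` of `E` are in `⟨z, f0⟩`
    exact absurd ⟨f0, hf0, hf0p, hf01, fun e he => ((hf0cE e he).symm).eq⟩ hnone
  obtain ⟨w', hw', hwt⟩ := d.htw
  have h1 : Commute w' z := by
    have hle : closure ({d.x, d.y} : Set G) ≤ centralizer ({z} : Set G) := by
      rw [closure_le]
      rintro u (rfl | rfl) <;> rw [SetLike.mem_coe, mem_centralizer_singleton_iff]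
      exacts [(key _ (d.hUE d.hxp)).eq, (key _ (d.hUE d.hyp)).eq]
    exact mem_centralizer_singleton_iff.1 (hle hw')
  have h2 : Commute (w'⁻¹ * d.t) z := (hzc _ (d.hUE hwt)).symm
  have h3 : Commute d.t z := by
    have := h1.mul_left h2
    rwa [mul_inv_cancel_left] at this
  rw [h3.eq, mul_assoc, d.ht, mul_one] at htz
  exact hz1 (eq_one_of_sq_of_isPGroup hp d.hE hzE (by nth_rewrite 2 [htz]; rw [mul_inv_cancel]))

omit [Finite G] in
/-- Commutators of an inverted and a fixed element modulo a fixed central subgroup of order `p`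
vanish. -/
theorem commute_of_inverted (hp : p ≠ 2) {z k g : G} (hz : z ∈ d.D)
    (hzc : ∀ e ∈ d.E, z * e = e * z) (hk : k ∈ d.D) (hg : g ∈ d.E) (htg : d.t * g * d.t = g⁻¹)
    (hc : k⁻¹ * (g * k * g⁻¹) ∈ zpowers z) : Commute k g := by
  obtain ⟨hkE, htk⟩ := d.mem_D.1 hk
  set q := k⁻¹ * (g * k * g⁻¹) with hq
  have hqD : q ∈ d.D := zpowers_le.2 hz hc
  obtain ⟨hqE, htq⟩ := d.mem_D.1 hqD
  have htinv : d.t⁻¹ = d.t := inv_eq_of_mul_eq_one_right d.ht
  have hconj : ∀ a b : G, d.t * (a * b) * d.t = (d.t * a * d.t) * (d.t * b * d.t) := by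
    intro a b
    calc d.t * (a * b) * d.t = d.t * a * (d.t * d.t) * b * d.t := by rw [d.ht]; group
      _ = _ := by group
  have htgi : d.t * g⁻¹ * d.t = g := by
    calc d.t * g⁻¹ * d.t = (d.t⁻¹ * g * d.t⁻¹)⁻¹ := by group
      _ = g := by rw [htinv, htg, inv_inv]
  have htki : d.t * k⁻¹ * d.t = k⁻¹ := by
    calc d.t * k⁻¹ * d.t = (d.t⁻¹ * k * d.t⁻¹)⁻¹ := by group
      _ = k⁻¹ := by rw [htinv, htk]
  have h1 : q = k⁻¹ * (g⁻¹ * k * g) := by
    conv_lhs => rw [← htq, hq, hconj, hconj, hconj, htki, htg, htk, htgi]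
  -- `g⁻¹ k g = k q` and `g k g⁻¹ = k q` give `q = 1`
  have hqc : ∀ e ∈ d.E, q * e = e * q := by
    intro e he
    obtain ⟨i, hi⟩ := hc
    rw [← hi]
    exact ((show Commute z e from hzc e he).zpow_left i).eq
  have e1 : g * k * g⁻¹ = k * q := by rw [hq]; group
  have e2 : g⁻¹ * k * g = k * q := by rw [h1]; group
  have e3 : k * q * q = k := by
    calc k * q * q = g⁻¹ * k * g * q := by rw [e2]
      _ = g⁻¹ * k * (q * g) := by rw [hqc g hg]; group
      _ = g⁻¹ * (g * k * g⁻¹) * g := by rw [e1]; group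
      _ = k := by group
  have hq1 : q = 1 := eq_one_of_sq_of_isPGroup hp d.hE hqE (by
    rw [← mul_left_cancel_iff (a := k), ← mul_assoc, e3, mul_one])
  rw [hq1, mul_one] at e1
  exact (mul_inv_eq_iff_eq_mul.1 e1).symm

omit [Finite G] hpf in
theorem tconj_mul (a b : G) : d.t * (a * b) * d.t = (d.t * a * d.t) * (d.t * b * d.t) := by
  calc d.t * (a * b) * d.t = d.t * a * (d.t * d.t) * b * d.t := by rw [d.ht]; group
    _ = _ := by group

/-- If `U` has nontrivial fixed points under `t` we reach a contradiction. -/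
theorem D_eq_bot (hp : 3 < p) (hr : PRankLE p 2 G) : d.D = ⊥ := by
  by_contra hD
  have hp2 : p ≠ 2 := by omega
  obtain ⟨z, hzD, hzp, hz1, hzc⟩ := d.exists_central_fixed hp2 hr hD
  obtain ⟨hzE, htz⟩ := d.mem_D.1 hzD
  set Z := zpowers z with hZ
  have hZE : Z ≤ d.E := zpowers_le.2 hzE
  have hZD : Z ≤ d.D := zpowers_le.2 hzD
  have hZc : ∀ a ∈ Z, ∀ g ∈ d.E, a * g = g * a := by
    rintro _ ⟨i, rfl⟩ g hg
    exact ((show Commute z g from hzc g hg).zpow_left i).eq
  have hZp : ∀ a ∈ Z, a ^ p = 1 := by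
    rintro _ ⟨i, rfl⟩
    change (z ^ i) ^ p = 1
    rw [← zpow_natCast, ← zpow_mul, mul_comm, zpow_mul, zpow_natCast, hzp, one_zpow]
  haveI := d.En
  -- some element of order `p` of `E` is inverted by `t`
  obtain ⟨c1, hc1E, hc1p, hc1t⟩ : ∃ c ∈ d.E, c ^ p = 1 ∧ d.t * c * d.t ≠ c := by
    by_contra hcon
    push Not at hcon
    have := involution_centralizes hp2 d.hE d.ht (fun e he => d.tconj_mem_E he) hcon _ d.he1
    exact d.he1U (d.D_le_U hp2 (d.mem_D.2 ⟨d.he1, this⟩))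
  have hc1Z : c1 ∉ Z := fun h => hc1t (d.mem_D.1 (hZD h)).2
  obtain ⟨K, hK⟩ := exists_expCentralMod hp2 hZE hZc hZp
  have hKmem : ∀ k, k ∈ K ↔ k ∈ d.E ∧ k ^ p = 1 ∧ ∀ g ∈ d.E, k⁻¹ * (g * k * g⁻¹) ∈ Z := fun k => by
    rw [← SetLike.mem_coe, hK]; rfl
  have hZK : Z ≤ K := fun a ha => (hKmem a).2 ⟨hZE ha, hZp a ha, fun g hg => by
    rw [← hZc a ha g hg, mul_inv_cancel_right, inv_mul_cancel]; exact Z.one_mem⟩
  obtain ⟨w, hwE, hwp, hwZ, hwc⟩ := exists_exp_central_mod hp2 d.hE hZE hZc hZp hc1E hc1p hc1Z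
  have hwK : w ∈ K := (hKmem w).2 ⟨hwE, hwp, hwc⟩
  have hKE : K ≤ d.E := fun k hk => ((hKmem k).1 hk).1
  -- elements fixing `z` normalize `K`
  have hKconj : ∀ a : G, Commute a z → ∀ k ∈ K, a * k * a⁻¹ ∈ K := by
    intro a ha k hk
    rw [hKmem] at hk ⊢
    refine ⟨d.conj_mem_E a hk.1, by rw [conj_pow, hk.2.1, mul_one, mul_inv_cancel], fun g hg => ?_⟩
    have hz := hk.2.2 (a⁻¹ * g * a) (by simpa using d.conj_mem_E a⁻¹ hg)
    obtain ⟨i, hi⟩ := hz
    refine ⟨i, ?_⟩
    calc z ^ i = a * z ^ i * a⁻¹ := by rw [(ha.zpow_right i).eq, mul_inv_cancel_right]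
      _ = _ := by simp only at hi; rw [hi]; group
  have htK : ∀ k ∈ K, d.t * k * d.t ∈ K := by
    intro k hk
    have htzc : Commute d.t z := by
      change d.t * z = z * d.t
      conv_rhs => rw [← htz, mul_assoc, d.ht, mul_one]
    have := hKconj d.t htzc k hk
    rwa [inv_eq_of_mul_eq_one_right d.ht] at this
  -- the fixed elements of `K` lie in `Z`
  have hKD : ∀ k ∈ K, k ∈ d.D → k ∈ Z := by
    intro k hk hkD
    by_contra hkZ
    obtain ⟨-, hkp, hkc⟩ := (hKmem k).1 hk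
    obtain ⟨hkE, htk⟩ := d.mem_D.1 hkD
    have hck : ∀ g ∈ d.E, d.t * g * d.t = g⁻¹ → Commute k g := fun g hg htg =>
      d.commute_of_inverted hp2 hzD hzc hkD hg htg (hkc g hg)
    have hzk : closure ({z, k} : Set G) ≤ d.D :=
      (closure_le _).2 (by rintro u (rfl | rfl) <;> assumption)
    set g := c1⁻¹ * (d.t * c1 * d.t) with hg
    have hgE : g ∈ d.E := d.E.mul_mem (d.E.inv_mem hc1E) (d.tconj_mem_E hc1E)
    have hgi := involution_inverts d.ht c1
    -- so the inverted elements centralize `k`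
    have hkg := hck g hgE hgi
    obtain ⟨n, hn⟩ := d.hE ⟨g, hgE⟩
    have hn' : g ^ (p ^ n) = 1 := by simpa using congrArg Subtype.val hn
    have hg1 : g ≠ 1 := fun h => hc1t (inv_mul_eq_one.1 h).symm
    obtain ⟨m, hm1, hm2⟩ : ∃ m, g ^ (p ^ m) ≠ 1 ∧ (g ^ (p ^ m)) ^ p = 1 := by
      by_contra hcon
      push Not at hcon
      have : ∀ m, g ^ (p ^ m) ≠ 1 := fun m => by
        induction m with
        | zero => simpa using hg1
        | succ m ih => rw [pow_succ, pow_mul]; exact hcon m ih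
      exact this n hn'
    have hmem := mem_pair hr hzp hkp hm2 (hzc k hkE) (hzc _ (d.E.pow_mem hgE _))
      (hkg.pow_right _).eq hz1 hkZ
    have h1 : d.t * g ^ (p ^ m) * d.t = g ^ (p ^ m) := (d.mem_D.1 (hzk hmem)).2
    have h2 : d.t * g ^ (p ^ m) * d.t = (g ^ (p ^ m))⁻¹ := by
      rw [show d.t * g ^ (p ^ m) * d.t = d.t * g ^ (p ^ m) * d.t⁻¹ by
        rw [inv_eq_of_mul_eq_one_right d.ht], ← conj_pow, inv_eq_of_mul_eq_one_right d.ht, hgi,
        inv_pow]
    rw [h1] at h2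
    exact hm1 (eq_one_of_sq_of_isPGroup hp2 d.hE (d.E.pow_mem hgE _)
      (by nth_rewrite 2 [h2]; rw [mul_inv_cancel]))
  -- an inverted element of `K` outside `Z`
  obtain ⟨c, hcK, hcZ, htc⟩ : ∃ c ∈ K, c ∉ Z ∧ d.t * c * d.t = c⁻¹ := by
    refine ⟨w⁻¹ * (d.t * w * d.t), K.mul_mem (K.inv_mem hwK) (htK w hwK), fun h => ?_,
      involution_inverts d.ht w⟩
    have h1 := (d.mem_D.1 (hZD h)).2
    rw [involution_inverts d.ht w] at h1
    have h2 := eq_one_of_sq_of_isPGroup hp2 d.hE (hZE h) (by nth_rewrite 1 [← h1]; rw [inv_mul_cancel])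
    exact hwZ (hKD w hwK (d.mem_D.2 ⟨hwE, (inv_mul_eq_one.1 h2).symm⟩))
  obtain ⟨hcE, hcp, hcc⟩ := (hKmem c).1 hcK
  -- elements of order `p` fixed by `t` lie in `Z`
  have hDp : ∀ e ∈ d.D, e ^ p = 1 → e ∈ Z := by
    intro e he hep
    by_contra heZ
    obtain ⟨heE, hte⟩ := d.mem_D.1 he
    have hce : Commute c e := by
      have hi' : e⁻¹ * (c * e * c⁻¹) ∈ Z := by
        set q := c⁻¹ * (e * c * e⁻¹) with hq
        have hqZ : q ∈ Z := hcc e heE
        have e1 : c * e * c⁻¹ = q⁻¹ * e := by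
          calc c * e * c⁻¹ = q⁻¹ * (q * c) * e * c⁻¹ := by group
            _ = q⁻¹ * (c * q) * e * c⁻¹ := by rw [hZc q hqZ c hcE]
            _ = q⁻¹ * e := by rw [hq]; group
        rw [e1, hZc _ (Z.inv_mem hqZ) e heE, inv_mul_cancel_left]
        exact Z.inv_mem hqZ
      exact (d.commute_of_inverted hp2 hzD hzc he hcE htc hi').symm
    have hmem := mem_pair hr hzp hep hcp (hzc e heE) (hzc c hcE) hce.symm.eq hz1 heZ
    have hle : closure ({z, e} : Set G) ≤ d.D :=
      (closure_le _).2 (by rintro u (rfl | rfl) <;> assumption)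
    exact hcZ (hKD c hcK (hle hmem))
  -- `x` and `y` fix `z`
  have hfix : ∀ a : G, d.t * a = a * d.t → a ^ p ∈ d.E → Commute a z := by
    intro a hta hap
    refine commute_of_conj_mem_zpowers hzp (hDp _ (d.mem_D.2 ⟨d.conj_mem_E a hzE, ?_⟩) ?_) (hzc _ hap).symm
    · have h1 : d.t * a * d.t = a := by rw [hta, mul_assoc, d.ht, mul_one]
      have h2 : d.t * a⁻¹ * d.t = a⁻¹ := by
        calc d.t * a⁻¹ * d.t = (d.t⁻¹ * a * d.t⁻¹)⁻¹ := by group
          _ = a⁻¹ := by rw [inv_eq_of_mul_eq_one_right d.ht, h1]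
      rw [d.tconj_mul, d.tconj_mul, h1, htz, h2]
    · rw [conj_pow, hzp, mul_one, mul_inv_cancel]
  have hxz := hfix _ d.htx (d.hUE d.hxp)
  have hhz : Commute d.h z := by
    have hle : closure ({d.x, d.y} : Set G) ≤ centralizer ({z} : Set G) := by
      rw [closure_le]
      rintro u (rfl | rfl) <;> rw [SetLike.mem_coe, mem_centralizer_singleton_iff]
      exacts [hxz.eq, (hfix _ d.hty (d.hUE d.hyp)).eq]
    exact mem_centralizer_singleton_iff.1 (hle d.hhw)
  -- the group `X = D ⟨x⟩`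
  have hxt : d.t * d.x * d.t = d.x := by rw [d.htx, mul_assoc, d.ht, mul_one]
  have hxD : ∀ e ∈ d.D, d.x * e * d.x⁻¹ ∈ d.D := by
    intro e he
    have hxi : d.t * d.x⁻¹ * d.t = d.x⁻¹ := by
      calc d.t * d.x⁻¹ * d.t = (d.t⁻¹ * d.x * d.t⁻¹)⁻¹ := by group
        _ = d.x⁻¹ := by rw [inv_eq_of_mul_eq_one_right d.ht, hxt]
    refine d.mem_D.2 ⟨d.conj_mem_E _ (d.mem_D.1 he).1, ?_⟩
    rw [d.tconj_mul, d.tconj_mul, hxt, (d.mem_D.1 he).2, hxi]
  set X := zpowers d.x ⊔ d.D with hX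
  have hXn : zpowers d.x ≤ normalizer (d.D : Set G) := by
    rw [zpowers_le]
    refine mem_normalizer_iff.2 fun e => ⟨hxD e, fun he => ?_⟩
    -- finite: conjugation by `x` permutes `D`
    obtain ⟨n, hn, hn'⟩ : ∃ n : ℕ, 0 < n ∧ d.x ^ n = 1 := ⟨orderOf d.x, orderOf_pos _, pow_orderOf_eq_one _⟩
    have hpow : ∀ k : ℕ, ∀ a ∈ d.D, d.x ^ k * a * (d.x ^ k)⁻¹ ∈ d.D := by
      intro k
      induction k with
      | zero => simp
      | succ k ih =>
        intro a ha
        have := hxD _ (ih a ha)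
        rwa [show d.x * (d.x ^ k * a * (d.x ^ k)⁻¹) * d.x⁻¹ = d.x ^ (k + 1) * a * (d.x ^ (k + 1))⁻¹ by
          rw [pow_succ']; group] at this
    obtain ⟨m, rfl⟩ : ∃ m, n = m + 1 := ⟨n - 1, by omega⟩
    have := hpow m _ he
    rwa [show d.x ^ m * (d.x * e * d.x⁻¹) * (d.x ^ m)⁻¹ = d.x ^ (m + 1) * e * (d.x ^ (m + 1))⁻¹ by
      rw [pow_succ]; group, hn', one_mul, inv_one, mul_one] at this
  have hXmem : ∀ g ∈ X, ∃ i : ℕ, ∃ e ∈ d.D, g = d.x ^ i * e := by
    intro g hg
    have hg' : g ∈ ((zpowers d.x : Subgroup G) : Set G) * (d.D : Set G) := by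
      rw [← coe_mul_of_left_le_normalizer_right _ _ hXn]; exact hg
    obtain ⟨a, ha, e, he, rfl⟩ := hg'
    obtain ⟨i, rfl⟩ := mem_powers_iff_mem_zpowers.mpr ha
    exact ⟨i, e, he, rfl⟩
  have hXp : IsPGroup p X := by
    refine IsPGroup.to_sup_of_normal_right' (hH := ?_) (d.hE.to_le inf_le_left) hXn
    rintro ⟨g, i, rfl⟩
    obtain ⟨n, hn⟩ := d.hU ⟨_, d.hxp⟩
    have hn' : (d.x ^ p) ^ (p ^ n) = 1 := by simpa using congrArg Subtype.val hn
    refine ⟨n + 1, Subtype.ext ?_⟩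
    simp only [SubmonoidClass.coe_pow, OneMemClass.coe_one]
    rw [← zpow_natCast, ← zpow_mul, mul_comm, zpow_mul, zpow_natCast, pow_succ', pow_mul, hn',
      one_zpow]
  have hXt : ∀ g ∈ X, d.t * g * d.t = g := by
    intro g hg
    have : X ≤ centralizer ({d.t} : Set G) := sup_le (by
      rw [zpowers_le, mem_centralizer_singleton_iff]; exact d.htx.symm) inf_le_right
    have h1 := mem_centralizer_singleton_iff.1 (this hg)
    rw [← h1, mul_assoc, d.ht, mul_one]
  -- some element of order `p` of `X` lies outside `Z`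
  obtain ⟨x', hx'X, hx'p, hx'Z⟩ : ∃ x' ∈ X, x' ^ p = 1 ∧ x' ∉ Z := by
    by_contra hcon
    push Not at hcon
    obtain ⟨g, hgX, hXg⟩ := isCyclic_of_unique_order hp2 hzp X hXp hcon
    -- `X = ⟨x⟩`
    have hxX : d.x ∈ X := mem_sup_left (mem_zpowers _)
    obtain ⟨e, he⟩ := hXp ⟨d.x, hxX⟩
    have hgpE : g ^ p ∈ d.E := by
      obtain ⟨i, a, ha, rfl⟩ := hXmem g hgX
      haveI := d.En
      rw [← QuotientGroup.eq_one_iff (N := d.E), QuotientGroup.mk_pow, QuotientGroup.mk_mul,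
        QuotientGroup.mk_pow, (QuotientGroup.eq_one_iff (N := d.E) a).2 (d.mem_D.1 ha).1, mul_one,
        ← pow_mul, mul_comm, pow_mul, ← QuotientGroup.mk_pow,
        (QuotientGroup.eq_one_iff (N := d.E) _).2 (d.hUE d.hxp), one_pow]
    obtain ⟨i, hi⟩ := mem_powers_iff_mem_zpowers.mpr (hXg ▸ hxX : d.x ∈ zpowers g)
    replace hi : g ^ i = d.x := hi
    have hpi : ¬ p ∣ i := by
      rintro ⟨l, rfl⟩
      exact d.hxE (hi ▸ by rw [pow_mul]; exact d.E.pow_mem hgpE l)
    obtain ⟨n, hn⟩ := hXp ⟨g, hgX⟩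
    have hn' : g ^ (p ^ n) = 1 := by simpa using congrArg Subtype.val hn
    have hgx : g ∈ zpowers d.x := by
      obtain ⟨m, hm⟩ := exists_pow_eq_self_of_coprime (x := g) (n := i)
        ((((Fact.out : p.Prime).coprime_iff_not_dvd.2 hpi).symm.pow_right n).coprime_dvd_right
          (orderOf_dvd_of_pow_eq_one hn'))
      rw [← hm, hi]
      exact pow_mem (mem_zpowers _) _
    have hzX : z ∈ zpowers d.x := (zpowers_le.2 hgx) (hXg ▸ mem_sup_right hzD)
    -- `h` raises `x` to a power congruent to `4`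
    have hhX : (d.x ^ 4)⁻¹ * (d.h * d.x * d.h⁻¹) ∈ zpowers d.x := by
      refine (zpowers_le.2 hgx) (hXg ▸ mem_sup_right (d.mem_D.2 ⟨d.hUE d.hhx, ?_⟩))
      have hht : d.t * d.h * d.t = d.h := by rw [d.hth, mul_assoc, d.ht, mul_one]
      have hhi : d.t * d.h⁻¹ * d.t = d.h⁻¹ := by
        calc d.t * d.h⁻¹ * d.t = (d.t⁻¹ * d.h * d.t⁻¹)⁻¹ := by group
          _ = d.h⁻¹ := by rw [inv_eq_of_mul_eq_one_right d.ht, hht]
      have hx4 : d.t * (d.x ^ 4)⁻¹ * d.t = (d.x ^ 4)⁻¹ :=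
        hXt _ (X.inv_mem (X.pow_mem hxX 4))
      rw [d.tconj_mul, d.tconj_mul, d.tconj_mul, hx4, hht, hxt, hhi]
    obtain ⟨s, hs⟩ := mem_powers_iff_mem_zpowers.mpr hhX
    replace hs : d.x ^ s = (d.x ^ 4)⁻¹ * (d.h * d.x * d.h⁻¹) := hs
    have hps : p ∣ s := by
      by_contra hps
      have hsE : d.x ^ s ∈ d.E := hs ▸ d.hUE d.hhx
      have hgcd : (Nat.gcd s p) = 1 := ((Fact.out : p.Prime).coprime_iff_not_dvd.2 hps).symm
      obtain ⟨n', hn'⟩ := hXp ⟨d.x, hxX⟩
      have hn'' : d.x ^ (p ^ n') = 1 := by simpa using congrArg Subtype.val hn'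
      obtain ⟨m, hm⟩ := exists_pow_eq_self_of_coprime (x := d.x) (n := s)
        ((((Fact.out : p.Prime).coprime_iff_not_dvd.2 hps).symm.pow_right n').coprime_dvd_right
          (orderOf_dvd_of_pow_eq_one hn''))
      exact d.hxE (hm ▸ d.E.pow_mem hsE m)
    have hhx : d.h * d.x * d.h⁻¹ = d.x ^ (4 + s) := by rw [pow_add, hs, mul_inv_cancel_left]
    obtain ⟨k, hk⟩ := mem_powers_iff_mem_zpowers.mpr hzX
    replace hk : d.x ^ k = z := hk
    have h4 : z ^ (4 + s) = z := by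
      calc z ^ (4 + s) = (d.x ^ (4 + s)) ^ k := by rw [← hk, ← pow_mul, ← pow_mul, mul_comm]
        _ = d.h * d.x ^ k * d.h⁻¹ := by rw [← hhx, conj_pow]
        _ = z := by rw [hk, hhz.eq, mul_inv_cancel_right]
    obtain ⟨l, rfl⟩ := hps
    rw [pow_add, pow_mul, hzp, one_pow, mul_one] at h4
    have h3 : z ^ 3 = 1 := by
      have : z ^ 3 * z = 1 * z := by rw [← pow_succ, h4, one_mul]
      exact mul_right_cancel this
    have hoz : orderOf z = p := orderOf_eq_prime hzp hz1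
    have := Nat.le_of_dvd (by norm_num) (hoz ▸ orderOf_dvd_of_pow_eq_one h3)
    omega
  -- `x'` fixes an element of `K ∖ Z` modulo `Z`, and so centralizes an inverted one
  have hx'E : x' ∉ d.E := fun h => hx'Z (hDp x' (d.mem_D.2 ⟨h, hXt x' hx'X⟩) hx'p)
  have hXz : ∀ g ∈ X, Commute g z := by
    intro g hg
    have : X ≤ centralizer ({z} : Set G) := sup_le (by
      rw [zpowers_le, mem_centralizer_singleton_iff]; exact hxz.eq) (fun e he => by
      rw [mem_centralizer_singleton_iff]; exact (hzc e (d.mem_D.1 he).1).symm)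
    exact mem_centralizer_singleton_iff.1 (this hg)
  have hXK : X ≤ normalizer (K : Set G) :=
    le_normalizer_of_conj_mem fun g hg k hk => hKconj g (hXz g hg) k hk
  have hXZ : X ≤ normalizer (Z : Set G) :=
    le_normalizer_of_conj_mem fun g hg a ha => by
      obtain ⟨i, rfl⟩ := ha
      rw [((hXz g hg).zpow_right i).eq, mul_inv_cancel_right]
      exact ⟨i, rfl⟩
  obtain ⟨k, hk, hkZ, hkfix⟩ := exists_fixed_mod hXp (d.hE.to_le hKE) hZK ⟨c, hcK, hcZ⟩ hXK hXZ
  have hkE := hKE hk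
  obtain ⟨i, hi⟩ := hkfix x' hx'X
  replace hi : z ^ i = k⁻¹ * (x' * k * x'⁻¹) := hi
  set k' := k⁻¹ * (d.t * k * d.t) with hk'
  have hk'K : k' ∈ K := K.mul_mem (K.inv_mem hk) (htK k hk)
  obtain ⟨hk'E, hk'p, -⟩ := (hKmem k').1 hk'K
  have hk'Z : k' ∉ Z := by
    intro h
    have h1 := (d.mem_D.1 (hZD h)).2
    rw [hk', involution_inverts d.ht k] at h1
    have h2 := eq_one_of_sq_of_isPGroup hp2 d.hE (hZE h)
      (by rw [hk']; nth_rewrite 1 [← h1]; rw [inv_mul_cancel])
    exact hkZ (hKD k hk (d.mem_D.2 ⟨hkE, (inv_mul_eq_one.1 h2).symm⟩))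
  have hx't : d.t * x' * d.t = x' := hXt x' hx'X
  have hzi : Commute (z ^ i) k := ((show Commute z k from hzc k hkE).zpow_left i)
  have hc1 : x' * k * x'⁻¹ = k * z ^ i := by rw [hi, mul_inv_cancel_left]
  have hc2 : x' * (d.t * k * d.t) * x'⁻¹ = d.t * k * d.t * z ^ i := by
    have htzi : d.t * z ^ i * d.t = z ^ i := (d.mem_D.1 (hZD ⟨i, rfl⟩)).2
    have hx'i : d.t * x'⁻¹ * d.t = x'⁻¹ := by
      calc d.t * x'⁻¹ * d.t = (d.t⁻¹ * x' * d.t⁻¹)⁻¹ := by group
        _ = x'⁻¹ := by rw [inv_eq_of_mul_eq_one_right d.ht, hx't]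
    have := congrArg (fun g => d.t * g * d.t) hc1
    simp only [d.tconj_mul] at this
    rwa [hx't, hx'i, htzi] at this
  have hcomm : Commute x' k' := by
    have hzi' : Commute (z ^ i) (d.t * k * d.t) :=
      (show Commute z _ from hzc _ (d.tconj_mem_E hkE)).zpow_left i
    have : x' * k' * x'⁻¹ = k' := by
      rw [hk']
      calc x' * (k⁻¹ * (d.t * k * d.t)) * x'⁻¹ = (x' * k * x'⁻¹)⁻¹ * (x' * (d.t * k * d.t) * x'⁻¹) := by group
        _ = (k * z ^ i)⁻¹ * (z ^ i * (d.t * k * d.t)) := by rw [hc1, hc2, hzi'.eq]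
        _ = k⁻¹ * (d.t * k * d.t) := by
          rw [← hzi.eq]; group
    exact mul_inv_eq_iff_eq_mul.1 this
  have hmem := mem_pair hr hzp hk'p hx'p (hzc _ hk'E) (hXz x' hx'X).symm.eq hcomm.symm.eq hz1 hk'Z
  have hle : closure ({z, k'} : Set G) ≤ d.E :=
    (closure_le _).2 (by rintro u (rfl | rfl) <;> assumption)
  exact hx'E (hle hmem)

/-- The main result: `U = 1`. -/
theorem U_eq_bot (hp : 3 < p) (hr : PRankLE p 2 G) : d.U = ⊥ := by
  classical
  have hp2 : p ≠ 2 := by omega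
  have hD := d.D_eq_bot hp hr
  haveI := d.En
  -- `t` inverts `E`
  let φ : d.E → d.E := fun e => ⟨(e : G)⁻¹ * (d.t * e * d.t),
    d.E.mul_mem (d.E.inv_mem e.2) (d.tconj_mem_E e.2)⟩
  have hφ : Function.Injective φ := by
    intro a b hab
    have h : (a : G)⁻¹ * (d.t * a * d.t) = (b : G)⁻¹ * (d.t * b * d.t) := congrArg Subtype.val hab
    have h1 : (b : G) * (a : G)⁻¹ ∈ d.D := by
      refine d.mem_D.2 ⟨d.E.mul_mem b.2 (d.E.inv_mem a.2), ?_⟩
      have e0 : d.t * (a : G)⁻¹ * d.t = (d.t * a * d.t)⁻¹ := by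
        calc d.t * (a : G)⁻¹ * d.t = d.t * (a : G)⁻¹ * d.t⁻¹ := by rw [inv_eq_of_mul_eq_one_right d.ht]
          _ = (d.t * a * d.t⁻¹)⁻¹ := by group
          _ = _ := by rw [inv_eq_of_mul_eq_one_right d.ht]
      rw [d.tconj_mul, e0,
        show d.t * (b : G) * d.t = b * ((a : G)⁻¹ * (d.t * a * d.t)) by rw [h]; group]
      group
    rw [hD, mem_bot, mul_inv_eq_one] at h1
    exact Subtype.ext h1.symm
  have hinvall : ∀ e ∈ d.E, d.t * e * d.t = e⁻¹ := by
    intro e he
    obtain ⟨a, ha⟩ := (Finite.injective_iff_surjective.1 hφ) ⟨e, he⟩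
    rw [show e = (a : G)⁻¹ * (d.t * a * d.t) from (congrArg Subtype.val ha).symm]
    exact involution_inverts d.ht _
  have hab : ∀ a ∈ d.E, ∀ b ∈ d.E, a * b = b * a := by
    intro a ha b hb
    have h := hinvall _ (d.E.mul_mem ha hb)
    rw [d.tconj_mul, hinvall a ha, hinvall b hb, ← mul_inv_rev, inv_inj] at h
    exact h.symm
  have hxp1 : d.x ^ p = 1 := by
    have h1 : d.x ^ p ∈ d.D := d.mem_D.2 ⟨d.hUE d.hxp, by
      rw [(show Commute d.t d.x from d.htx).pow_right p |>.eq, mul_assoc, d.ht, mul_one]⟩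
    rwa [hD, mem_bot] at h1
  letI : CommGroup d.E :=
    { (inferInstance : Group d.E) with mul_comm := fun a b => Subtype.ext (hab _ a.2 _ b.2) }
  let P : d.E →* d.E := powMonoidHom p
  have hker : Nat.card P.ker ≤ p ^ 2 := by
    let A : Subgroup G :=
      { carrier := {e | e ∈ d.E ∧ e ^ p = 1}
        one_mem' := ⟨d.E.one_mem, one_pow p⟩
        mul_mem' := fun {a b} ha hb => ⟨d.E.mul_mem ha.1 hb.1, by
          rw [(show Commute a b from hab a ha.1 b hb.1).mul_pow, ha.2, hb.2, one_mul]⟩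
        inv_mem' := fun {a} ha => ⟨d.E.inv_mem ha.1, by rw [inv_pow, ha.2, inv_one]⟩ }
    refine le_trans (Nat.card_le_card_of_injective
      (fun a : P.ker => (⟨((a : d.E) : G), (a : d.E).2, congrArg Subtype.val a.2⟩ : A)) ?_)
      (card_le_sq hr (A := A) (fun u hu v hv => hab u hu.1 v hv.1) fun u hu => hu.2)
    intro u v huv
    have h : ((u : d.E) : G) = ((v : d.E) : G) := congrArg (fun z : A => (z : G)) huv
    exact Subtype.ext (Subtype.ext h)
  have hrange : P.range = d.U.subgroupOf d.E := by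
    have hle : P.range ≤ d.U.subgroupOf d.E := by
      rintro _ ⟨a, rfl⟩
      exact d.hexp a a.2
    refine eq_of_le_of_card_ge hle ?_
    rw [Nat.card_congr (subgroupOfEquivOfLe d.hUE).toEquiv]
    have h1 : Nat.card P.ker * Nat.card P.range = Nat.card d.E := by
      rw [← index_ker, card_mul_index]
    rw [d.hindex] at h1
    exact le_of_mul_le_mul_left
      ((h1 ▸ Nat.mul_le_mul_right (Nat.card P.range) hker : p ^ 2 * Nat.card d.U ≤ p ^ 2 * Nat.card P.range))
      (pow_pos hpf.out.pos 2)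
  have hUpow : ∀ u ∈ d.U, ∃ a ∈ d.E, a ^ p = u := by
    intro u hu
    have : (⟨u, d.hUE hu⟩ : d.E) ∈ P.range := by rw [hrange]; exact hu
    obtain ⟨a, ha⟩ := this
    exact ⟨a, a.2, congrArg Subtype.val ha⟩
  by_contra hU
  -- the elements of order `p` of `E` lie in `U`
  have hker_U : ∀ a ∈ d.E, a ^ p = 1 → a ∈ d.U := by
    by_contra hcon
    push Not at hcon
    obtain ⟨a, haE, hap, haU⟩ := hcon
    haveI := d.Un
    let S := closure {b : G | b ∈ d.E ∧ b ^ p = 1}
    let W := d.U ⊔ S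
    have hWconj : ∀ g : G, ∀ w ∈ W, g * w * g⁻¹ ∈ W := by
      intro g w hw
      have hle : W ≤ W.comap (MulAut.conj g).toMonoidHom := by
        refine sup_le (fun u hu => mem_sup_left (d.Un.conj_mem u hu g)) ((closure_le _).2 ?_)
        rintro b ⟨hb, hbp⟩
        exact mem_sup_right (subset_closure ⟨d.conj_mem_E g hb, by
          change (g * b * g⁻¹) ^ p = 1
          rw [conj_pow, hbp, mul_one, mul_inv_cancel]⟩)
      exact hle hw
    have haW : a ∈ W := mem_sup_right (subset_closure ⟨haE, hap⟩)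
    -- modulo `U`
    obtain ⟨i, j, hij⟩ := d.hspan a haE
    have hmodexp : ∀ e ∈ d.E, ∀ n : ℕ, p ∣ n → e ^ n ∈ d.U := by
      rintro e he _ ⟨m, rfl⟩
      rw [pow_mul]
      exact d.U.pow_mem (d.hexp e he) m
    have hroot : ∀ e ∈ d.E, ∀ n : ℕ, ¬ p ∣ n → e ^ n ∈ W → e ∈ W := by
      intro e he n hn hW
      obtain ⟨k, hk⟩ := d.hE ⟨e, he⟩
      have hk' : e ^ (p ^ k) = 1 := by simpa using congrArg Subtype.val hk
      obtain ⟨m, hm⟩ := exists_pow_eq_self_of_coprime (x := e) (n := n)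
        ((((Fact.out : p.Prime).coprime_iff_not_dvd.2 hn).symm.pow_right k).coprime_dvd_right
          (orderOf_dvd_of_pow_eq_one hk'))
      exact hm ▸ W.pow_mem hW m
    have hUW : d.U ≤ W := le_sup_left
    have hi_j : d.e1 ^ i * d.e2 ^ j ∈ W := by
      have := W.mul_mem haW (W.inv_mem (hUW hij))
      simpa [mul_assoc] using this
    have he1W : d.e1 ∈ W := by
      by_cases hj : p ∣ j
      · have hi : ¬ p ∣ i := by
          intro hi
          apply haU
          have h1 : d.e1 ^ i * d.e2 ^ j ∈ d.U :=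
            d.U.mul_mem (hmodexp _ d.he1 i hi) (hmodexp _ d.he2 j hj)
          have := d.U.mul_mem h1 hij
          rwa [mul_inv_cancel_left] at this
        refine hroot _ d.he1 i hi ?_
        have := W.mul_mem hi_j (W.inv_mem (hUW (hmodexp _ d.he2 j hj)))
        simpa using this
      · refine hroot _ d.he1 j hj ?_
        -- apply `x`: `[x, e1^i e2^j] ≡ e1^j`
        have hq : ∀ u : G, u ∈ d.U ↔ (u : G ⧸ d.U) = 1 := fun u => (QuotientGroup.eq_one_iff u).symm
        have h1 := W.mul_mem (hWconj d.x _ hi_j) (W.inv_mem hi_j)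
        have a1 : ((d.x : G ⧸ d.U) * d.e1 * (d.x : G ⧸ d.U)⁻¹) = d.e1 := by
          have := (hq _).1 d.hxe1
          simp only [QuotientGroup.mk_mul, QuotientGroup.mk_inv] at this
          exact mul_inv_eq_one.1 this
        have a2 : ((d.x : G ⧸ d.U) * d.e2 * (d.x : G ⧸ d.U)⁻¹) = d.e1 * d.e2 := by
          have := (hq _).1 d.hxe2
          simp only [QuotientGroup.mk_mul, QuotientGroup.mk_inv] at this
          rw [inv_mul_eq_one] at this
          rw [this, inv_mul_cancel_right]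
        have c12 : Commute (d.e1 : G ⧸ d.U) d.e2 := by
          change (d.e1 : G ⧸ d.U) * d.e2 = d.e2 * d.e1
          rw [← QuotientGroup.mk_mul, ← QuotientGroup.mk_mul, hab _ d.he1 _ d.he2]
        have key : (d.e1 ^ j)⁻¹ * (d.x * (d.e1 ^ i * d.e2 ^ j) * d.x⁻¹ * (d.e1 ^ i * d.e2 ^ j)⁻¹) ∈ d.U := by
          rw [hq]
          simp only [QuotientGroup.mk_mul, QuotientGroup.mk_inv, QuotientGroup.mk_pow]
          rw [show (d.x : G ⧸ d.U) * ((d.e1 : G ⧸ d.U) ^ i * (d.e2 : G ⧸ d.U) ^ j) * (d.x : G ⧸ d.U)⁻¹ =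
            ((d.x : G ⧸ d.U) * (d.e1 : G ⧸ d.U) ^ i * (d.x : G ⧸ d.U)⁻¹) *
            ((d.x : G ⧸ d.U) * (d.e2 : G ⧸ d.U) ^ j * (d.x : G ⧸ d.U)⁻¹) by group,
            ← conj_pow, ← conj_pow, a1, a2, c12.mul_pow]
          have c' : Commute ((d.e1 : G ⧸ d.U) ^ i) ((d.e1 : G ⧸ d.U) ^ j) := (Commute.refl _).pow_pow i j
          rw [← mul_assoc ((d.e1 : G ⧸ d.U) ^ i), c'.eq]
          group
        have := W.mul_mem h1 (W.inv_mem (hUW key))
        generalize d.x * (d.e1 ^ i * d.e2 ^ j) * d.x⁻¹ * (d.e1 ^ i * d.e2 ^ j)⁻¹ = q at this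
        simpa [mul_assoc] using this
    have he2W : d.e2 ∈ W := by
      have h1 := W.mul_mem (hWconj d.y _ he1W) (W.inv_mem he1W)
      have := W.mul_mem h1 (W.inv_mem (hUW d.hye1))
      rwa [mul_inv_rev, inv_inv, mul_inv_cancel_left] at this
    -- hence `E = U S`, and every element of `U` is a `p`th power of an element of `U`
    have hS : S ≤ d.E := (closure_le _).2 fun b hb => hb.1
    have hWE : d.E ≤ W := by
      intro e he
      obtain ⟨i', j', h'⟩ := d.hspan e he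
      have := W.mul_mem (W.mul_mem (W.pow_mem he1W i') (W.pow_mem he2W j')) (hUW h')
      rwa [mul_inv_cancel_left] at this
    have hSp : ∀ b ∈ S, b ^ p = 1 := by
      intro b hb
      induction hb using closure_induction with
      | mem b hb => exact hb.2
      | one => exact one_pow _
      | mul u v hu hv ihu ihv =>
        rw [(show Commute u v from hab u (hS hu) v (hS hv)).mul_pow, ihu, ihv, one_mul]
      | inv u _ ihu => rw [inv_pow, ihu, inv_one]
    let Q : d.U → d.U := fun u => ⟨(u : G) ^ p, d.U.pow_mem u.2 p⟩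
    have hQs : Function.Surjective Q := by
      intro u
      obtain ⟨a, ha, hau⟩ := hUpow u u.2
      have haW' : a ∈ ((d.U : Subgroup G) : Set G) * (S : Set G) := by
        rw [← normal_mul]; exact hWE ha
      obtain ⟨v, hv, b, hb, rfl⟩ := haW'
      refine ⟨⟨v, hv⟩, Subtype.ext ?_⟩
      change v ^ p = _
      rw [← hau, (show Commute v b from hab v (d.hUE hv) b (hS hb)).mul_pow, hSp b hb, mul_one]
    have hQi := Finite.injective_iff_surjective.2 hQs
    haveI : Nontrivial d.U := (Subgroup.nontrivial_iff_ne_bot _).2 hU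
    obtain ⟨u, hu⟩ : ∃ u : d.U, orderOf u = p := by
      obtain ⟨k, hk⟩ := d.hU.exists_card_eq
      refine exists_prime_orderOf_dvd_card' p ?_
      rw [hk]
      refine dvd_pow_self p fun h0 => ?_
      rw [h0, pow_zero] at hk
      exact absurd hk Finite.one_lt_card.ne'
    have hu1 : Q u = Q 1 := by
      have := congrArg Subtype.val (hu ▸ pow_orderOf_eq_one u)
      refine Subtype.ext ?_
      simpa [Q] using this
    exact hpf.out.ne_one (by rw [← hu, hQi hu1, orderOf_one])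
  -- the endomorphism `n = x - 1`
  have hcx : ∀ e ∈ d.E, d.x * e * d.x⁻¹ ∈ d.E := fun e he => d.conj_mem_E _ he
  let X : AddMonoid.End (Additive d.E) := MonoidHom.toAdditive
    (MonoidHom.mk' (fun e : d.E => (⟨d.x * e * d.x⁻¹, hcx e e.2⟩ : d.E)) fun a b =>
      Subtype.ext (by simp [mul_assoc]))
  let n : AddMonoid.End (Additive d.E) := X - 1
  let val : Additive d.E → G := fun a => ((Additive.toMul a : d.E) : G)
  have hX : ∀ a, val (X a) = d.x * val a * d.x⁻¹ := fun a => rfl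
  have hXpow : ∀ k : ℕ, ∀ a, val ((X ^ k) a) = d.x ^ k * val a * (d.x ^ k)⁻¹ := by
    intro k
    induction k with
    | zero => intro a; simp
    | succ k ih =>
      intro a
      rw [pow_succ', AddMonoid.End.coe_mul, Function.comp_apply, hX, ih, pow_succ']
      group
  have hXp : X ^ p = 1 := by
    refine DFunLike.ext _ _ fun a => ?_
    apply Additive.toMul.injective
    apply Subtype.ext
    change val ((X ^ p) a) = val a
    rw [hXpow, hxp1]
    simp
  -- `n a ∈ U` when `a` is in `U`, and modulo `U` it is the transvection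
  let UA : AddSubgroup (Additive d.E) := Subgroup.toAddSubgroup (d.U.subgroupOf d.E)
  have hmemUA : ∀ a, a ∈ UA ↔ val a ∈ d.U := fun a => Iff.rfl
  have hn : ∀ a, val (n a) = d.x * val a * d.x⁻¹ * (val a)⁻¹ := by
    intro a
    change val (X a - a) = _
    simp only [val, toMul_sub, div_eq_mul_inv]
    rfl
  have hnU : ∀ a ∈ UA, n a ∈ UA := by
    intro a ha
    rw [hmemUA, hn]
    exact d.U.mul_mem (d.Un.conj_mem _ ha _) (d.U.inv_mem ha)
  have hn2 : ∀ a, (n ^ 2) a ∈ UA := by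
    let A1 : Additive d.E := Additive.ofMul ⟨d.e1, d.he1⟩
    let A2 : Additive d.E := Additive.ofMul ⟨d.e2, d.he2⟩
    have h1 : n A1 ∈ UA := by rw [hmemUA, hn]; exact d.hxe1
    have h2 : n A2 - A1 ∈ UA := by
      rw [hmemUA]
      simp only [val, toMul_sub, div_eq_mul_inv]
      change val (n A2) * d.e1⁻¹ ∈ d.U
      rw [hn]
      have := d.Un.conj_mem _ d.hxe2 d.e1
      simpa [mul_assoc, val, A2] using this
    intro a
    obtain ⟨i, j, hij⟩ := d.hspan (val a) (Additive.toMul a).2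
    obtain ⟨u, hu, rfl⟩ : ∃ u ∈ UA, a = i • A1 + j • A2 + u := by
      refine ⟨-(i • A1 + j • A2) + a, ?_, (add_neg_cancel_left _ _).symm⟩
      rw [hmemUA]
      simpa [val, A1, A2] using hij
    have h22 : n (n A2) ∈ UA := by
      have := UA.add_mem (hnU _ h2) h1
      rwa [← map_add, sub_add_cancel] at this
    rw [pow_two, AddMonoid.End.coe_mul, Function.comp_apply]
    simp only [map_add, map_nsmul]
    exact UA.add_mem (UA.add_mem (UA.nsmul_mem (hnU _ h1) i) (UA.nsmul_mem h22 j)) (hnU _ (hnU _ hu))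
  have hUroot : ∀ a ∈ UA, ∃ b, a = p • b := by
    intro a ha
    obtain ⟨b, hb, hba⟩ := hUpow _ ha
    exact ⟨Additive.ofMul ⟨b, hb⟩, Additive.toMul.injective (Subtype.ext hba.symm)⟩
  have hnk : ∀ k, 2 ≤ k → ∀ a, (n ^ k) a ∈ UA := by
    intro k hk a
    obtain ⟨l, rfl⟩ := Nat.exists_eq_add_of_le hk
    rw [pow_add, AddMonoid.End.coe_mul, Function.comp_apply]
    exact hn2 _
  -- the binomial expansion of `X ^ p = 1` at a preimage of `e2`
  let A2 : Additive d.E := Additive.ofMul ⟨d.e2, d.he2⟩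
  have hbin := (Commute.one_right n).add_pow p
  rw [sub_add_cancel, hXp] at hbin
  have hbin' := DFunLike.congr_fun hbin A2
  rw [AddMonoid.End.coe_one, id] at hbin'
  have hsum : ∀ (s : Finset ℕ) (f : ℕ → AddMonoid.End (Additive d.E)),
      (∑ k ∈ s, f k) A2 = ∑ k ∈ s, f k A2 := by
    intro s f
    induction s using Finset.induction_on with
    | empty => simp
    | insert a s has ih => rw [Finset.sum_insert has, Finset.sum_insert has, ← ih]; rfl
  rw [hsum] at hbin'
  have hterm : ∀ k, (n ^ k * 1 ^ (p - k) * (p.choose k : AddMonoid.End (Additive d.E))) A2 =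
      p.choose k • (n ^ k) A2 := by
    intro k
    rw [one_pow, mul_one, AddMonoid.End.coe_mul, Function.comp_apply,
      AddMonoid.End.natCast_apply, map_nsmul]
  simp only [hterm] at hbin'
  have hlow : ∀ k ∈ Finset.Ico 2 (p + 1), ∃ u ∈ UA, p.choose k • (n ^ k) A2 = p • u := by
    intro k hk
    rw [Finset.mem_Ico] at hk
    rcases eq_or_lt_of_le (Nat.lt_succ_iff.1 hk.2) with rfl | hlt
    · -- `k = p ≥ 4`
      obtain ⟨l, hl⟩ : ∃ l, k = l + 2 := ⟨k - 2, by omega⟩
      obtain ⟨b, hb⟩ := hUroot _ (hn2 A2)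
      refine ⟨(n ^ l) b, hnk l (by omega) b, ?_⟩
      rw [Nat.choose_self, one_smul]
      rw [show n ^ k = n ^ l * n ^ 2 by rw [← pow_add, ← hl], AddMonoid.End.coe_mul,
        Function.comp_apply, hb, map_nsmul]
    · obtain ⟨m, hm⟩ := hpf.out.dvd_choose_self (by omega : k ≠ 0) hlt
      exact ⟨m • (n ^ k) A2, UA.nsmul_mem (hnk k hk.1 A2) m, by rw [hm, mul_smul]⟩
  choose! f hfU hf using hlow
  have hsplit : ∀ g : ℕ → Additive d.E, ∑ k ∈ Finset.range (p + 1), g k =
      g 0 + g 1 + ∑ k ∈ Finset.Ico 2 (p + 1), g k := by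
    intro g
    rw [← Finset.sum_range_add_sum_Ico g (show 2 ≤ p + 1 by omega), Finset.sum_range_succ,
      Finset.sum_range_one]
  rw [hsplit, Finset.sum_congr rfl hf, ← Finset.smul_sum, Nat.choose_zero_right, one_smul, pow_zero,
    Nat.choose_one_right, pow_one, AddMonoid.End.coe_one, id, add_assoc, left_eq_add,
    ← smul_add] at hbin'
  set v := n A2 + ∑ k ∈ Finset.Ico 2 (p + 1), f k with hv
  have hvU : v ∈ UA := hker_U (val v) (Additive.toMul v).2
    (congrArg (fun a => ((Additive.toMul a : d.E) : G)) hbin')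
  have hnA2 : n A2 ∈ UA := by
    have := UA.sub_mem hvU (UA.sum_mem fun k hk => hfU k hk)
    rwa [hv, add_sub_cancel_right] at this
  rw [hmemUA, hn] at hnA2
  have := d.U.mul_mem hnA2 (d.U.inv_mem d.hxe2)
  -- so `e1 ∈ U`
  apply d.he1U
  simpa [mul_assoc, val, A2] using this

end QdData

end Cfsg.Agent.Local
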