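import Cfsg.Agent.Lib.Inv.BaerSuzuki
import Mathlib.GroupTheory.PGroup
import Mathlib.Algebra.Group.Action.Basic

/-!
A finite group `X` acting faithfully on an elementary abelian `2`-group `V`, all of whose
`2`-subgroups act quadratically, with trivial `O₂` and a failure of factorization offender, has
an element of order `3` inverted by an involution.
-/

set_option autoImplicit false
set_option linter.style.haveILetI false

namespace Cfsg.Agent.Local.QuadraticOffender

open Subgroup
open scoped Pointwise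

variable {X V : Type*} [Group X] [CommGroup V] [MulDistribMulAction X V]

/-- The fixed points of a subgroup. -/
def fixPts (A : Subgroup X) : Subgroup V where
  carrier := {v | ∀ a ∈ A, a • v = v}
  one_mem' := fun a _ => smul_one a
  mul_mem' := fun hu hv a ha => by rw [smul_mul', hu a ha, hv a ha]
  inv_mem' := fun hu a ha => by rw [smul_inv', hu a ha]

theorem mem_fixPts {A : Subgroup X} {v : V} : v ∈ fixPts A ↔ ∀ a ∈ A, a • v = v := Iff.rfl

/-- The action of all `2`-subgroups is quadratic. -/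
def IsQuadratic (X V : Type*) [Group X] [CommGroup V] [MulDistribMulAction X V] : Prop :=
  ∀ T : Subgroup X, IsPGroup 2 T → ∀ s ∈ T, ∀ t ∈ T, ∀ v : V, s • (t • v / v) = t • v / v

variable [FaithfulSMul X V]

theorem commute_of_isPGroup (hV : ∀ v : V, v * v = 1) (hq : IsQuadratic X V) {T : Subgroup X}
    (hT : IsPGroup 2 T) {s t : X} (hs : s ∈ T) (ht : t ∈ T) : Commute s t := by
  refine FaithfulSMul.eq_of_smul_eq_smul fun v : V => ?_
  have h1 := hq T hT s hs t ht v
  have h2 := hq T hT t ht s hs v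
  rw [smul_div', div_eq_iff_eq_mul] at h1 h2
  rw [mul_smul, mul_smul, h1, h2, div_mul_comm, mul_comm (s • v / v)]

theorem sq_eq_one (hV : ∀ v : V, v * v = 1) (hq : IsQuadratic X V) {T : Subgroup X}
    (hT : IsPGroup 2 T) {s : X} (hs : s ∈ T) : s * s = 1 := by
  refine FaithfulSMul.eq_of_smul_eq_smul fun v : V => ?_
  have h1 := hq T hT s hs s hs v
  rw [smul_div', div_eq_iff_eq_mul] at h1
  rw [mul_smul, one_smul, h1, div_eq_mul_inv, inv_eq_of_mul_eq_one_right (hV v), mul_right_comm,
    hV, one_mul]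

variable [Finite X] [Finite V]

/-- The main lemma. -/
theorem exists_order_three (hV : ∀ v : V, v * v = 1) (hq : IsQuadratic X V)
    (hO : ∀ N : Subgroup X, N.Normal → IsPGroup 2 N → N = ⊥) (A₀ : Subgroup X) (hA₀ : A₀ ≠ ⊥)
    (hA₀2 : IsPGroup 2 A₀) (hFF₀ : Nat.card V ≤ Nat.card A₀ * Nat.card (fixPts (V := V) A₀)) :
    ∃ y a : X, y ^ 3 = 1 ∧ y ≠ 1 ∧ a * a = 1 ∧ a * y * a = y⁻¹ := by
  classical
  -- a smallest offender
  obtain ⟨A, ⟨hA1, hA2, hFF⟩, hAmin⟩ := exists_minimalFor_of_wellFoundedLT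
    (fun A : Subgroup X => A ≠ ⊥ ∧ IsPGroup 2 A ∧ Nat.card V ≤ Nat.card A * Nat.card (fixPts (V := V) A))
    (fun A => Nat.card A) ⟨A₀, hA₀, hA₀2, hFF₀⟩
  -- a smallest group in which it is not in a normal `2`-subgroup
  let bad : Subgroup X → Prop := fun H => A ≤ H ∧
    ¬ ∃ R : Subgroup X, R ≤ H ∧ IsPGroup 2 R ∧ A ≤ R ∧ H ≤ normalizer (R : Set X)
  have htop : bad ⊤ := by
    refine ⟨le_top, ?_⟩
    rintro ⟨R, -, hR, hAR, hn⟩
    haveI : R.Normal := normalizer_eq_top_iff.1 (top_le_iff.1 hn)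
    exact hA1 (le_bot_iff.1 (hO R inferInstance hR ▸ hAR))
  obtain ⟨H, ⟨hAH, hbad⟩, hHmin⟩ := exists_minimalFor_of_wellFoundedLT bad (fun H => Nat.card H) ⟨⊤, htop⟩
  have hHlt : ∀ H' : Subgroup X, H' < H → A ≤ H' →
      ∃ R : Subgroup X, R ≤ H' ∧ IsPGroup 2 R ∧ A ≤ R ∧ H' ≤ normalizer (R : Set X) := by
    intro H' hH' hAH'
    by_contra hcon
    have h1 := card_le_of_le hH'.le
    have h2 : Nat.card H' ≠ Nat.card H := fun e => hH'.ne (eq_of_le_of_card_ge hH'.le e.ge)
    have h3 : Nat.card H ≤ Nat.card H' := hHmin (j := H') ⟨hAH', hcon⟩ h1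
    omega
  -- `2`-subgroups in proper overgroups of conjugates generate `2`-subgroups
  have hsup : ∀ h ∈ H, ∀ P : Subgroup X, IsPGroup 2 P → ∀ H' : Subgroup X, H' < H →
      MulAut.conj h • A ≤ H' → P ≤ H' → IsPGroup 2 ↥(MulAut.conj h • A ⊔ P) := by
    intro h hh P hP H' hH' hA' hP'
    have hlt : MulAut.conj h⁻¹ • H' < H := by
      refine lt_of_le_of_ne (fun x hx => ?_) fun e => hH'.ne ?_
      · rw [mem_pointwise_smul_iff_inv_smul_mem] at hx
        have := hH'.le hx
        simp only [map_inv, inv_inv, MulAut.smul_def, MulAut.conj_apply] at this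
        have := H.mul_mem (H.mul_mem (H.inv_mem hh) this) hh
        simpa [mul_assoc] using this
      · refine eq_of_le_of_card_ge hH'.le ?_
        rw [← e, ← Nat.card_congr (equivSMul (MulAut.conj h⁻¹) H').toEquiv]
    have hAle : A ≤ MulAut.conj h⁻¹ • H' := fun x hx => by
      rw [mem_pointwise_smul_iff_inv_smul_mem]
      refine hA' ?_
      rw [mem_pointwise_smul_iff_inv_smul_mem]
      simpa [mul_assoc] using hx
    obtain ⟨R, hRle, hR, hAR, hRn⟩ := hHlt _ hlt hAle
    have hR' : IsPGroup 2 ↥(MulAut.conj h • R) := hR.of_equiv (equivSMul _ R)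
    have hn' : P ≤ normalizer ((MulAut.conj h • R : Subgroup X) : Set X) := by
      intro x hx
      have hx' : h⁻¹ * x * h ∈ normalizer (R : Set X) := hRn (by
        rw [mem_pointwise_smul_iff_inv_smul_mem]
        simpa [mul_assoc] using hP' hx)
      rw [mem_normalizer_iff] at hx' ⊢
      intro y
      simp only [mem_pointwise_smul_iff_inv_smul_mem, MulAut.smul_def, ← map_inv, MulAut.conj_apply]
      have := hx' (h⁻¹ * y * h)
      simpa [mul_assoc] using this
    exact (hR'.to_sup_of_normal_left' hP hn').to_le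
      (sup_le_sup_right (pointwise_smul_le_pointwise_smul_iff.2 hAR) P)
  -- a conjugate generating `H` with `A`
  obtain ⟨g, hg, hgnp⟩ : ∃ g ∈ H, ¬ IsPGroup 2 ↥(A ⊔ MulAut.conj g • A) := by
    by_contra hcon
    push Not at hcon
    obtain ⟨N, hN, hN2, hAN⟩ := Cfsg.Agent.Inv.baerSuzuki (p := 2) (A.subgroupOf H)
      (hA2.of_equiv (subgroupOfEquivOfLe hAH).symm) fun g => by
        refine IsPGroup.of_injective (hcon g g.2) ((H.subtype.comp (Subgroup.subtype _)).codRestrict _ ?_) ?_
        · intro x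
          have hle : (A.subgroupOf H ⊔ MulAut.conj g • A.subgroupOf H).map H.subtype ≤
              A ⊔ MulAut.conj (g : X) • A := by
            rw [Subgroup.map_sup]
            refine sup_le_sup (map_le_iff_le_comap.2 le_rfl) ?_
            rintro _ ⟨y, hy, rfl⟩
            rw [mem_pointwise_smul_iff_inv_smul_mem]
            rw [SetLike.mem_coe, mem_pointwise_smul_iff_inv_smul_mem] at hy
            simpa [mem_subgroupOf, mul_assoc] using hy
          exact hle (mem_map_of_mem _ x.2)
        · intro x y hxy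
          exact Subtype.ext (Subtype.ext (by simpa using congrArg Subtype.val hxy))
    refine hbad ⟨N.map H.subtype, map_subtype_le _, hN2.map _, fun a ha =>
      ⟨⟨a, hAH ha⟩, hAN ha, rfl⟩, fun h hh => ?_⟩
    rw [mem_normalizer_iff]
    intro x
    constructor
    · rintro ⟨n, hn, rfl⟩
      exact ⟨⟨h, hh⟩ * n * ⟨h, hh⟩⁻¹, hN.conj_mem n hn _, rfl⟩
    · rintro ⟨n, hn, hnx⟩
      exact ⟨⟨h, hh⟩⁻¹ * n * ⟨h, hh⟩, by simpa using hN.conj_mem n hn ⟨h, hh⟩⁻¹, by
        simp only [map_mul, map_inv, coe_subtype] at *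
        rw [hnx]; group⟩
  set A' := MulAut.conj g • A with hA'
  have hA'2 : IsPGroup 2 A' := hA2.of_equiv (equivSMul _ A)
  have hA'H : A' ≤ H := fun x hx => by
    rw [hA', mem_pointwise_smul_iff_inv_smul_mem] at hx
    simp only [← map_inv, MulAut.smul_def, MulAut.conj_apply, inv_inv] at hx
    have := H.mul_mem (H.mul_mem hg (hAH hx)) (H.inv_mem hg)
    simpa [mul_assoc] using this
  have hgen : A ⊔ A' = H := by
    by_contra hne
    have hlt : A ⊔ A' < H := lt_of_le_of_ne (sup_le hAH hA'H) hne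
    have := hsup g hg A hA2 _ hlt le_sup_right le_sup_left
    rw [sup_comm] at this
    exact hgnp this
  -- basic properties
  set Z : Subgroup V := fixPts A with hZ
  set Z' : Subgroup V := fixPts A' with hZ'
  set C : Subgroup V := Z ⊓ Z' with hC
  have hCfix : ∀ h ∈ H, ∀ c ∈ C, h • c = c := by
    intro h hh c hc
    have hle : H ≤ MulAction.stabilizer X c :=
      hgen.ge.trans (sup_le (fun a ha => hc.1 a ha) (fun a ha => hc.2 a ha))
    exact hle hh
  have hdZ : ∀ a ∈ A, ∀ v : V, a • v / v ∈ Z := fun a ha v s hs => hq A hA2 s hs a ha v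
  have hdZ' : ∀ b ∈ A', ∀ v : V, b • v / v ∈ Z' := fun b hb v s hs => hq A' hA'2 s hs b hb v
  have hmapZ : ∀ u, u ∈ Z' ↔ g⁻¹ • u ∈ Z := by
    intro u
    constructor
    · intro hu a ha
      have : (g * a * g⁻¹) • u = u := hu _ (by
        rw [hA', mem_pointwise_smul_iff_inv_smul_mem]
        simpa [mul_assoc] using ha)
      rw [mul_smul, mul_smul, smul_eq_iff_eq_inv_smul] at this
      exact this
    · intro hu b hb
      rw [hA', mem_pointwise_smul_iff_inv_smul_mem] at hb
      simp only [← map_inv, MulAut.smul_def, MulAut.conj_apply, inv_inv] at hb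
      have := hu _ hb
      rw [mul_smul, mul_smul, smul_inv_smul, inv_smul_eq_iff, smul_inv_smul] at this
      exact this
  have hcardZ : Nat.card Z' = Nat.card Z :=
    Nat.card_congr ⟨fun u => ⟨g⁻¹ • (u : V), (hmapZ _).1 u.2⟩,
      fun z => ⟨g • (z : V), (hmapZ _).2 (by rw [inv_smul_smul]; exact z.2)⟩,
      fun u => Subtype.ext (smul_inv_smul g _), fun z => Subtype.ext (inv_smul_smul g _)⟩
  -- a vector fixed modulo `C` by the whole of `H` is fixed
  have hmodfix : ∀ v : V, (∀ h ∈ H, h • v / v ∈ C) → (∀ b ∈ A', b • v = v) → ∀ a ∈ A, a • v = v := by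
    intro v hv hb a ha
    have hvc : ∀ h ∈ H, ∀ k ∈ H, (h * k) • v / v = (h • v / v) * (k • v / v) := by
      intro h hh k hk
      have h1 : h • (k • v / v) = k • v / v := hCfix h hh _ (hv k hk)
      rw [smul_div'] at h1
      rw [mul_smul, div_eq_iff_eq_mul.1 h1]
      simp [div_eq_mul_inv, mul_comm, mul_left_comm]
    have hga : g * a * g⁻¹ ∈ A' := by
      rw [hA', mem_pointwise_smul_iff_inv_smul_mem]
      simpa [mul_assoc] using ha
    have h0 := hvc (g * a) (H.mul_mem hg (hAH ha)) g⁻¹ (H.inv_mem hg)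
    rw [hb _ hga, div_self', hvc g hg a (hAH ha), mul_right_comm] at h0
    have h2 := hvc g hg g⁻¹ (H.inv_mem hg)
    rw [mul_inv_cancel, one_smul, div_self'] at h2
    rw [← h2, one_mul] at h0
    exact div_eq_one.1 h0.symm
  -- elements moving a vector of one fixed space inside `C` are central
  have hcentral : ∀ b ∈ A, ∀ u ∈ Z', u ∉ C → b • u / u ∈ C → ∀ h ∈ H, Commute b h := by
    intro b hb u hu huC hbu
    let S : Subgroup X :=
      { carrier := {h | h ∈ H ∧ h • u / u ∈ C}
        one_mem' := ⟨H.one_mem, by simp [C.one_mem]⟩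
        mul_mem' := by
          rintro h k ⟨hh, hhu⟩ ⟨hk, hku⟩
          refine ⟨H.mul_mem hh hk, ?_⟩
          have h1 : h • (k • u / u) = k • u / u := hCfix h hh _ hku
          rw [smul_div', div_eq_iff_eq_mul] at h1
          rw [mul_smul, h1, mul_div_assoc]
          exact C.mul_mem hku hhu
        inv_mem' := by
          rintro h ⟨hh, hhu⟩
          refine ⟨H.inv_mem hh, ?_⟩
          have h1 : h⁻¹ • (h • u / u) = h • u / u := hCfix _ (H.inv_mem hh) _ hhu
          rw [smul_div', inv_smul_smul] at h1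
          rw [← inv_div, h1]
          exact C.inv_mem hhu }
    have hlt : S < H := by
      refine lt_of_le_of_ne (fun x hx => hx.1) fun e => huC ⟨?_, hu⟩
      exact hmodfix u (fun h hh => (e.ge hh).2) hu
    have hA'S : MulAut.conj g • A ≤ S := fun x hx => ⟨hA'H hx, by
      rw [hu x hx, div_self']; exact C.one_mem⟩
    have hp := hsup g hg (zpowers b) (hA2.to_le (zpowers_le.2 hb)) S hlt hA'S
      (zpowers_le.2 ⟨hAH hb, hbu⟩)
    intro h hh
    have hle : H ≤ centralizer ({b} : Set X) := by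
      rw [← hgen]
      refine sup_le (fun a ha => ?_) (fun a ha => ?_) <;> rw [mem_centralizer_singleton_iff]
      · exact (commute_of_isPGroup hV hq hA2 ha hb).eq
      · exact (commute_of_isPGroup hV hq hp (mem_sup_left ha) (mem_sup_right (mem_zpowers b))).eq
    exact (mem_centralizer_singleton_iff.1 (hle hh)).symm
  -- some vector of `Z'` is not in `C`
  obtain ⟨u₀, hu₀, hu₀C⟩ : ∃ u ∈ Z', u ∉ C := by
    by_contra hcon
    push Not at hcon
    have hZZ' : Z = Z' := by
      refine (eq_of_le_of_card_ge (H := Z') (K := Z) (fun u hu => (hcon u hu).1) hcardZ.ge).symm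
    have hfixH : ∀ h ∈ H, ∀ z ∈ Z, h • z = z := fun h hh z hz => hCfix h hh z ⟨hz, hZZ' ▸ hz⟩
    let S : Subgroup X :=
      { carrier := {h | h ∈ H ∧ ∀ v : V, h • v / v ∈ Z}
        one_mem' := ⟨H.one_mem, fun v => by simp [Z.one_mem]⟩
        mul_mem' := by
          rintro h k ⟨hh, hhu⟩ ⟨hk, hku⟩
          refine ⟨H.mul_mem hh hk, fun v => ?_⟩
          have h1 : h • (k • v / v) = k • v / v := hfixH h hh _ (hku v)
          rw [smul_div', div_eq_iff_eq_mul] at h1
          rw [mul_smul, h1, mul_div_assoc]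
          exact Z.mul_mem (hku v) (hhu v)
        inv_mem' := by
          rintro h ⟨hh, hhu⟩
          refine ⟨H.inv_mem hh, fun v => ?_⟩
          have h1 : h⁻¹ • (h • v / v) = h • v / v := hfixH _ (H.inv_mem hh) _ (hhu v)
          rw [smul_div', inv_smul_smul] at h1
          rw [← inv_div, h1]
          exact Z.inv_mem (hhu v) }
    have hHS : H ≤ S := hgen.ge.trans (sup_le (fun a ha => ⟨hAH ha, hdZ a ha⟩)
      (fun b hb => ⟨hA'H hb, fun v => hZZ' ▸ hdZ' b hb v⟩))
    have hcom : ∀ h ∈ H, ∀ k ∈ H, Commute h k := by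
      intro h hh k hk
      refine FaithfulSMul.eq_of_smul_eq_smul fun v : V => ?_
      have h1 : h • (k • v / v) = k • v / v := hfixH h hh _ ((hHS hk).2 v)
      have h2 : k • (h • v / v) = h • v / v := hfixH k hk _ ((hHS hh).2 v)
      rw [smul_div', div_eq_iff_eq_mul] at h1 h2
      rw [mul_smul, mul_smul, h1, h2]
      simp [div_eq_mul_inv, mul_comm, mul_left_comm]
    refine hbad ⟨A, hAH, hA2, le_rfl, fun h hh => ?_⟩
    rw [mem_normalizer_iff]
    intro x
    constructor
    · intro hx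
      rwa [(hcom h hh x (hAH hx)).eq, mul_inv_cancel_right]
    · intro hx
      have hxH : x ∈ H := by
        have := H.mul_mem (H.mul_mem (H.inv_mem hh) (hAH hx)) hh
        simpa [mul_assoc] using this
      rwa [(hcom h hh x hxH).eq, mul_inv_cancel_right] at hx
  -- no element of `A` is central
  let Az : Subgroup X := A ⊓ centralizer (H : Set X)
  have hAz_eq : ∀ b ∈ A, (∀ h ∈ H, Commute b h) → b ∈ Az := fun b hb hc =>
    ⟨hb, mem_centralizer_iff.2 fun h hh => (hc h hh).eq.symm⟩
  have hAzA' : Az ≤ A' := by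
    intro b hb
    rw [hA', mem_pointwise_smul_iff_inv_smul_mem]
    simp only [← map_inv, MulAut.smul_def, MulAut.conj_apply, inv_inv]
    have h1 : g * b = b * g := mem_centralizer_iff.1 hb.2 g hg
    rw [mul_assoc, ← h1, inv_mul_cancel_left]
    exact hb.1
  -- the map `A → Z/C` attached to a vector
  have hψ : ∀ u ∈ Z', u ∉ C → ∃ ψ : A →* Z ⧸ C.subgroupOf Z,
      (∀ a : A, ψ a = QuotientGroup.mk ⟨(a : X) • u / u, hdZ a a.2 u⟩) ∧
      ψ.ker ≤ Az.subgroupOf A := by
    intro u hu huC
    refine ⟨MonoidHom.mk' (fun a => QuotientGroup.mk ⟨(a : X) • u / u, hdZ a a.2 u⟩) fun a a' => ?_,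
      fun a => rfl, fun a ha => ?_⟩
    · rw [← QuotientGroup.mk_mul]
      congr 1
      apply Subtype.ext
      change ((a : X) * a') • u / u = (a : X) • u / u * ((a' : X) • u / u)
      have h1 : (a : X) • ((a' : X) • u / u) = (a' : X) • u / u := hdZ a' a'.2 u a a.2
      rw [smul_div', div_eq_iff_eq_mul] at h1
      rw [mul_smul, h1]
      simp [div_eq_mul_inv, mul_comm, mul_left_comm]
    · have h1 : ((⟨(a : X) • u / u, hdZ a a.2 u⟩ : Z)) ∈ C.subgroupOf Z := (QuotientGroup.eq_one_iff _).1 ha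
      exact hAz_eq a a.2 (hcentral a a.2 u hu huC h1)
  -- counting
  have hZZ : Nat.card ↥(Z ⊔ Z') * Nat.card C = Nat.card Z * Nat.card Z' := by
    have h1 := relIndex_mul_relIndex (Z ⊓ Z') Z (Z ⊔ Z') inf_le_left le_sup_left
    have h2 : Z.relIndex (Z ⊔ Z') = (Z ⊓ Z').relIndex Z' := by
      rw [sup_comm, relIndex_sup_right, inf_relIndex_right]
    have e1 := relIndex_bot_left (Z ⊓ Z')
    have e2 := relIndex_bot_left (Z ⊔ Z')
    have e3 := relIndex_bot_left Z
    have e4 := relIndex_bot_left Z'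
    have h3 := relIndex_mul_relIndex ⊥ (Z ⊓ Z') Z bot_le inf_le_left
    have h4 := relIndex_mul_relIndex ⊥ (Z ⊓ Z') Z' bot_le inf_le_right
    have h5 := relIndex_mul_relIndex ⊥ Z (Z ⊔ Z') bot_le le_sup_left
    rw [h2, e2, e3] at h5
    rw [e1, e3] at h3
    rw [e1, e4] at h4
    rw [← h5, ← h4, hC]
    ring
  have hZCcard : Nat.card (Z ⧸ C.subgroupOf Z) * Nat.card C = Nat.card Z := by
    rw [← Nat.card_congr (subgroupOfEquivOfLe (inf_le_left : C ≤ Z)).toEquiv, ← index_eq_card,
      mul_comm, card_mul_index]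
  obtain ⟨ψ₀, -, hψ₀ker⟩ := hψ u₀ hu₀ hu₀C
  have hrange : Nat.card A ≤ Nat.card Az * Nat.card (Z ⧸ C.subgroupOf Z) := by
    have h1 := ψ₀.ker.card_mul_index
    rw [index_ker] at h1
    rw [← h1]
    refine Nat.mul_le_mul ?_ (card_le_card_group _)
    rw [← Nat.card_congr (subgroupOfEquivOfLe (inf_le_left : Az ≤ A)).toEquiv]
    exact card_le_of_le hψ₀ker
  have hCpos : 0 < Nat.card C := Nat.card_pos
  have hAz : Az = ⊥ := by
    by_contra hne
    have hsupfix : Z ⊔ Z' ≤ fixPts Az :=
      sup_le (fun z hz a ha => hz a ha.1) (fun z hz a ha => hz a (hAzA' ha))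
    have hAlt : Nat.card Az < Nat.card A := by
      refine lt_of_le_of_ne (card_le_of_le inf_le_left) fun e => ?_
      have heq : Az = A := eq_of_le_of_card_ge inf_le_left e.ge
      refine hbad ⟨A, hAH, hA2, le_rfl, fun h hh => ?_⟩
      rw [mem_normalizer_iff]
      intro x
      constructor
      · intro hx
        have h1 : h * x = x * h := mem_centralizer_iff.1 (heq.ge hx).2 h hh
        rwa [h1, mul_inv_cancel_right]
      · intro hx
        have h1 : h * (h * x * h⁻¹) = (h * x * h⁻¹) * h := mem_centralizer_iff.1 (heq.ge hx).2 h hh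
        have h2 : h * x * h⁻¹ = x := by
          calc h * x * h⁻¹ = h⁻¹ * (h * (h * x * h⁻¹)) := by group
            _ = x := by rw [h1]; group
        rwa [h2] at hx
    have hnot : Nat.card Az * Nat.card (fixPts (V := V) Az) < Nat.card V := by
      by_contra hle
      push Not at hle
      exact absurd (hAmin (j := Az) ⟨hne, hA2.to_le inf_le_left, hle⟩ hAlt.le) (not_le.2 hAlt)
    have h1 : Nat.card Az * Nat.card ↥(Z ⊔ Z') < Nat.card A * Nat.card Z :=
      lt_of_le_of_lt (Nat.mul_le_mul_left _ (card_le_of_le hsupfix)) (lt_of_lt_of_le hnot hFF)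
    have h2 := Nat.mul_lt_mul_of_pos_right h1 hCpos
    rw [mul_assoc, hZZ, hcardZ] at h2
    have h3 : Nat.card A * Nat.card Z * Nat.card C ≤ Nat.card Az * (Nat.card Z * Nat.card Z) := by
      calc Nat.card A * Nat.card Z * Nat.card C
          ≤ Nat.card Az * Nat.card (Z ⧸ C.subgroupOf Z) * Nat.card Z * Nat.card C :=
            Nat.mul_le_mul_right _ (Nat.mul_le_mul_right _ hrange)
        _ = Nat.card Az * ((Nat.card (Z ⧸ C.subgroupOf Z) * Nat.card C) * Nat.card Z) := by ring
        _ = _ := by rw [hZCcard]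
    omega
  have hAcard : Nat.card (Z ⧸ C.subgroupOf Z) ≤ Nat.card A := by
    have h1 : Nat.card ↥(Z ⊔ Z') * Nat.card C ≤ Nat.card A * Nat.card Z * Nat.card C :=
      Nat.mul_le_mul_right _ ((card_le_card_group _).trans hFF)
    rw [hZZ, hcardZ, ← hZCcard] at h1
    have hpos : 0 < Nat.card C * Nat.card C * Nat.card (Z ⧸ C.subgroupOf Z) := by
      have : 0 < Nat.card (Z ⧸ C.subgroupOf Z) := Nat.card_pos
      positivity
    refine le_of_mul_le_mul_left ?_ hpos
    calc Nat.card C * Nat.card C * Nat.card (Z ⧸ C.subgroupOf Z) * Nat.card (Z ⧸ C.subgroupOf Z)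
        = Nat.card (Z ⧸ C.subgroupOf Z) * Nat.card C * (Nat.card (Z ⧸ C.subgroupOf Z) * Nat.card C) := by ring
      _ ≤ _ := h1
      _ = _ := by ring
  -- the involution `b` and the vectors `z`, `y`
  obtain ⟨b, hb, hb1⟩ : ∃ b ∈ A', b ≠ 1 := by
    obtain ⟨a, ha, ha1⟩ := (bot_or_exists_ne_one A).resolve_left hA1
    exact ⟨g * a * g⁻¹, by rw [hA', mem_pointwise_smul_iff_inv_smul_mem]; simpa [mul_assoc] using ha,
      by simpa using ha1⟩
  have hbg : g⁻¹ * b * g ∈ A := by
    rw [hA', mem_pointwise_smul_iff_inv_smul_mem] at hb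
    simpa [mul_assoc] using hb
  obtain ⟨z, hz, hbz⟩ : ∃ z ∈ Z, b • z / z ∉ C := by
    by_contra hcon
    push Not at hcon
    obtain ⟨z, hz, hzC⟩ : ∃ z ∈ Z, z ∉ C := by
      by_contra hcon'
      push Not at hcon'
      exact hu₀C ⟨(eq_of_le_of_card_ge (H := Z) (K := Z') (fun z hz => (hcon' z hz).2) hcardZ.le).ge hu₀, hu₀⟩
    -- conjugate back by `g`: a central element of `A`
    let S : Subgroup X :=
      { carrier := {h | h ∈ H ∧ h • z / z ∈ C}
        one_mem' := ⟨H.one_mem, by simp [C.one_mem]⟩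
        mul_mem' := by
          rintro h k ⟨hh, hhu⟩ ⟨hk, hku⟩
          refine ⟨H.mul_mem hh hk, ?_⟩
          have h1 : h • (k • z / z) = k • z / z := hCfix h hh _ hku
          rw [smul_div', div_eq_iff_eq_mul] at h1
          rw [mul_smul, h1, mul_div_assoc]
          exact C.mul_mem hku hhu
        inv_mem' := by
          rintro h ⟨hh, hhu⟩
          refine ⟨H.inv_mem hh, ?_⟩
          have h1 : h⁻¹ • (h • z / z) = h • z / z := hCfix _ (H.inv_mem hh) _ hhu
          rw [smul_div', inv_smul_smul] at h1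
          rw [← inv_div, h1]
          exact C.inv_mem hhu }
    have hnot : ∃ h ∈ H, h ∉ S := by
      by_contra hall
      push Not at hall
      -- then `z` is fixed by `A'`
      have hfix : ∀ b' ∈ A', b' • z = z := by
        intro b' hb'
        have hvc : ∀ h ∈ H, ∀ k ∈ H, (h * k) • z / z = (h • z / z) * (k • z / z) := by
          intro h hh k hk
          have h1 : h • (k • z / z) = k • z / z := hCfix h hh _ (hall k hk).2
          rw [smul_div'] at h1
          rw [mul_smul, div_eq_iff_eq_mul.1 h1]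
          simp [div_eq_mul_inv, mul_comm, mul_left_comm]
        have ha : g⁻¹ * b' * g ∈ A := by
          rw [hA', mem_pointwise_smul_iff_inv_smul_mem] at hb'
          simpa [mul_assoc] using hb'
        have h0 := hvc (g⁻¹ * b') (H.mul_mem (H.inv_mem hg) (hA'H hb')) g hg
        rw [hz _ ha, div_self', hvc g⁻¹ (H.inv_mem hg) b' (hA'H hb'), mul_right_comm] at h0
        have h2 := hvc g⁻¹ (H.inv_mem hg) g hg
        rw [inv_mul_cancel, one_smul, div_self'] at h2
        rw [← h2, one_mul] at h0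
        exact div_eq_one.1 h0.symm
      exact hzC ⟨hz, hfix⟩
    obtain ⟨h₀, hh₀, hh₀S⟩ := hnot
    have hlt : S < H := lt_of_le_of_ne (fun x hx => hx.1) fun e => hh₀S (e.ge hh₀)
    have hAS : MulAut.conj (1 : X) • A ≤ S := fun x hx => by
      rw [map_one, one_smul] at hx
      exact ⟨hAH hx, by rw [hz x hx, div_self']; exact C.one_mem⟩
    have hp := hsup 1 H.one_mem (zpowers b) (hA'2.to_le (zpowers_le.2 hb)) S hlt hAS
      (zpowers_le.2 ⟨hA'H hb, hcon z hz⟩)
    have hle : H ≤ centralizer ({b} : Set X) := by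
      rw [← hgen]
      refine sup_le (fun a ha => ?_) (fun a ha => ?_) <;> rw [mem_centralizer_singleton_iff]
      · exact (commute_of_isPGroup hV hq hp (mem_sup_left (by rwa [map_one, one_smul]))
          (mem_sup_right (mem_zpowers b))).eq
      · exact (commute_of_isPGroup hV hq hA'2 ha hb).eq
    have hgb : g * b = b * g := mem_centralizer_singleton_iff.1 (hle hg)
    have hbA : b ∈ A := by
      have := hbg
      rwa [mul_assoc, ← hgb, inv_mul_cancel_left] at this
    have : b ∈ Az := hAz_eq b hbA fun h hh => (mem_centralizer_singleton_iff.1 (hle hh)).symm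
    exact hb1 (mem_bot.1 (hAz ▸ this))
  set y := b • z / z with hy
  have hyZ' : y ∈ Z' := hdZ' b hb z
  have hby : b • y = y := hyZ' b hb
  -- choose `a` with `a y ≡ y z`
  obtain ⟨ψ, hψval, hψker⟩ := hψ y hyZ' hbz
  have hψinj : Function.Injective ψ := by
    rw [← MonoidHom.ker_eq_bot_iff, eq_bot_iff]
    intro a ha
    have := hψker ha
    rw [hAz] at this
    exact Subtype.ext (mem_bot.1 this)
  obtain ⟨⟨a, ha⟩, haz⟩ := ((Nat.bijective_iff_injective_and_card ψ).2
    ⟨hψinj, le_antisymm (Nat.card_le_card_of_injective ψ hψinj) hAcard⟩).2 (QuotientGroup.mk ⟨z, hz⟩)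
  rw [hψval] at haz
  have hay : (a • y / y)⁻¹ * z ∈ C := by simpa [mem_subgroupOf] using QuotientGroup.eq.1 haz
  -- the six vectors modulo `C`
  let q : V →* V ⧸ C := QuotientGroup.mk' C
  have hq0 : ∀ v, q v = 1 ↔ v ∈ C := fun v => QuotientGroup.eq_one_iff v
  have hqmul : ∀ v, q v * q v = 1 := fun v => by rw [← map_mul, hV, map_one]
  have hsmulC : ∀ h ∈ H, ∀ u v : V, q u = q v → q (h • u) = q (h • v) := by
    intro h hh u v huv
    have h1 : u⁻¹ * v ∈ C := QuotientGroup.eq.1 huv
    have h2 : (h • u)⁻¹ * (h • v) = u⁻¹ * v := by rw [← smul_inv', ← smul_mul', hCfix h hh _ h1]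
    exact QuotientGroup.eq.2 (h2 ▸ h1)
  have e1 : q (a • y) = q y * q z := by
    have : q z = q (a • y / y) := (QuotientGroup.eq.2 hay).symm
    rw [this, map_div q (a • y) y, mul_div_cancel]
  have e2 : q (b • z) = q z * q y := by
    rw [hy, map_div q (b • z) z, mul_div_cancel]
  have haH : a ∈ H := hAH ha
  have hbH : b ∈ H := hA'H hb
  have haz' : a • z = z := hz a ha
  have p1 : q ((a * b) • z) = q y := by
    rw [mul_smul, hsmulC a haH (b • z) (z * y) (by rw [e2, map_mul]), smul_mul', map_mul, haz', e1,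
      mul_left_comm, hqmul, mul_one]
  have p2 : q ((a * b) • y) = q y * q z := by rw [mul_smul, hby, e1]
  have p2' : ∀ v, q v = q y → q ((a * b) • v) = q y * q z := fun v hv => by
    rw [hsmulC (a * b) (H.mul_mem haH hbH) v y hv, p2]
  have p3 : ∀ v, q v = q y * q z → q ((a * b) • v) = q z := fun v hv => by
    rw [hsmulC (a * b) (H.mul_mem haH hbH) v (y * z) (by rw [hv, map_mul]), smul_mul', map_mul, p2, p1,
      mul_comm, ← mul_assoc, hqmul, one_mul]
  have p1' : ∀ v, q v = q z → q ((a * b) • v) = q y := fun v hv => by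
    rw [hsmulC (a * b) (H.mul_mem haH hbH) v z hv, p1]
  have hiter : ∀ k : ℕ, q ((a * b) ^ k • z) =
      if k % 3 = 0 then q z else if k % 3 = 1 then q y else q y * q z := by
    intro k
    induction k with
    | zero => simp
    | succ k ih =>
      rw [pow_succ', mul_smul]
      rcases (by omega : k % 3 = 0 ∨ k % 3 = 1 ∨ k % 3 = 2) with h | h | h
      · simp only [h, if_true] at ih
        rw [p1' _ ih]; simp [show (k + 1) % 3 = 1 by omega]
      · simp only [h, if_true, one_ne_zero, if_false] at ih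
        rw [p2' _ ih]; simp [show (k + 1) % 3 = 2 by omega]
      · simp only [h, show (2 : ℕ) ≠ 0 by omega, show (2 : ℕ) ≠ 1 by omega, if_false] at ih
        rw [p3 _ ih]; simp [show (k + 1) % 3 = 0 by omega]
  have h3 : 3 ∣ orderOf (a * b) := by
    have h0 := hiter (orderOf (a * b))
    rw [pow_orderOf_eq_one, one_smul] at h0
    rcases (by omega : orderOf (a * b) % 3 = 0 ∨ orderOf (a * b) % 3 = 1 ∨ orderOf (a * b) % 3 = 2) with h | h | h
    · exact Nat.dvd_of_mod_eq_zero h
    · exfalso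
      simp only [h, if_true, one_ne_zero, if_false] at h0
      -- `z ≡ y` puts `y` in `Z ∩ Z'`
      have h1 : z⁻¹ * y ∈ C := QuotientGroup.eq.1 h0
      have h2 : y ∈ Z := by simpa using Z.mul_mem hz h1.1
      exact hbz ⟨h2, hyZ'⟩
    · exfalso
      simp only [h, show (2 : ℕ) ≠ 0 by omega, show (2 : ℕ) ≠ 1 by omega, if_false] at h0
      exact hbz ((hq0 y).1 (mul_eq_right.1 h0.symm))
  obtain ⟨k, hk⟩ := h3
  have hk0 : 0 < k := by
    rcases Nat.eq_zero_or_pos k with rfl | h
    · have := orderOf_pos (a * b); omega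
    · exact h
  refine ⟨(a * b) ^ k, a, ?_, ?_, sq_eq_one hV hq hA2 ha, ?_⟩
  · rw [← pow_mul, mul_comm, ← hk, pow_orderOf_eq_one]
  · intro h1
    have := Nat.le_of_dvd hk0 (orderOf_dvd_of_pow_eq_one h1)
    omega
  · have haa := sq_eq_one hV hq hA2 ha
    have hai : a⁻¹ = a := inv_eq_of_mul_eq_one_right haa
    have hbi : b⁻¹ = b := inv_eq_of_mul_eq_one_right (sq_eq_one hV hq hA'2 hb)
    have hconj : a * (a * b) * a⁻¹ = (a * b)⁻¹ := by rw [mul_inv_rev, hai, hbi, ← mul_assoc, haa, one_mul]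
    have := conj_pow (i := k) (a := a) (b := a * b)
    rw [hconj, inv_pow, hai] at this
    exact this.symm

end Cfsg.Agent.Local.QuadraticOffender
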