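import Mathlib

/-!
An irreducible module for `SL₂(F)` whose root groups act quadratically is the natural module.
-/

set_option autoImplicit false
set_option linter.style.haveILetI false
set_option linter.unusedSectionVars false

open Matrix

noncomputable section

namespace Cfsg.Agent.Local.QuadSL2

variable {F : Type*} [Field F]

local notation "S2" => Matrix.SpecialLinearGroup (Fin 2) F

/-- Upper root element. -/
def U (t : F) : S2 := ⟨!![1, t; 0, 1], by simp [Matrix.det_fin_two]⟩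

/-- Lower root element. -/
def L (t : F) : S2 := ⟨!![1, 0; t, 1], by simp [Matrix.det_fin_two]⟩

/-- Weyl element. -/
def Om (t : F) : S2 := U t * L (-t⁻¹) * U t

theorem coe_mul (a b : S2) : ((a * b : S2) : Matrix (Fin 2) (Fin 2) F) = (a : Matrix (Fin 2) (Fin 2) F) * b := rfl

theorem ext' {a b : S2} (h : (a : Matrix (Fin 2) (Fin 2) F) = b) : a = b := Subtype.ext h

theorem U_add (s t : F) : U (s + t) = U s * U t := by
  apply ext'; rw [coe_mul]; simp [U, Matrix.mul_fin_two, add_comm]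

theorem L_add (s t : F) : L (s + t) = L s * L t := by
  apply ext'; rw [coe_mul]; simp [L, Matrix.mul_fin_two]

theorem U_zero : U (0 : F) = 1 := by apply ext'; simp [U, Matrix.one_fin_two]

theorem L_zero : L (0 : F) = 1 := by apply ext'; simp [L, Matrix.one_fin_two]

theorem Om_coe {t : F} (ht : t ≠ 0) : (Om t : Matrix (Fin 2) (Fin 2) F) = !![0, t; -t⁻¹, 0] := by
  rw [Om, coe_mul, coe_mul]; simp [U, L, Matrix.mul_fin_two, ht]

theorem Om_eq' {t : F} (ht : t ≠ 0) : Om t = L (-t⁻¹) * U t * L (-t⁻¹) := by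
  apply ext'; rw [Om_coe ht, coe_mul, coe_mul]; simp [U, L, Matrix.mul_fin_two, ht]

theorem L_Om {t : F} (ht : t ≠ 0) (r : F) : L r * Om t = Om t * U (-(r * t * t)) := by
  apply ext'; rw [coe_mul, coe_mul, Om_coe ht]; simp [U, L, Matrix.mul_fin_two]; field_simp

theorem U_Om {t : F} (ht : t ≠ 0) (r : F) : U r * Om t = Om t * L (-(r * t⁻¹ * t⁻¹)) := by
  apply ext'; rw [coe_mul, coe_mul, Om_coe ht]; simp [U, L, Matrix.mul_fin_two]; field_simp

theorem Om_one : Om (1 : F) * Om (-1) = 1 := by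
  apply ext'; rw [coe_mul, Om_coe one_ne_zero, Om_coe (neg_ne_zero.2 one_ne_zero)]
  simp [Matrix.mul_fin_two, Matrix.one_fin_two]

theorem Om_mul {s t : F} (hs : s ≠ 0) (ht : t ≠ 0) :
    Om (s * t) * Om (-1) = (Om s * Om (-1)) * (Om t * Om (-1)) := by
  apply ext'
  simp only [coe_mul, Om_coe hs, Om_coe ht, Om_coe (mul_ne_zero hs ht), Om_coe (neg_ne_zero.2 (one_ne_zero (α := F)))]
  simp [Matrix.mul_fin_two, mul_comm]

theorem Om_flip {r : F} (hr : r ≠ 0) : Om (-r⁻¹) = Om (-1) * (Om r * Om (-1)) := by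
  apply ext'
  simp only [coe_mul, Om_coe hr, Om_coe (neg_ne_zero.2 (inv_ne_zero hr)), Om_coe (neg_ne_zero.2 (one_ne_zero (α := F)))]
  simp [Matrix.mul_fin_two]

/-- The root elements generate. -/
theorem induction_gen {P : S2 → Prop} (hU : ∀ t, P (U t)) (hL : ∀ t, P (L t)) (hmul : ∀ a b, P a → P b → P (a * b))
    (g : S2) : P g := by
  have main : ∀ g : S2, (g : Matrix (Fin 2) (Fin 2) F) 1 0 ≠ 0 → P g := by
    intro g hc
    have hd : (g : Matrix (Fin 2) (Fin 2) F) 0 0 * (g : Matrix (Fin 2) (Fin 2) F) 1 1 -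
        (g : Matrix (Fin 2) (Fin 2) F) 0 1 * (g : Matrix (Fin 2) (Fin 2) F) 1 0 = 1 := by
      rw [← Matrix.det_fin_two]; exact g.2
    have e : g = U (((g : Matrix (Fin 2) (Fin 2) F) 0 0 - 1) / (g : Matrix (Fin 2) (Fin 2) F) 1 0) *
        L ((g : Matrix (Fin 2) (Fin 2) F) 1 0) *
        U (((g : Matrix (Fin 2) (Fin 2) F) 1 1 - 1) / (g : Matrix (Fin 2) (Fin 2) F) 1 0) := by
      apply ext'
      rw [coe_mul, coe_mul]
      ext i j
      fin_cases i <;> fin_cases j <;> simp [U, L, Matrix.mul_fin_two] <;> field_simp <;>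
        first | ring1 | linear_combination -hd | linear_combination hd
    rw [e]
    exact hmul _ _ (hmul _ _ (hU _) (hL _)) (hU _)
  by_cases hc : (g : Matrix (Fin 2) (Fin 2) F) 1 0 = 0
  · have hd : (g : Matrix (Fin 2) (Fin 2) F) 0 0 * (g : Matrix (Fin 2) (Fin 2) F) 1 1 = 1 := by
      have := g.2
      rwa [Matrix.det_fin_two, hc, mul_zero, sub_zero] at this
    have e : g = L (-1) * (L 1 * g) := by rw [← mul_assoc, ← L_add, neg_add_cancel, L_zero, one_mul]
    rw [e]
    refine hmul _ _ (hL _) (main _ ?_)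
    rw [coe_mul]
    simp [L, Matrix.mul_apply, Fin.sum_univ_two, hc, left_ne_zero_of_mul_eq_one hd]
  · exact main g hc

variable {M : Type*} [AddCommGroup M] [Finite M] [Fintype F] {p : ℕ} [Fact p.Prime]

/-- The module theorem. -/
theorem main (R : S2 →* AddMonoid.End M) (hF : ∃ n, Fintype.card F = p ^ n) (hM : ∀ m : M, p • m = 0)
    (hirr : ∀ H : AddSubgroup M, (∀ g, ∀ m ∈ H, R g m ∈ H) → H = ⊥ ∨ H = ⊤)
    (hnt : ∃ g m, R g m ≠ m)
    (hyp : (∀ s t m, R (U s) (R (U t) m - m) = R (U t) m - m) ∨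
      Nat.card M ≤ Nat.card {m : M // ∀ t, R (U t) m = m} ^ 2) :
    ∃ Φ : (Fin 2 → F) ≃+ M, ∀ (g : S2) c, R g (Φ c) = Φ ((g : Matrix (Fin 2) (Fin 2) F) *ᵥ c) := by
  classical
  have Rm : ∀ a b m, R (a * b) m = R a (R b m) := fun a b m => by rw [map_mul]; rfl
  have R1 : ∀ m, R 1 m = m := fun m => by rw [map_one]; rfl
  let W : AddSubgroup M :=
    { carrier := {m | ∀ t, R (U t) m = m}
      zero_mem' := fun t => map_zero _
      add_mem' := fun ha hb t => by rw [map_add, ha t, hb t]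
      neg_mem' := fun ha t => by rw [map_neg, ha t] }
  let W' : AddSubgroup M :=
    { carrier := {m | ∀ t, R (L t) m = m}
      zero_mem' := fun t => map_zero _
      add_mem' := fun ha hb t => by rw [map_add, ha t, hb t]
      neg_mem' := fun ha t => by rw [map_neg, ha t] }
  have hWW : ∀ m ∈ W, m ∈ W' → m = 0 := by
    intro m hm hm'
    let H : AddSubgroup M :=
      { carrier := {m | ∀ g, R g m = m}
        zero_mem' := fun g => map_zero _
        add_mem' := fun ha hb g => by rw [map_add, ha g, hb g]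
        neg_mem' := fun ha g => by rw [map_neg, ha g] }
    have hmH : m ∈ H := fun g => induction_gen (P := fun g => R g m = m) hm hm'
      (fun a b ha hb => by rw [Rm, hb, ha]) g
    rcases hirr H (fun g m hm g' => by rw [hm g, hm g']) with h | h
    · rw [h] at hmH; exact AddSubgroup.mem_bot.1 hmH
    · obtain ⟨g, x, hx⟩ := hnt
      exact absurd ((h ▸ AddSubgroup.mem_top x : x ∈ H) g) hx
  have hWto : ∀ t : F, t ≠ 0 → ∀ u ∈ W, R (Om t) u ∈ W' := fun t ht u hu r => by
    rw [← Rm, L_Om ht, Rm, hu]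
  have hWfrom : ∀ t : F, t ≠ 0 → ∀ v ∈ W', R (Om t) v ∈ W := fun t ht v hv r => by
    rw [← Rm, U_Om ht, Rm, hv]
  have h1 : (-1 : F) ≠ 0 := neg_ne_zero.2 one_ne_zero
  have hOm' : Om (-1 : F) * Om 1 = 1 := mul_eq_one_comm.1 Om_one
  have hsum : ∀ m : M, ∃ u ∈ W, ∃ v ∈ W', u + v = m := by
    have key : Function.Surjective (fun x : W × W' => (x.1 : M) + x.2) := by
      rcases hyp with hq | hc
      · have hqW : ∀ t m, R (U t) m - m ∈ W := fun t m s => hq s t m
        have hqL : ∀ t m, R (L t) m - m ∈ W' := by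
          intro t m
          have hm : m = R (Om 1) (R (Om (-1)) m) := by rw [← Rm, Om_one, R1]
          rw [hm, ← Rm (L t), L_Om one_ne_zero, Rm, ← map_sub]
          exact hWto 1 one_ne_zero _ (hqW _ _)
        intro m
        suffices h : W ⊔ W' = ⊤ by
          obtain ⟨u, hu, v, hv, huv⟩ := AddSubgroup.mem_sup.1 (show m ∈ W ⊔ W' by rw [h]; trivial)
          exact ⟨(⟨u, hu⟩, ⟨v, hv⟩), huv⟩
        refine (hirr _ ?_).resolve_left ?_
        · intro g
          refine induction_gen (P := fun g => ∀ m ∈ W ⊔ W', R g m ∈ W ⊔ W') ?_ ?_ ?_ g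
          · intro t m hm
            have := add_mem (AddSubgroup.mem_sup_left (T := W') (hqW t m)) hm
            rwa [sub_add_cancel] at this
          · intro t m hm
            have := add_mem (AddSubgroup.mem_sup_right (S := W) (hqL t m)) hm
            rwa [sub_add_cancel] at this
          · intro a b ha hb m hm
            rw [Rm]; exact ha _ (hb _ hm)
        · intro h
          obtain ⟨g, x, hx⟩ := hnt
          rw [eq_bot_iff] at h
          refine hx (induction_gen (P := fun g => ∀ m, R g m = m) (fun t m => ?_) (fun t m => ?_) (fun a b ha hb m => by rw [Rm, hb, ha]) g x)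
          · exact sub_eq_zero.1 (AddSubgroup.mem_bot.1 (h (AddSubgroup.mem_sup_left (hqW t m))))
          · exact sub_eq_zero.1 (AddSubgroup.mem_bot.1 (h (AddSubgroup.mem_sup_right (hqL t m))))
      · have hcard : Nat.card W = Nat.card W' := Nat.card_congr
          { toFun := fun u => ⟨R (Om 1) u, hWto 1 one_ne_zero _ u.2⟩
            invFun := fun v => ⟨R (Om (-1)) v, hWfrom _ h1 _ v.2⟩
            left_inv := fun u => Subtype.ext (by show R _ (R _ (u : M)) = _; rw [← Rm, hOm', R1])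
            right_inv := fun v => Subtype.ext (by show R _ (R _ (v : M)) = _; rw [← Rm, Om_one, R1]) }
        refine (Function.Injective.bijective_of_nat_card_le ?_ ?_).2
        · intro x y h
          have h' : (x.1 : M) - y.1 = y.2 - x.2 := by
            rw [sub_eq_sub_iff_add_eq_add, add_comm (y.2 : M)]; exact h
          have hz := hWW _ (W.sub_mem x.1.2 y.1.2) (by rw [h']; exact W'.sub_mem y.2.2 x.2.2)
          have e1 : x.1 = y.1 := Subtype.ext (sub_eq_zero.1 hz)
          refine Prod.ext e1 (Subtype.ext ?_)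
          rw [hz] at h'
          exact (sub_eq_zero.1 h'.symm).symm
        · rw [Nat.card_prod, ← hcard, ← sq]
          exact hc
    intro m
    obtain ⟨x, hx⟩ := key m
    exact ⟨_, x.1.2, _, x.2.2, hx⟩
  choose pu hpu pv hpv hp' using hsum
  have huniq : ∀ u ∈ W, ∀ v ∈ W', ∀ m, u + v = m → pu m = u ∧ pv m = v := by
    intro u hu v hv m h
    have h' : pu m - u = v - pv m := by rw [sub_eq_sub_iff_add_eq_add, hp' m, add_comm v u, h]
    have hz := hWW _ (W.sub_mem (hpu m) hu) (by rw [h']; exact W'.sub_mem hv (hpv m))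
    refine ⟨sub_eq_zero.1 hz, ?_⟩
    rw [hz] at h'
    exact (sub_eq_zero.1 h'.symm).symm
  let W₀ : AddSubgroup M :=
    { carrier := {u | u ∈ W ∧ ∀ s, R (L s) u - u ∈ W'}
      zero_mem' := ⟨W.zero_mem, fun s => by rw [map_zero, sub_zero]; exact W'.zero_mem⟩
      add_mem' := fun {a b} ha hb => ⟨W.add_mem ha.1 hb.1, fun s => by
        rw [map_add, add_sub_add_comm]; exact W'.add_mem (ha.2 s) (hb.2 s)⟩
      neg_mem' := fun {a} ha => ⟨W.neg_mem ha.1, fun s => by
        rw [map_neg, ← neg_sub_neg, neg_neg, neg_neg]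
        simpa [sub_eq_add_neg, add_comm] using W'.neg_mem (ha.2 s)⟩ }
  let W₀' : AddSubgroup M :=
    { carrier := {v | v ∈ W' ∧ ∀ t, R (U t) v - v ∈ W}
      zero_mem' := ⟨W'.zero_mem, fun t => by rw [map_zero, sub_zero]; exact W.zero_mem⟩
      add_mem' := fun {a b} ha hb => ⟨W'.add_mem ha.1 hb.1, fun s => by
        rw [map_add, add_sub_add_comm]; exact W.add_mem (ha.2 s) (hb.2 s)⟩
      neg_mem' := fun {a} ha => ⟨W'.neg_mem ha.1, fun s => by
        rw [map_neg, ← neg_sub_neg, neg_neg, neg_neg]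
        simpa [sub_eq_add_neg, add_comm] using W.neg_mem (ha.2 s)⟩ }
  have h0to : ∀ t : F, t ≠ 0 → ∀ u ∈ W₀, R (Om t) u ∈ W₀' := fun t ht u hu =>
    ⟨hWto t ht u hu.1, fun r => by rw [← Rm, U_Om ht, Rm, ← map_sub]; exact hWfrom t ht _ (hu.2 _)⟩
  have h0from : ∀ t : F, t ≠ 0 → ∀ v ∈ W₀', R (Om t) v ∈ W₀ := fun t ht v hv =>
    ⟨hWfrom t ht v hv.1, fun r => by rw [← Rm, L_Om ht, Rm, ← map_sub]; exact hWto t ht _ (hv.2 _)⟩
  have stepU : ∀ t : F, t ≠ 0 → ∀ v ∈ W₀', R (U t) v - v = R (Om t) v := by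
    intro t ht v hv
    set z := R (Om t) v with hz
    have hzW := h0from t ht v hv
    have e : R (L t⁻¹) z = R (U t) v := by
      have hmul : L t⁻¹ * Om t = U t * L (-t⁻¹) := by
        rw [Om_eq' ht, ← mul_assoc, ← mul_assoc, ← L_add, add_neg_cancel, L_zero, one_mul]
      rw [hz, ← Rm, hmul, Rm, hv.1]
    refine sub_eq_zero.1 (hWW _ (W.sub_mem (hv.2 t) hzW.1) ?_)
    have h := hzW.2 t⁻¹
    rw [e] at h
    have e2 : R (U t) v - v - z = (R (U t) v - z) - v := by abel
    rw [e2]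
    exact W'.sub_mem h hv.1
  have stepL : ∀ r : F, r ≠ 0 → ∀ u ∈ W₀, R (L r) u - u = R (Om (-r⁻¹)) u := by
    intro r hr u hu
    have ht : -r⁻¹ ≠ 0 := neg_ne_zero.2 (inv_ne_zero hr)
    set z := R (Om (-r⁻¹)) u with hz
    have hzW := h0to _ ht u hu
    have e : R (U r⁻¹) z = R (L r) u := by
      have hmul : U r⁻¹ * Om (-r⁻¹) = L r * U (-r⁻¹) := by
        rw [Om, ← mul_assoc, ← mul_assoc, ← U_add, add_neg_cancel, U_zero, one_mul, inv_neg, inv_inv, neg_neg]
      rw [hz, ← Rm, hmul, Rm, hu.1]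
    refine sub_eq_zero.1 (hWW _ ?_ (W'.sub_mem (hu.2 r) hzW.1))
    have h := hzW.2 r⁻¹
    rw [e] at h
    have e2 : R (L r) u - u - z = (R (L r) u - z) - u := by abel
    rw [e2]
    exact W.sub_mem h hu.1
  have hfixed : ∃ u ∈ W₀, u ≠ 0 := by
    have hne : ∃ u ∈ W, u ≠ 0 := by
      by_contra h
      push Not at h
      obtain ⟨g, x, hx⟩ := hnt
      have e1 : pu x = 0 := h _ (hpu x)
      have e2 : pv x = 0 := by
        have := h _ (hWfrom _ h1 _ (hpv x))
        have h2 := congrArg (R (Om 1)) this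
        rwa [← Rm, Om_one, R1, map_zero] at h2
      apply hx
      rw [← hp' x, e1, e2, zero_add, map_zero]
    letI : MulAction (Multiplicative F) W :=
      { smul := fun s u => ⟨pu (R (L s.toAdd) u), hpu _⟩
        one_smul := fun u => Subtype.ext (by
          show pu (R (L 0) (u : M)) = u
          rw [L_zero, R1]; exact (huniq _ u.2 _ W'.zero_mem _ (add_zero _)).1)
        mul_smul := fun s t u => Subtype.ext (by
          show pu (R (L (s.toAdd + t.toAdd)) (u : M)) = pu (R (L s.toAdd) (pu (R (L t.toAdd) (u : M))))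
          rw [L_add, Rm]
          conv_lhs => rw [← hp' (R (L t.toAdd) (u : M)), map_add, hpv (R (L t.toAdd) (u : M)) s.toAdd]
          refine (huniq _ (hpu _) _ (W'.add_mem (hpv (R (L s.toAdd) (pu (R (L t.toAdd) (u : M))))) (hpv (R (L t.toAdd) (u : M)))) _ ?_).1
          rw [← add_assoc, hp']) }
    obtain ⟨n, hn⟩ := hF
    have hpg : IsPGroup p (Multiplicative F) := IsPGroup.of_card (n := n) (by
      rw [Nat.card_congr Multiplicative.toAdd, Nat.card_eq_fintype_card, hn])
    have hdvd : p ∣ Nat.card W := by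
      obtain ⟨u, hu, hu0⟩ := hne
      have h : addOrderOf (⟨u, hu⟩ : W) = p := addOrderOf_eq_prime (Subtype.ext (hM u)) (fun e => hu0 (congrArg Subtype.val e))
      exact h ▸ addOrderOf_dvd_natCard _
    have h0 : (0 : W) ∈ MulAction.fixedPoints (Multiplicative F) W := fun s => Subtype.ext (by
      show pu (R (L s.toAdd) (0 : M)) = 0
      rw [map_zero]; exact (huniq _ W.zero_mem _ W'.zero_mem _ (add_zero _)).1)
    obtain ⟨b, hb, hne'⟩ := hpg.exists_fixed_point_of_prime_dvd_card_of_fixed_point W hdvd h0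
    refine ⟨(b : M), ⟨b.2, fun s => ?_⟩, fun e => hne' (Subtype.ext e.symm)⟩
    have h := congrArg Subtype.val (hb (Multiplicative.ofAdd s))
    change pu (R (L s) (b : M)) = b at h
    have h2 := hp' (R (L s) (b : M))
    rw [h] at h2
    rw [← h2, add_sub_cancel_left]
    exact hpv _
  have hall : (∀ u ∈ W, u ∈ W₀) ∧ ∀ v ∈ W', v ∈ W₀' := by
    have htop : W₀ ⊔ W₀' = ⊤ := by
      refine (hirr _ ?_).resolve_left ?_
      · intro g
        refine induction_gen (P := fun g => ∀ m ∈ W₀ ⊔ W₀', R g m ∈ W₀ ⊔ W₀') ?_ ?_ ?_ g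
        · intro t m hm
          obtain ⟨u, hu, v, hv, rfl⟩ := AddSubgroup.mem_sup.1 hm
          by_cases ht : t = 0
          · rw [ht, U_zero, R1]; exact hm
          rw [map_add, hu.1, eq_add_of_sub_eq (stepU t ht v hv), ← add_assoc]
          exact AddSubgroup.add_mem _ (AddSubgroup.mem_sup_left (add_mem hu (h0from t ht v hv))) (AddSubgroup.mem_sup_right hv)
        · intro r m hm
          obtain ⟨u, hu, v, hv, rfl⟩ := AddSubgroup.mem_sup.1 hm
          by_cases hr : r = 0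
          · rw [hr, L_zero, R1]; exact hm
          rw [map_add, hv.1, eq_add_of_sub_eq (stepL r hr u hu), add_comm (R (Om (-r⁻¹)) u) u, add_assoc]
          exact AddSubgroup.add_mem _ (AddSubgroup.mem_sup_left hu) (AddSubgroup.mem_sup_right (add_mem (h0to _ (neg_ne_zero.2 (inv_ne_zero hr)) u hu) hv))
        · intro a b ha hb m hm
          rw [Rm]; exact ha _ (hb _ hm)
      · intro h
        obtain ⟨u, hu, hu0⟩ := hfixed
        rw [eq_bot_iff] at h
        exact hu0 (AddSubgroup.mem_bot.1 (h (AddSubgroup.mem_sup_left hu)))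
    constructor
    · intro u hu
      obtain ⟨a, ha, b, hb, hab⟩ := AddSubgroup.mem_sup.1 (show u ∈ W₀ ⊔ W₀' by rw [htop]; trivial)
      obtain ⟨e1, e2⟩ := huniq a ha.1 b hb.1 u hab
      obtain ⟨e3, -⟩ := huniq u hu 0 W'.zero_mem u (add_zero _)
      rwa [← e3, e1]
    · intro v hv
      obtain ⟨a, ha, b, hb, hab⟩ := AddSubgroup.mem_sup.1 (show v ∈ W₀ ⊔ W₀' by rw [htop]; trivial)
      obtain ⟨e1, e2⟩ := huniq a ha.1 b hb.1 v hab
      obtain ⟨-, e3⟩ := huniq 0 W.zero_mem v hv v (zero_add _)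
      rwa [← e3, e2]
  let j : M → M := fun u => R (Om (-1)) u
  let α : F → M → M := fun t u => R (U t) (j u) - j u
  have hj : ∀ u ∈ W, j u ∈ W' := fun u hu => hWto _ h1 u hu
  have hαW : ∀ t, ∀ u ∈ W, α t u ∈ W := fun t u hu => (hall.2 _ (hj u hu)).2 t
  have hαeq : ∀ t, t ≠ 0 → ∀ u ∈ W, α t u = R (Om t * Om (-1)) u := fun t ht u hu => by
    rw [Rm]; exact stepU t ht _ (hall.2 _ (hj u hu))
  have hαadd : ∀ s t, ∀ u ∈ W, α (s + t) u = α s u + α t u := by
    intro s t u hu
    show R (U (s + t)) (j u) - j u = _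
    rw [U_add, Rm, show R (U t) (j u) = α t u + j u from (sub_add_cancel _ _).symm, map_add, hαW t u hu s]
    show _ = (R (U s) (j u) - j u) + α t u
    abel
  have hαadd' : ∀ t a b, α t (a + b) = α t a + α t b := fun t a b => by
    simp only [α, j, map_add]; abel
  have hα0 : ∀ u, α 0 u = 0 := fun u => by simp only [α, U_zero, R1, sub_self]
  have hα1 : ∀ u ∈ W, α 1 u = u := fun u hu => by rw [hαeq 1 one_ne_zero u hu, Om_one, R1]
  have hαmul : ∀ s t, ∀ u ∈ W, α s (α t u) = α (s * t) u := by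
    intro s t u hu
    by_cases hs : s = 0
    · rw [hs, zero_mul, hα0, hα0]
    by_cases ht : t = 0
    · rw [ht, mul_zero, hα0]
      simp only [α, j, map_zero, sub_zero]
    rw [hαeq s hs _ (hαW t u hu), hαeq t ht u hu, hαeq _ (mul_ne_zero hs ht) u hu, Om_mul hs ht, Rm (Om s * Om (-1))]
  obtain ⟨u₀, hu₀', hu₀0⟩ := hfixed
  have hu₀ := hu₀'.1
  let Φ : (Fin 2 → F) →+ M := AddMonoidHom.mk' (fun c => α (c 0) u₀ + j (α (c 1) u₀)) fun a b => by
    simp only [Pi.add_apply, hαadd _ _ u₀ hu₀, j, map_add]; abel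
  have heq : ∀ (g : S2) c, R g (Φ c) = Φ ((g : Matrix (Fin 2) (Fin 2) F) *ᵥ c) := by
    intro g
    refine induction_gen (P := fun g => ∀ c, R g (Φ c) = Φ ((g : Matrix (Fin 2) (Fin 2) F) *ᵥ c)) ?_ ?_ ?_ g
    · intro t c
      have e : ((U t : S2) : Matrix (Fin 2) (Fin 2) F) *ᵥ c = ![c 0 + t * c 1, c 1] := by
        ext i; fin_cases i <;> simp [U, Matrix.mulVec, dotProduct, Fin.sum_univ_two]
      rw [e]
      show R (U t) (α (c 0) u₀ + j (α (c 1) u₀)) = α (c 0 + t * c 1) u₀ + j (α (c 1) u₀)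
      rw [map_add, hαW _ _ hu₀ t, hαadd _ _ u₀ hu₀, ← hαmul t _ u₀ hu₀,
        show R (U t) (j (α (c 1) u₀)) = α t (α (c 1) u₀) + j (α (c 1) u₀) from (sub_add_cancel _ _).symm, add_assoc]
    · intro r c
      have e : ((L r : S2) : Matrix (Fin 2) (Fin 2) F) *ᵥ c = ![c 0, r * c 0 + c 1] := by
        ext i; fin_cases i <;> simp [L, Matrix.mulVec, dotProduct, Fin.sum_univ_two]
      rw [e]
      show R (L r) (α (c 0) u₀ + j (α (c 1) u₀)) = α (c 0) u₀ + j (α (r * c 0 + c 1) u₀)
      set u := α (c 0) u₀ with hu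
      have huW : u ∈ W := hαW _ _ hu₀
      rw [map_add, hj _ (hαW _ _ hu₀) r, hαadd _ _ u₀ hu₀, ← hαmul r _ u₀ hu₀, ← hu]
      by_cases hr : r = 0
      · simp only [hr, L_zero, R1, hα0, zero_add]
      rw [eq_add_of_sub_eq (stepL r hr u (hall.1 u huW)), Om_flip hr, Rm, ← hαeq r hr u huW]
      simp only [j, map_add]
      abel
    · intro a b ha hb c
      rw [Rm, hb, ha, coe_mul, Matrix.mulVec_mulVec]
  have hinj : Function.Injective Φ := by
    rw [injective_iff_map_eq_zero]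
    intro c hc
    have hc' : α (c 0) u₀ + j (α (c 1) u₀) = 0 := hc
    obtain ⟨e1, e2⟩ := huniq _ (hαW _ _ hu₀) _ (hj _ (hαW _ _ hu₀)) 0 hc'
    obtain ⟨f1, f2⟩ := huniq 0 W.zero_mem 0 W'.zero_mem 0 (add_zero _)
    rw [e1] at f1
    rw [e2] at f2
    have f2' : α (c 1) u₀ = 0 := by
      have h := congrArg (R (Om 1)) f2
      simp only [j] at h
      rwa [← Rm, Om_one, R1, map_zero] at h
    have hz : ∀ t, α t u₀ = 0 → t = 0 := by
      intro t ht
      by_contra hne
      apply hu₀0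
      rw [← hα1 u₀ hu₀, ← inv_mul_cancel₀ hne, ← hαmul _ _ u₀ hu₀, ht]
      simp only [α, j, map_zero, sub_zero]
    ext i
    fin_cases i
    · exact hz _ f1
    · exact hz _ f2'
  have hsurj : Function.Surjective Φ := by
    rw [← AddMonoidHom.range_eq_top]
    refine (hirr _ ?_).resolve_left ?_
    · rintro g _ ⟨c, rfl⟩; exact ⟨_, (heq g c).symm⟩
    · intro h
      apply hu₀0
      have hm : Φ ![1, 0] ∈ Φ.range := ⟨_, rfl⟩
      rw [h, AddSubgroup.mem_bot] at hm
      change α 1 u₀ + j (α 0 u₀) = 0 at hm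
      rwa [hα1 u₀ hu₀, hα0, show j (0 : M) = 0 from map_zero _, add_zero] at hm
  exact ⟨AddEquiv.ofBijective Φ ⟨hinj, hsurj⟩, fun g c => heq g c⟩

end Cfsg.Agent.Local.QuadSL2
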