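import Mathlib.LinearAlgebra.Matrix.SpecialLinearGroup
import Mathlib.Data.ZMod.Basic
import Mathlib.SetTheory.Cardinal.Finite

/-!
Recognition of `SL(2,3)` from generators `x, y, f` with `x⁴ = 1`, `y² = x²`, `x^y = x⁻¹`, `f³ = 1`,
`fxf⁻¹ = y`, `fyf⁻¹ = xy`.
-/

set_option autoImplicit false

namespace Cfsg.Agent.Local.SL2Three

variable {G : Type*} [Group G]

/-- The defining relations. -/
structure Rels (x y f : G) : Prop where
  x4 : x ^ 4 = 1
  y2 : y * y = x * x
  yx : y * x = x ^ 3 * y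
  f3 : f ^ 3 = 1
  fx : f * x = y * f
  fy : f * y = x * y * f

abbrev Idx := Fin 4 × Fin 2 × Fin 3

/-- product in the quaternion part -/
def qmul : Fin 4 × Fin 2 → Fin 4 × Fin 2 → Fin 4 × Fin 2
  | (a, 0), (a', b') => (a + a', b')
  | (a, 1), (a', 0) => (a - a', 1)
  | (a, 1), (a', 1) => (a - a' + 2, 0)

/-- conjugation by `f` on the quaternion part -/
def rot : Fin 4 × Fin 2 → Fin 4 × Fin 2
  | (0, 0) => (0, 0)
  | (1, 0) => (0, 1)
  | (2, 0) => (2, 0)
  | (3, 0) => (2, 1)
  | (0, 1) => (1, 1)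
  | (1, 1) => (1, 0)
  | (2, 1) => (3, 1)
  | (3, 1) => (3, 0)

def rotk : ℕ → Fin 4 × Fin 2 → Fin 4 × Fin 2
  | 0, u => u
  | k + 1, u => rot (rotk k u)

def mul (u v : Idx) : Idx :=
  let w := qmul (u.1, u.2.1) (rotk u.2.2.val (v.1, v.2.1))
  (w.1, w.2, u.2.2 + v.2.2)

def q (x y : G) (u : Fin 4 × Fin 2) : G := x ^ u.1.val * y ^ u.2.val

def val (x y f : G) (u : Idx) : G := q x y (u.1, u.2.1) * f ^ u.2.2.val

variable {x y f : G}

theorem pow_x (h : Rels x y f) (m : ℕ) : x ^ m = x ^ (m % 4) := pow_eq_pow_mod m h.x4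

theorem y_pow (h : Rels x y f) (k : ℕ) : y * x ^ k = x ^ (3 * k) * y := by
  induction k with
  | zero => simp
  | succ k ih =>
    calc y * x ^ (k + 1) = x ^ (3 * k) * (y * x) := by rw [pow_succ, ← mul_assoc, ih, mul_assoc]
      _ = _ := by rw [h.yx, ← mul_assoc, ← pow_add, Nat.mul_succ]

theorem q_mul (h : Rels x y f) (u v : Fin 4 × Fin 2) : q x y u * q x y v = q x y (qmul u v) := by
  obtain ⟨a, b⟩ := u
  obtain ⟨a', b'⟩ := v
  unfold q
  fin_cases b
  · simp only [qmul, Fin.zero_eta, Fin.val_zero, pow_zero, mul_one]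
    rw [← mul_assoc, ← pow_add, pow_x h (a.val + a'.val), ← Fin.val_add]
  · fin_cases b'
    · simp only [qmul, Fin.zero_eta, Fin.mk_one, Fin.val_zero, Fin.val_one, pow_zero, pow_one, mul_one]
      rw [mul_assoc, y_pow h, ← mul_assoc, ← pow_add, pow_x h (a.val + 3 * a'.val)]
      congr 2
      revert a a'; decide
    · simp only [qmul, Fin.mk_one, Fin.val_zero, Fin.val_one, pow_zero, pow_one, mul_one]
      rw [show x ^ a.val * y * (x ^ a'.val * y) = x ^ a.val * (y * x ^ a'.val) * y by group, y_pow h,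
        show x ^ a.val * (x ^ (3 * a'.val) * y) * y = x ^ a.val * x ^ (3 * a'.val) * (y * y) by group,
        h.y2, ← pow_two x, ← pow_add, ← pow_add, pow_x h (a.val + 3 * a'.val + 2)]
      congr 1
      revert a a'; decide

theorem f_q (h : Rels x y f) (u : Fin 4 × Fin 2) : f * q x y u = q x y (rot u) * f := by
  have hpow : ∀ k : ℕ, f * x ^ k = y ^ k * f := by
    intro k
    induction k with
    | zero => simp
    | succ k ih => rw [pow_succ, ← mul_assoc, ih, mul_assoc, h.fx, ← mul_assoc, ← pow_succ]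
  have hq : ∀ v : Fin 4 × Fin 2, q x y v = x ^ v.1.val * y ^ v.2.val := fun _ => rfl
  have e3 : y ^ 3 = q x y (2, 1) := by rw [pow_succ, pow_two, h.y2, hq]; simp [pow_two]
  obtain ⟨a, b⟩ := u
  rw [hq (a, b)]
  have hs : f * (x ^ a.val * y ^ b.val) = y ^ a.val * (x * y) ^ b.val * f := by
    fin_cases b
    · simp [hpow]
    · simp only [Fin.mk_one, Fin.val_one, pow_one]
      rw [← mul_assoc, hpow, mul_assoc, h.fy]; group
  rw [hs]
  congr 1
  have q01 : y = q x y (0, 1) := by simp [hq]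
  have q11 : x * y = q x y (1, 1) := by simp [hq]
  have e0 : y ^ 0 = q x y (0, 0) := by simp [hq]
  have e2 : y ^ 2 = q x y (2, 0) := by simp [hq, pow_two, h.y2]
  fin_cases a <;> fin_cases b
  all_goals simp only [Fin.zero_eta, Fin.mk_one, Fin.reduceFinMk, Fin.val_zero, Fin.val_one, Fin.val_two,
      pow_zero, pow_one, one_mul, mul_one, rot]
  all_goals first
    | simp [hq]; done
    | exact e2
    | exact e3
    | exact q01
    | exact (congrArg₂ (fun u v : G => u * v) q01 q11).trans (q_mul h _ _)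
    | exact (congrArg₂ (fun u v : G => u * v) e2 q11).trans (q_mul h _ _)
    | exact (congrArg₂ (fun u v : G => u * v) e3 q11).trans (q_mul h _ _)

theorem fk_q (h : Rels x y f) (k : ℕ) (u : Fin 4 × Fin 2) : f ^ k * q x y u = q x y (rotk k u) * f ^ k := by
  induction k with
  | zero => simp [rotk]
  | succ k ih =>
    rw [pow_succ', mul_assoc, ih, ← mul_assoc, f_q h]
    simp only [rotk]
    group

theorem val_mul (h : Rels x y f) (u v : Idx) : val x y f u * val x y f v = val x y f (mul u v) := by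
  obtain ⟨a, b, c⟩ := u
  obtain ⟨a', b', c'⟩ := v
  simp only [val, mul]
  rw [show q x y (a, b) * f ^ c.val * (q x y (a', b') * f ^ c'.val) =
    q x y (a, b) * (f ^ c.val * q x y (a', b')) * f ^ c'.val by group, fk_q h,
    show q x y (a, b) * (q x y (rotk c.val (a', b')) * f ^ c.val) * f ^ c'.val =
      (q x y (a, b) * q x y (rotk c.val (a', b'))) * (f ^ c.val * f ^ c'.val) by group, q_mul h, ← pow_add,
    pow_eq_pow_mod (c.val + c'.val) h.f3, ← Fin.val_add]

theorem equiv_of {H : Type*} [Group H] {x' y' f' : H} (h : Rels x y f) (h' : Rels x' y' f')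
    (hb : Function.Bijective (val x y f)) (hb' : Function.Bijective (val x' y' f')) : Nonempty (G ≃* H) := by
  refine ⟨{ toEquiv := (Equiv.ofBijective _ hb).symm.trans (Equiv.ofBijective _ hb'), map_mul' := fun g k => ?_ }⟩
  obtain ⟨u, rfl⟩ := hb.surjective g
  obtain ⟨v, rfl⟩ := hb.surjective k
  have e : ∀ w, (Equiv.ofBijective _ hb).symm (val x y f w) = w := fun w =>
    (Equiv.ofBijective _ hb).symm_apply_apply w
  simp only [Equiv.toFun_as_coe, Equiv.trans_apply]
  rw [val_mul h, e, e, e]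
  exact (val_mul h' u v).symm

abbrev M : Type := Matrix.SpecialLinearGroup (Fin 2) (ZMod 3)

def sx : M := ⟨!![0, 1; 2, 0], by decide⟩
def sy : M := ⟨!![1, 1; 1, 2], by decide⟩
def sf : M := ⟨!![0, 1; 2, 2], by decide⟩

theorem rels_SL : Rels sx sy sf := by
  constructor <;> decide +kernel

theorem bijective_SL : Function.Bijective (val sx sy sf) := by
  constructor
  · intro u v; revert u v; decide +kernel
  · intro g; revert g; decide +kernel

/-- Recognition of `SL(2,3)`. -/
theorem nonempty_equiv (h : Rels x y f) (hs : Function.Surjective (val x y f)) (hc : Nat.card G = 24) :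
    Nonempty (G ≃* Matrix.SpecialLinearGroup (Fin 2) (ZMod 3)) :=
  equiv_of h rels_SL ((Nat.bijective_iff_surjective_and_card _).2 ⟨hs, by simp [hc]⟩) bijective_SL

end Cfsg.Agent.Local.SL2Three
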