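import Cfsg.Agent.Lib.Local.Component
import Mathlib.GroupTheory.Perm.Cycle.Type
import Mathlib.Algebra.Group.Subgroup.Basic

/-!
# Components of centralizers of involutions, standard subgroups
-/

set_option autoImplicit false
set_option linter.style.haveILetI false

namespace Cfsg.Agent.Local

open Subgroup

variable {G : Type*} [Group G]

theorem conj_centralizer_singleton (g y : G) :
    (centralizer ({y} : Set G)).map (MulAut.conj g).toMonoidHom
      = centralizer ({g * y * g⁻¹} : Set G) := by
  ext z
  rw [mem_map_equiv, mem_centralizer_singleton_iff, mem_centralizer_singleton_iff,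
    MulAut.conj_symm_apply]
  constructor
  · intro h
    calc z * (g * y * g⁻¹) = g * (g⁻¹ * z * g * y) * g⁻¹ := by group
      _ = g * (y * (g⁻¹ * z * g)) * g⁻¹ := by rw [h]
      _ = g * y * g⁻¹ * z := by group
  · intro h
    calc g⁻¹ * z * g * y = g⁻¹ * (z * (g * y * g⁻¹)) * g := by group
      _ = g⁻¹ * (g * y * g⁻¹ * z) * g := by rw [h]
      _ = y * (g⁻¹ * z * g) := by group

/-- A component of `C(y)` is conjugate to a component of `C(g y g⁻¹)`. -/
theorem component_centralizer_conj {y : G} {L : Subgroup G}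
    (hLy : L ≤ centralizer ({y} : Set G))
    (hL : IsComponent (L.subgroupOf (centralizer ({y} : Set G)))) (g : G) :
    L.map (MulAut.conj g).toMonoidHom ≤ centralizer ({g * y * g⁻¹} : Set G) ∧
      IsComponent ((L.map (MulAut.conj g).toMonoidHom).subgroupOf
        (centralizer ({g * y * g⁻¹} : Set G))) := by
  refine ⟨conj_centralizer_singleton g y ▸ map_mono hLy, ?_⟩
  let e : centralizer ({y} : Set G) ≃* centralizer ({g * y * g⁻¹} : Set G) :=
    ((MulAut.conj g).subgroupMap _).trans
      (MulEquiv.subgroupCongr (conj_centralizer_singleton g y))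
  have he : (L.subgroupOf (centralizer ({y} : Set G))).map e.toMonoidHom
      = (L.map (MulAut.conj g).toMonoidHom).subgroupOf
          (centralizer ({g * y * g⁻¹} : Set G)) := by
    ext z
    rw [mem_subgroupOf]
    constructor
    · rintro ⟨a, ha, rfl⟩
      exact ⟨(a : G), ha, rfl⟩
    · rintro ⟨a, ha, hz⟩
      exact ⟨⟨a, hLy ha⟩, ha, Subtype.ext hz⟩
  exact he ▸ isComponent_map_equiv e hL

theorem normalizer_le_normalizer_centralizer (L : Subgroup G) :
    normalizer (L : Set G) ≤ normalizer (centralizer (L : Set G) : Set G) := by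
  intro g hg
  rw [mem_normalizer_iff]
  intro c
  constructor
  · intro hc l hl
    have h := hc (g⁻¹ * l * g⁻¹⁻¹) ((mem_normalizer_iff.1 (inv_mem hg) l).1 hl)
    rw [inv_inv] at h
    calc l * (g * c * g⁻¹) = g * (g⁻¹ * l * g * c) * g⁻¹ := by group
      _ = g * (c * (g⁻¹ * l * g)) * g⁻¹ := by rw [h]
      _ = g * c * g⁻¹ * l := by group
  · intro hc l hl
    have h := hc (g * l * g⁻¹) ((mem_normalizer_iff.1 hg l).1 hl)
    calc l * c = g⁻¹ * (g * l * g⁻¹ * (g * c * g⁻¹)) * g := by group
      _ = g⁻¹ * (g * c * g⁻¹ * (g * l * g⁻¹)) * g := by rw [h]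
      _ = c * l := by group

variable [Finite G]

/-- Two components of `C(y)` are equal or commute. -/
theorem components_centralizer_commute {C L M : Subgroup G}
    (hLC : L ≤ C) (hMC : M ≤ C) (hL : IsComponent (L.subgroupOf C))
    (hM : IsComponent (M.subgroupOf C)) (hne : L ≠ M) : ⁅L, M⁆ = ⊥ := by
  have h := components_commute hL hM fun e => hne (by
    rw [← map_subgroupOf_eq_of_le hLC, e, map_subgroupOf_eq_of_le hMC])
  have h2 := congrArg (Subgroup.map C.subtype) h
  rwa [map_commutator, map_subgroupOf_eq_of_le hLC, map_subgroupOf_eq_of_le hMC,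
    Subgroup.map_bot] at h2

/-- A nonembedded component commuting with none of its conjugates is standard. -/
theorem isStandard_of_nonembedded (x : G) (hx : orderOf x = 2) (L : Subgroup G)
    (hLx : L ≤ centralizer ({x} : Set G))
    (hL : IsComponent (L.subgroupOf (centralizer ({x} : Set G))))
    (hne : ∀ y : G, orderOf y = 2 → y ∈ centralizer (L : Set G) →
      L ≤ centralizer ({y} : Set G) ∧ IsComponent (L.subgroupOf (centralizer ({y} : Set G))))
    (hnc : ∀ g : G, L.map (MulAut.conj g).toMonoidHom ≠ L →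
      ⁅L, L.map (MulAut.conj g).toMonoidHom⁆ ≠ ⊥) :
    IsStandardSubgroup L := by
  set K := centralizer (L : Set G)
  have hxK : x ∈ K := fun l hl => mem_centralizer_singleton_iff.1 (hLx hl)
  -- an involution in `K` and in `g K g⁻¹` forces `g` to normalize `L`
  have key : ∀ g y' : G, orderOf y' = 2 → y' ∈ K → g * y' * g⁻¹ ∈ K →
      g ∈ normalizer (L : Set G) := by
    intro g y' hy' hy'K hyK
    rw [mem_normalizer_iff_map_conj_eq]
    by_contra hne'
    obtain ⟨h1, h2⟩ := hne y' hy' hy'K
    obtain ⟨h3, h4⟩ := component_centralizer_conj h1 h2 g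
    obtain ⟨h5, h6⟩ := hne (g * y' * g⁻¹)
      (((MulAut.conj g).orderOf_eq y').trans hy') hyK
    exact hnc g hne' (components_centralizer_commute h5 h3 h6 h4 fun e => hne' e.symm)
  refine ⟨qs_congr (subgroupOfEquivOfLe hLx) (h := hL.2), ⟨?_, ?_⟩, hnc, ?_⟩
  · refine even_iff_two_dvd.2 ?_
    have := K.orderOf_dvd_natCard hxK
    rwa [hx] at this
  · intro g hg
    by_contra hodd
    rw [Nat.not_odd_iff_even, even_iff_two_dvd] at hodd
    obtain ⟨y, hy⟩ := exists_prime_orderOf_dvd_card' 2 hodd
    obtain ⟨hyK, y', hy'K, hyy⟩ := y.2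
    have hyy' : g * y' * g⁻¹ = (y : G) := hyy
    have ho : orderOf y' = 2 := by
      rw [← (MulAut.conj g).orderOf_eq y']
      exact (congrArg orderOf hyy').trans ((orderOf_coe y).trans hy)
    exact hg (normalizer_le_normalizer_centralizer L
      (key g y' ho hy'K (hyy' ▸ hyK)))
  · refine le_antisymm (normalizer_le_normalizer_centralizer L) fun g hg => ?_
    exact key g x hx hxK ((mem_normalizer_iff.1 hg x).1 hxK)

end Cfsg.Agent.Local
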