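import Cfsg.Agent.Lib.Solv.Misc
import Cfsg.Agent.Lib.Solv.NormalPComplement
import Cfsg.Prelude.Def_SylowChains

/-!
Strongly `p`-embedded subgroups and connectivity of the Sylow graph.
-/

set_option autoImplicit false
set_option linter.style.haveILetI false

namespace Cfsg.Agent.Local.SPE

open Subgroup

variable {G : Type*} [Group G] [Finite G] {p : ℕ} [hp : Fact p.Prime] {H : Subgroup G}

def Hyp (p : ℕ) (H : Subgroup G) : Prop :=
  ∀ g : G, g ∉ H → ¬ p ∣ Nat.card ↥(H ⊓ H.map (MulAut.conj g).toMonoidHom)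

theorem mem_of_conj_le (h : Hyp p H) {U : Subgroup G} (hU : IsPGroup p U) (hU1 : U ≠ ⊥) (hUH : U ≤ H)
    {g : G} (hg : U.map (MulAut.conj g).toMonoidHom ≤ H) : g ∈ H := by
  by_contra hgH
  refine h g hgH ?_
  obtain ⟨k, hk⟩ := IsPGroup.iff_card.1 (hU.map (MulAut.conj g).toMonoidHom)
  have hc : Nat.card ↥(U.map (MulAut.conj g).toMonoidHom) = Nat.card U :=
    (Nat.card_congr (U.equivMapOfInjective (MulAut.conj g).toMonoidHom (MulAut.conj g).injective).toEquiv).symm
  have hdvd : p ∣ Nat.card ↥(U.map (MulAut.conj g).toMonoidHom) := by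
    rw [hc]
    obtain ⟨j, hj⟩ := IsPGroup.iff_card.1 hU
    rcases j with _ | j
    · exact absurd (card_eq_one.1 (by simpa using hj)) hU1
    · rw [hj]; exact dvd_pow_self p j.succ_ne_zero
  exact hdvd.trans (card_dvd_of_le (le_inf hg (map_mono hUH)))

theorem le_of_inf_ne_bot (h : Hyp p H) {P : Subgroup G} (hP : IsPGroup p P) (hPH : P ⊓ H ≠ ⊥) : P ≤ H := by
  by_contra hne
  haveI := hP.isNilpotent
  have hlt : H.subgroupOf P < ⊤ := lt_top_iff_ne_top.2 fun e => hne (subgroupOf_eq_top.1 e)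
  obtain ⟨g, hg1, hg2⟩ := SetLike.exists_of_lt ((Group.normalizerCondition_of_isNilpotent (G := P)) _ hlt)
  refine hg2 (mem_of_conj_le h (hP.to_le inf_le_left) hPH inf_le_right (g := g) ?_)
  rintro _ ⟨x, hx, rfl⟩
  exact (mem_normalizer_iff.1 hg1 ⟨x, hx.1⟩).1 hx.2

theorem exists_sylow_le (h : Hyp p H) (hpH : p ∣ Nat.card H) :
    ∃ S : Sylow p G, (S : Subgroup G) ≤ H ∧ (S : Subgroup G) ≠ ⊥ := by
  obtain ⟨x, hx⟩ := exists_prime_orderOf_dvd_card' p hpH
  have hxG : orderOf (x : G) = p := by rw [orderOf_coe, hx]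
  have hxp : IsPGroup p (zpowers (x : G)) := IsPGroup.of_card (n := 1) (by rw [Nat.card_zpowers, hxG, pow_one])
  obtain ⟨S, hS⟩ := hxp.exists_le_sylow
  have hx1 : (x : G) ≠ 1 := fun e => hp.out.ne_one (by rw [← hxG, e, orderOf_one])
  refine ⟨S, le_of_inf_ne_bot h S.isPGroup' fun e => hx1 ?_, fun e => hx1 ?_⟩
  · exact (eq_bot_iff.1 e) ⟨hS (mem_zpowers _), x.2⟩
  · exact (eq_bot_iff.1 e) (hS (mem_zpowers _))

theorem sup_coprime_eq_top (h : Hyp p H) (hpH : p ∣ Nat.card H) (N : Subgroup G) [N.Normal]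
    (hN : p ∣ Nat.card N) : H ⊔ closure {g : G | g ∈ N ∧ (orderOf g).Coprime p} = ⊤ := by
  obtain ⟨S, hSH, -⟩ := exists_sylow_le h hpH
  let T : Sylow p N := (S.isPGroup'.comap_of_injective N.subtype N.subtype_injective).toSylow
    (Solv.index_sylow_inf_subnormal N (Normal.isSubnormal inferInstance) S)
  set R := (T : Subgroup N).map N.subtype with hR
  have hR1 : R ≠ ⊥ := fun e => T.ne_bot_of_dvd_card hN ((map_eq_bot_iff_of_injective _ N.subtype_injective).1 e)
  have hRH : R ≤ H := by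
    rintro _ ⟨y, hy, rfl⟩
    exact hSH hy
  have hfr := Sylow.normalizer_sup_eq_top T
  have hNR : normalizer (R : Set G) ≤ H := fun g hg => mem_of_conj_le h (T.isPGroup'.map _) hR1 hRH (g := g) (by
    rintro _ ⟨y, hy, rfl⟩
    exact hRH ((mem_normalizer_iff.1 hg y).1 hy))
  set K := closure {g : G | g ∈ N ∧ (orderOf g).Coprime p}
  have hNle : N ≤ H ⊔ K := by
    intro x hx
    have h1 : (⟨x, hx⟩ : N) ∈ (T : Subgroup N) ⊔ pResidual p N := by
      rw [Solv.sup_pResidual_eq_top]; trivial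
    have h2 : ((T : Subgroup N) ⊔ pResidual p N).map N.subtype ≤ H ⊔ K := by
      rw [Subgroup.map_sup]
      refine sup_le (hRH.trans le_sup_left) (le_trans ?_ le_sup_right)
      rw [map_le_iff_le_comap, pResidual, closure_le]
      intro g hg
      exact subset_closure ⟨g.2, by rw [coe_subtype, orderOf_coe]; exact hg⟩
    exact h2 ⟨_, h1, rfl⟩
  exact top_le_iff.1 (hfr.symm.trans_le (sup_le (hNR.trans le_sup_left) hNle))

theorem not_connected (h : Hyp p H) (hH : H ≠ ⊤) (hpH : p ∣ Nat.card H) :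
    ¬ IsSylowChainConnected p G := by
  intro hconn
  obtain ⟨S, hSH, hS1⟩ := exists_sylow_le h hpH
  obtain ⟨g, -, hg⟩ := SetLike.exists_of_lt hH.lt_top
  obtain ⟨n, c, hc0, hcn, -, hstep⟩ := hconn S (g • S)
  have key : ∀ (j : ℕ) (hj : j < n + 1), (c ⟨j, hj⟩ : Subgroup G) ≤ H := by
    intro j
    induction j with
    | zero => intro _; exact (congrArg Sylow.toSubgroup hc0).trans_le hSH
    | succ j ih =>
      intro hj
      refine le_of_inf_ne_bot h (Sylow.isPGroup' _) fun e => (hstep ⟨j, by omega⟩).2 (eq_bot_iff.2 ?_)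
      rintro x ⟨hx1, hx2⟩
      exact e.le ⟨hx2, ih (by omega) hx1⟩
  refine hg (mem_of_conj_le h S.isPGroup' hS1 hSH ?_)
  have := key n (Nat.lt_succ_self n)
  rw [show (⟨n, Nat.lt_succ_self n⟩ : Fin (n + 1)) = Fin.last n from rfl, hcn] at this
  exact this

omit [Finite G] in
theorem sylow_smul_inf_ne_bot {A B : Sylow p G} (h : (A : Subgroup G) ⊓ (B : Subgroup G) ≠ ⊥) (g : G) :
    ((g • A : Sylow p G) : Subgroup G) ⊓ ((g • B : Sylow p G) : Subgroup G) ≠ ⊥ := fun e => h (by
  rw [eq_bot_iff]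
  rintro x ⟨hxA, hxB⟩
  have : g * x * g⁻¹ = 1 := e.le ⟨⟨x, hxA, rfl⟩, ⟨x, hxB, rfl⟩⟩
  simpa using this)

theorem exists_hyp (h : ¬ IsSylowChainConnected p G) :
    ∃ H : Subgroup G, H ≠ ⊤ ∧ p ∣ Nat.card H ∧ Hyp p H := by
  classical
  obtain ⟨S⟩ := Sylow.nonempty (p := p) (G := G)
  let Adj : Sylow p G → Sylow p G → Prop := fun A B => A ≠ B ∧ (A : Subgroup G) ⊓ (B : Subgroup G) ≠ ⊥
  let R : Sylow p G → Sylow p G → Prop := Relation.ReflTransGen Adj
  have hsymm : ∀ A B, R A B → R B A := fun A B hab => by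
    induction hab with
    | refl => exact Relation.ReflTransGen.refl
    | tail _ hbc ih => exact Relation.ReflTransGen.head ⟨hbc.1.symm, by rw [inf_comm]; exact hbc.2⟩ ih
  have hsmul : ∀ (g : G) A B, R A B → R (g • A) (g • B) := fun g A B hab => by
    induction hab with
    | refl => exact Relation.ReflTransGen.refl
    | tail _ hbc ih =>
      exact ih.tail ⟨fun e => hbc.1 (MulAction.injective g e), sylow_smul_inf_ne_bot hbc.2 g⟩
  let H : Subgroup G :=
    { carrier := {g | R S (g • S)}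
      one_mem' := by show R S ((1 : G) • S); rw [one_smul]
      mul_mem' := fun {a b} ha hb => by
        show R S ((a * b) • S)
        rw [mul_smul]
        exact ha.trans (hsmul a _ _ hb)
      inv_mem' := fun {a} ha => by
        show R S (a⁻¹ • S)
        have := hsmul a⁻¹ _ _ (hsymm _ _ ha)
        rwa [inv_smul_smul] at this }
  have hS1 : (S : Subgroup G) ≠ ⊥ := fun e => h (fun A B => by
    have hA : ∀ C : Sylow p G, C = S := fun C => by
      obtain ⟨g, rfl⟩ := MulAction.exists_smul_eq G S C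
      apply Sylow.ext
      show (S : Subgroup G).map (MulAut.conj g).toMonoidHom = S
      rw [e, Subgroup.map_bot]
    exact ⟨0, fun _ => S, (hA A).symm, (hA B).symm, fun _ => (hA A) ▸ inf_le_left, fun i => i.elim0⟩)
  refine ⟨H, fun e => h ?_, ?_, fun g hg hdvd => hg ?_⟩
  · intro A B
    by_cases hAB : A = B
    · exact ⟨0, fun _ => A, rfl, hAB, fun _ => inf_le_left, fun i => i.elim0⟩
    by_cases hint : (A : Subgroup G) ⊓ (B : Subgroup G) = ⊥
    · obtain ⟨a, rfl⟩ := MulAction.exists_smul_eq G S A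
      obtain ⟨b, rfl⟩ := MulAction.exists_smul_eq G S B
      have hall : R (a • S) (b • S) :=
        (hsymm _ _ (e ▸ mem_top a : a ∈ H)).trans (e ▸ mem_top b : b ∈ H)
      obtain ⟨n, c, hc0, hcn, hstep⟩ : ∃ (n : ℕ) (c : Fin (n + 1) → Sylow p G), c 0 = a • S ∧
          c (Fin.last n) = b • S ∧ ∀ i : Fin n, Adj (c i.castSucc) (c i.succ) := by
        clear hAB hint
        generalize a • S = A at hall ⊢
        generalize b • S = B at hall ⊢
        induction hall using Relation.ReflTransGen.head_induction_on with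
        | refl => exact ⟨0, fun _ => B, rfl, rfl, fun i => i.elim0⟩
        | head hac hcb ih =>
          rename_i A C
          obtain ⟨n, c, hc0, hcn, hstep⟩ := ih
          refine ⟨n + 1, Fin.cons A c, rfl, ?_, fun i => ?_⟩
          · rw [← Fin.succ_last, Fin.cons_succ, hcn]
          · refine Fin.cases ?_ (fun j => ?_) i
            · simpa [hc0] using hac
            · rw [← Fin.succ_castSucc, Fin.cons_succ, Fin.cons_succ]; exact hstep j
      exact ⟨n, c, hc0, hcn, fun i => by rw [hint]; exact bot_le, hstep⟩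
    · refine ⟨1, ![A, B], rfl, rfl, fun i => ?_, fun i => ?_⟩
      · fin_cases i
        · exact inf_le_left
        · exact inf_le_right
      · fin_cases i
        exact ⟨hAB, hint⟩
  · have hle : (S : Subgroup G) ≤ H := fun x hx => by
      show R S (x • S)
      rw [Sylow.smul_eq_iff_mem_normalizer.2 (le_normalizer hx)]
    obtain ⟨k, hk⟩ := IsPGroup.iff_card.1 S.isPGroup'
    rcases k with _ | k
    · exact absurd (card_eq_one.1 (by simpa using hk)) hS1
    · exact (hk ▸ dvd_pow_self p k.succ_ne_zero : p ∣ Nat.card S).trans (card_dvd_of_le hle)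
  · obtain ⟨q, hq⟩ := exists_prime_orderOf_dvd_card' p hdvd
    have hqp : IsPGroup p (zpowers (q : G)) := IsPGroup.of_card (n := 1) (by
      rw [Nat.card_zpowers, orderOf_coe, hq, pow_one])
    have hq1 : (q : G) ≠ 1 := fun e => hp.out.ne_one (by rw [← hq, ← orderOf_coe, e, orderOf_one])
    have hSH : (S : Subgroup G) ≤ H := fun x hx => by
      show R S (x • S)
      rw [Sylow.smul_eq_iff_mem_normalizer.2 (le_normalizer hx)]
    have hcomp : ∀ y ∈ H, y ≠ 1 → IsPGroup p (zpowers y) → ∃ h' ∈ H, y ∈ ((h' • S : Sylow p G) : Subgroup G) := by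
      intro y hy _ hyp
      obtain ⟨Q, hQ⟩ := (hyp.comap_of_injective H.subtype H.subtype_injective).exists_le_sylow
      obtain ⟨h', hh'⟩ := MulAction.exists_smul_eq H (S.subtype hSH) Q
      rw [Sylow.smul_subtype] at hh'
      refine ⟨h', h'.2, ?_⟩
      have h1 : (⟨y, hy⟩ : H) ∈ (Q : Subgroup H) := hQ (mem_zpowers y)
      rw [← hh'] at h1
      exact h1
    obtain ⟨⟨hqH, hqg⟩⟩ : Nonempty ((q : G) ∈ H ∧ (q : G) ∈ H.map (MulAut.conj g).toMonoidHom) := ⟨q.2⟩
    obtain ⟨y, hy, e⟩ := hqg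
    have hy1 : y ≠ 1 := fun e' => hq1 (by rw [← e, e', map_one])
    have hyp : IsPGroup p (zpowers y) := by
      refine IsPGroup.of_card (n := 1) ?_
      rw [Nat.card_zpowers, pow_one, ← orderOf_injective (MulAut.conj g).toMonoidHom (MulAut.conj g).injective y,
        e, orderOf_coe, hq]
    obtain ⟨h₁, hh₁, hq₁⟩ := hcomp _ hqH hq1 hqp
    obtain ⟨h₂, hh₂, hy₂⟩ := hcomp _ hy hy1 hyp
    have hq₂ : (q : G) ∈ (((g * h₂) • S : Sylow p G) : Subgroup G) := by
      rw [mul_smul, ← e]; exact ⟨y, hy₂, rfl⟩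
    have hlink : R (h₁ • S) ((g * h₂) • S) := by
      by_cases he : h₁ • S = (g * h₂) • S
      · rw [he]
      · exact Relation.ReflTransGen.single ⟨he, fun e' => hq1 (e'.le ⟨hq₁, hq₂⟩)⟩
    have hgh : g * h₂ ∈ H := Relation.ReflTransGen.trans hh₁ hlink
    simpa using mul_mem hgh (inv_mem hh₂)

end Cfsg.Agent.Local.SPE
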