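import Cfsg.Agent.Lib.Local.StronglyPEmbedded
import Cfsg.Agent.Lib.Fusion.Embedded

/-!
Criteria for strongly `p`-embedded subgroups.
-/

set_option autoImplicit false
set_option linter.style.haveILetI false

namespace Cfsg.Agent.Local.SPE

open Subgroup

variable {G : Type*} [Group G] [Finite G] {p : ℕ} [hp : Fact p.Prime] {Y : Subgroup G}

theorem ne_bot_of_dvd {P : Sylow p G} (h : p ∣ Nat.card G) : (P : Subgroup G) ≠ ⊥ :=
  P.ne_bot_of_dvd_card h

theorem exists_conj_mem {T : Subgroup G} (hTY : T ≤ Y) (hT : ∃ P : Sylow p G, (P : Subgroup G) = T) {u : G}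
    (hu : u ∈ Y) (hup : IsPGroup p (zpowers u)) : ∃ y ∈ Y, y * u * y⁻¹ ∈ T := by
  obtain ⟨P, rfl⟩ := hT
  obtain ⟨Q, hQ⟩ := (hup.comap_of_injective Y.subtype Y.subtype_injective).exists_le_sylow
  obtain ⟨y, hy⟩ := MulAction.exists_smul_eq Y Q (P.subtype hTY)
  have h1 : y * (⟨u, hu⟩ : Y) * y⁻¹ ∈ (P.subtype hTY : Subgroup Y) := by
    rw [← hy]; exact ⟨⟨u, hu⟩, hQ (mem_zpowers u), rfl⟩
  exact ⟨y, y.2, h1⟩

theorem isPGroup_zpowers_of_orderOf {x : G} (h : orderOf x = p) : IsPGroup p (zpowers x) :=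
  IsPGroup.of_card (n := 1) (by rw [Nat.card_zpowers, h, pow_one])

/-- The intersection criterion. -/
theorem iff_hyp : IsStronglyPEmbedded p Y ↔ Y ≠ ⊤ ∧ p ∣ Nat.card Y ∧ Hyp p Y := by
  constructor
  · rintro ⟨hdvd, hne, T, hle⟩
    have hN : ∀ Q : Subgroup G, Q ≤ (T : Subgroup G) → Q ≠ ⊥ → normalizer (Q : Set G) ≤ Y := fun Q hQ hQ1 =>
      le_trans (le_iSup (fun R : {R : Subgroup G // R ≤ (T : Subgroup G) ∧ ¬ PRankLE p (1 - 1) R} =>
        normalizer ((R : Subgroup G) : Set G))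
        ⟨Q, hQ, by simpa using (Fusion.not_pRankLE_zero_iff (T.isPGroup'.to_le hQ)).2 hQ1⟩) hle
    have hTY : (T : Subgroup G) ≤ Y := le_normalizer.trans (hN T le_rfl (ne_bot_of_dvd hdvd))
    have hpY : p ∣ Nat.card Y := by
      obtain ⟨x, hx⟩ := exists_prime_orderOf_dvd_card' p hdvd
      obtain ⟨S, hS⟩ := (isPGroup_zpowers_of_orderOf hx).exists_le_sylow
      obtain ⟨g, hg⟩ := MulAction.exists_smul_eq G S T
      have h1 : g * x * g⁻¹ ∈ Y := hTY (hg ▸ ⟨x, hS (mem_zpowers x), rfl⟩)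
      have h2 : orderOf (g * x * g⁻¹) = p := by
        rw [show g * x * g⁻¹ = (MulAut.conj g).toMonoidHom x from rfl, orderOf_injective (MulAut.conj g).toMonoidHom (MulAut.conj g).injective, hx]
      exact h2 ▸ Subgroup.orderOf_dvd_natCard Y h1
    refine ⟨hne, hpY, fun g hg hd => hg ?_⟩
    obtain ⟨q, hq⟩ := exists_prime_orderOf_dvd_card' p hd
    have hqo : orderOf (q : G) = p := by rw [orderOf_coe, hq]
    obtain ⟨hqY, w, hw, e⟩ := q.2
    have hwo : orderOf w = p := by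
      rw [← orderOf_injective (MulAut.conj g).toMonoidHom (MulAut.conj g).injective w, e, hqo]
    obtain ⟨y1, hy1, h1⟩ := exists_conj_mem hTY ⟨T, rfl⟩ hqY (isPGroup_zpowers_of_orderOf hqo)
    obtain ⟨y2, hy2, h2⟩ := exists_conj_mem hTY ⟨T, rfl⟩ hw (isPGroup_zpowers_of_orderOf hwo)
    have hw1 : y2 * w * y2⁻¹ ≠ 1 := fun h => hp.out.ne_one (by
      rw [conj_eq_one_iff] at h
      rw [← hwo, h, orderOf_one])
    have h3 := Fusion.mem_of_conj_mem_sylow T hN h2 hw1 (x := y1 * g * y2⁻¹) (by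
      have e' : g * w * g⁻¹ = (q : G) := e
      rw [show y1 * g * y2⁻¹ * (y2 * w * y2⁻¹) * (y1 * g * y2⁻¹)⁻¹ = y1 * (g * w * g⁻¹) * y1⁻¹ by group, e']
      exact h1)
    simpa [mul_assoc] using mul_mem (mul_mem (inv_mem hy1) h3) hy2
  · rintro ⟨hne, hpY, h⟩
    obtain ⟨S, hSY, hS1⟩ := exists_sylow_le h hpY
    refine Fusion.isStronglyPEmbedded_of_normalizer_le S hS1 hne fun Q hQ hQ1 g hg => ?_
    refine mem_of_conj_le h (S.isPGroup'.to_le hQ) hQ1 (hQ.trans hSY) ?_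
    rintro _ ⟨x, hx, rfl⟩
    exact hSY (hQ ((mem_normalizer_iff.1 hg x).1 hx))

theorem hyp_of (h : IsStronglyPEmbedded p Y) : Hyp p Y := (iff_hyp.1 h).2.2

theorem normalizer_le (h : IsStronglyPEmbedded p Y) {A : Subgroup G} (hA : A ≤ Y) (hAp : IsPGroup p A)
    (hA1 : A ≠ ⊥) : normalizer (A : Set G) ≤ Y := fun g hg =>
  mem_of_conj_le (hyp_of h) hAp hA1 hA (by
    rintro _ ⟨x, hx, rfl⟩
    exact hA ((mem_normalizer_iff.1 hg x).1 hx))

/-- The normalizer criterion. -/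
theorem iff_normalizer_le (hne : Y ≠ ⊤) (hpY : p ∣ Nat.card Y) :
    IsStronglyPEmbedded p Y ↔
      ∀ A : Subgroup G, A ≤ Y → IsPGroup p A → A ≠ ⊥ → normalizer (A : Set G) ≤ Y := by
  refine ⟨fun h A hA hAp hA1 => normalizer_le h hA hAp hA1, fun h => ?_⟩
  obtain ⟨Q⟩ := Sylow.nonempty (p := p) (G := Y)
  set R := (Q : Subgroup Y).map Y.subtype with hR
  have hR1 : R ≠ ⊥ := fun e => Q.ne_bot_of_dvd_card hpY ((map_eq_bot_iff_of_injective _ Y.subtype_injective).1 e)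
  obtain ⟨P, hP⟩ := (Q.isPGroup'.map Y.subtype).exists_le_sylow
  have hPR : (P : Subgroup G) ≤ R := by
    by_contra hne'
    haveI := P.isPGroup'.isNilpotent
    have hlt : R.subgroupOf (P : Subgroup G) < ⊤ := lt_top_iff_ne_top.2 fun e => hne' (subgroupOf_eq_top.1 e)
    obtain ⟨g, hg1, hg2⟩ := SetLike.exists_of_lt ((Group.normalizerCondition_of_isNilpotent (G := (P : Subgroup G))) _ hlt)
    have hgN : (g : G) ∈ normalizer (R : Set G) := by
      rw [mem_normalizer_iff]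
      intro x
      constructor
      · intro hx; exact (mem_normalizer_iff.1 hg1 ⟨x, hP hx⟩).1 hx
      · intro hx
        have hxP : x ∈ (P : Subgroup G) := by
          simpa [mul_assoc] using mul_mem (mul_mem (inv_mem g.2) (hP hx)) g.2
        exact (mem_normalizer_iff.1 hg1 ⟨x, hxP⟩).2 hx
    have hgY : (g : G) ∈ Y := h R (map_subtype_le _) (Q.isPGroup'.map _) hR1 hgN
    have h2 : (P : Subgroup G).subgroupOf Y = Q :=
      Q.is_maximal' (P.isPGroup'.comap_of_injective _ Y.subtype_injective) fun x hx => hP ⟨x, hx, rfl⟩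
    exact hg2 ⟨⟨g, hgY⟩, (SetLike.ext_iff.1 h2 _).1 g.2, rfl⟩
  have hPY : (P : Subgroup G) ≤ Y := hPR.trans (map_subtype_le _)
  exact Fusion.isStronglyPEmbedded_of_normalizer_le P (fun e => hR1 (le_bot_iff.1 (hP.trans e.le))) hne
    fun B hB hB1 => h B (hB.trans hPY) (P.isPGroup'.to_le hB) hB1

end Cfsg.Agent.Local.SPE
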