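import Cfsg.Agent.Lib.Local.KSignalizer
import Cfsg.Agent.Lib.Solv.Coprime
import Cfsg.Prelude.Def_Balance

/-!
# The transitivity theorem for solvable signalizer functors
-/

set_option autoImplicit false
set_option linter.style.haveILetI false

namespace Cfsg.Agent.Local.Trans

open Subgroup Cfsg.Agent.Solv
open scoped Pointwise

variable {G : Type*} [Group G] [Finite G] {p : ℕ} [Fact p.Prime] {A : Subgroup G} {q : ℕ}
  [Fact q.Prime]

theorem commute_mem (hA : IsElementaryAbelian p A) {a b : G} (ha : a ∈ A) (hb : b ∈ A) :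
    a * b = b * a := by
  haveI := hA.1
  exact congrArg Subtype.val (mul_comm' (⟨a, ha⟩ : A) ⟨b, hb⟩)

theorem solvable_A (hA : IsElementaryAbelian p A) : Group.IsSolvable A :=
  Group.isSolvable_of_comm fun a b => Subtype.ext (commute_mem hA a.2 b.2)

theorem coprime_card (hA : IsElementaryAbelian p A) {W : Subgroup G} (hW : ¬ p ∣ Nat.card W) :
    (Nat.card A).Coprime (Nat.card W) := by
  obtain ⟨k, hk⟩ := (KSig.isPGroup_of_elementary hA).exists_card_eq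
  rw [hk]
  exact Nat.Coprime.pow_left _ ((Fact.out : p.Prime).coprime_iff_not_dvd.2 hW)

omit [Fact p.Prime] in
theorem not_dvd_of_le {X Y : Subgroup G} (h : X ≤ Y) (hY : ¬ p ∣ Nat.card Y) :
    ¬ p ∣ Nat.card X := fun hd => hY (hd.trans (card_dvd_of_le h))

/-- Two distinct invariant `q`-groups grow at a common nonidentity element of `A`. -/
theorem exists_common_growth (hA : IsElementaryAbelian p A) (hA3 : p ^ 3 ≤ Nat.card A)
    {Q₁ Q₂ : Subgroup G} (h₁ : IsPGroup q Q₁) (h₂ : IsPGroup q Q₂)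
    (hp₁ : ¬ p ∣ Nat.card Q₁) (hp₂ : ¬ p ∣ Nat.card Q₂)
    (hA₁ : A ≤ normalizer (Q₁ : Set G)) (hA₂ : A ≤ normalizer (Q₂ : Set G))
    (hD₁ : Q₁ ⊓ Q₂ ≠ Q₁) (hD₂ : Q₁ ⊓ Q₂ ≠ Q₂) :
    ∃ a ∈ A, a ≠ 1 ∧
      ¬ (normalizer ((Q₁ ⊓ Q₂ : Subgroup G) : Set G) ⊓ Q₁ ⊓ centralizer {a} ≤ Q₁ ⊓ Q₂) ∧
      ¬ (normalizer ((Q₁ ⊓ Q₂ : Subgroup G) : Set G) ⊓ Q₂ ⊓ centralizer {a} ≤ Q₁ ⊓ Q₂) := by
  set D := Q₁ ⊓ Q₂
  have hAD : A ≤ normalizer (D : Set G) := le_normalizer_inf hA₁ hA₂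
  have hAN : A ≤ normalizer (normalizer (D : Set G) : Set G) := hAD.trans le_normalizer
  have key : ∀ Q : Subgroup G, IsPGroup q Q → ¬ p ∣ Nat.card Q → A ≤ normalizer (Q : Set G) →
      D ≤ Q → D ≠ Q → ∃ E : Subgroup G, E ≤ A ∧ E.relIndex A ≤ p ∧
        ∃ u ∈ normalizer (D : Set G) ⊓ Q ⊓ centralizer (E : Set G), u ∉ D := by
    intro Q hQ hQp hAQ hDQ hne
    have hgrow : ¬ normalizer (D : Set G) ⊓ Q ≤ D := by
      intro h
      haveI := hQ.isNilpotent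
      have hn := normalizerCondition_of_isNilpotent (D.subgroupOf Q)
        (lt_top_iff_ne_top.2 fun e => hne (le_antisymm hDQ (subgroupOf_eq_top.1 e)))
      refine hn.not_ge fun y hy => h ⟨mem_normalizer_iff.2 fun z => ⟨fun hz => ?_, fun hz => ?_⟩, y.2⟩
      · exact (mem_normalizer_iff.1 hy ⟨z, hDQ hz⟩).1 hz
      · have hzQ : z ∈ Q := by
          have := Q.mul_mem (Q.mul_mem (Q.inv_mem y.2) (hDQ hz)) y.2
          simpa [mul_assoc] using this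
        exact (mem_normalizer_iff.1 hy ⟨z, hzQ⟩).2 hz
    by_contra hcon
    push Not at hcon
    refine hgrow ?_
    rw [S1324.result p A (normalizer (D : Set G) ⊓ Q) hA
      (KSig.two_le_of (k := 1) hA3) (not_dvd_of_le inf_le_right hQp) (le_normalizer_inf hAN hAQ)]
    exact iSup_le fun E u hu => hcon E E.2.1 E.2.2 u hu
  obtain ⟨E₁, hE₁, hi₁, u₁, hu₁, hn₁⟩ := key Q₁ h₁ hp₁ hA₁ inf_le_left hD₁
  obtain ⟨E₂, hE₂, hi₂, u₂, hu₂, hn₂⟩ := key Q₂ h₂ hp₂ hA₂ inf_le_right hD₂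
  obtain ⟨F, hF⟩ := KSig.exists_sub_le_inf (k := 1) hA hA3 hE₁ hE₂ hi₁ hi₂
  obtain ⟨a, ha⟩ := exists_prime_orderOf_dvd_card' (G := (F : Subgroup G)) p
    (by rw [F.2.2, pow_one])
  refine ⟨a, F.2.1 a.2, fun e => ?_, fun h => hn₁ (h ⟨hu₁.1, ?_⟩), fun h => hn₂ (h ⟨hu₂.1, ?_⟩)⟩
  · refine (Fact.out : p.Prime).ne_one ?_
    rw [← ha, orderOf_eq_one_iff]
    exact Subtype.ext e
  · exact mem_centralizer_singleton_iff.2 (hu₁.2 _ (hF a.2).1).symm
  · exact mem_centralizer_singleton_iff.2 (hu₂.2 _ (hF a.2).2).symm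

variable {θ : G → Subgroup G}

/-- A `q`-member of the family of `θ`. -/
def QMember (p q : ℕ) (A : Subgroup G) (θ : G → Subgroup G) (X : Subgroup G) : Prop :=
  X ∈ signalizerFamily p A θ ∧ IsPGroup q X

/-- A maximal `q`-member. -/
def QMax (p q : ℕ) (A : Subgroup G) (θ : G → Subgroup G) (X : Subgroup G) : Prop :=
  QMember p q A θ X ∧ ∀ R ∈ signalizerFamily p A θ, IsPGroup q R → X ≤ R → R = X

theorem exists_qMax {X : Subgroup G} (h : QMember p q A θ X) : ∃ Z, QMax p q A θ Z ∧ X ≤ Z := by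
  obtain ⟨Z, ⟨hZ, hXZ⟩, hmax⟩ := Set.Finite.exists_maximal (s := {Z | QMember p q A θ Z ∧ X ≤ Z})
    (Set.toFinite _) ⟨X, h, le_rfl⟩
  exact ⟨Z, ⟨hZ, fun R hR hRq hZR => le_antisymm (hmax ⟨⟨hR, hRq⟩, hXZ.trans hZR⟩ hZR) hZR⟩, hXZ⟩

theorem normalizer_of_member {X : Subgroup G} (h : X ∈ signalizerFamily p A θ) :
    A ≤ normalizer (X : Set G) :=
  le_normalizer_of_conj_mem fun b hb x hx => h.2.2.1 b hb x hx

theorem normalizer_theta (hθ : IsSignalizerFunctor p A θ) {a : G} (ha : a ∈ A) (ha1 : a ≠ 1) :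
    A ≤ normalizer (θ a : Set G) :=
  le_normalizer_of_conj_mem fun b hb x hx => hθ.2.2.1 a ha ha1 b hb x hx

theorem inf_centralizes (hθ : IsSignalizerFunctor p A θ) {c : G} (hc : c ∈ signalizerInf A θ) :
    c ∈ centralizer (A : Set G) := by
  intro b hb
  rcases eq_or_ne b 1 with rfl | hb1
  · rw [one_mul, mul_one]
  exact (mem_centralizer_singleton_iff.1 (hθ.1 b hb hb1 (mem_iInf.1 hc ⟨b, hb, hb1⟩))).symm

theorem mem_inf_of_fixed (hθ : IsSignalizerFunctor p A θ) {a c : G} (ha : a ∈ A) (ha1 : a ≠ 1)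
    (hc : c ∈ θ a) (hcA : c ∈ centralizer (A : Set G)) : c ∈ signalizerInf A θ :=
  mem_iInf.2 fun b => hθ.2.2.2 a ha ha1 b b.2.1 b.2.2
    ⟨hc, mem_centralizer_singleton_iff.2 (hcA _ b.2.1).symm⟩

theorem conj_member (hθ : IsSignalizerFunctor p A θ) {c : G}
    (hc : c ∈ signalizerInf A θ) {X : Subgroup G} (h : QMember p q A θ X) :
    QMember p q A θ (X.map (MulAut.conj c).toMonoidHom) := by
  obtain ⟨⟨hs, hp, hinv, hfix⟩, hq⟩ := h
  have hcA := inf_centralizes hθ hc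
  refine ⟨⟨?_, ?_, ?_, ?_⟩, hq.map _⟩
  · haveI := hs
    exact Group.isSolvable_of_surjective (f := (X.equivMapOfInjective _ (MulAut.conj c).injective).toMonoidHom)
      (MulEquiv.surjective _)
  · rwa [← Nat.card_congr (X.equivMapOfInjective _ (MulAut.conj c).injective).toEquiv]
  · rintro b hb _ ⟨x, hx, rfl⟩
    refine ⟨b * x * b⁻¹, hinv b hb x hx, ?_⟩
    show c * (b * x * b⁻¹) * c⁻¹ = b * (c * x * c⁻¹) * b⁻¹
    have hcb : b * c = c * b := hcA b hb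
    calc c * (b * x * b⁻¹) * c⁻¹ = (c * b) * x * (c * b)⁻¹ := by group
      _ = (b * c) * x * (b * c)⁻¹ := by rw [hcb]
      _ = _ := by group
  · intro a ha ha1 y hy
    obtain ⟨⟨x, hx, rfl⟩, hya⟩ := hy
    have hca : c ∈ θ a := mem_iInf.1 hc ⟨a, ha, ha1⟩
    have hcC : c ∈ centralizer {a} := hθ.1 a ha ha1 hca
    have hxa : x ∈ centralizer {a} := by
      have := Subgroup.mul_mem _ (Subgroup.mul_mem _ (Subgroup.inv_mem _ hcC) hya) hcC
      simpa [mul_assoc] using this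
    exact (θ a).mul_mem ((θ a).mul_mem hca (hfix a ha ha1 ⟨hx, hxa⟩)) ((θ a).inv_mem hca)

theorem map_conj_mul (c d : G) (X : Subgroup G) :
    (X.map (MulAut.conj d).toMonoidHom).map (MulAut.conj c).toMonoidHom =
      X.map (MulAut.conj (c * d)).toMonoidHom := by
  rw [Subgroup.map_map, map_mul]; rfl

theorem map_conj_one (X : Subgroup G) : X.map (MulAut.conj (1 : G)).toMonoidHom = X := by
  ext y; simp

theorem conj_max (hθ : IsSignalizerFunctor p A θ) {c : G}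
    (hc : c ∈ signalizerInf A θ) {X : Subgroup G} (h : QMax p q A θ X) :
    QMax p q A θ (X.map (MulAut.conj c).toMonoidHom) := by
  refine ⟨conj_member hθ hc h.1, fun R hR hRq hle => ?_⟩
  have h1 := conj_member hθ (inv_mem hc) (X := R) ⟨hR, hRq⟩
  have h2 := h.2 _ h1.1 h1.2 (by
    calc X = (X.map (MulAut.conj c).toMonoidHom).map (MulAut.conj c⁻¹).toMonoidHom := by
          rw [map_conj_mul, inv_mul_cancel, map_conj_one]
      _ ≤ _ := map_mono hle)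
  rw [← h2, map_conj_mul, mul_inv_cancel, map_conj_one]

/-- Conjugacy under the common part of `θ`. -/
def Rel (A : Subgroup G) (θ : G → Subgroup G) (X Y : Subgroup G) : Prop :=
  ∃ c ∈ signalizerInf A θ, X.map (MulAut.conj c).toMonoidHom = Y

theorem Rel.symm {X Y : Subgroup G} (h : Rel A θ X Y) : Rel A θ Y X := by
  obtain ⟨c, hc, rfl⟩ := h
  exact ⟨c⁻¹, inv_mem hc, by rw [map_conj_mul, inv_mul_cancel, map_conj_one]⟩

theorem Rel.trans {X Y Z : Subgroup G} (h : Rel A θ X Y) (h' : Rel A θ Y Z) : Rel A θ X Z := by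
  obtain ⟨c, hc, rfl⟩ := h
  obtain ⟨d, hd, rfl⟩ := h'
  exact ⟨d * c, mul_mem hd hc, (map_conj_mul d c X).symm⟩

/-- `D` joined with an invariant `q`-group of `θ a` normalizing it is a member. -/
theorem sup_member (hA : IsElementaryAbelian p A) (hθ : IsSignalizerFunctor p A θ)
    {D S : Subgroup G} (hD : QMember p q A θ D) {a : G} (ha : a ∈ A) (ha1 : a ≠ 1)
    (hS : IsPGroup q S) (hSθ : S ≤ θ a) (hSD : S ≤ normalizer (D : Set G))
    (hAS : A ≤ normalizer (S : Set G)) : QMember p q A θ (D ⊔ S) := by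
  obtain ⟨⟨-, hDp, hDinv, hDfix⟩, hDq⟩ := hD
  set K := D ⊔ S with hK
  have hmul : (K : Set G) = (D : Set G) * (S : Set G) :=
    Subgroup.coe_mul_of_right_le_normalizer_left D S hSD
  have hdec : ∀ k ∈ K, ∃ x ∈ D, ∃ y ∈ S, k = x * y := fun k hk => by
    have hk' : k ∈ (K : Set G) := hk
    rw [hmul] at hk'
    obtain ⟨x, hx, y, hy, e⟩ := hk'
    exact ⟨x, hx, y, hy, e.symm⟩
  have hKq : IsPGroup q K := IsPGroup.to_sup_of_normal_left' hDq hS hSD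
  haveI := hKq.isNilpotent
  have hKs : Group.IsSolvable K := inferInstance
  have hKp : ¬ p ∣ Nat.card K := by
    intro h
    have h1 := card_sup_mul_card_inf D S hSD
    rw [show D ⊔ S = K from rfl] at h1
    rcases (Fact.out : p.Prime).dvd_mul.1 (h1 ▸ h.mul_right _) with h2 | h2
    · exact hDp h2
    · exact not_dvd_of_le hSθ (hθ.2.1 a ha ha1) h2
  have hAK : A ≤ normalizer (K : Set G) := le_normalizer_of_conj_mem fun b hb k hk => by
    obtain ⟨x, hx, y, hy, rfl⟩ := hdec k hk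
    rw [show b * (x * y) * b⁻¹ = b * x * b⁻¹ * (b * y * b⁻¹) by group]
    exact mul_mem (mem_sup_left (hDinv b hb x hx))
      (mem_sup_right ((mem_normalizer_iff.1 (hAS hb) y).1 hy))
  refine ⟨⟨hKs, hKp, fun b hb k hk => (mem_normalizer_iff.1 (hAK hb) k).1 hk,
    fun b hb hb1 k hk => ?_⟩, hKq⟩
  have hbA : zpowers b ≤ A := zpowers_le.2 hb
  have hk' : k ∈ K ⊓ centralizer ((zpowers b : Subgroup G) : Set G) := by
    refine ⟨hk.1, ?_⟩
    rintro _ ⟨i, rfl⟩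
    exact (Commute.zpow_left (mem_centralizer_singleton_iff.1 hk.2).symm i).eq
  obtain ⟨x, hx, y, hy, rfl⟩ := centralizer_mul_eq (zpowers b) K (hbA.trans hAK)
    ((coprime_card hA hKp).coprime_dvd_left (card_dvd_of_le hbA)) (Or.inr hKs) D S le_sup_left
    le_sup_right (hbA.trans (le_normalizer_of_conj_mem fun c hc z hz => hDinv c hc z hz))
    (hbA.trans hAS) hdec k hk'
  have hsub : ({b} : Set G) ⊆ (zpowers b : Subgroup G) := Set.singleton_subset_iff.2 (mem_zpowers b)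
  exact mul_mem (hDfix b hb hb1 ⟨hx.1, centralizer_le hsub hx.2⟩)
    (hθ.2.2.2 a ha ha1 b hb hb1 ⟨hSθ hy.1, centralizer_le hsub hy.2⟩)

/-- The transitivity theorem. -/
theorem transitivity (hA : IsElementaryAbelian p A) (hA3 : p ^ 3 ≤ Nat.card A)
    (hθ : IsSignalizerFunctor p A θ) :
    ∀ (n : ℕ) (X Y : Subgroup G), Nat.card G - Nat.card ↥(X ⊓ Y : Subgroup G) = n →
      QMax p q A θ X → QMax p q A θ Y → Rel A θ X Y := by
  intro n
  induction n using Nat.strong_induction_on with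
  | _ n ih =>
  intro X Y hn hX hY
  rcases eq_or_ne (X ⊓ Y) X with e | hDX
  · exact ⟨1, one_mem _, by rw [map_conj_one, hX.2 Y hY.1.1 hY.1.2 (inf_eq_left.1 e)]⟩
  rcases eq_or_ne (X ⊓ Y) Y with e | hDY
  · exact ⟨1, one_mem _, by rw [map_conj_one, hY.2 X hX.1.1 hX.1.2 (inf_eq_right.1 e)]⟩
  set D := X ⊓ Y with hD
  have hXn := normalizer_of_member hX.1.1
  have hYn := normalizer_of_member hY.1.1
  obtain ⟨a, ha, ha1, h₁, h₂⟩ := exists_common_growth hA hA3 hX.1.2 hY.1.2 hX.1.1.2.1 hY.1.1.2.1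
    hXn hYn hDX hDY
  have hDm : QMember p q A θ D :=
    ⟨⟨isSolvable_of_le inf_le_left hX.1.1.1, not_dvd_of_le inf_le_left hX.1.1.2.1,
      fun b hb x hx => ⟨hX.1.1.2.2.1 b hb x hx.1, hY.1.1.2.2.1 b hb x hx.2⟩,
      fun b hb hb1 x hx => hX.1.1.2.2.2 b hb hb1 ⟨hx.1.1, hx.2⟩⟩, hX.1.2.to_le inf_le_left⟩
  set H := θ a ⊓ normalizer (D : Set G) with hH
  have hAH : A ≤ normalizer (H : Set G) :=
    le_normalizer_inf (normalizer_theta hθ ha ha1) ((normalizer_of_member hDm.1).trans le_normalizer)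
  have hHp : ¬ p ∣ Nat.card H := not_dvd_of_le inf_le_left (hθ.2.1 a ha ha1)
  have hsA := solvable_A hA
  have hAa : A ≤ centralizer {a} := fun b hb =>
    mem_centralizer_singleton_iff.2 (commute_mem hA hb ha)
  have hS : ∀ W : Subgroup G, QMax p q A θ W → A ≤ normalizer (W : Set G) →
      ∃ S : Sylow q H, A ≤ normalizer (((S : Subgroup H).map H.subtype : Subgroup G) : Set G) ∧
        normalizer (D : Set G) ⊓ W ⊓ centralizer {a} ≤ (S : Subgroup H).map H.subtype := by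
    intro W hW hWn
    obtain ⟨S, h1, h2⟩ := exists_invariant_sylow_ge A H hAH (coprime_card hA hHp) (Or.inl hsA) q
      (normalizer (D : Set G) ⊓ W ⊓ centralizer {a})
      (fun x hx => ⟨hW.1.1.2.2.2 a ha ha1 ⟨hx.1.2, hx.2⟩, hx.1.1⟩)
      (hW.1.2.to_le (inf_le_left.trans inf_le_right))
      (le_normalizer_inf (le_normalizer_inf ((normalizer_of_member hDm.1).trans le_normalizer) hWn)
        (hAa.trans le_normalizer))
    exact ⟨S, h2, h1⟩
  obtain ⟨S₁, hS₁, hle₁⟩ := hS X hX hXn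
  obtain ⟨S₂, hS₂, hle₂⟩ := hS Y hY hYn
  obtain ⟨c, hc, hcc⟩ := invariant_sylow_conj A H hAH (coprime_card hA hHp) (Or.inl hsA) q S₁ S₂ hS₁ hS₂
  have hcT : (c : G) ∈ signalizerInf A θ := mem_inf_of_fixed hθ ha ha1 c.2.1 hc
  obtain ⟨Z, hZ, hRZ⟩ := exists_qMax (sup_member hA hθ hDm ha ha1 (S₁.isPGroup'.map H.subtype)
    ((map_subtype_le _).trans inf_le_left) ((map_subtype_le _).trans inf_le_right) hS₁)
  have hgrow : ∀ (W Z' : Subgroup G), D ≤ W → D ≤ Z' →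
      ¬ (normalizer (D : Set G) ⊓ W ⊓ centralizer {a} ≤ D) →
      normalizer (D : Set G) ⊓ W ⊓ centralizer {a} ≤ Z' →
      Nat.card G - Nat.card ↥(W ⊓ Z' : Subgroup G) < n := by
    intro W Z' hDW hDZ hne hle
    have hlt : D < W ⊓ Z' := lt_of_le_of_ne (le_inf hDW hDZ) fun e =>
      hne ((le_inf (inf_le_left.trans inf_le_right) hle).trans e.ge)
    have h1 : Nat.card D < Nat.card ↥(W ⊓ Z' : Subgroup G) := by
      refine lt_of_le_of_ne (card_le_of_le hlt.le) fun e => hlt.ne (eq_of_le_of_card_ge hlt.le e.ge)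
    have h2 : Nat.card ↥(W ⊓ Z' : Subgroup G) ≤ Nat.card G :=
      Nat.card_le_card_of_injective _ (W ⊓ Z').subtype_injective
    omega
  set Z' := Z.map (MulAut.conj (c : G)).toMonoidHom
  have r1 : Rel A θ X Z := ih _ (hgrow X Z inf_le_left (le_sup_left.trans hRZ) h₁
    (hle₁.trans (le_sup_right.trans hRZ))) X Z rfl hX hZ
  have hS₂Z : (S₂ : Subgroup H).map H.subtype ≤ Z' := by
    rintro _ ⟨y, hy, rfl⟩
    have hy' : y ∈ MulAut.conj c • S₁ := hcc ▸ hy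
    obtain ⟨x, hx, rfl⟩ := hy'
    exact ⟨(x : G), hRZ (mem_sup_right (mem_map_of_mem _ hx)), rfl⟩
  have hDZ' : D ≤ Z' := by
    intro d hd
    refine ⟨(c : G)⁻¹ * d * c, hRZ (mem_sup_left ?_), ?_⟩
    · have := (mem_normalizer_iff.1 (inv_mem c.2.2) d).1 hd
      rwa [inv_inv] at this
    · show (c : G) * ((c : G)⁻¹ * d * c) * (c : G)⁻¹ = d
      group
  have r2 : Rel A θ Y Z' := ih _ (hgrow Y Z' inf_le_right hDZ' h₂ (hle₂.trans hS₂Z)) Y Z' rfl hY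
    (conj_max hθ hcT hZ)
  exact (r1.trans ⟨c, hcT, rfl⟩).trans r2.symm

theorem sylow_member (hA : IsElementaryAbelian p A) (hA3 : p ^ 3 ≤ Nat.card A)
    (hθ : IsSignalizerFunctor p A θ) {Q : Subgroup G} (hQ : QMax p q A θ Q) {H : Subgroup G}
    (hH : H ∈ signalizerFamily p A θ) :
    ∃ c ∈ signalizerInf A θ, ∃ S : Sylow q H,
      (S : Subgroup H).map H.subtype = Q.map (MulAut.conj c).toMonoidHom ⊓ H := by
  obtain ⟨S, hS⟩ := exists_invariant_sylow A H (normalizer_of_member hH) (coprime_card hA hH.2.1)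
    (Or.inl (solvable_A hA)) q
  set S' := (S : Subgroup H).map H.subtype with hS'
  have hS'H : S' ≤ H := map_subtype_le _
  have hm : QMember p q A θ S' :=
    ⟨⟨isSolvable_of_le hS'H hH.1, not_dvd_of_le hS'H hH.2.1,
      fun b hb x hx => (mem_normalizer_iff.1 (hS hb) x).1 hx,
      fun a ha ha1 x hx => hH.2.2.2 a ha ha1 ⟨hS'H hx.1, hx.2⟩⟩, S.isPGroup'.map _⟩
  obtain ⟨Z, hZ, hSZ⟩ := exists_qMax hm
  obtain ⟨c, hc, rfl⟩ := transitivity hA hA3 hθ _ Q Z rfl hQ hZ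
  refine ⟨c, hc, S, le_antisymm (le_inf hSZ hS'H) ?_⟩
  have hq : IsPGroup q ((Q.map (MulAut.conj c).toMonoidHom).subgroupOf H) :=
    (hQ.1.2.map _).comap_of_injective H.subtype H.subtype_injective
  have h : ((Q.map (MulAut.conj c).toMonoidHom).subgroupOf H) ≤ S := by
    rw [← S.is_maximal' hq (fun y hy => hSZ (mem_map_of_mem _ hy))]
  rintro x ⟨hx1, hx2⟩
  exact ⟨⟨x, hx2⟩, h hx1, rfl⟩

theorem inf_member (hA : IsElementaryAbelian p A) (hθ : IsSolvableSignalizerFunctor p A θ)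
    {B : Subgroup G} (hB : B ≤ A) (hB1 : B ≠ ⊥) :
    signalizerInf B θ ∈ signalizerFamily p A θ := by
  obtain ⟨b, hb, hb1⟩ := B.bot_or_exists_ne_one.resolve_left hB1
  have hle : signalizerInf B θ ≤ θ b :=
    iInf_le (fun d : {d : G // d ∈ B ∧ d ≠ 1} => θ (d : G)) ⟨b, hb, hb1⟩
  refine ⟨isSolvable_of_le hle (hθ.2 b (hB hb) hb1), not_dvd_of_le hle (hθ.1.2.1 b (hB hb) hb1),
    fun a ha x hx => mem_iInf.2 fun d => hθ.1.2.2.1 d (hB d.2.1) d.2.2 a ha x (mem_iInf.1 hx d),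
    fun a ha ha1 x hx => hθ.1.2.2.2 b (hB hb) hb1 a ha ha1 ⟨hle hx.1, hx.2⟩⟩

theorem sylow_inf (hA : IsElementaryAbelian p A) (hA3 : p ^ 3 ≤ Nat.card A)
    (hθ : IsSolvableSignalizerFunctor p A θ) {Q : Subgroup G} (hQ : QMax p q A θ Q)
    {B : Subgroup G} (hB : B ≤ A) (hB1 : B ≠ ⊥) :
    ∃ S : Sylow q ↥(signalizerInf B θ), (S : Subgroup ↥(signalizerInf B θ)).map
      (signalizerInf B θ).subtype = Q ⊓ centralizer (B : Set G) := by
  set H := signalizerInf B θ with hH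
  obtain ⟨c, hc, S, hS⟩ := sylow_member hA hA3 hθ.1 hQ (inf_member hA hθ hB hB1)
  have hcH : c ∈ H := mem_iInf.2 fun d => mem_iInf.1 hc ⟨d, hB d.2.1, d.2.2⟩
  have hQH : Q ⊓ H = Q ⊓ centralizer (B : Set G) := by
    refine le_antisymm (le_inf inf_le_left fun x hx b hb => ?_) fun x hx => ⟨hx.1, mem_iInf.2 fun d =>
      hQ.1.1.2.2.2 d (hB d.2.1) d.2.2 ⟨hx.1, mem_centralizer_singleton_iff.2 (hx.2 _ d.2.1).symm⟩⟩
    rcases eq_or_ne b 1 with rfl | hb1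
    · rw [one_mul, mul_one]
    exact (mem_centralizer_singleton_iff.1
      (hθ.1.1 b (hB hb) hb1 (mem_iInf.1 hx.2 ⟨b, hb, hb1⟩))).symm
  let S' : Sylow q H := (MulAut.conj (⟨c, hcH⟩ : H))⁻¹ • S
  refine ⟨S', hQH ▸ le_antisymm ?_ ?_⟩
  · rintro _ ⟨_, ⟨x, hx, rfl⟩, rfl⟩
    obtain ⟨⟨z, hz, e⟩, -⟩ := hS.le (mem_map_of_mem H.subtype hx)
    refine ⟨?_, SetLike.coe_mem _⟩
    have e' : c * z * c⁻¹ = (x : G) := e
    show ((⟨c, hcH⟩ : H)⁻¹ * x * (⟨c, hcH⟩ : H) : G) ∈ Q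
    rw [← e']
    show c⁻¹ * (c * z * c⁻¹) * c ∈ Q
    rwa [show c⁻¹ * (c * z * c⁻¹) * c = z by group]
  · rintro z ⟨hz, hzH⟩
    obtain ⟨x, hx, e⟩ := hS.ge (show c * z * c⁻¹ ∈ Q.map (MulAut.conj c).toMonoidHom ⊓ H from
      ⟨⟨z, hz, rfl⟩, H.mul_mem (H.mul_mem hcH hzH) (H.inv_mem hcH)⟩)
    refine ⟨(⟨c, hcH⟩ : H)⁻¹ * x * ⟨c, hcH⟩, ⟨x, hx, rfl⟩, ?_⟩
    show c⁻¹ * (x : G) * c = z
    rw [show (x : G) = c * z * c⁻¹ from e]
    group

theorem complete_of_single_prime (hA : IsElementaryAbelian p A) (hA3 : p ^ 3 ≤ Nat.card A)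
    (hθ : IsSolvableSignalizerFunctor p A θ) (hq : ∀ a ∈ A, a ≠ 1 → IsPGroup q (θ a)) :
    IsCompleteSignalizerFunctor p A θ := by
  have h0 : QMember p q A θ (⊥ : Subgroup G) := by
    refine ⟨⟨Group.isSolvable_of_comm fun u v => Subtype.ext (by
      rw [Subgroup.coe_mul, Subgroup.coe_mul, mem_bot.1 u.2, mem_bot.1 v.2]), by
      rw [card_bot]; exact fun h => (Fact.out : p.Prime).ne_one (Nat.dvd_one.1 h),
      fun b _ x hx => by rw [mem_bot] at hx ⊢; rw [hx, mul_one, mul_inv_cancel],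
      fun a _ _ => inf_le_left.trans bot_le⟩, IsPGroup.of_bot⟩
  obtain ⟨Q, hQ, -⟩ := exists_qMax h0
  refine ⟨hθ.1, Q, hQ.1.1.2.2.1, hQ.1.1.2.1, fun a ha ha1 =>
    le_antisymm (hQ.1.1.2.2.2 a ha ha1) (le_inf ?_ (hθ.1.1 a ha ha1))⟩
  have hm : QMember p q A θ (θ a) := ⟨⟨hθ.2 a ha ha1, hθ.1.2.1 a ha ha1, hθ.1.2.2.1 a ha ha1,
    fun b hb hb1 => hθ.1.2.2.2 a ha ha1 b hb hb1⟩, hq a ha ha1⟩
  obtain ⟨Z, hZ, haZ⟩ := exists_qMax hm
  obtain ⟨c, hc, rfl⟩ := transitivity hA hA3 hθ.1 _ Q Z rfl hQ hZ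
  intro x hx
  have hca : c ∈ θ a := mem_iInf.1 hc ⟨a, ha, ha1⟩
  obtain ⟨z, hz, e⟩ := haZ ((θ a).mul_mem ((θ a).mul_mem hca hx) ((θ a).inv_mem hca))
  have : z = x := (MulAut.conj c).injective e
  exact this ▸ hz

end Cfsg.Agent.Local.Trans
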