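import Cfsg.Agent.Lib.Local.FusionReduction
import Cfsg.Agent.Lib.Solv.ThompsonComplement
import Cfsg.Prelude.Def_PLocal
import Cfsg.Prelude.Def_TwoFusion

/-!
Glauberman's triple factorization.
-/

set_option autoImplicit false
set_option linter.style.haveILetI false

universe u

namespace Cfsg.Agent.Local.TripleFactor

open Subgroup
open scoped Pointwise
open FusionRed (Sec inducedFunctor_map)
open Agent.Solv

variable {G : Type u} [Group G] [Finite G] {p : ℕ} [Fact p.Prime]

omit [Finite G] [Fact p.Prime] in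
theorem omegaCenter_map_le {H : Type u} [Group H] (f : G →* H) (S : Subgroup G) :
    (omegaOne p (S ⊓ centralizer (S : Set G))).map f ≤
      omegaOne p (S.map f ⊓ centralizer ((S.map f : Subgroup H) : Set H)) := by
  rw [omegaOne, MonoidHom.map_closure, closure_le]
  rintro _ ⟨x, ⟨hx, hxp⟩, rfl⟩
  refine subset_closure ⟨⟨mem_map_of_mem f hx.1, ?_⟩, by rw [← map_pow, hxp, map_one]⟩
  rintro _ ⟨s, hs, rfl⟩
  rw [← map_mul, ← map_mul, hx.2 s hs]

/-- The normalizer of a value of one functor factorizes. -/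
theorem exists_factor {W₁ W₂ : ∀ (Q : Type u) [Group Q], Subgroup Q}
    (hW₁ : IsCharPFunctor.{u} p W₁) (hW₂ : IsCharPFunctor.{u} p W₂)
    (hfac : ∀ (K R : Subgroup G) [hR : (R.subgroupOf K).Normal],
      centralizer (pCore p (K ⧸ R.subgroupOf K) : Set (K ⧸ R.subgroupOf K)) ≤ pCore p (K ⧸ R.subgroupOf K) →
        ∀ T : Sylow p (K ⧸ R.subgroupOf K), ∀ x : K ⧸ R.subgroupOf K,
          ∃ a ∈ centralizer ((omegaOne p ((T : Subgroup (K ⧸ R.subgroupOf K)) ⊓
            centralizer ((T : Subgroup (K ⧸ R.subgroupOf K)) : Set (K ⧸ R.subgroupOf K))) :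
              Subgroup (K ⧸ R.subgroupOf K)) : Set (K ⧸ R.subgroupOf K)),
          ∃ b ∈ normalizer ((inducedFunctor W₂ (T : Subgroup (K ⧸ R.subgroupOf K)) :
              Subgroup (K ⧸ R.subgroupOf K)) : Set (K ⧸ R.subgroupOf K)), x = a * b)
    (S : Sylow p G) (hZ : omegaOne p ((S : Subgroup G) ⊓ centralizer ((S : Subgroup G) : Set G)) ≤
      inducedFunctor W₁ (S : Subgroup G))
    {n : G} (hn : n ∈ normalizer ((inducedFunctor W₁ (S : Subgroup G) : Subgroup G) : Set G)) :
    ∃ c ∈ centralizer ((omegaOne p ((S : Subgroup G) ⊓ centralizer ((S : Subgroup G) : Set G)) :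
        Subgroup G) : Set G),
      ∃ b ∈ normalizer ((inducedFunctor W₂ (S : Subgroup G) : Subgroup G) : Set G), n = c * b := by
  classical
  set w := inducedFunctor W₁ (S : Subgroup G) with hw
  set Z := omegaOne p ((S : Subgroup G) ⊓ centralizer ((S : Subgroup G) : Set G)) with hZdef
  set N := normalizer (w : Set G) with hN
  have hwS : w ≤ (S : Subgroup G) := map_subtype_le _
  have hSN : (S : Subgroup G) ≤ N := le_normalizer.trans
    (FusionRed.normalizer_le_normalizer_functor (FusionRed.isConjugacyFunctor_induced hW₁) S.isPGroup')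
  set C := centralizer (w : Set G) with hC
  have hCN : C ≤ N := centralizer_le_normalizer _
  set H := w ⊔ C with hH
  have hHN : H ≤ N := sup_le (le_normalizer) hCN
  haveI hwn : (w.subgroupOf N).Normal := normal_subgroupOf_of_le_normalizer le_rfl
  haveI hHn : (H.subgroupOf N).Normal := by
    refine normal_subgroupOf_of_le_normalizer (le_trans ?_ (normalizer_inf_normalizer_le_normalizer_sup w C))
    refine le_inf le_rfl (le_normalizer_of_conj_mem fun g hg x hx => ?_)
    rw [hC, mem_centralizer_iff]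
    intro z hz
    have h2 := mem_centralizer_iff.1 hx _ ((mem_normalizer_iff''.1 hg z).1 hz)
    calc z * (g * x * g⁻¹) = g * ((g⁻¹ * z * g) * x) * g⁻¹ := by group
      _ = g * x * g⁻¹ * z := by rw [h2]; group
  -- the Sylow subgroup of `H`
  set P := (S : Subgroup G) ⊓ H with hP
  have hPp : IsPGroup p P := S.isPGroup'.to_le inf_le_left
  have hPidx : ¬ p ∣ P.relIndex H := by
    rw [hP, inf_relIndex_right]
    intro h
    have hnorm : (S : Subgroup G) ≤ normalizer (H : Set G) :=
      hSN.trans ((normal_subgroupOf_iff_le_normalizer hHN).1 hHn)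
    have e := card_sup_mul_card_inf H (S : Subgroup G) hnorm
    have e1 : Nat.card (S : Subgroup G) * (S : Subgroup G).relIndex (H ⊔ S) = Nat.card ↥(H ⊔ (S : Subgroup G)) := by
      have h0 := ((S : Subgroup G).subgroupOf (H ⊔ S)).card_mul_index
      rwa [card_subgroupOf (le_sup_right : (S : Subgroup G) ≤ H ⊔ S)] at h0
    have e2 : Nat.card ↥(H ⊓ (S : Subgroup G)) * (S : Subgroup G).relIndex H = Nat.card H := by
      have h0 := ((H ⊓ (S : Subgroup G)).subgroupOf H).card_mul_index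
      rwa [card_subgroupOf (inf_le_left : H ⊓ (S : Subgroup G) ≤ H),
        show ((H ⊓ (S : Subgroup G)).subgroupOf H).index = (S : Subgroup G).relIndex H by
          rw [← inf_relIndex_right (S : Subgroup G) H, inf_comm]; rfl] at h0
    rw [← e1, ← e2] at e
    have e3 : (S : Subgroup G).relIndex (H ⊔ S) = (S : Subgroup G).relIndex H := by
      refine mul_left_cancel₀ (a := Nat.card (S : Subgroup G) * Nat.card ↥(H ⊓ (S : Subgroup G)))
        (Nat.mul_ne_zero Nat.card_pos.ne' Nat.card_pos.ne') ?_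
      linarith [e]
    exact S.not_dvd_index ((e3.symm ▸ h).trans (relIndex_dvd_index_of_le le_sup_right))
  set K := N ⊓ normalizer (P : Set G) with hK
  have hSK : (S : Subgroup G) ≤ K := by
    refine le_inf hSN (le_normalizer_of_conj_mem fun s hs x hx => ⟨(mul_mem (mul_mem hs hx.1) (inv_mem hs) : s * x * s⁻¹ ∈ (S : Subgroup G)), (?_ : s * x * s⁻¹ ∈ H)⟩)
    exact (hHn.conj_mem ⟨x, hHN hx.2⟩ hx.2 ⟨s, hSN hs⟩ : _)
  have hfr : ∀ g ∈ N, ∃ h ∈ H, ∃ k ∈ K, g = h * k := by
    intro g hg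
    have hmap : P.map (MulAut.conj g).toMonoidHom ≤ H := by
      rintro _ ⟨x, hx, rfl⟩
      exact (hHn.conj_mem ⟨x, hHN hx.2⟩ hx.2 ⟨g, hg⟩ : _)
    obtain ⟨h, hh, hconj⟩ := exists_conj_le_of_not_dvd_relIndex (inf_le_right : P ≤ H) hPp hPidx hmap
      (hPp.map _)
    refine ⟨h⁻¹, inv_mem hh, h * g, ⟨mul_mem (hHN hh) hg, ?_⟩, by group⟩
    refine le_normalizer_of_conj_mem (X := zpowers (h * g)) ?_ (mem_zpowers _)
    intro x hx y hy
    have hm : P.map (MulAut.conj (h * g)).toMonoidHom = P := by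
      refine eq_of_le_of_card_ge ?_
        (Nat.card_congr (P.equivMapOfInjective _ (MulAut.conj (h * g)).injective).toEquiv).le
      rintro _ ⟨z, hz, rfl⟩
      have := hconj _ ⟨z, hz, rfl⟩
      rw [hP, Subgroup.mem_inf]
      simpa [mul_assoc] using this
    have hle : zpowers (h * g) ≤ normalizer (P : Set G) := by
      rw [zpowers_le, mem_normalizer_iff]
      intro z
      conv_rhs => rw [← hm]
      constructor
      · exact fun hz => ⟨z, hz, rfl⟩
      · rintro ⟨v, hv, he⟩
        exact (MulAut.conj (h * g)).injective he ▸ hv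
    exact (mem_normalizer_iff.1 (hle hx) y).1 hy
  -- the part of the centralizer
  set D := K ⊓ centralizer (P : Set G) with hD
  have hwP : w ≤ P := le_inf hwS le_sup_left
  have hDC : D ≤ C := inf_le_right.trans (centralizer_le hwP)
  have hDH : D ≤ H := hDC.trans le_sup_right
  obtain ⟨T⟩ : Nonempty (Sylow p D) := inferInstance
  have hT : (T : Subgroup D).map D.subtype ≤ P := by
    set T' := (T : Subgroup D).map D.subtype
    have hT'H : T' ≤ H := (map_subtype_le _).trans hDH
    have hT'N : T' ≤ normalizer (P : Set G) := (map_subtype_le _).trans (inf_le_left.trans inf_le_right)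
    have hp' := IsPGroup.to_sup_of_normal_right' (T.isPGroup'.map D.subtype) hPp hT'N
    have := ConjFamilyAux (R := P) (R' := T' ⊔ P) le_sup_right (sup_le hT'H inf_le_right) hp' hPidx
    exact le_sup_left.trans this.ge
  have hnpc : HasNormalPComplement p D := by
    refine hasNormalPComplement_of_burnside T fun x _ => ?_
    rw [mem_centralizer_iff]
    intro t ht
    exact Subtype.ext (mem_centralizer_iff.1 x.2.2 _ (hT ⟨t, ht, rfl⟩))
  set X := (pPrimeCore p D).map D.subtype with hX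
  have hXD : X ≤ D := map_subtype_le _
  have hXK : X ≤ K := hXD.trans inf_le_left
  have hXc : (Nat.card X).Coprime p := by
    rw [hX, card_map_subtype]; exact card_pPrimeCore_coprime p D
  haveI hXn : (X.subgroupOf K).Normal := by
    refine normal_subgroupOf_of_le_normalizer (le_normalizer_of_conj_mem fun g hg x hx => ?_)
    obtain ⟨y, hy, rfl⟩ := hx
    have hyD : g * (y : G) * g⁻¹ ∈ D := by
      refine ⟨(mul_mem (mul_mem hg y.2.1) (inv_mem hg) : g * (y : G) * g⁻¹ ∈ K), (?_ : g * (y : G) * g⁻¹ ∈ centralizer (P : Set G))⟩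
      refine mem_centralizer_iff.2 fun z hz => ?_
      have h1 := mem_centralizer_iff.1 y.2.2 _ ((mem_normalizer_iff''.1 hg.2 z).1 hz)
      calc z * (g * y * g⁻¹) = g * ((g⁻¹ * z * g) * y) * g⁻¹ := by group
        _ = g * y * g⁻¹ * z := by rw [h1]; group
    refine ⟨⟨_, hyD⟩, ?_, rfl⟩
    rw [SetLike.mem_coe, mem_pPrimeCore_iff hnpc] at hy ⊢
    have e : orderOf (g * (y : G) * g⁻¹) = orderOf (y : G) :=
      orderOf_injective (MulAut.conj g).toMonoidHom (MulAut.conj g).injective (y : G)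
    rwa [← Subgroup.orderOf_coe, e, Subgroup.orderOf_coe]
  set f := QuotientGroup.mk' (X.subgroupOf K) with hf
  have hfs := QuotientGroup.mk'_surjective (X.subgroupOf K)
  have hPK : P ≤ K := (inf_le_left).trans hSK
  have hPX : P ⊓ X = ⊥ := inf_eq_bot_of_isPGroup hPp hXc
  have hSX : (S : Subgroup G) ⊓ X = ⊥ := inf_eq_bot_of_isPGroup S.isPGroup' hXc
  set Pb := (P.subgroupOf K).map f with hPb
  haveI : (P.subgroupOf K).Normal := normal_subgroupOf_of_le_normalizer inf_le_right
  haveI : Pb.Normal := Normal.map inferInstance f hfs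
  have hPbp : IsPGroup p Pb := (hPp.comap_subtype).map f
  have hcon : centralizer (pCore p (K ⧸ X.subgroupOf K) : Set (K ⧸ X.subgroupOf K)) ≤
      pCore p (K ⧸ X.subgroupOf K) := by
    refine ((centralizer_le (le_pCore hPbp)).trans ?_).trans (le_pCore hPbp)
    intro y hy
    obtain ⟨k, rfl⟩ := hfs y
    have hkD : (k : G) ∈ D := by
      refine ⟨k.2, mem_centralizer_iff.2 fun z hz => ?_⟩
      have h1 := mem_centralizer_iff.1 hy _ (⟨⟨z, hPK hz⟩, hz, rfl⟩ : f ⟨z, hPK hz⟩ ∈ Pb)
      rw [← map_mul, ← map_mul] at h1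
      have h2 := QuotientGroup.eq.1 h1
      rw [mem_subgroupOf] at h2
      simp only [coe_mul, coe_inv] at h2
      have h3 : (z * (k : G))⁻¹ * ((k : G) * z) ∈ P ⊓ X := by
        refine ⟨(?_ : (z * (k : G))⁻¹ * ((k : G) * z) ∈ P), h2⟩
        have h4 := (mem_normalizer_iff''.1 k.2.2 z⁻¹).1 (inv_mem hz)
        have := mul_mem h4 hz
        simpa [mul_assoc] using this
      rw [hPX, mem_bot, inv_mul_eq_one] at h3
      exact h3
    have h1 : (⟨(k : G), hkD⟩ : D) ∈ pPrimeCore p D ⊔ (T : Subgroup D) := by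
      rw [IsComplement'.sup_eq_top (isComplement'_pPrimeCore hnpc T)]; exact mem_top _
    rw [mem_sup_of_normal_left] at h1
    obtain ⟨x, hx, t, ht, he⟩ := h1
    refine ⟨⟨(t : G), hPK (hT ⟨t, ht, rfl⟩)⟩, hT ⟨t, ht, rfl⟩, ?_⟩
    refine QuotientGroup.eq.2 ?_
    rw [mem_subgroupOf]
    simp only [coe_mul, coe_inv]
    rw [show (k : G) = (x : G) * t from (congrArg Subtype.val he).symm]
    have := (mem_normalizer_iff''.1 ((normal_subgroupOf_iff_le_normalizer hXK).1 hXn
      (hPK (hT ⟨t, ht, rfl⟩))) (x : G)).1 ⟨x, hx, rfl⟩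
    simpa [mul_assoc] using this
  let Ts : Sylow p K := S.subtype hSK
  let Tb := Ts.mapSurjective hfs
  obtain ⟨h, hh, k, hk, rfl⟩ := hfr n hn
  obtain ⟨a, ha, b, hb, hab⟩ := hfac K X hcon Tb (f ⟨k, hk⟩)
  have hTb : (Tb : Subgroup (K ⧸ X.subgroupOf K)) = ((S : Subgroup G).subgroupOf K).map f := by
    rw [Sylow.coe_mapSurjective, Sylow.coe_subtype]
  rw [hTb] at ha hb
  obtain ⟨k₁, rfl⟩ := hfs a
  -- the first factor centralizes
  have hk₁ : (k₁ : G) ∈ centralizer (Z : Set G) := by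
    refine mem_centralizer_iff.2 fun z hz => ?_
    have hzS : z ∈ (S : Subgroup G) := hwS (hZ hz)
    have hzZ : f ⟨z, hSK hzS⟩ ∈ (omegaOne p (((S : Subgroup G).subgroupOf K).map f ⊓
        centralizer ((((S : Subgroup G).subgroupOf K).map f : Subgroup (K ⧸ X.subgroupOf K)) :
          Set (K ⧸ X.subgroupOf K)))) := by
      refine omegaCenter_map_le f _ (mem_map_of_mem f ?_)
      rw [hZdef] at hz
      have hle : Z ≤ (omegaOne p ((S : Subgroup G).subgroupOf K ⊓
          centralizer (((S : Subgroup G).subgroupOf K : Subgroup K) : Set K))).map K.subtype := by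
        rw [hZdef, omegaOne, closure_le]
        rintro v ⟨hv, hvp⟩
        refine ⟨⟨v, hSK hv.1⟩, subset_closure ⟨⟨hv.1, fun s hs => Subtype.ext (hv.2 _ hs)⟩,
          Subtype.ext hvp⟩, rfl⟩
      obtain ⟨v, hv, hve⟩ := hle hz
      rwa [show v = ⟨z, hSK hzS⟩ from Subtype.ext hve] at hv
    have h1 := mem_centralizer_iff.1 ha _ hzZ
    rw [← map_mul, ← map_mul] at h1
    have h2 := QuotientGroup.eq.1 h1
    rw [mem_subgroupOf] at h2
    simp only [coe_mul, coe_inv] at h2
    have h3 : (z * (k₁ : G))⁻¹ * ((k₁ : G) * z) ∈ (S : Subgroup G) ⊓ X := by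
      refine ⟨(?_ : (z * (k₁ : G))⁻¹ * ((k₁ : G) * z) ∈ (S : Subgroup G)), h2⟩
      have h4 := (mem_normalizer_iff''.1 k₁.2.1 z⁻¹).1 (inv_mem (hZ hz))
      have := mul_mem (hwS h4) hzS
      simpa [mul_assoc] using this
    rw [hSX, mem_bot, inv_mul_eq_one] at h3
    exact h3
  -- lifting the second factor
  set w₂ := inducedFunctor W₂ ((S : Subgroup G).subgroupOf K) with hw₂
  have hw₂p : IsPGroup p w₂ := (S.isPGroup'.comap_subtype).to_le (map_subtype_le _)
  have hinj : ∀ x ∈ (S : Subgroup G).subgroupOf K, f x = 1 → x = 1 := fun x hx hfx => by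
    have h1 : (x : G) ∈ (S : Subgroup G) ⊓ X := ⟨hx, (QuotientGroup.eq_one_iff x).1 hfx⟩
    rw [hSX, mem_bot] at h1
    exact Subtype.ext h1
  rw [inducedFunctor_map hW₂ f ((S : Subgroup G).subgroupOf K) S.isPGroup'.comap_subtype hinj] at hb
  obtain ⟨k₂, rfl⟩ := hfs b
  haveI := hw₂p.isNilpotent
  obtain ⟨m, hm, hmk⟩ := exists_mul_of_map_eq (X.subgroupOf K) w₂ inferInstance
    (coprime_card_of_isPGroup hw₂p (by rw [card_subgroupOf hXK]; exact hXc)) hb
  have hn₂ : ((m⁻¹ * k₂ : K) : G) ∈ normalizer ((inducedFunctor W₂ (S : Subgroup G) : Subgroup G) : Set G) := by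
    have h1 := le_normalizer_map K.subtype (mem_map_of_mem K.subtype hmk)
    rw [hw₂, ← inducedFunctor_map hW₂ K.subtype ((S : Subgroup G).subgroupOf K) S.isPGroup'.comap_subtype
      (fun x _ hx => Subtype.ext hx), map_subgroupOf_eq_of_le hSK] at h1
    exact h1
  rw [← map_mul] at hab
  have hxX := QuotientGroup.eq.1 hab.symm
  rw [mem_subgroupOf] at hxX
  simp only [coe_mul, coe_inv] at hxX
  -- assemble
  have hCZ : ∀ x ∈ C, x ∈ centralizer (Z : Set G) := fun x hx => centralizer_le hZ hx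
  have hXZ : ∀ x ∈ X, x ∈ centralizer (Z : Set G) := fun x hx => hCZ x (hDC (hXD hx))
  have hwZ : ∀ x ∈ w, x ∈ centralizer (Z : Set G) := fun x hx => mem_centralizer_iff.2 fun z hz => by
    have hz' : z ∈ (S : Subgroup G) ⊓ centralizer ((S : Subgroup G) : Set G) := by
      refine (closure_le _).2 ?_ hz
      exact fun v hv => hv.1
    exact (hz'.2 x (hwS hx)).symm
  have hHZ : h ∈ centralizer (Z : Set G) := (sup_le (a := w) (b := C) hwZ hCZ) hh
  refine ⟨h * (k₁ : G) * ((m : G) * (((m⁻¹ * k₂ : K) : G) * (((k₁ : G) * k₂)⁻¹ * k) * ((m⁻¹ * k₂ : K) : G)⁻¹)),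
    mul_mem (mul_mem hHZ hk₁) (mul_mem (hXZ _ hm) (hXZ _ ?_)), _, hn₂, ?_⟩
  · exact (mem_normalizer_iff.1 ((normal_subgroupOf_iff_le_normalizer hXK).1 hXn (m⁻¹ * k₂).2) _).1 hxX
  · simp only [coe_mul, coe_inv]
    group
where
  ConjFamilyAux {R R' H : Subgroup G} (h1 : R ≤ R') (h2 : R' ≤ H) (h3 : IsPGroup p R')
      (h4 : ¬ p ∣ R.relIndex H) : R = R' := by
    have h5 : R.relIndex R' ∣ R.relIndex H := by
      rw [← relIndex_mul_relIndex R R' H h1 h2]; exact dvd_mul_right _ _
    obtain ⟨k, hk⟩ := h3.exists_card_eq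
    have h6 : R.relIndex R' ∣ p ^ k := hk ▸ index_dvd_card (R.subgroupOf R')
    obtain ⟨i, -, hi⟩ := (Nat.dvd_prime_pow (Fact.out : p.Prime)).1 h6
    rcases i with _ | i
    · exact le_antisymm h1 (relIndex_eq_one.1 (by rw [hi, pow_zero]))
    · exact absurd ((hi ▸ dvd_pow_self p i.succ_ne_zero : p ∣ R.relIndex R').trans h5) h4

end Cfsg.Agent.Local.TripleFactor
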