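import Cfsg.Agent.Lib.Local.WeaklyClosedBasics
import Cfsg.Agent.Lib.Solv.Basic
import Mathlib.GroupTheory.SchurZassenhaus

/-!
Minimal configurations for isolated elements of prime order.
-/

set_option autoImplicit false
set_option linter.style.haveILetI false

namespace Cfsg.Agent.Local.ZStarMin

open Subgroup

variable {G : Type*} [Group G] [Finite G] {p : ℕ} [Fact p.Prime] {x : G}

/-- An element of prime order generates a `p`-group. -/
theorem isPGroup_zpowers (hx : orderOf x = p) : IsPGroup p (zpowers x) :=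
  IsPGroup.of_card (n := 1) (by rw [Nat.card_zpowers, hx, pow_one])

/-- Frattini argument for an isolated element: conjugates inside a subgroup are conjugate there. -/
theorem exists_mul_centralizer (hx : orderOf x = p) (hiso : IsIsolated x) (U : Subgroup G) (hxU : x ∈ U)
    (g : G) (hg : g * x * g⁻¹ ∈ U) : ∃ u ∈ U, u * g ∈ centralizer ({x} : Set G) := by
  have h1 : IsPGroup p ((zpowers x).subgroupOf U) := (isPGroup_zpowers hx).comap_of_injective _ U.subtype_injective
  obtain ⟨P, hP⟩ := h1.exists_le_sylow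
  have h2 : IsPGroup p ((zpowers (g * x * g⁻¹)).subgroupOf U) := by
    refine (isPGroup_zpowers ?_).comap_of_injective _ U.subtype_injective
    rw [show g * x * g⁻¹ = MulAut.conj g x from rfl, MulEquiv.orderOf_eq, hx]
  obtain ⟨Q, hQ⟩ := h2.exists_le_sylow
  obtain ⟨u, rfl⟩ := MulAction.exists_smul_eq U Q P
  refine ⟨u, u.2, ?_⟩
  have hxP : x ∈ ((u • Q : Sylow p U) : Subgroup U).map U.subtype :=
    ⟨⟨x, hxU⟩, hP (mem_subgroupOf.2 (mem_zpowers x)), rfl⟩
  have hyP : ((u : G) * g) * x * ((u : G) * g)⁻¹ ∈ ((u • Q : Sylow p U) : Subgroup U).map U.subtype := by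
    refine ⟨u * ⟨g * x * g⁻¹, hg⟩ * u⁻¹, ⟨⟨g * x * g⁻¹, hg⟩, hQ (mem_subgroupOf.2 (mem_zpowers _)), rfl⟩, ?_⟩
    simp [mul_assoc]
  have h3 := WCB.isolated_eq_of_mem hiso ((u • Q).isPGroup'.map _) hxP hyP
  exact mem_centralizer_singleton_iff.2 (mul_inv_eq_iff_eq_mul.1 h3)

variable (hx : orderOf x = p) (hiso : IsIsolated x) (hnz : ¬ InZStar p x)
    (hmin : ∀ (H : Subgroup G) (hxH : x ∈ H), H ≠ ⊤ → InZStar p (⟨x, hxH⟩ : ↥H))
    (hquot : ∀ (N : Subgroup G) [N.Normal], N ≠ ⊥ → InZStar p (QuotientGroup.mk x : G ⧸ N))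

include hnz hquot in
theorem core_bot : pPrimeCore p G = ⊥ := by
  by_contra h
  refine hnz fun g => ?_
  have := hquot _ h (QuotientGroup.mk g)
  rw [Solv.pPrimeCore_quotient_pPrimeCore, mem_bot] at this
  rw [← QuotientGroup.eq_one_iff]
  exact this

include hnz in
theorem not_central : ∃ g : G, g * x * g⁻¹ ≠ x := by
  by_contra h
  push Not at h
  exact hnz fun g => by rw [h g, mul_inv_cancel]; exact one_mem _

include hnz hmin hquot in
theorem centralizes (M : Subgroup G) [hM : M.Normal] (hne : M ⊔ zpowers x ≠ ⊤) :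
    ∀ m ∈ M, m * x = x * m := by
  intro m hm
  set H := M ⊔ zpowers x
  have hxH : x ∈ H := mem_sup_right (mem_zpowers x)
  have hMH : M ≤ H := le_sup_left
  set K := (pPrimeCore p ↥H).map H.subtype
  have h1 : m * x * m⁻¹ * x⁻¹ ∈ K := ⟨_, hmin H hxH hne ⟨m, hMH hm⟩, rfl⟩
  have h2 : m * x * m⁻¹ * x⁻¹ ∈ M := by
    rw [mul_assoc m, mul_assoc m]
    exact M.mul_mem hm (hM.conj_mem _ (inv_mem hm) x)
  haveI hn : ((pPrimeCore p ↥H).map H.subtype ⊓ M).subgroupOf M |>.Normal := by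
    refine ⟨fun a ha n => ?_⟩
    obtain ⟨⟨b, hb, hba⟩, -⟩ := mem_subgroupOf.1 ha
    refine mem_subgroupOf.2 ⟨⟨⟨n, hMH n.2⟩ * b * ⟨n, hMH n.2⟩⁻¹,
      Normal.conj_mem inferInstance b hb _, ?_⟩, (n * a * n⁻¹).2⟩
    simp [← hba]
  have h3 : ((K ⊓ M).subgroupOf M) ≤ pPrimeCore p ↥M := by
    refine Solv.le_pPrimeCore ?_
    rw [Nat.card_congr (subgroupOfEquivOfLe inf_le_right).toEquiv]
    refine Nat.Coprime.coprime_dvd_left (card_dvd_of_le inf_le_left) ?_
    rw [Solv.card_map_subtype]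
    exact Solv.card_pPrimeCore_coprime p _
  have h4 : m * x * m⁻¹ * x⁻¹ ∈ (pPrimeCore p ↥M).map M.subtype :=
    ⟨⟨_, h2⟩, h3 (mem_subgroupOf.2 ⟨h1, h2⟩), rfl⟩
  rw [Solv.pPrimeCore_map_subtype, core_bot hnz hquot, bot_inf_eq, mem_bot] at h4
  exact mul_inv_eq_iff_eq_mul.1 (mul_inv_eq_one.1 h4)

include hiso hnz in
theorem not_pGroup : ¬ IsPGroup p G := by
  intro h
  obtain ⟨g, hg⟩ := not_central hnz
  refine hg ?_
  rw [(WCB.isolated_central (p := p) hiso (h.to_subgroup ⊤) (mem_top x) g (mem_top g)).eq, mul_inv_cancel_right]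

include hx hiso hnz hmin hquot in
theorem sup_eq_top (N : Subgroup G) [hN : N.Normal] (hne : N ≠ ⊥)
    (hminN : ∀ L : Subgroup G, L.Normal → L ≤ N → L = ⊥ ∨ L = N) : N ⊔ zpowers x = ⊤ := by
  classical
  by_contra hlt
  have hc := centralizes hnz hmin hquot N hlt
  have hO := core_bot hnz hquot
  obtain ⟨g₀, hg₀⟩ := not_central hnz
  set K := (pPrimeCore p (G ⧸ N)).comap (QuotientGroup.mk' N) with hK
  haveI : K.Normal := Normal.comap inferInstance _
  have hxK : ∀ g, g * x * g⁻¹ * x⁻¹ ∈ K := fun g => hquot N hne (QuotientGroup.mk g)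
  have hKtop : K ⊔ zpowers x = ⊤ := by
    by_contra h
    have h1 := centralizes hnz hmin hquot K h _ (hxK g₀)
    refine hg₀ (hiso g₀ ?_)
    show x * (g₀ * x * g₀⁻¹) = g₀ * x * g₀⁻¹ * x
    calc x * (g₀ * x * g₀⁻¹) = x * (g₀ * x * g₀⁻¹ * x⁻¹) * x := by group
      _ = (g₀ * x * g₀⁻¹ * x⁻¹) * x * x := by rw [h1]
      _ = g₀ * x * g₀⁻¹ * x := by group
  set X := normalClosure ({x} : Set G)
  have hXtop : X = ⊤ := by
    by_contra h
    have hxX : x ∈ X := subset_normalClosure rfl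
    have h1 := centralizes hnz hmin hquot X (by rwa [sup_eq_left.2 (zpowers_le.2 hxX)]) _
      (normalClosure_normal.conj_mem x hxX g₀)
    exact hg₀ (hiso g₀ h1.symm)
  have hNc : N ≤ center G := by
    have h1 : X ≤ centralizer (N : Set G) := normalClosure_le_normal (by
      rintro _ rfl
      exact mem_centralizer_iff.2 hc)
    rw [hXtop] at h1
    intro n hn
    exact mem_center_iff.2 fun g => (mem_centralizer_iff.1 (h1 (mem_top g)) n hn).symm
  have hp : p ∣ Nat.card N := by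
    by_contra h
    exact hne (le_bot_iff.1 (hO ▸ Solv.le_pPrimeCore ((Fact.out : p.Prime).coprime_iff_not_dvd.2 h).symm))
  obtain ⟨n, hn⟩ := exists_prime_orderOf_dvd_card' p hp
  have hnG : orderOf (n : G) = p := by rwa [Subgroup.orderOf_coe]
  haveI : (zpowers (n : G)).Normal := ⟨fun a ha g => by
    have hac : a ∈ center G := zpowers_le.2 (hNc n.2) ha
    rwa [mem_center_iff.1 hac g, mul_inv_cancel_right]⟩
  have hNn : zpowers (n : G) = N := by
    refine (hminN _ inferInstance (zpowers_le.2 n.2)).resolve_left fun h => ?_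
    rw [zpowers_eq_bot] at h
    rw [h, orderOf_one] at hnG
    exact (Fact.out : p.Prime).ne_one hnG.symm
  have hNcard : Nat.card N = p := by rw [← hNn, Nat.card_zpowers, hnG]
  have hNK : N ≤ K := by
    conv_lhs => rw [← QuotientGroup.ker_mk' N]
    exact MonoidHom.ker_le_comap _ _
  have hNK' : K = N := by
    have hcop : Nat.Coprime (Nat.card (N.subgroupOf K)) (N.subgroupOf K).index := by
      rw [Nat.card_congr (subgroupOfEquivOfLe hNK).toEquiv, hNcard]
      have : (N.subgroupOf K).index = Nat.card (pPrimeCore p (G ⧸ N)) := by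
        have h := relIndex_ker (QuotientGroup.mk' N) (K := K)
        rw [QuotientGroup.ker_mk'] at h
        rw [← relIndex, h, hK, map_comap_eq_self_of_surjective (QuotientGroup.mk'_surjective N)]
      rw [this]
      exact (Solv.card_pPrimeCore_coprime p _).symm
    obtain ⟨Q, hQ⟩ := exists_right_complement'_of_coprime hcop
    haveI hQn : Q.Normal := by
      refine ⟨fun q hq k => ?_⟩
      obtain ⟨⟨a, b⟩, hab⟩ := hQ.2 k
      have hac : ((a : ↥K) : G) ∈ center G := hNc (mem_subgroupOf.1 a.2)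
      have hab' : (a : ↥K) * (b : ↥K) = k := hab
      have : k * q * k⁻¹ = (b : ↥K) * q * (b : ↥K)⁻¹ := by
        rw [← hab']
        have hcomm : ∀ y : ↥K, (a : ↥K) * y = y * a := fun y => Subtype.ext (mem_center_iff.1 hac y).symm
        calc (a : ↥K) * b * q * ((a : ↥K) * b)⁻¹ = (a : ↥K) * ((b : ↥K) * q * (b : ↥K)⁻¹) * (a : ↥K)⁻¹ := by group
          _ = (b : ↥K) * q * (b : ↥K)⁻¹ := by rw [hcomm, mul_inv_cancel_right]
      rw [this]
      exact mul_mem (mul_mem b.2 hq) (inv_mem b.2)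
    have h2 : Q ≤ pPrimeCore p ↥K := by
      refine Solv.le_pPrimeCore ?_
      rw [← hQ.symm.index_eq_card] at *
      have := hcop
      rw [Nat.card_congr (subgroupOfEquivOfLe hNK).toEquiv, hNcard] at this
      exact this.symm
    have h3 : Q = ⊥ := by
      rw [← (map_injective K.subtype_injective).eq_iff, Subgroup.map_bot, eq_bot_iff]
      refine (map_mono h2).trans ?_
      rw [Solv.pPrimeCore_map_subtype, hO, bot_inf_eq]
    rw [h3, isComplement'_bot_right] at hQ
    exact le_antisymm (subgroupOf_eq_top.1 hQ) hNK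
  rw [hNK'] at hKtop
  exact hlt hKtop

include hx hiso hnz hmin hquot in
theorem structure_thm : IsSimpleGroup ↥(commutator G) ∧ ¬ IsMulCommutative ↥(commutator G) ∧
    commutator G ⊔ zpowers x = ⊤ := by
  classical
  have hO := core_bot hnz hquot
  haveI : Nontrivial G := by
    obtain ⟨g, hg⟩ := not_central hnz
    exact ⟨⟨_, _, hg⟩⟩
  obtain ⟨N, hNn, -, hNne, hNmin⟩ := Solv.exists_minimal_normal_le (G := G) (N := ⊤) top_ne_bot
  have htop := sup_eq_top hx hiso hnz hmin hquot N hNne hNmin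
  have hnc : ¬ IsMulCommutative N := by
    intro hc
    have hp : p ∣ Nat.card N := by
      by_contra h
      exact hNne (le_bot_iff.1 (hO ▸ Solv.le_pPrimeCore ((Fact.out : p.Prime).coprime_iff_not_dvd.2 h).symm))
    have hcomm : ∀ a ∈ N, ∀ b ∈ N, Commute a b := fun a ha b hb =>
      congrArg Subtype.val (hc.is_comm.comm ⟨a, ha⟩ ⟨b, hb⟩)
    let T : Subgroup G :=
      { carrier := {a | a ∈ N ∧ a ^ p = 1}
        one_mem' := ⟨one_mem _, one_pow _⟩
        inv_mem' := fun h => ⟨inv_mem h.1, by rw [inv_pow, h.2, inv_one]⟩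
        mul_mem' := fun ha hb => ⟨mul_mem ha.1 hb.1, by rw [(hcomm _ ha.1 _ hb.1).mul_pow, ha.2, hb.2, one_mul]⟩ }
    have hTn : T.Normal := ⟨fun a ha g => ⟨hNn.conj_mem a ha.1 g, by rw [conj_pow, ha.2]; simp⟩⟩
    obtain ⟨n, hn⟩ := exists_prime_orderOf_dvd_card' p hp
    have hnT : (n : G) ∈ T := ⟨n.2, by rw [← hn, ← Subgroup.orderOf_coe, pow_orderOf_eq_one]⟩
    rcases hNmin T hTn (fun a ha => ha.1) with h | h
    · rw [h, mem_bot] at hnT
      rw [← Subgroup.orderOf_coe, hnT, orderOf_one] at hn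
      exact (Fact.out : p.Prime).ne_one hn.symm
    · have hNp : IsPGroup p N := fun a => ⟨1, Subtype.ext (by
        have : (a : G) ∈ T := h.symm ▸ a.2
        simpa using this.2)⟩
      have := hNp.to_sup_of_normal_left (isPGroup_zpowers hx)
      rw [htop] at this
      exact not_pGroup hiso hnz (this.of_equiv topEquiv)
  have hle : commutator G ≤ N := by
    rw [commutator_def, commutator_le]
    intro a _ b _
    show a * b * a⁻¹ * b⁻¹ ∈ N
    have hall : ∀ g : G, QuotientGroup.mk' N g ∈ zpowers (QuotientGroup.mk' N x) := by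
      intro g
      have h1 : g ∈ (zpowers (QuotientGroup.mk' N x)).comap (QuotientGroup.mk' N) := by
        refine (htop.ge.trans (sup_le (?_ : N ≤ (zpowers (QuotientGroup.mk' N x)).comap (QuotientGroup.mk' N))
          (zpowers_le.2 (mem_comap.2 (mem_zpowers _))))) (mem_top g)
        intro n hn
        rw [mem_comap, show QuotientGroup.mk' N n = 1 from (QuotientGroup.eq_one_iff n).2 hn]
        exact one_mem _
      exact h1
    rw [← QuotientGroup.eq_one_iff]
    show QuotientGroup.mk' N (a * b * a⁻¹ * b⁻¹) = 1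
    rw [map_mul, map_mul, map_mul, map_inv, map_inv, mul_inv_eq_one, mul_inv_eq_iff_eq_mul]
    obtain ⟨i, hi⟩ := hall a
    obtain ⟨j, hj⟩ := hall b
    rw [← hi, ← hj]
    exact (Commute.refl _).zpow_zpow i j
  have heq : commutator G = N := by
    refine (hNmin _ (inferInstance : (commutator G).Normal) hle).resolve_left fun h => hnc ⟨⟨fun a b => Subtype.ext ?_⟩⟩
    exact commutatorElement_eq_one_iff_mul_comm.1 (mem_bot.1 (h ▸ commutator_mem_commutator (mem_top _) (mem_top _)))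
  rw [heq]
  refine ⟨?_, hnc, htop⟩
  haveI : Nontrivial N := (nontrivial_iff_ne_bot N).2 hNne
  obtain ⟨S, hSn, -, hSne, hSmin⟩ := Solv.exists_minimal_normal_le (G := N) (N := ⊤) top_ne_bot
  by_cases hStop : S = ⊤
  · exact ⟨fun K hK => hStop ▸ hSmin K hK (hStop.symm ▸ le_top)⟩
  exfalso
  set S' := S.map N.subtype with hS'
  have hS'N : S' ≤ N := map_subtype_le _
  have hconjN : ∀ n ∈ N, ∀ s ∈ S', n * s * n⁻¹ ∈ S' := by
    rintro n hn _ ⟨s, hs, rfl⟩
    exact ⟨⟨n, hn⟩ * s * ⟨n, hn⟩⁻¹, hSn.conj_mem s hs _, rfl⟩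
  have hxnot : ¬ x ∈ normalizer (S' : Set G) := by
    intro h
    have h1 : N ≤ normalizer (S' : Set G) := fun n hn => mem_normalizer_iff.2 fun s =>
      ⟨hconjN n hn s, fun hs => by simpa [mul_assoc] using hconjN n⁻¹ (inv_mem hn) _ hs⟩
    have hn' : S'.Normal := normalizer_eq_top_iff.1 (top_le_iff.1 (htop ▸ sup_le h1 (zpowers_le.2 h)))
    rcases hNmin S' hn' hS'N with h2 | h2
    · exact hSne ((map_eq_bot_iff_of_injective _ N.subtype_injective).1 h2)
    · refine hStop (map_injective N.subtype_injective ?_)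
      rw [← MonoidHom.range_eq_map, N.range_subtype]
      exact h2
  have hxp : x ^ p = 1 := hx ▸ pow_orderOf_eq_one x
  haveI : NeZero p := ⟨(Fact.out : p.Prime).ne_zero⟩
  have hsucc : ∀ i : ZMod p, x ^ (i + 1).val = x * x ^ i.val := by
    intro i
    rw [← pow_succ', ZMod.val_add, ZMod.val_one]
    conv_rhs => rw [← pow_mod_orderOf, hx]
  let Si : ZMod p → Subgroup G := fun i => S'.map (MulAut.conj (x ^ i.val)).toMonoidHom
  have hSiN : ∀ i, Si i ≤ N := by
    rintro i _ ⟨s, hs, rfl⟩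
    exact hNn.conj_mem s (hS'N hs) _
  have hSi : ∀ i, ∀ n ∈ N, ∀ s ∈ Si i, n * s * n⁻¹ ∈ Si i := by
    rintro i n hn _ ⟨s, hs, rfl⟩
    refine ⟨((x ^ i.val)⁻¹ * n * x ^ i.val) * s * ((x ^ i.val)⁻¹ * n * x ^ i.val)⁻¹, hconjN _ (hNn.conj_mem' n hn _) s hs, ?_⟩
    simp only [MulEquiv.coe_toMonoidHom, MulAut.conj_apply]
    group
  have hcommS : ∀ i j, i ≠ j → ∀ a ∈ Si i, ∀ b ∈ Si j, Commute a b := by
    intro i j hij a ha b hb
    have h1 : a * b * a⁻¹ * b⁻¹ ∈ Si i := by
      rw [mul_assoc a, mul_assoc a]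
      exact mul_mem ha (hSi i b (hSiN j hb) _ (inv_mem ha))
    have h2 : a * b * a⁻¹ * b⁻¹ ∈ Si j := mul_mem (hSi j a (hSiN i ha) _ hb) (inv_mem hb)
    by_contra hne
    have hne' : a * b * a⁻¹ * b⁻¹ ≠ 1 := fun h => hne (mul_inv_eq_iff_eq_mul.1 (mul_inv_eq_one.1 h))
    -- the preimage of the intersection is normal in `N`, hence everything
    set k := (x ^ i.val)⁻¹ * x ^ j.val with hk
    let T : Subgroup ↥N := S ⊓ (S'.map (MulAut.conj k).toMonoidHom).subgroupOf N
    have hTn : T.Normal := by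
      refine ⟨fun t ht n => ⟨hSn.conj_mem t ht.1 n, mem_subgroupOf.2 ?_⟩⟩
      obtain ⟨s, hs, hst⟩ := mem_subgroupOf.1 ht.2
      refine ⟨(k⁻¹ * n * k) * s * (k⁻¹ * n * k)⁻¹, hconjN _ (hNn.conj_mem' _ n.2 _) s hs, ?_⟩
      push_cast
      rw [← hst]
      simp [mul_assoc]
    have hTS : T = S := by
      refine (hSmin T hTn inf_le_left).resolve_left fun h => hne' ?_
      obtain ⟨s, ⟨s', hs', rfl⟩, hse⟩ := h1
      obtain ⟨t, ht, hte⟩ := h2
      have hmem : s' ∈ T := ⟨hs', mem_subgroupOf.2 ⟨t, ht, by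
        have e := hte.trans hse.symm
        simp only [MulEquiv.coe_toMonoidHom, MulAut.conj_apply] at e ⊢
        rw [hk, show (x ^ i.val)⁻¹ * x ^ j.val * t * ((x ^ i.val)⁻¹ * x ^ j.val)⁻¹ =
          (x ^ i.val)⁻¹ * (x ^ j.val * t * (x ^ j.val)⁻¹) * x ^ i.val by group, e]
        group
        rfl⟩⟩
      rw [h, mem_bot] at hmem
      rw [← hse, hmem]
      simp
    have hsub : S' ≤ S'.map (MulAut.conj k).toMonoidHom := by
      rintro _ ⟨s, hs, rfl⟩
      exact mem_subgroupOf.1 (hTS.ge hs).2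
    have hknorm : k ∈ normalizer (S' : Set G) := WCB.mem_normalizer_of_map_conj_eq
      (eq_of_le_of_card_ge hsub (le_of_eq (card_map_of_injective (MulAut.conj k).injective))).symm
    have hkne : k ≠ 1 := by
      intro h
      rw [hk, inv_mul_eq_one] at h
      refine hij (ZMod.val_injective p ?_)
      exact pow_injOn_Iio_orderOf (hx.symm ▸ ZMod.val_lt i) (hx.symm ▸ ZMod.val_lt j) h
    refine hxnot (zpowers_le.2 hknorm ?_)
    have hkx : k ∈ zpowers x := mul_mem (inv_mem (pow_mem (mem_zpowers x) _)) (pow_mem (mem_zpowers x) _)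
    have hord : orderOf k = p := orderOf_eq_prime (by
      obtain ⟨z, hz⟩ := hkx
      rw [← hz, ← zpow_natCast, ← zpow_mul, mul_comm, zpow_mul, zpow_natCast, hxp, one_zpow]) hkne
    rw [eq_of_le_of_card_ge (zpowers_le.2 hkx) (by rw [Nat.card_zpowers, Nat.card_zpowers, hx, hord])]
    exact mem_zpowers x
  have hpS : p ∣ Nat.card S := by
    by_contra h
    refine hSne (le_bot_iff.1 ((Solv.le_pPrimeCore ((Fact.out : p.Prime).coprime_iff_not_dvd.2 h).symm).trans ?_))
    rw [le_bot_iff, ← (map_injective N.subtype_injective).eq_iff, Solv.pPrimeCore_map_subtype, hO, bot_inf_eq, Subgroup.map_bot]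
  obtain ⟨c₀, hc₀⟩ := exists_prime_orderOf_dvd_card' p hpS
  set c : G := ((c₀ : N) : G) with hc
  have hcp : c ^ p = 1 := by
    rw [← hc₀, hc]
    exact congrArg (fun z : S => ((z : N) : G)) (pow_orderOf_eq_one c₀)
  have hcS : c ∈ S' := mem_map_of_mem _ c₀.2
  let d : ZMod p → G := fun i => x ^ i.val * c * (x ^ i.val)⁻¹
  have hdS : ∀ i, d i ∈ Si i := fun i => ⟨c, hcS, rfl⟩
  have hdx : ∀ i, x * d i * x⁻¹ = d (i + 1) := fun i => by
    show x * (x ^ i.val * c * (x ^ i.val)⁻¹) * x⁻¹ = x ^ (i + 1).val * c * (x ^ (i + 1).val)⁻¹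
    rw [hsucc]; group
  set A := closure (Set.range d) with hA
  haveI hAc : IsMulCommutative A := isMulCommutative_closure (by
    rintro _ ⟨i, rfl⟩ _ ⟨j, rfl⟩
    by_cases h : i = j
    · rw [h]
    · exact hcommS i j h _ (hdS i) _ (hdS j))
  letI : CommGroup A := { (inferInstance : Group A) with mul_comm := fun a b => hAc.is_comm.comm a b }
  let σ : A →* A := ((MulAut.conj x).toMonoidHom.comp A.subtype).codRestrict A (fun a => by
    have : A ≤ A.comap (MulAut.conj x).toMonoidHom := (closure_le _).2 (by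
      rintro _ ⟨i, rfl⟩
      exact subset_closure ⟨i + 1, (hdx i).symm⟩)
    exact this a.2)
  let d' : ZMod p → A := fun i => ⟨d i, subset_closure ⟨i, rfl⟩⟩
  have hσ : ∀ i, σ (d' i) = d' (i + 1) := fun i => Subtype.ext (hdx i)
  set D := ∏ i, d' i with hD
  set g := ∏ i, d' i ^ i.val with hg
  have hσD : σ D = D := by
    rw [hD, map_prod]
    simp_rw [hσ]
    exact Equiv.prod_comp (Equiv.addRight (1 : ZMod p)) d'
  have hσg : σ g * D = g := by
    rw [hg, map_prod]
    simp_rw [map_pow, hσ]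
    rw [← Equiv.prod_comp (Equiv.subRight (1 : ZMod p)) (fun i => d' (i + 1) ^ i.val), hD, ← Finset.prod_mul_distrib]
    refine Finset.prod_congr rfl fun j _ => ?_
    simp only [Equiv.subRight_apply, sub_add_cancel]
    rw [← pow_succ]
    have hdp : d' j ^ p = 1 := Subtype.ext (by
      show (x ^ j.val * c * (x ^ j.val)⁻¹) ^ p = 1
      rw [conj_pow, hcp]; simp)
    rw [pow_eq_pow_mod _ hdp]
    congr 1
    conv_rhs => rw [← sub_add_cancel j 1, ZMod.val_add, ZMod.val_one]
  have hconj : (g : G) * x * (g : G)⁻¹ = (D : G) * x := by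
    have e : ((σ g : A) : G) = x * g * x⁻¹ := rfl
    have h := congrArg Subtype.val hσg
    rw [Subgroup.coe_mul, e] at h
    have hcomm : (σ g) * D = D * σ g := mul_comm _ _
    have h' : (D : G) * (x * g * x⁻¹) = g := by
      rw [← e, ← Subgroup.coe_mul, ← hcomm, hσg]
    calc (g : G) * x * (g : G)⁻¹ = ((D : G) * (x * g * x⁻¹)) * x * (g : G)⁻¹ := by rw [h']
      _ = (D : G) * x := by group
  have hD1 : D = 1 := by
    have h := hiso (g : G) ?_
    · rw [hconj, mul_eq_right] at h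
      exact Subtype.ext h
    · rw [hconj]
      have hDx : x * (D : G) * x⁻¹ = D := congrArg Subtype.val hσD
      show x * ((D : G) * x) = (D : G) * x * x
      rw [← mul_assoc, mul_inv_eq_iff_eq_mul.1 hDx]
  have hcC : c ∈ centralizer (S' : Set G) := by
    rw [hD, ← Finset.mul_prod_erase _ _ (Finset.mem_univ (0 : ZMod p)), mul_eq_one_iff_eq_inv] at hD1
    have h := congrArg Subtype.val hD1
    have h0 : ((d' 0 : A) : G) = c := by show x ^ (0 : ZMod p).val * c * _ = c; simp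
    rw [h0] at h
    rw [h, Subgroup.coe_inv]
    refine inv_mem ((prod_mem ?_ : _ ∈ (centralizer (S' : Set G)).subgroupOf A))
    intro i hi
    refine mem_subgroupOf.2 (mem_centralizer_iff.2 fun s hs => ?_)
    have hi0 : i ≠ 0 := Finset.ne_of_mem_erase hi
    exact (hcommS 0 i (Ne.symm hi0) s ⟨s, hs, by simp⟩ _ (hdS i)).eq
  have hSab : ∀ a ∈ S', ∀ b ∈ S', Commute a b := by
    let T : Subgroup ↥N := S ⊓ centralizer (S : Set ↥N)
    haveI : T.Normal := inferInstance
    have hTS : T = S := by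
      refine (hSmin T inferInstance inf_le_left).resolve_left fun h => ?_
      have : (c₀ : N) ∈ T := by
        refine ⟨c₀.2, mem_centralizer_iff.2 fun s hs => Subtype.ext ?_⟩
        exact mem_centralizer_iff.1 hcC _ (mem_map_of_mem _ hs)
      rw [h, mem_bot] at this
      rw [← Subgroup.orderOf_coe, this, orderOf_one] at hc₀
      exact (Fact.out : p.Prime).ne_one hc₀.symm
    rintro _ ⟨a, ha, rfl⟩ _ ⟨b, hb, rfl⟩
    exact congrArg Subtype.val (mem_centralizer_iff.1 (hTS.ge hb).2 a ha)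
  set W := closure (⋃ i, (Si i : Set G)) with hW
  have hWc : IsMulCommutative W := isMulCommutative_closure (by
    intro a ha b hb
    obtain ⟨i, hai⟩ := Set.mem_iUnion.1 ha
    obtain ⟨j, hbj⟩ := Set.mem_iUnion.1 hb
    by_cases h : i = j
    · subst h
      obtain ⟨a', ha', rfl⟩ := hai
      obtain ⟨b', hb', rfl⟩ := hbj
      exact ((hSab a' ha' b' hb').map _).eq
    · exact hcommS i j h a hai b hbj)
  have hWn : W.Normal := by
    refine normalizer_eq_top_iff.1 (top_le_iff.1 (htop ▸ sup_le ?_ (zpowers_le.2 ?_)))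
    · intro n hn
      have key : ∀ n ∈ N, W.map (MulAut.conj n).toMonoidHom ≤ W := by
        intro n hn
        rw [hW, MonoidHom.map_closure]
        refine closure_mono ?_
        rintro _ ⟨a, ha, rfl⟩
        obtain ⟨i, hai⟩ := Set.mem_iUnion.1 ha
        exact Set.mem_iUnion.2 ⟨i, hSi i n hn a hai⟩
      exact WCB.mem_normalizer_of_map_conj_eq (eq_of_le_of_card_ge (key n hn)
        (le_of_eq (card_map_of_injective (MulAut.conj n).injective).symm))
    · have key : W.map (MulAut.conj x).toMonoidHom ≤ W := by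
        rw [hW, MonoidHom.map_closure]
        refine closure_mono ?_
        rintro _ ⟨a, ha, rfl⟩
        obtain ⟨i, s, hs, rfl⟩ := Set.mem_iUnion.1 ha
        exact Set.mem_iUnion.2 ⟨i + 1, s, hs, by simp [hsucc, mul_assoc]⟩
      exact WCB.mem_normalizer_of_map_conj_eq (eq_of_le_of_card_ge key
        (le_of_eq (card_map_of_injective (MulAut.conj x).injective).symm))
  have hWN : W ≤ N := (closure_le _).2 (Set.iUnion_subset fun i => hSiN i)
  rcases hNmin W hWn hWN with h | h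
  · have : S' ≤ W := fun s hs => subset_closure (Set.mem_iUnion.2 ⟨0, s, hs, by simp⟩)
    rw [h, le_bot_iff] at this
    exact hSne ((map_eq_bot_iff_of_injective _ N.subtype_injective).1 this)
  · exact hnc (h ▸ hWc)

include hx hiso hnz hmin hquot in
theorem sylow_thm (q : ℕ) [Fact q.Prime] :
    (∀ Q : Subgroup G, IsPGroup q ↥Q → x ∈ normalizer (Q : Set G) →
      (∀ R : Subgroup G, IsPGroup q ↥R → x ∈ normalizer (R : Set G) → Q ≤ R → R = Q) →
        Q = ⊥ ∨ ∃ S : Sylow q G, (S : Subgroup G) = Q) ∧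
    (∀ S₁ S₂ : Sylow q G, x ∈ normalizer ((S₁ : Subgroup G) : Set G) → x ∈ normalizer ((S₂ : Subgroup G) : Set G) →
      ∃ c ∈ centralizer ({x} : Set G), (S₁ : Subgroup G).map (MulAut.conj c).toMonoidHom = (S₂ : Subgroup G)) := by
  classical
  refine ⟨fun Q hQ hxQ hmax => ?_, fun S₁ S₂ h₁ h₂ => ?_⟩
  swap
  · obtain ⟨g, hg⟩ := MulAction.exists_smul_eq G S₁ S₂
    have hg' : (S₁ : Subgroup G).map (MulAut.conj g).toMonoidHom = (S₂ : Subgroup G) := by rw [← hg]; rfl
    have hgx : g * x * g⁻¹ ∈ normalizer ((S₂ : Subgroup G) : Set G) := by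
      refine WCB.mem_normalizer_of_map_conj_eq ?_
      conv_lhs => rw [← hg', WCB.map_conj_map, show g * x * g⁻¹ * g = g * x by group, ← WCB.map_conj_map,
        WCB.map_conj_eq_of_mem_normalizer h₁]
      exact hg'
    obtain ⟨u, hu, huc⟩ := exists_mul_centralizer hx hiso _ h₂ g hgx
    refine ⟨u * g, huc, ?_⟩
    rw [← WCB.map_conj_map, hg', WCB.map_conj_eq_of_mem_normalizer hu]
  by_cases hQ0 : Q = ⊥
  · exact Or.inl hQ0
  refine Or.inr ?_
  have hxz : zpowers x ≤ normalizer (Q : Set G) := zpowers_le.2 hxQ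
  by_cases hqp : q = p
  · subst hqp
    have h1 : Q ⊔ zpowers x = Q :=
      hmax _ (hQ.to_sup_of_normal_left' (isPGroup_zpowers hx) hxz) (le_normalizer (mem_sup_right (mem_zpowers x))) le_sup_left
    have hxQ' : x ∈ Q := h1 ▸ mem_sup_right (mem_zpowers x)
    obtain ⟨S, hS⟩ := hQ.exists_le_sylow
    exact ⟨S, hmax S S.isPGroup' (le_normalizer (hS hxQ')) hS⟩
  have hO := core_bot hnz hquot
  set H := normalizer (Q : Set G) with hH
  have hQH : Q ≤ H := le_normalizer
  have hqp' : Nat.Coprime q p := (Nat.coprime_primes (Fact.out : q.Prime) (Fact.out : p.Prime)).2 hqp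
  obtain ⟨nQ, hnQ⟩ := IsPGroup.iff_card.1 hQ
  have hHne : H ≠ ⊤ := by
    intro h
    haveI := normalizer_eq_top_iff.1 h
    exact hQ0 (le_bot_iff.1 (hO ▸ Solv.le_pPrimeCore (by rw [hnQ]; exact hqp'.pow_left _)))
  have hxH : x ∈ H := hxQ
  set K := (pPrimeCore p ↥H).map H.subtype with hK
  have hKH : K ≤ H := map_subtype_le _
  have hcomm : ∀ g ∈ H, g * x * g⁻¹ * x⁻¹ ∈ K := fun g hg => ⟨_, hmin H hxH hHne ⟨g, hg⟩, rfl⟩
  have hQK : Q ≤ K := by
    haveI : (Q.subgroupOf H).Normal := normal_in_normalizer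
    have h := Solv.le_pPrimeCore (p := p) (N := Q.subgroupOf H) (by
      rw [Nat.card_congr (subgroupOfEquivOfLe hQH).toEquiv, hnQ]; exact hqp'.pow_left _)
    rw [← map_subgroupOf_eq_of_le hQH]
    exact map_mono h
  have hHK : H ≤ normalizer (K : Set G) := by
    intro h hh
    refine WCB.mem_normalizer_of_map_conj_eq (eq_of_le_of_card_ge ?_
      (le_of_eq (card_map_of_injective (MulAut.conj h).injective).symm))
    rintro _ ⟨_, ⟨a, ha, rfl⟩, rfl⟩
    exact ⟨⟨h, hh⟩ * a * ⟨h, hh⟩⁻¹, Normal.conj_mem inferInstance a ha _, rfl⟩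
  have hcopK : (Nat.card K).Coprime p := by
    rw [hK, Solv.card_map_subtype]; exact Solv.card_pPrimeCore_coprime p _
  obtain ⟨P, hQP, hPx⟩ := Solv.exists_invariant_sylow_ge (zpowers x) K (zpowers_le.2 (hHK hxH))
    (by rw [Nat.card_zpowers, hx]; exact hcopK.symm) (Or.inl inferInstance) q Q hQK hQ hxz
  have hPQ : (P : Subgroup K).map K.subtype = Q :=
    hmax _ (P.isPGroup'.map _) (hPx (mem_zpowers x)) hQP
  obtain ⟨S, hS⟩ := hQ.exists_le_sylow
  refine ⟨S, ?_⟩
  by_contra hne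
  -- an element of the Sylow subgroup normalizing `Q` and outside it
  haveI := S.isPGroup'.isNilpotent
  have hlt : Q.subgroupOf (S : Subgroup G) < ⊤ := lt_top_iff_ne_top.2 fun e =>
    hne (le_antisymm (subgroupOf_eq_top.1 e) hS)
  obtain ⟨s, hs1, hs2⟩ := SetLike.exists_of_lt ((Group.normalizerCondition_of_isNilpotent (G := (S : Subgroup G))) _ hlt)
  have hsH : (s : G) ∈ H := by
    refine WCB.mem_normalizer_of_map_conj_eq (eq_of_le_of_card_ge ?_
      (le_of_eq (card_map_of_injective (MulAut.conj (s : G)).injective).symm))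
    rintro _ ⟨a, ha, rfl⟩
    exact (mem_normalizer_iff.1 hs1 ⟨a, hS ha⟩).1 (mem_subgroupOf.2 ha)
  -- move it into the centralizer of `x`
  have hxU : x ∈ K ⊔ zpowers x := mem_sup_right (mem_zpowers x)
  obtain ⟨u, hu, huc⟩ := exists_mul_centralizer hx hiso _ hxU s (by
    have : (s : G) * x * (s : G)⁻¹ = ((s : G) * x * (s : G)⁻¹ * x⁻¹) * x := by group
    rw [this]
    exact mul_mem (mem_sup_left (hcomm s hsH)) hxU)
  have hzc : zpowers x ≤ centralizer ({x} : Set G) := zpowers_le.2 (mem_centralizer_singleton_iff.2 rfl)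
  obtain ⟨k, hk, hkc⟩ : ∃ k ∈ K, k * (s : G) ∈ centralizer ({x} : Set G) := by
    rw [← SetLike.mem_coe, coe_mul_of_right_le_normalizer_left K _ (zpowers_le.2 (hHK hxH))] at hu
    obtain ⟨k, hk, z, hz, rfl⟩ := hu
    refine ⟨z⁻¹ * k * z, (mem_normalizer_iff''.1 (zpowers_le.2 (hHK hxH) hz) k).1 hk, ?_⟩
    rw [show z⁻¹ * k * z * (s : G) = z⁻¹ * (k * z * s) by group]
    exact mul_mem (inv_mem (hzc hz)) huc
  -- the image of `k * s` modulo `K` has `q`-power order, and is nontrivial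
  obtain ⟨e, he⟩ := S.isPGroup' s
  set c := k * (s : G)
  have hcH : c ∈ H := mul_mem (hKH hk) hsH
  obtain ⟨v, m, hm, hv⟩ := Nat.exists_eq_pow_mul_and_not_dvd (orderOf_pos c).ne' q (Fact.out : q.Prime).ne_one
  have hcm : IsPGroup q (zpowers (c ^ m)) := by
    refine IsPGroup.of_card (n := v) ?_
    rw [Nat.card_zpowers, orderOf_pow_of_dvd (fun h : m = 0 => hm (by rw [h]; exact dvd_zero q)) (hv ▸ dvd_mul_left m _), hv,
      Nat.mul_div_cancel _ (Nat.pos_of_ne_zero fun h : m = 0 => hm (by rw [h]; exact dvd_zero q))]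
  have hcmQ : c ^ m ∈ Q := by
    rw [← hmax (Q ⊔ zpowers (c ^ m)) (hQ.to_sup_of_normal_left' hcm (zpowers_le.2 (pow_mem hcH m))) ?_ le_sup_left]
    · exact mem_sup_right (mem_zpowers _)
    · refine WCB.mem_normalizer_of_map_conj_eq ?_
      rw [Subgroup.map_sup, WCB.map_conj_eq_of_mem_normalizer hxQ, MonoidHom.map_zpowers]
      congr 2
      show x * c ^ m * x⁻¹ = c ^ m
      rw [← mem_centralizer_singleton_iff.1 (pow_mem hkc m), mul_inv_cancel_right]
  -- back in the quotient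
  haveI : (pPrimeCore p ↥H).Normal := inferInstance
  set π := QuotientGroup.mk' (pPrimeCore p ↥H)
  have hπK : ∀ a : ↥H, (a : G) ∈ K → π a = 1 := by
    rintro a ⟨b, hb, hba⟩
    rw [← Subtype.ext hba]
    exact (QuotientGroup.eq_one_iff b).2 hb
  have hcs : π ⟨c, hcH⟩ = π ⟨s, hsH⟩ := by
    rw [show (⟨c, hcH⟩ : ↥H) = ⟨k, hKH hk⟩ * ⟨s, hsH⟩ from rfl, map_mul, hπK ⟨k, hKH hk⟩ hk, one_mul]
  have h1 : π ⟨s, hsH⟩ ^ (q ^ e) = 1 := by
    rw [← map_pow, show (⟨s, hsH⟩ : ↥H) ^ q ^ e = 1 from Subtype.ext (congrArg Subtype.val he :), map_one]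
  have h2 : π ⟨s, hsH⟩ ^ m = 1 := by
    rw [← hcs, ← map_pow]
    exact hπK _ (hQK hcmQ)
  have h3 := pow_gcd_eq_one.2 ⟨h1, h2⟩
  rw [((Fact.out : q.Prime).coprime_iff_not_dvd.2 hm).pow_left e |>.gcd_eq_one, pow_one] at h3
  have hsK : (s : G) ∈ K := ⟨⟨s, hsH⟩, (QuotientGroup.eq_one_iff _).1 h3, rfl⟩
  -- `Q` is a Sylow subgroup of `K`, so it contains `s`
  haveI hPn : (P : Subgroup K).Normal := by
    refine ⟨fun a ha n => ?_⟩
    have : ((n * a * n⁻¹ : K) : G) ∈ (P : Subgroup K).map K.subtype := by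
      rw [hPQ]
      refine (mem_normalizer_iff.1 (hKH n.2) _).1 ?_
      rw [← hPQ]
      exact mem_map_of_mem _ ha
    obtain ⟨b, hb, hbe⟩ := this
    exact Subtype.ext hbe ▸ hb
  refine hs2 (mem_subgroupOf.2 ?_)
  rw [← hPQ]
  refine ⟨⟨s, hsK⟩, ?_, rfl⟩
  obtain ⟨t, -, ht⟩ := (Nat.dvd_prime_pow (Fact.out : q.Prime)).1
    (orderOf_dvd_of_pow_eq_one (congrArg Subtype.val he : (s : G) ^ q ^ e = 1))
  have hsp : IsPGroup q (zpowers (⟨s, hsK⟩ : K)) :=
    IsPGroup.of_card (n := t) (by rw [Nat.card_zpowers, Subgroup.orderOf_mk, ht])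
  exact P.is_maximal' ((P.isPGroup').to_sup_of_normal_left hsp) le_sup_left ▸ mem_sup_right (mem_zpowers _)

end Cfsg.Agent.Local.ZStarMin
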